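import Cfsg.Agent.Lib.Classical.AutPOmega.GraphInv
import Cfsg.Agent.Lib.QuadFin.Normal

/-!
Automorphisms of `PΩ`, part 23: similarities under semilinear maps, and the character of the similarity
group which separates the two classes of maximal singular subspaces, in any characteristic.
-/

set_option autoImplicit false

namespace Cfsg.Agent.Lib.Classical.AutPOmega

open QuadraticMap (polarBilin)
open Cfsg.Agent.Lib.Geometry (quad_add quad_smul quad_polar_comm isometryEquiv isometryEquiv_eq_refl_iff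
  closure_refl_eq_top dicksonHom dicksonHom_refl)
open Matrix

attribute [-simp] QuadraticMap.polarBilin_apply_apply

section Base

variable {F₀ F : Type*} [Field F₀] [Field F] {ι ι₀ : Type} [Fintype ι] [DecidableEq ι] [Fintype ι₀] [DecidableEq ι₀]
  {R₀ : QuadraticForm F₀ (ι₀ → F₀)} {R : QuadraticForm F (ι → F)}

/-- A bijective semilinear similarity from `R₀` to `R`. -/
structure BaseMap (R₀ : QuadraticForm F₀ (ι₀ → F₀)) (R : QuadraticForm F (ι → F)) (j : F₀ →+* F)
    (P : Matrix ι ι₀ F) (P' : Matrix ι₀ ι F) : Prop where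
  left : P' * P = 1
  right : P * P' = 1
  sim : ∃ c : Fˣ, ∀ v : ι₀ → F₀, R (P *ᵥ fun i => j (v i)) = (c : F) * j (R₀ v)

/-- Two forms agreeing on the rational vectors are equal. -/
theorem forms_ext (j : F₀ →+* F) {Q Q' : QuadraticForm F (ι₀ → F)}
    (h : ∀ v : ι₀ → F₀, Q (fun i => j (v i)) = Q' (fun i => j (v i))) (w : ι₀ → F) : Q w = Q' w := by
  have hs : ∀ k, (fun l => j ((Pi.single k (1 : F₀) : ι₀ → F₀) l)) = Pi.single k 1 := fun k =>
    funext fun l => by simp [Pi.single_apply, apply_ite j]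
  refine QuadFin.quad_ext_basis Q (Pi.basisFun F ι₀) Q' (fun i => ?_) (fun i k => ?_) w
  · rw [Pi.basisFun_apply, ← hs]; exact h _
  · have e : (fun l => j ((Pi.single i (1 : F₀) + Pi.single k 1 : ι₀ → F₀) l)) =
        (Pi.single i (1 : F) : ι₀ → F) + Pi.single k 1 :=
      funext fun l => by simp [Pi.single_apply, apply_ite j]
    have e1 := quad_add Q (Pi.single i (1 : F) : ι₀ → F) (Pi.single k 1)
    have e2 := quad_add Q' (Pi.single i (1 : F) : ι₀ → F) (Pi.single k 1)
    rw [← e, h, ← hs i, ← hs k, h, h] at e1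
    rw [← e, ← hs i, ← hs k] at e2
    rw [Pi.basisFun_apply, Pi.basisFun_apply, ← hs i, ← hs k]
    linear_combination e2 - e1

theorem map_mulVec_hom (j : F₀ →+* F) (A : Matrix ι₀ ι₀ F₀) (v : ι₀ → F₀) :
    A.map j *ᵥ (fun i => j (v i)) = fun i => j ((A *ᵥ v) i) := by
  funext i
  simp [Matrix.mulVec, dotProduct, map_sum]

/-- The semilinear conjugate of an invertible matrix. -/
noncomputable def baseGL (j : F₀ →+* F) {P : Matrix ι ι₀ F} {P' : Matrix ι₀ ι F} (hl : P' * P = 1) (hr : P * P' = 1) :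
    GL ι₀ F₀ →* GL ι F :=
  Units.map
    { toFun := fun A => P * A.map j * P'
      map_one' := by rw [Matrix.map_one _ (map_zero j) (map_one j), Matrix.mul_one, hr]
      map_mul' := fun A B => by
        rw [Matrix.map_mul]
        simp only [Matrix.mul_assoc]
        rw [← Matrix.mul_assoc P' P, hl, Matrix.one_mul] }

variable {j : F₀ →+* F} {P : Matrix ι ι₀ F} {P' : Matrix ι₀ ι F}

theorem baseGL_coe (hl : P' * P = 1) (hr : P * P' = 1) (g : GL ι₀ F₀) :
    (baseGL j hl hr g : Matrix ι ι F) = P * (g : Matrix ι₀ ι₀ F₀).map j * P' := rfl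

theorem baseGL_mulVec (hl : P' * P = 1) (hr : P * P' = 1) (g : GL ι₀ F₀) (v : ι₀ → F₀) :
    (baseGL j hl hr g : Matrix ι ι F) *ᵥ (P *ᵥ fun i => j (v i)) = P *ᵥ fun i => j (((g : Matrix ι₀ ι₀ F₀) *ᵥ v) i) := by
  rw [baseGL_coe, Matrix.mulVec_mulVec, Matrix.mul_assoc, hl, Matrix.mul_one, ← Matrix.mulVec_mulVec, map_mulVec_hom]

theorem base_sim (hb : BaseMap R₀ R j P P') {g : GL ι₀ F₀} {μ : F₀}
    (hμ : ∀ v, R₀ ((g : Matrix ι₀ ι₀ F₀) *ᵥ v) = μ * R₀ v) (w : ι → F) :
    R ((baseGL j hb.left hb.right g : Matrix ι ι F) *ᵥ w) = j μ * R w := by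
  obtain ⟨c, hc⟩ := hb.sim
  have key : ∀ u : ι₀ → F, (R.comp (Matrix.toLin' (baseGL j hb.left hb.right g : Matrix ι ι F) ∘ₗ Matrix.toLin' P)) u =
      (j μ • R.comp (Matrix.toLin' P)) u := forms_ext j fun v => by
    show R (_ *ᵥ (P *ᵥ _)) = j μ * R (P *ᵥ _)
    rw [baseGL_mulVec, hc, hc, hμ, map_mul]; ring
  have := key (P' *ᵥ w)
  simp only [QuadraticMap.comp_apply, LinearMap.comp_apply, Matrix.toLin'_apply, QuadraticMap.smul_apply,
    smul_eq_mul, Matrix.mulVec_mulVec, hb.right, Matrix.one_mulVec, Matrix.mul_assoc, Matrix.mul_one] at this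
  exact this

/-- Similarities transported along a semilinear similarity. -/
noncomputable def baseS (hb : BaseMap R₀ R j P P') :
    Cfsg.Geo.quadSimilarityGroup (F := F₀) ⇑R₀ →* Cfsg.Geo.quadSimilarityGroup (F := F) ⇑R :=
  MonoidHom.mk' (fun g => ⟨baseGL j hb.left hb.right g.1, by
    obtain ⟨μ, hμ⟩ := g.2
    exact ⟨Units.map (j : F₀ →* F) μ, base_sim hb hμ⟩⟩) fun a b => Subtype.ext (map_mul _ _ _)

theorem baseS_coe (hb : BaseMap R₀ R j P P') (g : Cfsg.Geo.quadSimilarityGroup (F := F₀) ⇑R₀) :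
    ((baseS hb g).1 : Matrix ι ι F) = P * (g.1 : Matrix ι₀ ι₀ F₀).map j * P' := rfl

theorem baseS_scG (hb : BaseMap R₀ R j P P') (u : F₀ˣ) :
    baseS hb (scG R₀ u) = scG R (Units.map (j : F₀ →* F) u) := by
  refine Subtype.ext (Units.ext ?_)
  show P * (Matrix.scalar ι₀ (u : F₀)).map j * P' = Matrix.scalar ι (j (u : F₀))
  rw [Matrix.scalar_apply, Matrix.diagonal_map (map_zero j), Matrix.scalar_apply, ← Matrix.smul_one_eq_diagonal,
    ← Matrix.smul_one_eq_diagonal, Matrix.mul_smul, Matrix.mul_one, Matrix.smul_mul, hb.right]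

theorem base_polar (hb : BaseMap R₀ R j P P') {c : F} (hc : ∀ v : ι₀ → F₀, R (P *ᵥ fun i => j (v i)) = c * j (R₀ v))
    (x y : ι₀ → F₀) :
    polarBilin R (P *ᵥ fun i => j (x i)) (P *ᵥ fun i => j (y i)) = c * j (polarBilin R₀ x y) := by
  have h := quad_add R (P *ᵥ fun i => j (x i)) (P *ᵥ fun i => j (y i))
  rw [← Matrix.mulVec_add, show (fun i => j (x i)) + (fun i => j (y i)) = fun i => j ((x + y) i) from
    funext fun i => (map_add j _ _).symm, hc, hc, hc, quad_add R₀ x y, map_add, map_add] at h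
  linear_combination -h

theorem baseS_refl (hb : BaseMap R₀ R j P P') (v : ι₀ → F₀) :
    baseS hb (isoG R₀ (reflI R₀ v)) = isoG R (reflI R (P *ᵥ fun i => j (v i))) := by
  obtain ⟨c, hc⟩ := hb.sim
  refine Subtype.ext (Units.ext ?_)
  set A := ((baseS hb (isoG R₀ (reflI R₀ v))).1 : Matrix ι ι F)
  set B := ((isoG R (reflI R (P *ᵥ fun i => j (v i)))).1 : Matrix ι ι F)
  have key : A * P = B * P := by
    refine Matrix.ext_of_mulVec_single fun k => ?_
    have hs : (fun l => j ((Pi.single k (1 : F₀) : ι₀ → F₀) l)) = Pi.single k 1 :=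
      funext fun l => by simp [Pi.single_apply, apply_ite j]
    rw [← Matrix.mulVec_mulVec, ← Matrix.mulVec_mulVec, ← hs]
    show (baseGL j hb.left hb.right (reflI R₀ v).1 : Matrix ι ι F) *ᵥ _ =
      ((reflI R (P *ᵥ fun i => j (v i)) : GL ι F) : Matrix ι ι F) *ᵥ _
    rw [baseGL_mulVec, reflI_mulVec, reflI_mulVec, hc, base_polar hb hc,
      show (fun i => j ((Pi.single k (1 : F₀) - ((R₀ v)⁻¹ * polarBilin R₀ v (Pi.single k 1)) • v : ι₀ → F₀) i)) =
        (fun i => j ((Pi.single k (1 : F₀) : ι₀ → F₀) i)) -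
          j ((R₀ v)⁻¹ * polarBilin R₀ v (Pi.single k 1)) • (fun i => j (v i)) from funext fun i => by simp,
      Matrix.mulVec_sub, Matrix.mulVec_smul, map_mul, map_inv₀, _root_.mul_inv_rev]
    congr 2
    have := c.ne_zero
    field_simp
  have := congrArg (· * P') key
  simpa only [Matrix.mul_assoc, hb.right, Matrix.mul_one] using this

theorem multS_baseS (hb : BaseMap R₀ R j P P') (hM₀ : Model0 R₀) (hM : Model0 R)
    (g : Cfsg.Geo.quadSimilarityGroup (F := F₀) ⇑R₀) :
    multS hM (baseS hb g) = Units.map (j : F₀ →* F) (multS hM₀ g) :=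
  Units.ext (multS_eq hM (g := baseS hb g) (base_sim hb (multS_spec hM₀ g)))

theorem det_baseS (hb : BaseMap R₀ R j P P') (g : Cfsg.Geo.quadSimilarityGroup (F := F₀) ⇑R₀) :
    GeneralLinearGroup.det (baseS hb g).1 = Units.map (j : F₀ →* F) (GeneralLinearGroup.det g.1) := by
  refine Units.ext ?_
  show (P * (g.1 : Matrix ι₀ ι₀ F₀).map j * P').det = j (g.1 : Matrix ι₀ ι₀ F₀).det
  rw [Matrix.det_conj_of_mul_eq_one hb.right hb.left, RingHom.map_det, RingHom.mapMatrix_apply]

end Base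

/-! ### The class character -/

section Cls

variable {F : Type*} [Field F] [Fintype F] {ι : Type} [Fintype ι] [DecidableEq ι] {R : QuadraticForm F (ι → F)}

theorem sq_bijective_char_two (h2 : (2 : F) = 0) : Function.Bijective (powMonoidHom 2 : Fˣ →* Fˣ) := by
  haveI : CharP F 2 := CharTwo.of_one_ne_zero_of_two_eq_zero one_ne_zero h2
  refine Finite.injective_iff_bijective.mp fun a b h => Units.ext ?_
  have h' : (a : F) ^ 2 = (b : F) ^ 2 := by
    have := congrArg Units.val h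
    simpa using this
  exact frobenius_inj F 2 h'

/-- The square root of a unit in characteristic two. -/
noncomputable def sqrtU (h2 : (2 : F) = 0) : Fˣ →* Fˣ :=
  (MulEquiv.ofBijective _ (sq_bijective_char_two h2)).symm.toMonoidHom

theorem sqrtU_mul_self (h2 : (2 : F) = 0) (u : Fˣ) : sqrtU h2 u * sqrtU h2 u = u := by
  rw [← pow_two]
  exact (MulEquiv.ofBijective _ (sq_bijective_char_two (F := F) h2)).apply_symm_apply u

theorem sqrtU_sq (h2 : (2 : F) = 0) (u : Fˣ) : sqrtU h2 (u * u) = u := by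
  refine (sq_bijective_char_two h2).1 ?_
  show sqrtU h2 (u * u) ^ 2 = u ^ 2
  rw [pow_two, sqrtU_mul_self, pow_two]

/-- The isometry part in characteristic two. -/
noncomputable def isoPart (hM : Model0 R) (h2 : (2 : F) = 0) :
    Cfsg.Geo.quadSimilarityGroup (F := F) ⇑R →* Cfsg.isometryGroup F ⇑R :=
  MonoidHom.mk' (fun g => ⟨((scG R (sqrtU h2 (multS hM g)))⁻¹ * g).1, fun v _ => by
    show R ((((scG R (sqrtU h2 (multS hM g)))⁻¹ * g).1 : Matrix ι ι F) *ᵥ v) = R v
    rw [multS_spec hM, map_mul, map_inv, multS_scG, sqrtU_mul_self, inv_mul_cancel, Units.val_one, one_mul]⟩)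
    fun a b => isoG_injective R (by
      rw [map_mul (isoG R)]
      show (scG R (sqrtU h2 (multS hM (a * b))))⁻¹ * (a * b) =
        ((scG R (sqrtU h2 (multS hM a)))⁻¹ * a) * ((scG R (sqrtU h2 (multS hM b)))⁻¹ * b)
      rw [map_mul (multS hM), map_mul (sqrtU h2), map_mul (scG R), _root_.mul_inv_rev,
        ← map_inv (scG R) (sqrtU h2 (multS hM b)), mul_assoc,
        ← mul_assoc (scG R (sqrtU h2 (multS hM a)))⁻¹ a b,
        ← mul_assoc (scG R (sqrtU h2 (multS hM b))⁻¹), scG_comm (sqrtU h2 (multS hM b))⁻¹, mul_assoc])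

theorem isoPart_spec (hM : Model0 R) (h2 : (2 : F) = 0) (g : Cfsg.Geo.quadSimilarityGroup (F := F) ⇑R) :
    g = scG R (sqrtU h2 (multS hM g)) * isoG R (isoPart hM h2 g) := by
  rw [show isoG R (isoPart hM h2 g) = (scG R (sqrtU h2 (multS hM g)))⁻¹ * g from Subtype.ext rfl,
    mul_inv_cancel_left]

/-- The character separating the two classes of maximal singular subspaces. -/
noncomputable def clsS (hM : Model0 R) {M : ℕ} (hι : Fintype.card ι = 2 * M) :
    Cfsg.Geo.quadSimilarityGroup (F := F) ⇑R →* ℤˣ := by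
  classical
  exact if h2 : (2 : F) = 0 then
    ((dicksonHom R hM.nondeg (closure_refl_eq_top R hM.nondeg (Or.inr hM.dim))).comp
      (isometryEquiv R).toMonoidHom).comp (isoPart hM h2)
  else sgnS hM h2 hι

variable {M : ℕ}

theorem clsS_odd (hM : Model0 R) (hι : Fintype.card ι = 2 * M) (h2 : (2 : F) ≠ 0)
    (g : Cfsg.Geo.quadSimilarityGroup (F := F) ⇑R) : clsS hM hι g = 1 ↔ deltaS hM M g = 1 := by
  rw [clsS, dif_neg h2]
  exact sgnS_eq_one _ _ _ _

theorem clsS_two (hM : Model0 R) (hι : Fintype.card ι = 2 * M) (h2 : (2 : F) = 0)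
    (g : Cfsg.Geo.quadSimilarityGroup (F := F) ⇑R) :
    clsS hM hι g = Geometry.dickson R (isometryEquiv R (isoPart hM h2 g)) := by
  rw [clsS, dif_pos h2]
  rfl

theorem clsS_scG (hM : Model0 R) (hι : Fintype.card ι = 2 * M) (u : Fˣ) : clsS hM hι (scG R u) = 1 := by
  by_cases h2 : (2 : F) = 0
  · rw [clsS_two hM hι h2, show isoPart hM h2 (scG R u) = 1 from isoG_injective R (by
      rw [map_one, show isoG R (isoPart hM h2 (scG R u)) = (scG R (sqrtU h2 (multS hM (scG R u))))⁻¹ * scG R u from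
        Subtype.ext rfl, multS_scG, sqrtU_sq, inv_mul_cancel]), map_one]
    exact Geometry.dickson_one R
  · exact (clsS_odd hM hι h2 _).mpr (deltaS_scG hM hι u)

theorem isoPart_isoG (hM : Model0 R) (h2 : (2 : F) = 0) (k : Cfsg.isometryGroup F ⇑R) :
    isoPart hM h2 (isoG R k) = k :=
  isoG_injective R (by
    rw [show isoG R (isoPart hM h2 (isoG R k)) = (scG R (sqrtU h2 (multS hM (isoG R k))))⁻¹ * isoG R k from
      Subtype.ext rfl, multS_isoG, map_one, map_one, inv_one, one_mul])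

theorem clsS_refl (hM : Model0 R) (hι : Fintype.card ι = 2 * M) {v : ι → F} (hv : R v ≠ 0) :
    clsS hM hι (isoG R (reflI R v)) = -1 := by
  by_cases h2 : (2 : F) = 0
  · rw [clsS_two hM hι h2, isoPart_isoG, (isometryEquiv_eq_refl_iff R _ v).mpr (reflI_matrix v)]
    exact dicksonHom_refl R hM.nondeg (closure_refl_eq_top R hM.nondeg (Or.inr hM.dim)) hv
  · refine (Int.units_eq_one_or _).resolve_left fun h => ?_
    have h' := congrArg Units.val ((clsS_odd hM hι h2 _).mp h)
    rw [deltaS_isoG, Units.val_one, show ((GeneralLinearGroup.det (reflI R v).1 : Fˣ) : F) =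
      ((reflI R v : GL ι F) : Matrix ι ι F).det from rfl, reflI_matrix, Geometry.det_reflectionMatrix R hv] at h'
    exact h2 (by linear_combination -h')

theorem closure_refl_iso (hM : Model0 R) :
    Subgroup.closure {g : Cfsg.isometryGroup F ⇑R | ∃ v : ι → F, R v ≠ 0 ∧
      ((g : GL ι F) : Matrix ι ι F) = Cfsg.reflectionMatrix (⇑R) v} = ⊤ :=
  Geometry.closure_reflectionMatrix_eq_top R hM.nondeg
    (Or.inr (by have := hM.dim; rwa [Module.finrank_fintype_fun_eq_card] at this))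

variable {F₀ : Type*} [Field F₀] [Fintype F₀] {ι₀ : Type} [Fintype ι₀] [DecidableEq ι₀]
  {R₀ : QuadraticForm F₀ (ι₀ → F₀)} {j : F₀ →+* F} {P : Matrix ι ι₀ F} {P' : Matrix ι₀ ι F}

theorem deltaS_baseS (hb : BaseMap R₀ R j P P') (hM₀ : Model0 R₀) (hM : Model0 R) (M : ℕ)
    (g : Cfsg.Geo.quadSimilarityGroup (F := F₀) ⇑R₀) :
    deltaS hM M (baseS hb g) = Units.map (j : F₀ →* F) (deltaS hM₀ M g) := by
  rw [deltaS_apply, deltaS_apply, multS_baseS hb hM₀ hM, det_baseS, map_mul, map_inv, map_pow]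

/-- Semilinear similarities respect the class character. -/
theorem clsS_baseS (hb : BaseMap R₀ R j P P') (hM₀ : Model0 R₀) (hM : Model0 R)
    (hι₀ : Fintype.card ι₀ = 2 * M) (hι : Fintype.card ι = 2 * M)
    (g : Cfsg.Geo.quadSimilarityGroup (F := F₀) ⇑R₀) : clsS hM hι (baseS hb g) = clsS hM₀ hι₀ g := by
  have hch : (2 : F) = 0 ↔ (2 : F₀) = 0 := by
    rw [← map_ofNat j 2, map_eq_zero]
  by_cases h2 : (2 : F₀) = 0
  · rw [isoPart_spec hM₀ h2 g, map_mul, map_mul, map_mul, baseS_scG, clsS_scG, clsS_scG, one_mul, one_mul]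
    obtain ⟨c, hc⟩ := hb.sim
    have key : ((clsS hM hι).comp (baseS hb)).comp (isoG R₀) = (clsS hM₀ hι₀).comp (isoG R₀) := by
      refine MonoidHom.eq_of_eqOn_dense (closure_refl_iso hM₀) ?_
      rintro k ⟨v, hv, hk⟩
      have hkv : k = reflI R₀ v := Subtype.ext (Units.ext (hk.trans (reflI_matrix v).symm))
      subst hkv
      show clsS hM hι (baseS hb (isoG R₀ (reflI R₀ v))) = clsS hM₀ hι₀ (isoG R₀ (reflI R₀ v))
      rw [baseS_refl, clsS_refl hM₀ hι₀ hv, clsS_refl hM hι (by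
        rw [hc]; exact mul_ne_zero c.ne_zero ((map_ne_zero j).mpr hv))]
    exact DFunLike.congr_fun key _
  · have h2' : (2 : F) ≠ 0 := fun e => h2 (hch.mp e)
    have hiff : clsS hM hι (baseS hb g) = 1 ↔ clsS hM₀ hι₀ g = 1 := by
      rw [clsS_odd hM hι h2', clsS_odd hM₀ hι₀ h2, deltaS_baseS hb hM₀ hM]
      constructor
      · intro h
        exact Units.ext (j.injective (by
          have := congrArg Units.val h
          rw [Units.val_one, map_one]
          exact this))
      · intro h; rw [h, map_one]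
    rcases Int.units_eq_one_or (clsS hM hι (baseS hb g)) with e | e <;>
      rcases Int.units_eq_one_or (clsS hM₀ hι₀ g) with e' | e' <;> rw [e, e'] at hiff ⊢ <;>
      exact absurd hiff (by decide)

end Cls

end Cfsg.Agent.Lib.Classical.AutPOmega
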