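import Cfsg.Agent.Lib.Classical.AutPOmega.Rigid

/-!
Automorphisms of `PΩ`, part 2: points, root groups and stabilisers in the simple group.
-/

set_option autoImplicit false

namespace Cfsg.Agent.Lib.Classical.AutPOmega

open QuadraticMap (polarBilin)
open Cfsg.Agent.Lib.Geometry (quadIsometries mem_quadIsometries quad_add quad_smul quad_polar_self
  quad_polar_comm)

attribute [-simp] QuadraticMap.polarBilin_apply_apply

variable {F V : Type*} [Field F] [AddCommGroup V] [Module F V]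

/-- `Ω(V)`, generated by the Eichler transformations. -/
abbrev EG (Q : QuadraticForm F V) : Subgroup (quadIsometries Q) := eichGroup Q ⊤

/-- `PΩ(V)`. -/
abbrev KG (Q : QuadraticForm F V) : Type _ := EG Q ⧸ Subgroup.center (EG Q)

/-- The projection. -/
def pk (Q : QuadraticForm F V) : EG Q →* KG Q := QuotientGroup.mk' _

variable {Q : QuadraticForm F V}

theorem pk_surjective : Function.Surjective (pk Q) := QuotientGroup.mk'_surjective _

theorem pk_eq_one {g : EG Q} : pk Q g = 1 ↔ g ∈ Subgroup.center (EG Q) :=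
  QuotientGroup.eq_one_iff g

theorem pk_eq_iff {g g' : EG Q} : pk Q g = pk Q g' ↔ g⁻¹ * g' ∈ Subgroup.center (EG Q) := QuotientGroup.eq

/-- An Eichler transformation, in `Ω(V)`. -/
def ee (u x : V) (hu : Q u = 0) (hx : polarBilin Q u x = 0) : EG Q :=
  ⟨eich Q u x hu hx, eich_mem Q _ _ trivial trivial⟩

theorem ee_apply {u x : V} (hu : Q u = 0) (hx : polarBilin Q u x = 0) (y : V) :
    (ee u x hu hx).1.1 y =
      y + polarBilin Q y u • x - (polarBilin Q y x + Q x * polarBilin Q y u) • u := rfl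

theorem ee_mul {u x x' : V} (hu : Q u = 0) (hx : polarBilin Q u x = 0) (hx' : polarBilin Q u x' = 0) :
    ee u x hu hx * ee u x' hu hx' = ee u (x + x') hu (by rw [map_add, hx, hx', add_zero]) :=
  Subtype.ext (eich_mul Q hu hx hx')

theorem ee_inv {u x : V} (hu : Q u = 0) (hx : polarBilin Q u x = 0) :
    (ee u x hu hx)⁻¹ = ee u (-x) hu (by rw [map_neg, hx, neg_zero]) :=
  Subtype.ext (eich_inv Q hu hx)

theorem ee_zero {u : V} (hu : Q u = 0) (hx : polarBilin Q u 0 = 0) : ee u 0 hu hx = 1 :=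
  Subtype.ext (Subtype.ext (LinearEquiv.ext fun y => by
    show eichLin Q u 0 y = y
    rw [eichLin_zero]; rfl))

theorem ee_congr {u u' x x' : V} (hu : Q u = 0) (hx : polarBilin Q u x = 0) (hu' : Q u' = 0)
    (hx' : polarBilin Q u' x' = 0) (h : u = u') (h' : x = x') : ee u x hu hx = ee u' x' hu' hx' := by
  subst h h'; rfl

theorem iso_q (g : EG Q) (y : V) : Q (g.1.1 y) = Q y := mem_quadIsometries.mp g.1.2 y

theorem iso_b (g : EG Q) (x y : V) : polarBilin Q (g.1.1 x) (g.1.1 y) = polarBilin Q x y :=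
  iso_polarBilin Q g.1 x y

theorem ee_conj (g : EG Q) {u x : V} (hu : Q u = 0) (hx : polarBilin Q u x = 0) :
    g * ee u x hu hx * g⁻¹ = ee (g.1.1 u) (g.1.1 x) (by rw [iso_q, hu]) (by rw [iso_b, hx]) :=
  Subtype.ext (eich_conj Q g.1 hu hx)

theorem ee_smul {u x : V} (hu : Q u = 0) (hx : polarBilin Q u x = 0) (t : F)
    (h1 : Q (t • u) = 0) (h2 : polarBilin Q (t • u) x = 0) (h3 : polarBilin Q u (t • x) = 0) :
    ee (t • u) x h1 h2 = ee u (t • x) hu h3 :=
  Subtype.ext (eich_congr Q h1 h2 hu h3 fun y => by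
    simp only [eichLin_apply, map_smul, quad_smul, smul_eq_mul]
    module)

theorem ee_pow {u x : V} (hu : Q u = 0) (hx : polarBilin Q u x = 0) (k : ℕ) :
    ee u x hu hx ^ k = ee u ((k : F) • x) hu (by rw [map_smul, hx, smul_zero]) := by
  induction k with
  | zero =>
    rw [pow_zero, ee_congr (x := ((0 : ℕ) : F) • x) (x' := 0) hu _ hu (map_zero _) rfl (by simp),
      ee_zero]
  | succ k ih =>
    rw [pow_succ, ih, ee_mul]
    exact ee_congr _ _ _ _ rfl (by push_cast; rw [add_smul, one_smul])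

theorem ee_pow_char (p : ℕ) [CharP F p] {u x : V} (hu : Q u = 0) (hx : polarBilin Q u x = 0) :
    ee u x hu hx ^ p = 1 := by
  rw [ee_pow, ee_congr _ _ hu (map_zero _) rfl (show ((p : F)) • x = 0 by simp), ee_zero]

/-- A vector of `Ω(V)` acting as a scalar is central. -/
theorem central_of_scalar {g : EG Q} {c : F} (hg : ∀ v, g.1.1 v = c • v) :
    g ∈ Subgroup.center (EG Q) :=
  Subgroup.mem_center_iff.mpr fun k => Subtype.ext (Subtype.ext (LinearEquiv.ext fun v => by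
    show k.1.1 (g.1.1 v) = g.1.1 (k.1.1 v)
    rw [hg, hg, map_smul]))

variable [FiniteDimensional F V] {e f e₂ f₂ e₃ f₃ : V}

/-- The point of a singular vector. -/
def pt (u : V) (hu0 : u ≠ 0) (hu : Q u = 0) : singPts Q := sp u hu0 hu

theorem smul_pt (g : EG Q) {u : V} (hu0 : u ≠ 0) (hu : Q u = 0) :
    g • pt u hu0 hu = pt (g.1.1 u) (fun h => hu0 ((map_eq_zero_iff _ g.1.1.injective).mp h))
      (by rw [iso_q, hu]) := rfl

theorem exists_pt (a : singPts Q) : ∃ (u : V) (hu0 : u ≠ 0) (hu : Q u = 0), a = pt u hu0 hu :=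
  exists_sp a

theorem pt_eq_iff {u v : V} (hu0 : u ≠ 0) (hu : Q u = 0) (hv0 : v ≠ 0) (hv : Q v = 0) :
    pt u hu0 hu = pt v hv0 hv ↔ ∃ t : F, t • v = u :=
  sp_eq_iff hu0 hu hv0 hv

theorem pt_eq_smul {u v : V} (hu0 : u ≠ 0) (hu : Q u = 0) (hv0 : v ≠ 0) (hv : Q v = 0) {t : F}
    (h : v = t • u) : pt v hv0 hv = pt u hu0 hu :=
  (pt_eq_iff hv0 hv hu0 hu).2 ⟨t, h.symm⟩

theorem stab_pt {g : EG Q} {u : V} {hu0 : u ≠ 0} {hu : Q u = 0} :
    g ∈ MulAction.stabilizer (EG Q) (pt u hu0 hu) ↔ ∃ t : F, t • u = g.1.1 u := by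
  rw [MulAction.mem_stabilizer_iff, smul_pt, pt_eq_iff]

theorem mem_root {g : EG Q} {u : V} {hu0 : u ≠ 0} {hu : Q u = 0} :
    g ∈ rootSub (pt u hu0 hu) ↔ ∃ (x : V) (hx : polarBilin Q u x = 0), g = ee u x hu hx := by
  obtain ⟨c, hc⟩ := Projectivization.exists_smul_eq_mk_rep F u hu0
  change (c : F) • u = (pt u hu0 hu).1.rep at hc
  constructor
  · rintro ⟨x, hx, hg⟩
    have hx' : polarBilin Q u ((c : F) • x) = 0 := by
      rw [← hc, map_smul, LinearMap.smul_apply, ← map_smul] at hx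
      exact hx
    refine ⟨(c : F) • x, hx', Subtype.ext ?_⟩
    rw [hg]
    refine eich_congr Q (sing _) hx hu hx' fun y => ?_
    rw [← hc]
    simp only [eichLin_apply, map_smul, quad_smul, smul_eq_mul]
    module
  · rintro ⟨x, hx, rfl⟩
    exact eich_mem_rootSub _ ((c⁻¹ : Fˣ) : F)
      (by rw [← hc, smul_smul, ← Units.val_mul, inv_mul_cancel, Units.val_one, one_smul]) hu hx

theorem ee_mem_root {u x : V} (hu0 : u ≠ 0) (hu : Q u = 0) (hx : polarBilin Q u x = 0) :
    ee u x hu hx ∈ rootSub (pt u hu0 hu) :=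
  mem_root.2 ⟨x, hx, rfl⟩

theorem root_fix {g : EG Q} {u : V} {hu0 : u ≠ 0} {hu : Q u = 0} (hg : g ∈ rootSub (pt u hu0 hu)) :
    g.1.1 u = u := by
  obtain ⟨x, hx, rfl⟩ := mem_root.1 hg
  rw [ee_apply, quad_polar_self, hu, hx]
  simp

theorem root_le_stab (a : singPts Q) : rootSub a ≤ MulAction.stabilizer (EG Q) a := by
  obtain ⟨u, hu0, hu, rfl⟩ := exists_pt a
  intro g hg
  exact stab_pt.2 ⟨1, by rw [one_smul, root_fix hg]⟩

theorem root_conj {g k : EG Q} {a : singPts Q} (hk : k ∈ rootSub a) : g * k * g⁻¹ ∈ rootSub (g • a) := by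
  obtain ⟨u, hu0, hu, rfl⟩ := exists_pt a
  obtain ⟨x, hx, rfl⟩ := mem_root.1 hk
  rw [ee_conj, smul_pt]
  exact ee_mem_root _ _ _

/-! ### The centre -/

theorem center_fix (h : HypThree Q e f e₂ f₂ e₃ f₃) {z : EG Q} (hz : z ∈ Subgroup.center (EG Q))
    (a : singPts Q) : z • a = a := by
  haveI := singPts_pretransitive h
  have he0 := pair_ne_zero h.two.ef
  obtain ⟨g, hg⟩ := MulAction.exists_smul_eq (EG Q) (pt e he0 h.two.qe) a
  suffices hfix : z • pt e he0 h.two.qe = pt e he0 h.two.qe by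
    rw [← hg, ← mul_smul, ← Subgroup.mem_center_iff.mp hz g, mul_smul, hfix]
  rw [smul_pt, pt_eq_iff]
  have key : ∀ (e' f' : V), HypTwo Q ⊤ e f e' f' →
      z.1.1 e = polarBilin Q (z.1.1 f') e' • e - (polarBilin Q (z.1.1 f') e) • e' := by
    intro e' f' h2
    have hc := congrArg (fun t : EG Q => t.1.1 (-f'))
      (Subgroup.mem_center_iff.mp hz (ee e e' h2.qe h2.ee₂))
    change (ee e e' h2.qe h2.ee₂).1.1 (z.1.1 (-f')) = z.1.1 ((ee e e' h2.qe h2.ee₂).1.1 (-f')) at hc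
    rw [ee_apply, ee_apply] at hc
    simp [quad_polar_comm Q f' e, h2.ef', quad_polar_comm Q f' e', h2.ef₂, h2.qe₂] at hc
    linear_combination (norm := module) -hc
  have k2 := key e₂ f₂ h.two
  have k3 := key e₃ f₃ h.two'
  have hcoef : polarBilin Q (z.1.1 f₂) e = 0 := by
    have h2 := congrArg (fun t => polarBilin Q t f₂) k2
    have h3 := congrArg (fun t => polarBilin Q t f₂) k3
    simp [h.two.ef₂, h.two.ef', quad_polar_comm Q e₃ f₂, h.two''.fe₂] at h2 h3
    rw [h3] at h2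
    simpa using h2.symm
  rw [hcoef, zero_smul, sub_zero] at k2
  exact ⟨_, k2.symm⟩

theorem scalar_of_fix (h : HypThree Q e f e₂ f₂ e₃ f₃) {g : EG Q}
    (hg : ∀ a : singPts Q, g • a = a) : ∃ c : F, ∀ v, g.1.1 v = c • v := by
  obtain ⟨c, hc⟩ := scalar_of_sing_lines h.two (LinearMap.id : V →ₗ[F] V) g.1.1.toLinearMap
    (fun w _ hw => hw) fun w hw => by
      have := hg (pt w hw.2.1 hw.2.2)
      rw [smul_pt, pt_eq_iff] at this
      obtain ⟨t, ht⟩ := this
      exact ⟨t, ht.symm⟩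
  exact ⟨c, fun v => hc v trivial⟩

theorem mem_center_iff_fix (h : HypThree Q e f e₂ f₂ e₃ f₃) {g : EG Q} :
    g ∈ Subgroup.center (EG Q) ↔ ∀ a : singPts Q, g • a = a :=
  ⟨fun hg a => center_fix h hg a, fun hg =>
    let ⟨_, hc⟩ := scalar_of_fix h hg
    central_of_scalar hc⟩

theorem root_eq_of_pk (h : HypThree Q e f e₂ f₂ e₃ f₃) {p : ℕ} [Fact p.Prime] [CharP F p]
    {a b : singPts Q} {x y : EG Q} (hx : x ∈ rootSub a) (hy : y ∈ rootSub b) (he : pk Q x = pk Q y) :
    x = y := by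
  obtain ⟨u, hu0, hu, rfl⟩ := exists_pt a
  obtain ⟨v, hv0, hv, rfl⟩ := exists_pt b
  have hz := pk_eq_iff.1 he
  obtain ⟨c, hc⟩ := scalar_of_fix h ((mem_center_iff_fix h).1 hz)
  obtain ⟨x', hx', rfl⟩ := mem_root.1 hx
  obtain ⟨y', hy', rfl⟩ := mem_root.1 hy
  generalize hz' : (ee u x' hu hx')⁻¹ * ee v y' hv hy' = z at hz hc
  have hyz : ee v y' hv hy' = ee u x' hu hx' * z := by rw [← hz']; group
  have hp : z ^ p = 1 := by
    have h1 := congrArg (· ^ p) hyz
    beta_reduce at h1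
    rw [(show Commute (ee u x' hu hx') z from Subgroup.mem_center_iff.mp hz _).mul_pow, ee_pow_char, ee_pow_char, one_mul] at h1
    exact h1.symm
  have hcp : ∀ k : ℕ, ∀ w, (z ^ k).1.1 w = c ^ k • w := by
    intro k
    induction k with
    | zero => intro w; simp
    | succ k ih =>
      intro w
      show (z ^ k).1.1 (z.1.1 w) = _
      rw [hc, map_smul, ih, smul_smul, pow_succ, mul_comm]
  have h1 := hcp p u
  rw [hp] at h1
  change u = c ^ p • u at h1
  have hc1 : c = 1 := by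
    have : c ^ p = 1 := smul_left_injective F hu0 (h1.symm.trans (one_smul F u).symm)
    refine frobenius_inj F p ?_
    simp [frobenius_def, this]
  have hz1 : z = 1 := Subtype.ext (Subtype.ext (LinearEquiv.ext fun w => by
    rw [hc, hc1, one_smul]; rfl))
  rw [hyz, hz1, mul_one]

/-! ### Images in `PΩ(V)` -/

/-- The root group of a point in `PΩ(V)`. -/
def rootK (a : singPts Q) : Subgroup (KG Q) := (rootSub a).map (pk Q)

/-- The stabiliser of a point in `PΩ(V)`. -/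
def stK (a : singPts Q) : Subgroup (KG Q) := (MulAction.stabilizer (EG Q) a).map (pk Q)

theorem mem_stK (h : HypThree Q e f e₂ f₂ e₃ f₃) {g : EG Q} {a : singPts Q} :
    pk Q g ∈ stK a ↔ g • a = a := by
  constructor
  · rintro ⟨k, hk, hkg⟩
    have hz := center_fix h (pk_eq_iff.1 hkg) a
    rw [show g = k * (k⁻¹ * g) by group, mul_smul, hz]
    exact hk
  · exact fun hg => ⟨g, hg, rfl⟩

theorem rootK_le_stK (a : singPts Q) : rootK a ≤ stK a := Subgroup.map_mono (root_le_stab a)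

theorem rootK_conj (g : EG Q) (a : singPts Q) {x : KG Q} (hx : x ∈ rootK a) :
    pk Q g * x * (pk Q g)⁻¹ ∈ rootK (g • a) := by
  obtain ⟨k, hk, rfl⟩ := hx
  exact ⟨g * k * g⁻¹, root_conj hk, by rw [map_mul, map_mul, map_inv]⟩

theorem isPGroup_rootK (p : ℕ) [CharP F p] (a : singPts Q) : IsPGroup p (rootK a) := by
  rintro ⟨_, k, hk, rfl⟩
  obtain ⟨u, hu0, hu, rfl⟩ := exists_pt a
  obtain ⟨x, hx, rfl⟩ := mem_root.1 hk
  refine ⟨1, Subtype.ext ?_⟩
  rw [pow_one, SubmonoidClass.coe_pow, OneMemClass.coe_one, ← map_pow, ee_pow_char, map_one]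

end Cfsg.Agent.Lib.Classical.AutPOmega
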