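import Cfsg.Agent.Lib.Classical.AutPOmega.Main
import Cfsg.Agent.Lib.Classical.OrthCenter
import Cfsg.Agent.Lib.Classical.POmegaSimple
import Cfsg.Prelude.Def_LieTypeDatum

/-!
Automorphisms of `PΩ`, part 8: the matrix groups.
-/

set_option autoImplicit false

namespace Cfsg.Agent.Lib.Classical.AutPOmega

open QuadraticMap (polarBilin)
open Cfsg.Agent.Lib.Geometry (quadIsometries mem_quadIsometries quad_add quad_smul quad_polar_self
  quad_polar_comm)
open Matrix

attribute [-simp] QuadraticMap.polarBilin_apply_apply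

variable {F V : Type*} [Field F] [AddCommGroup V] [Module F V] [FiniteDimensional F V] [Finite F]
  {ι : Type} [Fintype ι] [DecidableEq ι]
  {R : QuadraticForm F V} {e f e₂ f₂ e₃ f₃ : V}

/-- The presentation of `Ω(Q)` by Eichler transformations. -/
theorem exists_omega_equiv (h : HypThree R e f e₂ f₂ e₃ f₃) (hR : (polarBilin R).Nondegenerate)
    (hd : Module.finrank F V ≠ 4) (ε : (ι → F) ≃ₗ[F] V) (Q : (ι → F) → F) (hQ : ∀ v, Q v = R (ε v)) :
    ∃ θ : EG R ≃* Cfsg.Omega F Q, ∀ (k : EG R) (v : ι → F),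
      (((θ k : Cfsg.isometryGroup F Q) : GL ι F) : Matrix ι ι F) *ᵥ v = ε.symm (k.1.1 (ε v)) := by
  have hcomm : EG R = commutator (quadIsometries R) := eichGroup_eq_commutator h hR (Or.inr hd)
  let iso := isometryMulEquiv ε Q R hQ
  let θ : EG R ≃* Cfsg.Omega F Q := (MulEquiv.subgroupCongr hcomm).trans
    ((iso.subgroupMap _).trans (MulEquiv.subgroupCongr (Geometry.map_commutator_of_equiv iso)))
  exact ⟨θ, fun k v => isometryMulEquiv_mulVec ε Q R hQ k.1 v⟩

/-- Every automorphism of `PΩ(Q)` is induced by a semisimilarity of `Q`. -/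
theorem exists_induced (h : HypThree R e f e₂ f₂ e₃ f₃) (hR : (polarBilin R).Nondegenerate)
    (hN : NoTriality R) (hd : Module.finrank F V ≠ 4) (ε : (ι → F) ≃ₗ[F] V) (Q : (ι → F) → F)
    (hQ : ∀ v, Q v = R (ε v)) (β : MulAut (Cfsg.POmega F Q)) :
    ∃ (g : GL ι F) (σ : F ≃+* F), Cfsg.IsSemisimilarityPair Q g σ ∧
      Cfsg.IsInducedBySemilinearPOmega Q g σ β := by
  classical
  haveI : Fact (ringChar F).Prime := ⟨CharP.char_is_prime F (ringChar F)⟩
  obtain ⟨θ, hθ⟩ := exists_omega_equiv h hR hd ε Q hQ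
  let θK : KG R ≃* Cfsg.POmega F Q := centralQuotientCongr θ
  let φ : MulAut (KG R) := (θK.trans β).trans θK.symm
  obtain ⟨σ, c, L, hc, hbij, hadd, hsmul, hLQ, hind⟩ := exists_semisimilarity (ringChar F) h hN φ
  -- the matrix of `L`
  let L₀ : (ι → F) → ι → F := fun v => ε.symm (L (ε v))
  let M : Matrix ι ι F := Matrix.of fun i j => L₀ (Pi.single j 1) i
  have hsum : ∀ (s : Finset ι) (w : ι → V), L (∑ j ∈ s, w j) = ∑ j ∈ s, L (w j) := fun s w =>
    map_sum (AddMonoidHom.mk' L hadd) w s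
  have hM : ∀ v, M *ᵥ (fun i => σ (v i)) = L₀ v := by
    intro v
    have hv : v = ∑ j, v j • (Pi.single j (1 : F)) := by
      funext i; simp [Pi.single_apply]
    funext i
    show _ = ε.symm (L (ε v)) i
    conv_rhs => rw [hv, map_sum, hsum, map_sum, Finset.sum_apply]
    show ∑ j, M i j * σ (v j) = _
    refine Finset.sum_congr rfl fun j _ => ?_
    rw [map_smul, hsmul, map_smul, Pi.smul_apply, smul_eq_mul, mul_comm]
    rfl
  have hMinj : Function.Injective M.mulVec := by
    intro u v huv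
    have e1 : ∀ w : ι → F, (fun i => σ (σ.symm (w i))) = w := fun w => by funext i; simp
    have := huv
    rw [← e1 u, ← e1 v, hM, hM] at this
    have h2 := ε.injective (hbij.1 (ε.symm.injective this))
    funext i
    exact σ.symm.injective (congrFun h2 i)
  obtain ⟨g, hg⟩ : ∃ g : GL ι F, (g : Matrix ι ι F) = M :=
    ⟨(Matrix.mulVec_injective_iff_isUnit.mp hMinj).unit, rfl⟩
  refine ⟨g, σ, ⟨Units.mk0 c hc, fun v => ?_⟩, fun s s' hs => ?_⟩
  · rw [hg, hM, hQ]
    show R (ε (ε.symm _)) = _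
    rw [ε.apply_symm_apply, hLQ, Units.val_mk0, hQ]
  · obtain ⟨k, rfl⟩ := θ.surjective s
    obtain ⟨k', rfl⟩ := θ.surjective s'
    have hk : ∀ x, k'.1.1 (L x) = L (k.1.1 x) := by
      intro x
      obtain ⟨v, rfl⟩ := ε.surjective x
      have h1 : (((θ k' : Cfsg.isometryGroup F Q) : GL ι F) : Matrix ι ι F) *ᵥ (L₀ v) =
          L₀ ((((θ k : Cfsg.isometryGroup F Q) : GL ι F) : Matrix ι ι F) *ᵥ v) := by
        rw [hs, ← hM v, ← hM, ← hg, Matrix.mulVec_mulVec, Matrix.mul_assoc,
          ← Units.val_mul, inv_mul_cancel, Units.val_one, Matrix.mul_one, ← Matrix.mulVec_mulVec]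
        congr 1
        funext i
        simp [Matrix.mulVec, dotProduct, Matrix.map_apply]
      rw [hθ, hθ] at h1
      simp only [L₀, ε.apply_symm_apply] at h1
      exact ε.symm.injective h1
    have h2 := congrArg θK (hind k k' hk)
    simp only [φ, MulEquiv.trans_apply, MulEquiv.apply_symm_apply] at h2
    exact h2

theorem gamma_eq_top (h : HypThree R e f e₂ f₂ e₃ f₃) (hR : (polarBilin R).Nondegenerate)
    (hN : NoTriality R) (hd : Module.finrank F V ≠ 4) (ε : (ι → F) ≃ₗ[F] V) (Q : (ι → F) → F)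
    (hQ : ∀ v, Q v = R (ε v)) : Cfsg.gammaPOmega F Q = ⊤ := by
  rw [eq_top_iff]
  intro β _
  exact Subgroup.subset_closure (exists_induced h hR hN hd ε Q hQ β)

variable {W : Type*} [AddCommGroup W] [Module F W] [FiniteDimensional F W]

theorem finrank_hyper (m : ℕ) :
    Module.finrank F ((Fin m → F) × (Fin m → F) × W) = 2 * m + Module.finrank F W := by
  simp [Module.finrank_prod]; ring

/-- Totally singular subspaces of a hyperbolic extension of an anisotropic space. -/
theorem finrank_totally_singular_le (m : ℕ) (Q₀ : QuadraticForm F W) (han : ∀ w, Q₀ w = 0 → w = 0)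
    (S : Submodule F ((Fin m → F) × (Fin m → F) × W)) (hS : ∀ s ∈ S, hyperForm m Q₀ s = 0) :
    Module.finrank F S ≤ m := by
  have hw : ∀ s ∈ S, s.1 = 0 → s.2.2 = 0 := fun s hs h0 => han _ (by
    have := hS s hs
    rw [hyperForm_apply, h0] at this
    simpa using this)
  let P : S →ₗ[F] (Fin m → F) := (LinearMap.fst F _ _).comp S.subtype
  let Y : LinearMap.ker P →ₗ[F] (Fin m → F) :=
    ((LinearMap.fst F _ _).comp (LinearMap.snd F _ _)).comp (S.subtype.comp (LinearMap.ker P).subtype)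
  have hYinj : Function.Injective Y := by
    rintro ⟨⟨s, hs⟩, hk⟩ ⟨⟨t, ht⟩, hk'⟩ (huv : s.2.1 = t.2.1)
    have hx : s.1 = 0 := hk
    have hx' : t.1 = 0 := hk'
    exact Subtype.ext (Subtype.ext (Prod.ext (hx.trans hx'.symm)
      (Prod.ext huv ((hw s hs hx).trans (hw t ht hx').symm))))
  have hKy := LinearMap.finrank_range_of_inj hYinj
  set K := LinearMap.range Y
  let D : (Fin m → F) →ₗ[F] Module.Dual F K :=
    K.dualRestrict.comp (dotProductEquiv F (Fin m)).toLinearMap
  have hD : Function.Surjective D :=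
    (Subspace.dualRestrict_surjective).comp (dotProductEquiv F (Fin m)).surjective
  have hle : LinearMap.range P ≤ LinearMap.ker D := by
    rintro x ⟨⟨s, hs⟩, rfl⟩
    rw [LinearMap.mem_ker]
    refine LinearMap.ext fun k => ?_
    obtain ⟨k, ⟨⟨t, ht⟩, hk⟩, rfl⟩ := k
    have hx : t.1 = 0 := hk
    show dotProduct s.1 t.2.1 = 0
    have hB : polarBilin (hyperForm m Q₀) s t = 0 := by
      rw [QuadraticMap.polarBilin_apply_apply, QuadraticMap.polar, hS _ (S.add_mem hs ht), hS s hs, hS t ht]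
      ring
    rw [polarBilin_hyperForm, hx, hw t ht hx, map_zero, add_zero] at hB
    simpa [dotProduct] using hB
  have h1 := Submodule.finrank_mono hle
  have h2 := LinearMap.finrank_range_add_finrank_ker D
  rw [LinearMap.range_eq_top.mpr hD, finrank_top, Subspace.dual_finrank_eq, Module.finrank_fin_fun] at h2
  have h3 := LinearMap.finrank_range_add_finrank_ker P
  omega

theorem binary_anisotropic (a b : F)
    (hab : ∀ z₁ z₂ : F, z₁ ^ 2 + a * z₁ * z₂ + b * z₂ ^ 2 = 0 → z₁ = 0 ∧ z₂ = 0) :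
    ∀ w, binaryForm a b w = 0 → w = 0 := fun w hw => by
  rw [binaryForm_apply] at hw
  exact Prod.ext (hab _ _ hw).1 (hab _ _ hw).2

theorem odd_two_ne_zero {K : Type*} [Field K] [Fintype K] (hodd : Odd (Fintype.card K)) : (2 : K) ≠ 0 :=
  fun h => Nat.not_even_iff_odd.mpr hodd ((two_eq_zero_iff_even (F := K) rfl).1 h)

theorem noTriality_odd (m : ℕ) : NoTriality (hyperForm m (QuadraticMap.sq : QuadraticForm F F)) := by
  intro S _ h2
  rw [finrank_hyper, Module.finrank_self] at h2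
  omega

theorem noTriality_plus {m : ℕ} (hm : 5 ≤ m) :
    NoTriality (hyperForm m (0 : QuadraticForm F (Fin 0 → F))) := by
  intro S _ _
  rw [finrank_hyper, Module.finrank_fin_fun]
  omega

theorem noTriality_minus {m : ℕ} (a b : F)
    (hab : ∀ z₁ z₂ : F, z₁ ^ 2 + a * z₁ * z₂ + b * z₂ ^ 2 = 0 → z₁ = 0 ∧ z₂ = 0) :
    NoTriality (hyperForm m (binaryForm a b)) := by
  intro S hS h2
  have h1 := finrank_totally_singular_le m (binaryForm a b) (binary_anisotropic a b hab) S hS
  rw [finrank_hyper, Module.finrank_prod, Module.finrank_self] at h2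
  omega

theorem exists_induced_odd {K : Type*} [Field K] [Fintype K] (hodd : Odd (Fintype.card K)) {m : ℕ}
    (hm : 3 ≤ m) (β : MulAut (Cfsg.POmega K (Cfsg.quadFormOdd m K))) :
    ∃ (g : GL (Unit ⊕ (Fin m ⊕ Fin m)) K) (σ : K ≃+* K),
      Cfsg.IsSemisimilarityPair (Cfsg.quadFormOdd m K) g σ ∧
      Cfsg.IsInducedBySemilinearPOmega (Cfsg.quadFormOdd m K) g σ β := by
  have h₀ := sq_nondegenerate (odd_two_ne_zero hodd)
  have hR := hyperForm_nondegenerate m _ h₀
  obtain ⟨a, b, c, d, a', b', h3⟩ := hypThree_hyperForm m hm _ hR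
  exact exists_induced h3 hR (noTriality_odd m) (by rw [finrank_hyper]; omega) (oddEquiv m K) _
    (quadFormOdd_eq_hyper m) β

theorem exists_induced_plus {K : Type*} [Field K] [Fintype K] {m : ℕ} (hm : 5 ≤ m)
    (β : MulAut (Cfsg.POmega K (Cfsg.quadFormPlus m K))) :
    ∃ (g : GL (Fin m ⊕ Fin m) K) (σ : K ≃+* K),
      Cfsg.IsSemisimilarityPair (Cfsg.quadFormPlus m K) g σ ∧
      Cfsg.IsInducedBySemilinearPOmega (Cfsg.quadFormPlus m K) g σ β := by
  have hR := hyperForm_nondegenerate m _ (zero_nondegenerate (F := K))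
  obtain ⟨a, b, c, d, a', b', h3⟩ := hypThree_hyperForm m (by omega) _ hR
  exact exists_induced h3 hR (noTriality_plus hm) (by rw [finrank_hyper]; omega) (plusEquiv m K) _
    (quadFormPlus_eq_hyper m) β

theorem exists_induced_minus {K : Type*} [Field K] [Fintype K] {m : ℕ} (hm : 3 ≤ m) (a b : K)
    (hab : ∀ z₁ z₂ : K, z₁ ^ 2 + a * z₁ * z₂ + b * z₂ ^ 2 = 0 → z₁ = 0 ∧ z₂ = 0)
    (β : MulAut (Cfsg.POmega K (Cfsg.quadFormMinus m K a b))) :
    ∃ (g : GL ((Fin m ⊕ Fin m) ⊕ Fin 2) K) (σ : K ≃+* K),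
      Cfsg.IsSemisimilarityPair (Cfsg.quadFormMinus m K a b) g σ ∧
      Cfsg.IsInducedBySemilinearPOmega (Cfsg.quadFormMinus m K a b) g σ β := by
  have hR := hyperForm_nondegenerate m _ (binaryForm_nondegenerate a b hab)
  obtain ⟨x1, x2, x3, x4, x5, x6, h3⟩ := hypThree_hyperForm m hm _ hR
  exact exists_induced h3 hR (noTriality_minus a b hab) (by rw [finrank_hyper]; omega) (minusEquiv m K) _
    (quadFormMinus_eq_hyper m a b) β

end Cfsg.Agent.Lib.Classical.AutPOmega
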