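import Cfsg.Agent.Lib.Classical.AutPOmega.MinusField

/-!
Automorphisms of `PΩ`, part 28: centralizers of twisted field automorphisms in the inner-diagonal group,
and generation of that group modulo the inner automorphisms.
-/

set_option autoImplicit false

namespace Cfsg.Agent.Lib.Classical.AutPOmega

open QuadraticMap (polarBilin)
open Cfsg.Agent.Lib.Geometry (sqClass sqClass_eq_one_iff sqClass_eq_neg_one_iff)
open Matrix

attribute [-simp] QuadraticMap.polarBilin_apply_apply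

variable {F : Type*} [Field F] [Fintype F] {ι : Type} [Fintype ι] [DecidableEq ι] {R : QuadraticForm F (ι → F)}

/-- In characteristic two the class-preserving similarities act by inner automorphisms. -/
theorem clsN_le_inn_two (hM : Model0 R) {M : ℕ} (hι : Fintype.card ι = 2 * M) (h2 : (2 : F) = 0) :
    clsN hM hι ≤ Cfsg.Inn (Cfsg.POmega F ⇑R) := by
  rintro _ ⟨g, hg, rfl⟩
  have hd : Geometry.dickson R (Geometry.isometryEquiv R (isoPart hM h2 g)) = 1 := by
    rw [← clsS_two hM hι h2]; exact hg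
  have hmem : isoPart hM h2 g ∈ Cfsg.Omega F ⇑R :=
    (QuadFin.mem_Omega_criterion R hM.nondeg
      (Or.inr (by have := hM.dim; rwa [Module.finrank_fintype_fun_eq_card] at this)) _).mpr
      ⟨hd, fun h => absurd h2 h⟩
  rw [isoPart_spec hM h2 g, map_mul, (dia_eq_one_iff hM (scG R _)).mpr ⟨_, rfl⟩, one_mul]
  exact ⟨pr R ⟨_, hmem⟩, (dia_omG (R := R) ⟨_, hmem⟩).symm⟩

/-- Generation modulo inner automorphisms in odd characteristic. -/
theorem clsN_le_of_gens (hM : Model0 R) {M : ℕ} (hι : Fintype.card ι = 2 * M) (h2 : (2 : F) ≠ 0)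
    (hn : 2 ≤ Fintype.card ι) {S : Subgroup (MulAut (Cfsg.POmega F ⇑R))}
    (hI : Cfsg.Inn (Cfsg.POmega F ⇑R) ≤ S)
    {k₀ : Cfsg.isometryGroup F ⇑R} (hk₀ : ((k₀ : GL ι F) : Matrix ι ι F).det = 1)
    (hk₀s : spinH hM.nondeg h2 k₀ = -1) (hk₀S : dia R (isoG R k₀) ∈ S)
    {d : Cfsg.Geo.quadSimilarityGroup (F := F) ⇑R} (hd : deltaS hM M d = 1)
    (hdm : ¬ IsSquare ((multS hM d : Fˣ) : F)) (hdS : dia R d ∈ S) : clsN hM hι ≤ S := by
  have hsq : ∀ g, deltaS hM M g = 1 → IsSquare ((multS hM g : Fˣ) : F) → dia R g ∈ S := by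
    intro g hg hμ
    obtain ⟨u, k, rfl, hk⟩ := (psiS_eq_one_iff hM h2 hι g).mp
      (Prod.ext (sqClass_eq_one_iff.mpr hμ) ((sgnS_eq_one _ _ _ _).mpr hg))
    rw [map_mul, (dia_eq_one_iff hM (scG R u)).mpr ⟨u, rfl⟩, one_mul]
    rcases Int.units_eq_one_or (spinH hM.nondeg h2 k) with e | e
    · exact hI (dia_mem_inn_of_det hM h2 hι hn hk (Or.inl e))
    · have := hI (dia_inv_mul_mem_inn hM h2 hι hn (g := k₀) (k := k) (hk₀.trans hk.symm) (hk₀s.trans e.symm))
      have h' := S.mul_mem hk₀S this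
      rwa [mul_inv_cancel_left] at h'
  rintro _ ⟨g, hg, rfl⟩
  have hgd : deltaS hM M g = 1 := (clsS_odd hM hι h2 g).mp hg
  by_cases hμ : IsSquare ((multS hM g : Fˣ) : F)
  · exact hsq g hgd hμ
  · have := S.mul_mem hdS (hsq (d⁻¹ * g) (by rw [map_mul, map_inv, hd, hgd, inv_one, one_mul]) (by
      rw [map_mul, map_inv, Units.val_mul]
      refine square_or_nonsquare_mul (Units.ne_zero _) (Units.ne_zero _) ?_ hμ
      rw [Units.val_inv_eq_inv_val, isSquare_inv]
      exact hdm))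
    rwa [← map_mul, mul_inv_cancel_left] at this

section Centralizer

variable {σ : F ≃+* F} (hσ : ∀ v, R (fun i => σ (v i)) = σ (R v)) {F₀ : Type*} [Field F₀] [Fintype F₀]
  {ι₀ : Type} [Fintype ι₀] [DecidableEq ι₀] {R₀ : QuadraticForm F₀ (ι₀ → F₀)} {j : F₀ →+* F}
  {P : Matrix ι ι₀ F} {P' : Matrix ι₀ ι F} (hb : BaseMap R₀ R j P P')
  (hfix : ∀ t, σ t = t ↔ ∃ s, j s = t) {a₀ : Cfsg.Geo.quadSimilarityGroup (F := F) ⇑R} {c' : Fˣ}
  (hP : (a₀.1 : Matrix ι ι F) * P.map σ = (c' : F) • P)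

include hfix hP in
theorem twist_baseS (k : Cfsg.Geo.quadSimilarityGroup (F := F₀) ⇑R₀) :
    a₀ * galT hσ (baseS hb k) = baseS hb k * a₀ := by
  have hK : ((k.1 : Matrix ι₀ ι₀ F₀).map j).map σ = (k.1 : Matrix ι₀ ι₀ F₀).map j :=
    Matrix.ext fun s t => (hfix _).mpr ⟨_, rfl⟩
  have hP2 : P'.map σ = (c' : F)⁻¹ • (P' * (a₀.1 : Matrix ι ι F)) := by
    have h1 : (c' : F)⁻¹ • (P' * (a₀.1 : Matrix ι ι F)) * P.map σ = 1 := by
      rw [Matrix.smul_mul, Matrix.mul_assoc, hP, Matrix.mul_smul, hb.left, smul_smul,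
        inv_mul_cancel₀ c'.ne_zero, one_smul]
    have h2 : P.map σ * P'.map σ = 1 := by
      rw [← Matrix.map_mul, hb.right, Matrix.map_one _ (map_zero σ) (map_one σ)]
    calc P'.map σ = ((c' : F)⁻¹ • (P' * (a₀.1 : Matrix ι ι F)) * P.map σ) * P'.map σ := by rw [h1, Matrix.one_mul]
      _ = _ := by rw [Matrix.mul_assoc, h2, Matrix.mul_one]
  refine Subtype.ext (Units.ext ?_)
  show (a₀.1 : Matrix ι ι F) * ((galT hσ (baseS hb k)).1 : Matrix ι ι F) =
    ((baseS hb k).1 : Matrix ι ι F) * (a₀.1 : Matrix ι ι F)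
  rw [galT_val, baseS_coe]
  show (a₀.1 : Matrix ι ι F) * ((baseS hb k).1 : Matrix ι ι F).map σ = _
  rw [baseS_coe]
  rw [Matrix.map_mul, Matrix.map_mul, hK, hP2, ← Matrix.mul_assoc, ← Matrix.mul_assoc, hP, Matrix.smul_mul,
    Matrix.smul_mul, Matrix.mul_smul, smul_smul, mul_inv_cancel₀ c'.ne_zero, one_smul]
  simp only [Matrix.mul_assoc]

include hfix hP in
theorem exists_base_of_twist [Nonempty ι] (hM₀ : Model0 R₀) {g : Cfsg.Geo.quadSimilarityGroup (F := F) ⇑R} {c : Fˣ}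
    (hg : a₀ * galT hσ g = scG R c * (g * a₀)) : ∃ k u, g = baseS hb k * scG R u := by
  set h := P' * (g.1 : Matrix ι ι F) * P with hh
  have hσh : h.map σ = (c : F) • h := by
    have hgm : (a₀.1 : Matrix ι ι F) * (g.1 : Matrix ι ι F).map σ = (c : F) • ((g.1 : Matrix ι ι F) * a₀.1) := by
      have := congrArg (fun x : Cfsg.Geo.quadSimilarityGroup (F := F) ⇑R => (x.1 : Matrix ι ι F)) hg
      change (a₀.1 : Matrix ι ι F) * ((galT hσ g).1 : Matrix ι ι F) = Matrix.scalar ι (c : F) * _ at this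
      rw [galT_val, Matrix.scalar_apply, ← Matrix.smul_one_eq_diagonal, Matrix.smul_mul, Matrix.one_mul] at this
      exact this
    have h1 : P * P'.map σ = (c' : F)⁻¹ • (a₀.1 : Matrix ι ι F) := by
      have h2 : P.map σ * P'.map σ = 1 := by
        rw [← Matrix.map_mul, hb.right, Matrix.map_one _ (map_zero σ) (map_one σ)]
      have := congrArg (· * P'.map σ) hP
      simp only [Matrix.mul_assoc, h2, Matrix.mul_one, Matrix.smul_mul] at this
      rw [this, smul_smul, inv_mul_cancel₀ c'.ne_zero, one_smul]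
    have h3 : P.map σ = ((a₀.1⁻¹ : GL ι F) : Matrix ι ι F) * ((c' : F) • P) := by
      rw [← hP, ← Matrix.mul_assoc, ← Units.val_mul, inv_mul_cancel, Units.val_one, Matrix.one_mul]
    calc h.map σ = P' * (P * P'.map σ) * (g.1 : Matrix ι ι F).map σ * P.map σ := by
          rw [← Matrix.mul_assoc P' P, hb.left, Matrix.one_mul, hh, Matrix.map_mul, Matrix.map_mul]
      _ = (c : F) • h := by
          rw [h1, Matrix.mul_assoc P', Matrix.smul_mul, hgm, h3, smul_smul, Matrix.mul_smul, Matrix.smul_mul,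
            Matrix.mul_smul, Matrix.mul_smul, smul_smul, hh]
          simp only [Matrix.mul_assoc]
          rw [← Matrix.mul_assoc (a₀.1 : Matrix ι ι F) _ P, ← Units.val_mul, mul_inv_cancel, Units.val_one,
            Matrix.one_mul]
          congr 1
          field_simp
  have hne : h ≠ 0 := by
    intro h0
    have hg0 : (g.1 : Matrix ι ι F) = 0 := by
      have : P * h * P' = 0 := by rw [h0, Matrix.mul_zero, Matrix.zero_mul]
      rwa [hh, ← Matrix.mul_assoc, ← Matrix.mul_assoc, hb.right, Matrix.one_mul, Matrix.mul_assoc, hb.right,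
        Matrix.mul_one] at this
    exact (GeneralLinearGroup.det g.1).ne_zero (by
      show (g.1 : Matrix ι ι F).det = 0
      rw [hg0, Matrix.det_zero])
  obtain ⟨s₀, t₀, he⟩ : ∃ s t, h s t ≠ 0 := by
    by_contra hcon
    push Not at hcon
    exact hne (Matrix.ext hcon)
  set e := h s₀ t₀
  have hσe : σ e = (c : F) * e := congrFun (congrFun hσh s₀) t₀
  choose H hH using fun s t => (hfix (e⁻¹ * h s t)).mp (by
    rw [map_mul, map_inv₀, hσe, show σ (h s t) = (c : F) * h s t from congrFun (congrFun hσh s) t, _root_.mul_inv_rev,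
      mul_assoc, inv_mul_cancel_left₀ c.ne_zero])
  have hHm : (Matrix.of H).map j = e⁻¹ • h := Matrix.ext hH
  have hdet : (Matrix.of H).det ≠ 0 := by
    intro h0
    have h1 : (e⁻¹ • h).det = 0 := by rw [← hHm, ← RingHom.mapMatrix_apply, ← RingHom.map_det, h0, map_zero]
    have h2 : (e⁻¹ • h) * (e • (P' * ((g.1⁻¹ : GL ι F) : Matrix ι ι F) * P)) = 1 := by
      rw [Matrix.smul_mul, Matrix.mul_smul, smul_smul, inv_mul_cancel₀ he, one_smul, hh]
      simp only [Matrix.mul_assoc]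
      rw [← Matrix.mul_assoc P P', hb.right, Matrix.one_mul, ← Matrix.mul_assoc (g.1 : Matrix ι ι F),
        ← Units.val_mul, mul_inv_cancel, Units.val_one, Matrix.one_mul, hb.left]
    have h3 := congrArg Matrix.det h2
    rw [Matrix.det_mul, h1, zero_mul, Matrix.det_one] at h3
    exact zero_ne_one h3
  obtain ⟨μ, hμ⟩ := g.2
  obtain ⟨c₀, hc₀⟩ := hb.sim
  have hvec : ∀ w, j (R₀ (Matrix.of H *ᵥ w)) = (μ : F) * (e⁻¹ * e⁻¹) * j (R₀ w) := by
    intro w
    refine mul_left_cancel₀ c₀.ne_zero ?_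
    rw [← hc₀, ← map_mulVec_hom, hHm, Matrix.mulVec_mulVec, Matrix.mul_smul, hh,
      show P * (P' * (g.1 : Matrix ι ι F) * P) = (g.1 : Matrix ι ι F) * P by
        rw [← Matrix.mul_assoc, ← Matrix.mul_assoc, hb.right, Matrix.one_mul],
      Matrix.smul_mulVec, Geometry.quad_smul, ← Matrix.mulVec_mulVec, hμ, hc₀]
    ring
  obtain ⟨v₀, hv₀⟩ := hM₀.exists_one
  set μ₀ := R₀ (Matrix.of H *ᵥ v₀)
  have hμj : j μ₀ = (μ : F) * (e⁻¹ * e⁻¹) := by rw [hvec, hv₀, map_one, mul_one]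
  let k : Cfsg.Geo.quadSimilarityGroup (F := F₀) ⇑R₀ := ⟨GeneralLinearGroup.mkOfDetNeZero _ hdet,
    Units.mk0 μ₀ (fun h0 => by
      rw [h0, map_zero] at hμj
      exact mul_ne_zero μ.ne_zero (mul_ne_zero (inv_ne_zero he) (inv_ne_zero he)) hμj.symm),
    fun w => j.injective (by
      show j (R₀ (Matrix.of H *ᵥ w)) = _
      rw [hvec, map_mul, Units.val_mk0, hμj])⟩
  refine ⟨k, Units.mk0 e he, Subtype.ext (Units.ext ?_)⟩
  show (g.1 : Matrix ι ι F) = P * (Matrix.of H).map j * P' * Matrix.scalar ι e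
  rw [hHm, Matrix.scalar_apply, ← Matrix.smul_one_eq_diagonal, Matrix.mul_smul, Matrix.mul_smul, Matrix.mul_one,
    Matrix.smul_mul, smul_smul, mul_inv_cancel₀ he, one_smul, hh, ← Matrix.mul_assoc, ← Matrix.mul_assoc, hb.right,
    Matrix.one_mul, Matrix.mul_assoc, hb.right, Matrix.mul_one]

variable (hM₀ : Model0 R₀) (hM : Model0 R) {M : ℕ} (hι₀ : Fintype.card ι₀ = 2 * M) (hι : Fintype.card ι = 2 * M)

include hb hfix hP in
theorem centralizer_base [Nonempty ι] :
    clsN hM hι ⊓ Subgroup.centralizer {dia R a₀ * phiT hσ} =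
      ((dia R).comp ((baseS hb).comp (clsS hM₀ hι₀).ker.subtype)).range := by
  have hcomm : ∀ g, dia R g * (dia R a₀ * phiT hσ) = dia R a₀ * phiT hσ * dia R g ↔
      dia R (g * a₀) = dia R (a₀ * galT hσ g) := fun g => by
    rw [mul_assoc (dia R a₀), phiT_mul_dia, ← mul_assoc, ← mul_assoc, mul_left_inj, map_mul, map_mul]
  refine le_antisymm ?_ ?_
  · rintro _ ⟨⟨g, hg, rfl⟩, hc⟩
    have h1 := (hcomm g).mp (Subgroup.mem_centralizer_singleton_iff.mp hc)
    obtain ⟨c, hc'⟩ := (dia_eq_one_iff hM ((a₀ * galT hσ g) * (g * a₀)⁻¹)).mp (by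
      rw [map_mul, map_inv, h1, mul_inv_cancel])
    have hc2 : a₀ * galT hσ g = scG R c * (g * a₀) := by
      rw [← show (a₀ * galT hσ g) * (g * a₀)⁻¹ = scG R c from Subtype.ext hc', inv_mul_cancel_right]
    obtain ⟨k, u, rfl⟩ := exists_base_of_twist hσ hb hfix hP hM₀ hc2
    have hk : clsS hM₀ hι₀ k = 1 := by
      have h : clsS hM hι (baseS hb k * scG R u) = 1 := hg
      rwa [map_mul, clsS_scG, mul_one, clsS_baseS hb hM₀ hM hι₀ hι] at h
    exact ⟨⟨k, hk⟩, by
      rw [map_mul, (dia_eq_one_iff hM (scG R u)).mpr ⟨u, rfl⟩, mul_one]; rfl⟩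
  · rintro _ ⟨⟨k, hk⟩, rfl⟩
    refine ⟨⟨baseS hb k, show clsS hM hι (baseS hb k) = 1 by rw [clsS_baseS hb hM₀ hM hι₀ hι]; exact hk, rfl⟩, ?_⟩
    show dia R (baseS hb k) ∈ Subgroup.centralizer _
    rw [Subgroup.mem_centralizer_singleton_iff, hcomm, twist_baseS hσ hb hfix hP k]

include hb hfix hP in
theorem centralizer_base_iso [Nonempty ι] [Nonempty ι₀] :
    Nonempty (↥(clsN hM hι ⊓ Subgroup.centralizer {dia R a₀ * phiT hσ}) ≃* ↥(clsN hM₀ hι₀)) := by
  set S := (clsS hM₀ hι₀).ker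
  set Φ := (dia R).comp ((baseS hb).comp S.subtype)
  set Ψ := (dia R₀).comp S.subtype
  have hN₀ : clsN hM₀ hι₀ = Ψ.range := by rw [clsN, MonoidHom.range_comp, Subgroup.range_subtype]
  have hker : Φ.ker = Ψ.ker := by
    ext k
    rw [MonoidHom.mem_ker, MonoidHom.mem_ker]
    show dia R (baseS hb k.1) = 1 ↔ dia R₀ k.1 = 1
    rw [dia_eq_one_iff hM, dia_eq_one_iff hM₀]
    constructor
    · rintro ⟨u, hu⟩
      have hm : P * (k.1.1 : Matrix ι₀ ι₀ F₀).map j * P' = (u : F) • (1 : Matrix ι ι F) := by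
        rw [← baseS_coe hb, hu]
        show Matrix.scalar ι (u : F) = _
        rw [Matrix.scalar_apply, ← Matrix.smul_one_eq_diagonal]
      have hk : (k.1.1 : Matrix ι₀ ι₀ F₀).map j = (u : F) • 1 := by
        have := congrArg (fun X => P' * X * P) hm
        simp only [Matrix.mul_smul, Matrix.smul_mul, Matrix.mul_one, hb.left, Matrix.mul_assoc] at this
        rwa [← Matrix.mul_assoc P' P, hb.left, Matrix.one_mul] at this
      obtain ⟨i₀⟩ := ‹Nonempty ι₀›
      set w := (k.1.1 : Matrix ι₀ ι₀ F₀) i₀ i₀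
      have hw : j w = u := by have := congrFun (congrFun hk i₀) i₀; simpa using this
      have hw0 : w ≠ 0 := fun e => by rw [e, map_zero] at hw; exact u.ne_zero hw.symm
      refine ⟨Units.mk0 w hw0, Units.ext (Matrix.ext fun s t => j.injective ?_)⟩
      show j ((k.1.1 : Matrix ι₀ ι₀ F₀) s t) = j (Matrix.scalar ι₀ w s t)
      rw [show j ((k.1.1 : Matrix ι₀ ι₀ F₀) s t) = ((u : F) • (1 : Matrix ι₀ ι₀ F)) s t from congrFun (congrFun hk s) t]
      simp [Matrix.scalar_apply, Matrix.diagonal_apply, Matrix.one_apply, apply_ite j, hw]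
    · rintro ⟨u, hu⟩
      exact ⟨Units.map (j : F₀ →* F) u, by rw [show k.1 = scG R₀ u from Subtype.ext hu, baseS_scG]; rfl⟩
  exact ⟨(MulEquiv.subgroupCongr (centralizer_base hσ hb hfix hP hM₀ hM hι₀ hι)).trans
    ((QuotientGroup.quotientKerEquivRange Φ).symm.trans ((QuotientGroup.quotientMulEquivOfEq hker).trans
      ((QuotientGroup.quotientKerEquivRange Ψ).trans (MulEquiv.subgroupCongr hN₀.symm))))⟩

end Centralizer

/-! ### Transport along an isomorphism -/

theorem map_inf_centralizer {X Y : Type*} [Group X] [Group Y] (E : X ≃* Y) {N : Subgroup X} {N' : Subgroup Y}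
    (hN : N.map E.toMonoidHom = N') (x : X) :
    (N ⊓ Subgroup.centralizer {x}).map E.toMonoidHom = N' ⊓ Subgroup.centralizer {E x} := by
  subst hN
  ext y
  constructor
  · rintro ⟨z, ⟨hz, hc⟩, rfl⟩
    refine ⟨⟨z, hz, rfl⟩, ?_⟩
    show E z ∈ Subgroup.centralizer _
    rw [Subgroup.mem_centralizer_singleton_iff, ← map_mul, ← map_mul,
      Subgroup.mem_centralizer_singleton_iff.mp hc]
  · rintro ⟨⟨z, hz, rfl⟩, hc⟩
    refine ⟨z, ⟨hz, ?_⟩, rfl⟩
    show z ∈ Subgroup.centralizer _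
    have hc' : E z * E x = E x * E z := Subgroup.mem_centralizer_singleton_iff.mp hc
    rw [Subgroup.mem_centralizer_singleton_iff]
    exact E.injective (by rw [map_mul, map_mul, hc'])

theorem split_count_map {X Y : Type*} [Group X] [Group Y] (E : X ≃* Y) {N K : Subgroup X} {N' K' : Subgroup Y}
    (hN : N.map E.toMonoidHom = N') (hKm : K.map E.toMonoidHom = K') (hKN : K ≤ N)
    (hK : ∀ a ∈ N, ∀ k ∈ K, a * k * a⁻¹ ∈ K) (x : X) :
    Cfsg.splitClassCount N K x = ((N' ⊓ Subgroup.centralizer {E x}) ⊔ K').relIndex N' := by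
  rw [AutPSL.card_quot_conj N K hKN hK, ← map_inf_centralizer E hN x, ← hKm, ← Subgroup.map_sup, ← hN,
    Subgroup.relIndex_map_map_of_injective _ _ E.injective]

end Cfsg.Agent.Lib.Classical.AutPOmega
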