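import Cfsg.Agent.Lib.Classical.AutPOmega.FieldCount
import Cfsg.Agent.Lib.Classical.AutPSL.FieldClass
import Cfsg.Agent.Lib.Classical.AutPSL.Count

/-!
Automorphisms of `PΩ`, part 29: classes and centralizers of field automorphisms of prime order of the
minus-type groups.
-/

set_option autoImplicit false

namespace Cfsg.Agent.Lib.Classical.AutPOmega

open QuadraticMap (polarBilin)
open Cfsg.Agent.Lib.Geometry (sqClass sqClass_eq_one_iff sqClass_eq_neg_one_iff)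
open Matrix

attribute [-simp] QuadraticMap.polarBilin_apply_apply

theorem map_inn {X Y : Type*} [Group X] [Group Y] (ψ : X ≃* Y) :
    (Cfsg.Inn X).map (autMap ψ).toMonoidHom = Cfsg.Inn Y := by
  refine le_antisymm ?_ ?_
  · rintro _ ⟨_, ⟨x, rfl⟩, rfl⟩
    exact ⟨ψ x, MulEquiv.ext fun y => by simp [autMap]⟩
  · rintro _ ⟨y, rfl⟩
    exact ⟨MulAut.conj (ψ.symm y), ⟨_, rfl⟩, MulEquiv.ext fun z => by simp [autMap]⟩

section General

variable {F : Type*} [Field F] [Fintype F] {ι : Type} [Fintype ι] [DecidableEq ι] {R : QuadraticForm F (ι → F)}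

theorem inn_le_clsN (hM : Model0 R) {M : ℕ} (hι : Fintype.card ι = 2 * M) :
    Cfsg.Inn (Cfsg.POmega F ⇑R) ≤ clsN hM hι := by
  rintro _ ⟨y, rfl⟩
  obtain ⟨s, rfl⟩ := QuotientGroup.mk'_surjective _ y
  refine ⟨omG R s, ?_, dia_omG s⟩
  show clsS hM hι (isoG R s.1) = 1
  exact Abelianization.commutator_subset_ker ((clsS hM hι).comp (isoG R)) s.2

/-- A non-square stays a non-square in the fixed field of an automorphism of odd order. -/
theorem not_isSquare_map_of_odd (h2 : (2 : F) ≠ 0) {σ : F ≃+* F} {r : ℕ} (hr : Odd r) (hσ : σ ^ r = 1)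
    {F₀ : Type*} [Field F₀] {j : F₀ →+* F} (hj : ∀ t, σ t = t ↔ ∃ s, j s = t) {α : F₀} (hα : ¬ IsSquare α) :
    ¬ IsSquare (j α) := by
  rintro ⟨s, hs⟩
  have hjα : σ (j α) = j α := (hj _).mpr ⟨α, rfl⟩
  have h1 : σ s = s ∨ σ s = -s := mul_self_eq_mul_self_iff.mp (by rw [← map_mul, ← hs, hjα])
  have h3 : σ s = s := h1.resolve_right fun e => by
    have hk : ∀ k : ℕ, (σ ^ k) s = (-1) ^ k * s := by
      intro k
      induction k with
      | zero => simp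
      | succ k ih =>
        rw [pow_succ', RingAut.mul_apply, ih, map_mul, map_pow, map_neg, map_one, e, pow_succ]
        ring
    have h4 := hk r
    rw [hσ, hr.neg_one_pow, RingAut.one_apply] at h4
    have hs0 : s = 0 := (mul_eq_zero.mp (show (2 : F) * s = 0 by linear_combination h4)).resolve_left h2
    refine hα ⟨0, j.injective ?_⟩
    rw [mul_zero, map_zero, hs, hs0, mul_zero]
  obtain ⟨t, rfl⟩ := (hj s).mp h3
  exact hα ⟨t, j.injective (by rw [hs, map_mul])⟩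

end General

universe u

variable {F : Type u} [Field F] [Fintype F] {m : ℕ} {a b : F}
  (hm : 3 ≤ m) (hab : ∀ z₁ z₂ : F, z₁ ^ 2 + a * z₁ * z₂ + b * z₂ ^ 2 = 0 → z₁ = 0 ∧ z₂ = 0)

omit [Fintype F] in
theorem minusR_base {F₀ : Type*} [Field F₀] (j : F₀ →+* F) (a₀ b₀ : F₀) :
    BaseMap (minusR m a₀ b₀) (minusR m (j a₀) (j b₀)) j 1 1 :=
  ⟨one_mul 1, one_mul 1, 1, fun v => by
    rw [Units.val_one, one_mul, Matrix.one_mulVec]
    simp [minusR_apply, map_sum]⟩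

omit [Fintype F] in
theorem minusR_universal (hm : 1 ≤ m) (c : F) : ∃ v, minusR m a b v = c :=
  ⟨Sum.elim (Sum.elim (Pi.single ⟨0, hm⟩ c) (Pi.single ⟨0, hm⟩ 1)) 0, by
    rw [minusR_apply]
    simp [Pi.single_apply]⟩

include hm in
/-- The inner-diagonal group is generated by inner automorphisms and centralizing elements. -/
theorem minus_clsN_le {σ : F ≃+* F} {r : ℕ} (hr : Odd r) (hσr : σ ^ r = 1) {F₀ : Type*} [Field F₀] [Fintype F₀]
    {j : F₀ →+* F} (hj : ∀ t, σ t = t ↔ ∃ s, j s = t) {a₀ b₀ : F₀}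
    (hab₀ : ∀ z₁ z₂ : F₀, z₁ ^ 2 + a₀ * z₁ * z₂ + b₀ * z₂ ^ 2 = 0 → z₁ = 0 ∧ z₂ = 0)
    (hab' : ∀ z₁ z₂ : F, z₁ ^ 2 + j a₀ * z₁ * z₂ + j b₀ * z₂ ^ 2 = 0 → z₁ = 0 ∧ z₂ = 0) :
    clsN (model_minus hm hab').toModel0 (card_minus_index m) ≤
      (clsN (model_minus hm hab').toModel0 (card_minus_index m) ⊓
          Subgroup.centralizer {phiT (minusR_map σ ((hj _).mpr ⟨a₀, rfl⟩) ((hj _).mpr ⟨b₀, rfl⟩))}) ⊔
        Cfsg.Inn (Cfsg.POmega F ⇑(minusR m (j a₀) (j b₀))) := by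
  have hM := (model_minus hm hab').toModel0
  have hM₀ := (model_minus hm hab₀).toModel0
  by_cases h2 : (2 : F) = 0
  · exact (clsN_le_inn_two hM _ h2).trans le_sup_right
  haveI : Nonempty ((Fin m ⊕ Fin m) ⊕ Fin 2) := ⟨Sum.inr 0⟩
  have h2₀ : (2 : F₀) ≠ 0 := fun e => h2 (by rw [← map_ofNat j 2, e, map_zero])
  have hσ := minusR_map (m := m) σ ((hj _).mpr ⟨a₀, rfl⟩) ((hj _).mpr ⟨b₀, rfl⟩)
  have hb := minusR_base (m := m) j a₀ b₀
  set C := clsN hM (card_minus_index m) ⊓ Subgroup.centralizer {phiT hσ}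
  have hC : C = ((dia (minusR m (j a₀) (j b₀))).comp
      ((baseS hb).comp (clsS hM₀ (card_minus_index m)).ker.subtype)).range := by
    have := centralizer_base hσ hb hj (a₀ := 1) (c' := 1) (by
      show (1 : Matrix ((Fin m ⊕ Fin m) ⊕ Fin 2) ((Fin m ⊕ Fin m) ⊕ Fin 2) F) *
        (1 : Matrix ((Fin m ⊕ Fin m) ⊕ Fin 2) ((Fin m ⊕ Fin m) ⊕ Fin 2) F).map σ = _
      rw [Matrix.map_one _ (map_zero σ) (map_one σ), Units.val_one, one_smul, Matrix.one_mul])
      hM₀ hM (card_minus_index m) (card_minus_index m)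
    rwa [map_one, one_mul] at this
  have hmem : ∀ k, clsS hM₀ (card_minus_index m) k = 1 →
      dia (minusR m (j a₀) (j b₀)) (baseS hb k) ∈ C ⊔ Cfsg.Inn (Cfsg.POmega F ⇑(minusR m (j a₀) (j b₀))) :=
    fun k hk => Subgroup.mem_sup_left (by rw [hC]; exact ⟨⟨k, hk⟩, rfl⟩)
  obtain ⟨α, hα⟩ := exists_nonsquare_unit (F := F₀) h2₀
  have hjα : ¬ IsSquare (j (α : F₀)) := not_isSquare_map_of_odd h2 hr hσr hj hα
  obtain ⟨v, hv⟩ := minusR_universal (a := a₀) (b := b₀) (show 1 ≤ m by omega) 1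
  obtain ⟨w, hw⟩ := minusR_universal (a := a₀) (b := b₀) (show 1 ≤ m by omega) (α : F₀)
  have hRv : minusR m (j a₀) (j b₀) (fun i => j (v i)) = 1 := by
    have h := hb.sim
    obtain ⟨c, hc⟩ := h
    simp only [minusR_apply, ← map_mul, ← map_sum, ← map_pow, ← map_add]
    rw [← map_one j, ← hv, minusR_apply]
  have hRw : minusR m (j a₀) (j b₀) (fun i => j (w i)) = j α := by
    simp only [minusR_apply, ← map_mul, ← map_sum, ← map_pow, ← map_add]
    rw [← hw, minusR_apply]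
  obtain ⟨x, y, d₀, -, -, hd₀m, hd₀⟩ := exists_minusSim hm hab₀ α
  obtain ⟨hdet, hspin⟩ := det_spin_two_refl hM h2 (v := fun i => j (v i)) (w := fun i => j (w i))
    (by rw [hRv]; exact one_ne_zero) (by rw [hRw]; exact (map_ne_zero j).mpr α.ne_zero)
  refine clsN_le_of_gens hM _ h2 (by rw [card_minus_index]; omega) le_sup_right hdet ?_ ?_
    (d := baseS hb d₀) ?_ ?_ (hmem _ ((clsS_odd hM₀ _ h2₀ _).mpr hd₀))
  · rw [hspin, hRv, hRw, sqClass_eq_one_iff.mpr ⟨1, (one_mul 1).symm⟩, one_mul]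
    exact sqClass_eq_neg_one_iff.mpr hjα
  · have : isoG (minusR m (j a₀) (j b₀))
        (reflI _ (fun i => j (v i)) * reflI _ (fun i => j (w i))) =
        baseS hb (isoG (minusR m a₀ b₀) (reflI _ v) * isoG (minusR m a₀ b₀) (reflI _ w)) := by
      rw [map_mul, map_mul, baseS_refl, baseS_refl, Matrix.one_mulVec, Matrix.one_mulVec]
    rw [this]
    exact hmem _ (by
      rw [map_mul, clsS_refl _ _ (by rw [hv]; exact one_ne_zero), clsS_refl _ _ (by rw [hw]; exact α.ne_zero)]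
      decide)
  · rw [deltaS_baseS hb hM₀ hM, hd₀, map_one]
  · rw [multS_baseS hb hM₀ hM, hd₀m]
    exact hjα

include hm hab in
/-- Field automorphisms of prime order of the minus-type groups. -/
theorem field_class_minus {p f : ℕ} [Fact p.Prime] (hF : Fintype.card F = p ^ f)
    {x : MulAut (Cfsg.POmega F ⇑(minusR m a b))}
    (hx : ∃ (a' b' : F) (ψ : Cfsg.POmega F ⇑(minusR m a b) ≃* Cfsg.POmega F (Cfsg.quadFormMinus m F a' b'))
        (σ : F ≃+* F), (∀ z₁ z₂ : F, z₁ ^ 2 + a' * z₁ * z₂ + b' * z₂ ^ 2 = 0 → z₁ = 0 ∧ z₂ = 0) ∧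
      σ ≠ RingEquiv.refl F ∧ σ a' = a' ∧ σ b' = b' ∧
      Cfsg.IsFieldAutPOmegaOf (Cfsg.quadFormMinus m F a' b') σ ((ψ.symm.trans x).trans ψ))
    {r : ℕ} (hr : r.Prime) (hxr : orderOf x = r) {F₀ : Type*} [Field F₀] [Fintype F₀]
    (hF₀ : Fintype.card F₀ = p ^ (f / r)) :
    Odd r ∧ r ∣ f ∧
      (∃ a₀ b₀ : F₀, (∀ z₁ z₂ : F₀, z₁ ^ 2 + a₀ * z₁ * z₂ + b₀ * z₂ ^ 2 = 0 → z₁ = 0 ∧ z₂ = 0) ∧
        Nonempty (↥(clsN (model_minus hm hab).toModel0 (card_minus_index m) ⊓ Subgroup.centralizer {x}) ≃*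
          ↥(Cfsg.inndiagPOmegaMinus m F₀ a₀ b₀))) ∧
      Cfsg.splitClassCount (clsN (model_minus hm hab).toModel0 (card_minus_index m))
        (Cfsg.Inn (Cfsg.POmega F ⇑(minusR m a b))) x = 1 := by
  obtain ⟨a', b', σ, ψ, hab', hσa', hσb', hσ, hψx⟩ := minus_class_shape hx
  have hσr : σ ^ r = 1 := by
    rw [← galPart_phiT hm hab' (minusR_map σ hσa' hσb'), ← map_pow, ← hψx, ← map_pow, ← hxr, pow_orderOf_eq_one,
      map_one, map_one]
  haveI := Fact.mk hr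
  have hordσ : orderOf σ = r := orderOf_eq_prime hσr hσ
  have hodd : Odd r := minus_odd_order hab' hσa' hσb' hr hσr hσ
  haveI : CharP F p := charP_of_card_eq_prime_pow hF
  have hrf : r ∣ f := by
    rw [← (AutPSL.gal_cyclic_card (F := F) hF).2, ← hordσ]
    exact orderOf_dvd_natCard σ
  obtain ⟨j, hj⟩ := AutPSL.exists_fixedField_hom hF hordσ hrf hF₀
  obtain ⟨a₀, rfl⟩ := (hj a').mp hσa'
  obtain ⟨b₀, rfl⟩ := (hj b').mp hσb'
  have hab₀ : ∀ z₁ z₂ : F₀, z₁ ^ 2 + a₀ * z₁ * z₂ + b₀ * z₂ ^ 2 = 0 → z₁ = 0 ∧ z₂ = 0 := fun z₁ z₂ h => by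
    obtain ⟨h1, h2⟩ := hab' (j z₁) (j z₂) (by
      rw [← map_pow, ← map_mul, ← map_mul, ← map_pow, ← map_mul, ← map_add, ← map_add, h, map_zero])
    exact ⟨(map_eq_zero j).mp h1, (map_eq_zero j).mp h2⟩
  haveI : Nonempty ((Fin m ⊕ Fin m) ⊕ Fin 2) := ⟨Sum.inr 0⟩
  have hN : (clsN (model_minus hm hab).toModel0 (card_minus_index m)).map (autMap ψ).toMonoidHom =
      clsN (model_minus hm hab').toModel0 (card_minus_index m) := by
    refine le_antisymm ?_ fun y hy =>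
      ⟨autMap ψ.symm y, iso_maps_cls hm hab' hab ψ.symm hy, autMap_symm_apply ψ y⟩
    rintro _ ⟨y, hy, rfl⟩
    exact iso_maps_cls hm hab hab' ψ hy
  refine ⟨hodd, hrf, ⟨a₀, b₀, hab₀, ?_⟩, ?_⟩
  · obtain ⟨e⟩ := centralizer_base_iso (minusR_map σ hσa' hσb') (minusR_base j a₀ b₀) hj (a₀ := 1) (c' := 1) (by
      show (1 : Matrix ((Fin m ⊕ Fin m) ⊕ Fin 2) ((Fin m ⊕ Fin m) ⊕ Fin 2) F) *
        (1 : Matrix ((Fin m ⊕ Fin m) ⊕ Fin 2) ((Fin m ⊕ Fin m) ⊕ Fin 2) F).map σ = _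
      rw [Matrix.map_one _ (map_zero σ) (map_one σ), Units.val_one, one_smul, Matrix.one_mul])
      (model_minus hm hab₀).toModel0 (model_minus hm hab').toModel0 (card_minus_index m) (card_minus_index m)
    rw [map_one, one_mul] at e
    have e1 := ((autMap ψ).subgroupMap
      (clsN (model_minus hm hab).toModel0 (card_minus_index m) ⊓ Subgroup.centralizer {x})).trans
      (MulEquiv.subgroupCongr ((map_inf_centralizer (autMap ψ) hN x).trans (by rw [hψx])))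
    exact inndiag_minus_transfer' hm hab₀
      (fun _ N₀ => Nonempty (↥(clsN (model_minus hm hab).toModel0 (card_minus_index m) ⊓
        Subgroup.centralizer {x}) ≃* ↥N₀)) ⟨e1.trans e⟩
  · rw [split_count_map (autMap ψ) hN (map_inn ψ) (inn_le_clsN _ _)
      (fun a _ k hk => Subgroup.Normal.conj_mem inferInstance k hk a) x, Subgroup.relIndex_eq_one, hψx]
    exact minus_clsN_le hm hodd hσr hj hab₀ hab'

end Cfsg.Agent.Lib.Classical.AutPOmega
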