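import Cfsg.Agent.Lib.Classical.AutPOmega.PlusTwist
import Cfsg.Agent.Lib.Classical.AutPOmega.FieldCount
import Cfsg.Agent.Lib.Classical.AutPOmega.MinusFieldClass
import Cfsg.Agent.Lib.Classical.RootModel.GenD4
import Cfsg.Agent.Lib.Classical.RootModel.Conclude
import Cfsg.Agent.Lib.Chev.Aut.OutTypes

/-!
Automorphisms of `PΩ`, part 30: the inner-diagonal group of the eight-dimensional plus-type group is normal in
the automorphism group, through the identification with the Chevalley group of type D4.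
-/

set_option autoImplicit false

namespace Cfsg.Agent.Lib.Classical.AutPOmega

open QuadraticMap (polarBilin)
open Cfsg.Agent.Lib.Geometry (sqClass sqClass_eq_one_iff sqClass_eq_neg_one_iff)
open Cfsg.Lie (chevD4)
open Matrix

attribute [-simp] QuadraticMap.polarBilin_apply_apply

/-- A surjection from a perfect central extension of `L` onto a quotient without centre is an isomorphism
when the cardinals agree. -/
theorem exists_equiv_factor {S L X : Type*} [Group S] [Group L] [Group X] [Finite X] (θ : S →* L)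
    (hθ : Function.Surjective θ) (ψ : S →* X) (hψ : Function.Surjective ψ) (hker : θ.ker ≤ ψ.ker)
    (hcard : Nat.card L = Nat.card X) : ∃ e : L ≃* X, ∀ s, e (θ s) = ψ s := by
  have hspec := fun s => θ.liftOfRightInverse_comp_apply (Function.surjInv hθ)
    (Function.rightInverse_surjInv hθ) ⟨ψ, hker⟩ s
  set f := θ.liftOfRightInverse (Function.surjInv hθ) (Function.rightInverse_surjInv hθ) ⟨ψ, hker⟩
  have hs : Function.Surjective f := fun x => by
    obtain ⟨s, rfl⟩ := hψ x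
    exact ⟨θ s, hspec s⟩
  haveI : Nonempty L := ⟨1⟩
  haveI : Finite L := Nat.finite_of_card_ne_zero (by rw [hcard]; exact Nat.card_pos.ne')
  exact ⟨MulEquiv.ofBijective f ((Nat.bijective_iff_surjective_and_card f).mpr ⟨hs, hcard⟩), hspec⟩

variable {F : Type*} [Field F] [Fintype F]

/-- The coordinates of the model. -/
abbrev eightEquiv : Fin 8 ≃ Fin 4 ⊕ Fin 4 := (finSumFinEquiv (m := 4) (n := 4)).symm

theorem plusR_eightEquiv (v : Fin 8 → F) :
    plusR 4 F (fun i => v (eightEquiv.symm i)) = RootModel.formEight F v := by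
  rw [plusR_apply, Fin.sum_univ_four, RootModel.formEight]
  rfl

omit [Fintype F] in
theorem reindex_mulVec (A : Matrix (Fin 8) (Fin 8) F) (v : Fin 4 ⊕ Fin 4 → F) :
    Matrix.reindex eightEquiv eightEquiv A *ᵥ v = fun i => (A *ᵥ (v ∘ eightEquiv)) (eightEquiv.symm i) := by
  rw [Matrix.reindex_apply, Matrix.submatrix_mulVec_equiv]
  rfl

/-- The root elements in the model. -/
def rootEight (F : Type*) [Field F] (r : ℕ) (t : F) : Matrix (Fin 4 ⊕ Fin 4) (Fin 4 ⊕ Fin 4) F :=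
  Matrix.reindex eightEquiv eightEquiv (RootModel.modelD4.X RootModel.qEight r t)

theorem exists_iso_eight :
    ∃ e : ↥(Cfsg.isometryGroup F (RootModel.formEight F)) ≃* ↥(Cfsg.isometryGroup F ⇑(plusR 4 F)),
      ∀ g, ((e g : GL (Fin 4 ⊕ Fin 4) F) : Matrix (Fin 4 ⊕ Fin 4) (Fin 4 ⊕ Fin 4) F) =
        Matrix.reindex eightEquiv eightEquiv ((g : GL (Fin 8) F) : Matrix (Fin 8) (Fin 8) F) := by
  let m : GL (Fin 8) F ≃* GL (Fin 4 ⊕ Fin 4) F :=
    Units.mapEquiv ((Matrix.reindexAlgEquiv F F eightEquiv).toMulEquiv :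
      Matrix (Fin 8) (Fin 8) F ≃* Matrix (Fin 4 ⊕ Fin 4) (Fin 4 ⊕ Fin 4) F)
  have key : ∀ (g : GL (Fin 8) F) (v : Fin 4 ⊕ Fin 4 → F),
      (m g : Matrix (Fin 4 ⊕ Fin 4) (Fin 4 ⊕ Fin 4) F) *ᵥ v =
        fun i => ((g : Matrix (Fin 8) (Fin 8) F) *ᵥ (v ∘ eightEquiv)) (eightEquiv.symm i) :=
    fun g v => reindex_mulVec _ v
  have hback : ∀ v : Fin 4 ⊕ Fin 4 → F, RootModel.formEight F (v ∘ eightEquiv) = plusR 4 F v := fun v => by
    rw [← plusR_eightEquiv]
    exact congrArg _ (funext fun i => congrArg v (eightEquiv.apply_symm_apply i))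
  have hmem : ∀ g : GL (Fin 8) F,
      g ∈ Cfsg.isometryGroup F (RootModel.formEight F) ↔ m g ∈ Cfsg.isometryGroup F ⇑(plusR 4 F) := by
    intro g
    rw [RootModel.mem_iso, RootModel.mem_iso]
    constructor
    · intro h v
      show plusR 4 F ((m g : Matrix (Fin 4 ⊕ Fin 4) (Fin 4 ⊕ Fin 4) F) *ᵥ v) = _
      rw [key, plusR_eightEquiv, h, hback]
    · intro h v
      have h1 := h (v ∘ eightEquiv.symm)
      change plusR 4 F ((m g : Matrix (Fin 4 ⊕ Fin 4) (Fin 4 ⊕ Fin 4) F) *ᵥ _) = _ at h1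
      rw [key, plusR_eightEquiv, ← hback, Function.comp_assoc, Equiv.symm_comp_self, Function.comp_id] at h1
      exact h1
  refine ⟨{ toFun := fun g => ⟨m g.1, (hmem _).1 g.2⟩
            invFun := fun g => ⟨m.symm g.1, (hmem _).2 (by rw [m.apply_symm_apply]; exact g.2)⟩
            left_inv := fun g => Subtype.ext (m.symm_apply_apply g.1)
            right_inv := fun g => Subtype.ext (m.apply_symm_apply g.1)
            map_mul' := fun a b => Subtype.ext (map_mul m a.1 b.1) }, fun g => rfl⟩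

/-- The Chevalley group of type D4 as the eight-dimensional plus-type group, with the images of the root
elements. -/
theorem exists_model_D4 :
    ∃ ψ : ↥(chevD4.group F) ≃* Cfsg.POmega F ⇑(plusR 4 F),
      ∀ (r : ℕ) (t : F), r < chevD4.nroots → ∃ s : Cfsg.Omega F ⇑(plusR 4 F),
        ψ (Lib.Chev.goodD4.GX F r t) = pr (plusR 4 F) s ∧ omat s = rootEight F r t := by
  classical
  obtain ⟨φ, hφ⟩ := RootModel.modelD4.exists_hom RootModel.qEight chevD4 RootModel.chkD4
    (RootModel.formEight F) RootModel.formEight_dot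
  obtain ⟨e, he⟩ := exists_iso_eight (F := F)
  set Φ := e.toMonoidHom.comp φ
  have hperf := RootModel.st_perfect_of_cover chevD4 (Lib.Chev.c_perfect_group (K := F) (by simp) (fun h => by
      simp only [List.mem_cons, List.not_mem_nil, or_false] at h
      rcases h with h | h <;> exact absurd (congrArg Cfsg.Lie.ChevalleyDatum.nroots h) (by decide +kernel)))
  have hle : commutator ↥(Cfsg.isometryGroup F ⇑(plusR 4 F)) ≤ Φ.range :=
    RootModel.commutator_le_range_comp φ e (RootModel.commutator_le_rangeD4 φ hφ)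
  have hrange : Φ.range = Cfsg.Omega F ⇑(plusR 4 F) := by
    refine le_antisymm ?_ hle
    rw [MonoidHom.range_eq_map, ← hperf, Cfsg.Omega, commutator_def, commutator_def, Subgroup.map_commutator]
    exact Subgroup.commutator_mono le_top le_top
  let Φ' : chevD4.SteinbergGroup F →* Cfsg.Omega F ⇑(plusR 4 F) :=
    (MulEquiv.subgroupCongr hrange).toMonoidHom.comp Φ.rangeRestrict
  have hΦ' : Function.Surjective Φ' :=
    (MulEquiv.subgroupCongr hrange).surjective.comp Φ.rangeRestrict_surjective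
  have hcen : (Lib.Chev.goodD4.theta F).ker ≤ ((pr (plusR 4 F)).comp Φ').ker := by
    rw [Lib.Chev.goodD4.theta_ker Lib.Chev.adjD4]
    intro z hz
    rw [MonoidHom.mem_ker]
    refine (QuotientGroup.eq_one_iff _).2 (Subgroup.mem_center_iff.2 fun y => ?_)
    obtain ⟨x, rfl⟩ := hΦ' y
    rw [← map_mul, ← map_mul, Subgroup.mem_center_iff.1 hz x]
  haveI : Finite (Cfsg.POmega F ⇑(plusR 4 F)) := Quotient.finite _
  have hcard : Nat.card ↥(chevD4.group F) = Nat.card (Cfsg.POmega F ⇑(plusR 4 F)) := by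
    have : IsSimpleGroup ↥(chevD4.group F) := (Lib.Chev.goodD4.simple Lib.Chev.connD4
      (Lib.Chev.perfect_group (by simp) (fun h => by
        rcases h with h | h <;> exact absurd (congrArg Cfsg.Lie.ChevalleyDatum.nroots h) (by decide +kernel)))).1
    obtain ⟨e'⟩ := RootModel.exists_equiv_of_hom Φ hperf hle (fun hbot => by
      have h1 : e (φ (chevD4.stGen F 0 1)) = 1 := Subgroup.mem_bot.1 (hbot ▸ ⟨_, rfl⟩)
      rw [map_eq_one_iff _ e.injective] at h1
      have h2 := hφ 0 1 (by decide)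
      rw [h1] at h2
      have h3 := congrFun (congrFun h2 5) 0
      simp [RootModel.Model.X, RootModel.Model.elem, RootModel.Model.mv, RootModel.modelD4, RootModel.ev_append,
        RootModel.ev_oneP, RootModel.ev_cons, RootModel.mono, RootModel.qEight, Matrix.single_apply,
        Matrix.one_apply] at h3)
      (Lib.Chev.goodD4.theta F) Lib.Chev.goodD4.theta_surjective (Lib.Chev.goodD4.theta_ker Lib.Chev.adjD4)
    exact Nat.card_congr e'.toEquiv
  obtain ⟨ψ, hψ⟩ := exists_equiv_factor (Lib.Chev.goodD4.theta F) Lib.Chev.goodD4.theta_surjective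
    ((pr (plusR 4 F)).comp Φ') ((QuotientGroup.mk'_surjective _).comp hΦ') hcen hcard
  refine ⟨ψ, fun r t hr => ⟨Φ' (chevD4.stGen F r t), ?_, ?_⟩⟩
  · have hgx : Lib.Chev.goodD4.theta F (chevD4.stGen F r t) = Lib.Chev.goodD4.GX F r t :=
      Subtype.ext (Lib.Chev.goodD4.th_xb hr t)
    rw [← hgx]
    exact hψ _
  · show ((e (φ (chevD4.stGen F r t)) : GL (Fin 4 ⊕ Fin 4) F) : Matrix (Fin 4 ⊕ Fin 4) (Fin 4 ⊕ Fin 4) F) = _
    rw [he, hφ r t hr]
    rfl

/-- Diagonal conditions on a similarity for the given torus parameters. -/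
def DiagCond (a : Fin 4 → Fˣ) (d : Fin 8 → F) : Prop :=
  d 0 = (a 0 : F) * d 1 ∧ d 5 = (a 0 : F) * d 4 ∧ d 1 = (a 1 : F) * d 2 ∧ d 6 = (a 1 : F) * d 5 ∧
    d 2 = (a 2 : F) * d 3 ∧ d 7 = (a 2 : F) * d 6 ∧ d 2 = (a 3 : F) * d 7 ∧ d 3 = (a 3 : F) * d 6

omit [Fintype F] in
theorem simD4 : (List.range 4).map (Lib.Chev.sim chevD4) = [18, 14, 13, 12] := by decide

theorem rowsSimD4 :
    (RootModel.modelD4.mv 18).map (fun e => (e.1, e.2.1, e.2.2.2)) = [(5, 4, 1), (0, 1, 1)] ∧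
    (RootModel.modelD4.mv 14).map (fun e => (e.1, e.2.1, e.2.2.2)) = [(6, 5, 1), (1, 2, 1)] ∧
    (RootModel.modelD4.mv 13).map (fun e => (e.1, e.2.1, e.2.2.2)) = [(7, 6, 1), (2, 3, 1)] ∧
    (RootModel.modelD4.mv 12).map (fun e => (e.1, e.2.1, e.2.2.2)) = [(3, 6, 1), (2, 7, 1)] ∧
    (RootModel.modelD4.mv 5).map (fun e => (e.1, e.2.1, e.2.2.2)) = [(1, 0, 1), (4, 5, 1)] ∧
    (RootModel.modelD4.mv 9).map (fun e => (e.1, e.2.1, e.2.2.2)) = [(2, 1, 1), (5, 6, 1)] ∧
    (RootModel.modelD4.mv 10).map (fun e => (e.1, e.2.1, e.2.2.2)) = [(3, 2, 1), (6, 7, 1)] ∧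
    (RootModel.modelD4.mv 11).map (fun e => (e.1, e.2.1, e.2.2.2)) = [(7, 2, 1), (6, 3, 1)] := by
  decide

omit [Fintype F] in
theorem two_rows {r : ℕ} {d : Fin 8 → F} {lam : F} {i j k l : Fin 8}
    (hrow : (RootModel.modelD4.mv r).map (fun e => (e.1, e.2.1, e.2.2.2)) = [(i.val, j.val, 1), (k.val, l.val, 1)])
    (h1 : d i = lam * d j) (h2 : d k = lam * d l) :
    ∀ e ∈ RootModel.modelD4.mv r, ∀ x y : Fin 8, x.val = e.1 → y.val = e.2.1 → d x = lam ^ e.2.2.2 * d y := by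
  intro e he x y hx hy
  have hm := List.mem_map_of_mem (f := fun e => (e.1, e.2.1, e.2.2.2)) he
  rw [hrow, List.mem_cons, List.mem_singleton] at hm
  rcases hm with hm | hm <;>
  · simp only [Prod.mk.injEq] at hm
    obtain ⟨e1, e2, e3⟩ := hm
    rw [e3, pow_one, Fin.ext (hx.trans e1), Fin.ext (hy.trans e2)]
    assumption

omit [Fintype F] in
theorem diagCond_scale {a : Fin 4 → Fˣ} {d : Fin 8 → F} (h : DiagCond a d) (i : Fin 4) :
    (∀ e ∈ RootModel.modelD4.mv (Lib.Chev.sim chevD4 i.val), ∀ x y : Fin 8, x.val = e.1 → y.val = e.2.1 →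
        d x = (a i : F) ^ e.2.2.2 * d y) ∧
    (∀ e ∈ RootModel.modelD4.mv (Lib.Chev.ng chevD4 (Lib.Chev.sim chevD4 i.val)), ∀ x y : Fin 8,
        x.val = e.1 → y.val = e.2.1 → d x = ((a i : F)⁻¹) ^ e.2.2.2 * d y) := by
  obtain ⟨h1, h2, h3, h4, h5, h6, h7, h8⟩ := h
  obtain ⟨r18, r14, r13, r12, r5, r9, r10, r11⟩ := rowsSimD4
  have inv : ∀ {x y : F} (u : Fˣ), x = (u : F) * y → y = (u : F)⁻¹ * x := fun u e => by
    rw [e, inv_mul_cancel_left₀ u.ne_zero]
  have hn : ∀ i : Fin 4, Lib.Chev.sim chevD4 i.val = [18, 14, 13, 12].getD i.val 0 ∧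
      Lib.Chev.ng chevD4 (Lib.Chev.sim chevD4 i.val) = [5, 9, 10, 11].getD i.val 0 := by decide
  obtain ⟨hs, hng⟩ := hn i
  rw [hng, hs]
  fin_cases i
  · exact ⟨two_rows (i := 5) (j := 4) (k := 0) (l := 1) r18 h2 h1,
      two_rows (i := 1) (j := 0) (k := 4) (l := 5) r5 (inv _ h1) (inv _ h2)⟩
  · exact ⟨two_rows (i := 6) (j := 5) (k := 1) (l := 2) r14 h4 h3,
      two_rows (i := 2) (j := 1) (k := 5) (l := 6) r9 (inv _ h3) (inv _ h4)⟩
  · exact ⟨two_rows (i := 7) (j := 6) (k := 2) (l := 3) r13 h6 h5,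
      two_rows (i := 3) (j := 2) (k := 6) (l := 7) r10 (inv _ h5) (inv _ h6)⟩
  · exact ⟨two_rows (i := 3) (j := 6) (k := 2) (l := 7) r12 h8 h7,
      two_rows (i := 7) (j := 2) (k := 6) (l := 3) r11 (inv _ h7) (inv _ h8)⟩

/-- A diagonal similarity induces the diagonal automorphism with the corresponding parameters. -/
theorem autMap_dHom {ψ : ↥(chevD4.group F) ≃* Cfsg.POmega F ⇑(plusR 4 F)}
    (hψ : ∀ (r : ℕ) (t : F), r < chevD4.nroots → ∃ s : Cfsg.Omega F ⇑(plusR 4 F),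
        ψ (Lib.Chev.goodD4.GX F r t) = pr (plusR 4 F) s ∧ omat s = rootEight F r t)
    {a : Fin 4 → Fˣ} {d : Fin 8 → F} (h : DiagCond a d)
    (g : Cfsg.Geo.quadSimilarityGroup (F := F) ⇑(plusR 4 F))
    (hg : (g.1 : Matrix (Fin 4 ⊕ Fin 4) (Fin 4 ⊕ Fin 4) F) = Matrix.diagonal (d ∘ eightEquiv.symm)) :
    autMap ψ (Lib.Chev.goodD4.dHom F a) = dia (plusR 4 F) g := by
  have hdiag : Matrix.reindex eightEquiv eightEquiv (Matrix.diagonal d) =
      (g.1 : Matrix (Fin 4 ⊕ Fin 4) (Fin 4 ⊕ Fin 4) F) := by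
    rw [hg, Matrix.reindex_apply, Matrix.submatrix_diagonal_equiv]
  have act : ∀ (r : ℕ) (t lam : F), r < chevD4.nroots →
      (∀ e ∈ RootModel.modelD4.mv r, ∀ x y : Fin 8, x.val = e.1 → y.val = e.2.1 → d x = lam ^ e.2.2.2 * d y) →
      dia (plusR 4 F) g (ψ (Lib.Chev.goodD4.GX F r t)) = ψ (Lib.Chev.goodD4.GX F r (lam * t)) := by
    intro r t lam hr hd
    obtain ⟨s, hs, hsm⟩ := hψ r t hr
    obtain ⟨s', hs', hsm'⟩ := hψ r (lam * t) hr
    rw [hs, hs', dia_apply, semAut_pr]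
    refine congrArg (pr (plusR 4 F)) (omega_ext ?_)
    rw [omat_semOmega, hsm, hsm']
    rw [show (rootEight F r t).map ⇑(1 : F ≃+* F) = rootEight F r t from Matrix.ext fun i j => rfl]
    have hc := RootModel.modelD4.diag_conj RootModel.qEight (fun _ => rfl) hd t
    have hc' := congrArg (Matrix.reindex eightEquiv eightEquiv) hc
    simp only [Matrix.reindex_apply, ← Matrix.submatrix_mul_equiv _ _ _ eightEquiv.symm] at hc'
    rw [← Matrix.reindex_apply eightEquiv eightEquiv, ← Matrix.reindex_apply eightEquiv eightEquiv,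
      ← Matrix.reindex_apply eightEquiv eightEquiv, hdiag] at hc'
    change (g.1 : Matrix (Fin 4 ⊕ Fin 4) (Fin 4 ⊕ Fin 4) F) * rootEight F r t = rootEight F r (lam * t) * _ at hc'
    rw [hc', Matrix.mul_assoc, ← Units.val_mul, mul_inv_cancel, Units.val_one, Matrix.mul_one]
  suffices hs : autMap ψ.symm (dia (plusR 4 F) g) = Lib.Chev.goodD4.dHom F a by
    rw [← hs]
    exact MulEquiv.ext fun x => by simp [autMap]
  refine Lib.Chev.goodD4.aut_ext fun i hi t => ?_
  obtain ⟨e1, e2⟩ := Lib.Chev.goodD4.dHom_act a ⟨i, hi⟩ t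
  obtain ⟨p1, p2⟩ := diagCond_scale h ⟨i, hi⟩
  refine ⟨?_, ?_⟩
  · rw [e1]
    show ψ.symm (dia (plusR 4 F) g (ψ.symm.symm _)) = _
    rw [MulEquiv.symm_symm, act _ t (a ⟨i, hi⟩ : F) (Lib.Chev.goodD4.sim_lt hi) p1, MulEquiv.symm_apply_apply]
    rfl
  · rw [e2]
    show ψ.symm (dia (plusR 4 F) g (ψ.symm.symm _)) = _
    rw [MulEquiv.symm_symm,
      act _ t ((a ⟨i, hi⟩ : F)⁻¹) (Lib.Chev.goodD4.ng_lt (Lib.Chev.goodD4.sim_lt hi)) p2,
      MulEquiv.symm_apply_apply]
    show _ = Lib.Chev.goodD4.GX F (Lib.Chev.ng chevD4 (Lib.Chev.sim chevD4 i)) _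
    congr 1
    show (a ⟨i, hi⟩ : F)⁻¹ * t = -((a ⟨i, hi⟩ : F) * (-t⁻¹))⁻¹
    rw [mul_neg, inv_neg, neg_neg, mul_inv, inv_inv]

omit [Fintype F] in
theorem polar_plusR {m : ℕ} (v w : Fin m ⊕ Fin m → F) :
    polarBilin (plusR m F) v w = ∑ i : Fin m, (v (.inl i) * w (.inr i) + v (.inr i) * w (.inl i)) := by
  rw [QuadraticMap.polarBilin_apply_apply, QuadraticMap.polar, plusR_apply, plusR_apply, plusR_apply,
    ← Finset.sum_sub_distrib, ← Finset.sum_sub_distrib]
  refine Finset.sum_congr rfl fun i _ => ?_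
  simp only [Pi.add_apply]
  ring

/-- The hyperbolic pair product of reflections is diagonal. -/
theorem refl_pair_diag {m : ℕ} (i₀ : Fin m) (α : Fˣ) :
    (((reflI (plusR m F) (plusVec m F i₀) *
        reflI (plusR m F) (Sum.elim (Pi.single i₀ 1) (Pi.single i₀ (α : F)))) :
      Cfsg.isometryGroup F ⇑(plusR m F)).1 : Matrix (Fin m ⊕ Fin m) (Fin m ⊕ Fin m) F) =
      Matrix.diagonal (Sum.elim (Function.update 1 i₀ (α : F)) (Function.update 1 i₀ ((α : F)⁻¹))) := by
  refine Matrix.ext_of_mulVec_single fun l => ?_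
  show ((reflI (plusR m F) (plusVec m F i₀)).1.1 * (reflI (plusR m F) _).1.1 :
    Matrix (Fin m ⊕ Fin m) (Fin m ⊕ Fin m) F) *ᵥ _ = _
  have hα := α.ne_zero
  have hw : plusR m F (Sum.elim (Pi.single i₀ 1) (Pi.single i₀ (α : F))) = α := by
    simp [plusR_apply, Pi.single_apply]
  rw [← Matrix.mulVec_mulVec, reflI_mulVec, reflI_mulVec, plusR_plusVec, hw, polar_plusR, polar_plusR]
  funext z
  simp only [Matrix.mulVec_single_one, Matrix.col_apply, Matrix.diagonal_apply, Finset.sum_add_distrib]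
  rcases l with l | l <;> rcases z with z | z <;>
    simp [plusVec, Pi.single_apply, Function.update_apply] <;>
    by_cases h1 : l = i₀ <;> by_cases h2 : z = i₀ <;>
    simp_all [eq_comm (a := i₀) (b := l), eq_comm (a := i₀) (b := z)] <;>
    (try field_simp) <;> (try ring1) <;> (try (intro h3; simp_all)) <;> (try (rintro rfl; simp_all))

end Cfsg.Agent.Lib.Classical.AutPOmega
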