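import Cfsg.Agent.Lib.Classical.AutPOmega.DiagPlus

/-!
Automorphisms of `PΩ`, part 35: the outer automorphism group in dimension eight, through type D4: the symmetric
group on three or four letters times the Galois group.
-/

set_option autoImplicit false

namespace Cfsg.Agent.Lib.Classical.AutPOmega

open QuadraticMap (polarBilin)
open Cfsg.Agent.Lib.Geometry (sqClass sqClass_eq_one_iff sqClass_eq_neg_one_iff)
open Cfsg.Lie (chevD4)
open Lib.Chev (goodD4 sign_of_par parD4 candD4 candD4_chk)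
open Matrix

attribute [-simp] QuadraticMap.polarBilin_apply_apply

variable {F : Type*} [Field F] [Fintype F]

/-- The middle node. -/
abbrev midNode : Fin chevD4.rank := ⟨1, (show 1 < 4 by decide)⟩

theorem rho_range_fix {π : Equiv.Perm (Fin chevD4.rank)}
    (hπ : π ∈ (goodD4.rho F (sign_of_par parD4)).range) : π midNode = midNode := by
  obtain ⟨e, he, hl, -⟩ := goodD4.range_cand (sign_of_par parD4) candD4_chk hπ
  have h : ∀ e ∈ candD4, e.1.getD 1 0 = 1 := by decide
  exact Fin.ext ((hl _).symm.trans (h e he))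

/-- The embedding of the symmetries of the three outer nodes. -/
noncomputable def outerPerm : Equiv.Perm (Fin 3) →* Equiv.Perm (Fin chevD4.rank) :=
  Equiv.Perm.extendDomainHom (α := Fin 3) (β := Fin 4) (p := fun x => x ≠ 1) (finSuccAboveEquiv (1 : Fin 4))

theorem outerPerm_injective : Function.Injective outerPerm := Equiv.Perm.extendDomainHom_injective _

theorem outerPerm_fix (s : Equiv.Perm (Fin 3)) :
    outerPerm s midNode = midNode :=
  Equiv.Perm.extendDomain_apply_not_subtype (β' := Fin 4) _ _ (p := fun x => x ≠ (1 : Fin 4)) (b := (1 : Fin 4)) (fun h => h rfl)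

theorem outerPerm_mem (s : Equiv.Perm (Fin 3)) : outerPerm s ∈ (goodD4.rho F (sign_of_par parD4)).range := by
  set R := (goodD4.rho F (sign_of_par parD4)).range
  have hle : R ≤ (MulAction.stabilizer (Equiv.Perm (Fin chevD4.rank)) midNode) :=
    fun π hπ => rho_range_fix hπ
  have hle' : (outerPerm.range : Subgroup (Equiv.Perm (Fin chevD4.rank))) ≤
      MulAction.stabilizer _ midNode := by
    rintro _ ⟨t, rfl⟩
    exact outerPerm_fix t
  have hcard : Nat.card ↥(MulAction.stabilizer (Equiv.Perm (Fin chevD4.rank)) midNode) = 6 := by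
    have := MulAction.index_stabilizer_of_transitive (Equiv.Perm (Fin chevD4.rank))
      midNode
    have h2 := Subgroup.card_mul_index
      (MulAction.stabilizer (Equiv.Perm (Fin chevD4.rank)) midNode)
    have h4 : Nat.card (Fin chevD4.rank) = 4 := Nat.card_fin 4
    rw [this, Nat.card_perm, h4] at h2
    have h24 : (4 : ℕ).factorial = 24 := rfl
    omega
  have heq : R = MulAction.stabilizer (Equiv.Perm (Fin chevD4.rank)) midNode :=
    Subgroup.eq_of_le_of_card_ge hle (by rw [hcard, Lib.Chev.rangeD4.1])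
  rw [heq]
  exact hle' ⟨s, rfl⟩

theorem exists_graph (π : Equiv.Perm (Fin chevD4.rank)) (hπ : π ∈ (goodD4.rho F (sign_of_par parD4)).range) :
    ∃ θ : MulAut ↥(chevD4.group F), Lib.Chev.Std θ ∧ goodD4.Act1 θ π fun _ t => t := by
  obtain ⟨θ₀, rfl⟩ := hπ
  obtain ⟨x, f, hx, ha⟩ := goodD4.rho_spec (sign_of_par parD4) θ₀
  obtain ⟨d, θ', f', hd, he, hact, hone⟩ := goodD4.exists_normalized ha
  obtain ⟨σ, hσ⟩ := goodD4.exists_sigma hact hone candD4_chk
  have hθ' : Lib.Chev.Std θ' := by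
    have := (goodD4.diag_std hd).inv.mul hx
    rwa [he, inv_mul_cancel_left] at this
  refine ⟨θ' * goodD4.fHom F σ.symm, hθ'.mul (goodD4.field_std (goodD4.exists_fieldAut σ.symm).choose_spec.1), ?_⟩
  have hlong : ∀ i j : Fin chevD4.rank, chevD4.graphExp (ringChar F) i.val j.val = 1 := by
    intro i j
    have h : ∀ i : Fin chevD4.rank, chevD4.isLong (chevD4.simple i.val) = false := by decide +kernel
    simp [Cfsg.Lie.ChevalleyDatum.graphExp, h]
  have h := goodD4.act1_mul hact (goodD4.fHom_act σ.symm)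
  rw [mul_one] at h
  have hf : (fun (i : Fin chevD4.rank) (t : F) => f' i (σ.symm t)) = fun _ t => t := by
    funext i t
    simp [hσ, hlong]
  exact hf ▸ h

/-- The graph automorphisms as a homomorphism. -/
noncomputable def graphHom : Equiv.Perm (Fin 3) →* MulAut ↥(chevD4.group F) :=
  MonoidHom.mk' (fun s => (exists_graph (F := F) (outerPerm s) (outerPerm_mem s)).choose) fun a b => by
    refine goodD4.act1_ext (exists_graph (F := F) (outerPerm (a * b)) (outerPerm_mem _)).choose_spec.2 ?_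
    rw [map_mul]
    exact goodD4.act1_mul (exists_graph (F := F) (outerPerm a) (outerPerm_mem a)).choose_spec.2
      (exists_graph (F := F) (outerPerm b) (outerPerm_mem b)).choose_spec.2

theorem graphHom_act (s : Equiv.Perm (Fin 3)) :
    goodD4.Act1 (graphHom (F := F) s) (outerPerm s) fun _ t => t :=
  (exists_graph (F := F) (outerPerm s) (outerPerm_mem s)).choose_spec.2

/-- The graph automorphisms in the outer automorphism group. -/
noncomputable def qG : Equiv.Perm (Fin 3) →* Cfsg.Out ↥(chevD4.group F) :=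
  (QuotientGroup.mk' (Cfsg.Inn ↥(chevD4.group F))).comp graphHom

theorem rhoBar_qG (s : Equiv.Perm (Fin 3)) :
    goodD4.rhoBar F (sign_of_par parD4) (qG s) = outerPerm s := by
  show goodD4.rho F (sign_of_par parD4) (graphHom s) = _
  exact goodD4.rho_of_std (sign_of_par parD4)
    (exists_graph (F := F) (outerPerm s) (outerPerm_mem s)).choose_spec.1 (graphHom_act s)

theorem qG_mul_qF (s : Equiv.Perm (Fin 3)) (σ : F ≃+* F) :
    Commute (qG s) (goodD4.qF F σ) := by
  show QuotientGroup.mk' (Cfsg.Inn ↥(chevD4.group F)) _ * QuotientGroup.mk' (Cfsg.Inn ↥(chevD4.group F)) _ =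
    QuotientGroup.mk' (Cfsg.Inn ↥(chevD4.group F)) _ * QuotientGroup.mk' (Cfsg.Inn ↥(chevD4.group F)) _
  rw [← map_mul, ← map_mul]
  refine congrArg (QuotientGroup.mk' (Cfsg.Inn ↥(chevD4.group F))) (goodD4.act1_ext (goodD4.act1_mul (graphHom_act s) (goodD4.fHom_act σ)) ?_)
  simpa using goodD4.act1_mul (goodD4.fHom_act σ) (graphHom_act s)

theorem qG_mul_qD (s : Equiv.Perm (Fin 3)) (a : Fin chevD4.rank → Fˣ) :
    qG s * goodD4.qD F a = goodD4.qD F (a ∘ (outerPerm s).symm) * qG s := by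
  show QuotientGroup.mk' (Cfsg.Inn ↥(chevD4.group F)) _ * QuotientGroup.mk' (Cfsg.Inn ↥(chevD4.group F)) _ =
    QuotientGroup.mk' (Cfsg.Inn ↥(chevD4.group F)) _ * QuotientGroup.mk' (Cfsg.Inn ↥(chevD4.group F)) _
  rw [← map_mul, ← map_mul]
  refine congrArg (QuotientGroup.mk' (Cfsg.Inn ↥(chevD4.group F))) (goodD4.act1_ext (goodD4.act1_mul (graphHom_act s) (goodD4.dHom_act a)) ?_)
  convert goodD4.act1_mul (goodD4.dHom_act (a ∘ (outerPerm s).symm)) (graphHom_act s) using 1
  · simp
  · funext i t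
    simp

theorem qF_mul_qD (σ : F ≃+* F) (a : Fin chevD4.rank → Fˣ) :
    goodD4.qF F σ * goodD4.qD F a = goodD4.qD F (fun i => Units.map (σ : F →* F) (a i)) * goodD4.qF F σ := by
  show QuotientGroup.mk' (Cfsg.Inn ↥(chevD4.group F)) _ * QuotientGroup.mk' (Cfsg.Inn ↥(chevD4.group F)) _ =
    QuotientGroup.mk' (Cfsg.Inn ↥(chevD4.group F)) _ * QuotientGroup.mk' (Cfsg.Inn ↥(chevD4.group F)) _
  rw [← map_mul, ← map_mul]
  refine congrArg (QuotientGroup.mk' (Cfsg.Inn ↥(chevD4.group F))) (goodD4.act1_ext (goodD4.act1_mul (goodD4.fHom_act σ) (goodD4.dHom_act a)) ?_)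
  convert goodD4.act1_mul (goodD4.dHom_act fun i => Units.map (σ : F →* F) (a i)) (goodD4.fHom_act σ) using 1
  funext i t
  simp

theorem qD_eq_one_two (h2 : (2 : F) = 0) (a : Fin chevD4.rank → Fˣ) : goodD4.qD F a = 1 := by
  obtain ⟨ψ, hψ⟩ := exists_model_D4 (F := F)
  let b : Fin 4 → Fˣ := a
  let t : Fin 4 → Fˣ := ![b 0 * b 1 * b 2, b 1 * b 2, b 2, 1]
  let s : Fin 4 → Fˣ := fun i => b 2 * (b 3)⁻¹ * (t i)⁻¹
  have hts : ∀ i, (t i : F) * s i = ((b 2 * (b 3)⁻¹ : Fˣ) : F) := fun i => by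
    rw [← Units.val_mul]
    congr 1
    simp only [s]
    rw [mul_comm (t i), inv_mul_cancel_right]
  refine (QuotientGroup.eq_one_iff _).mpr ?_
  have hg := autMap_dHom hψ (a := b) (d := fun x => Sum.elim (fun i => (t i : F)) (fun i => (s i : F)) (eightEquiv x))
    (by
      refine ⟨?_, ?_, ?_, ?_, ?_, ?_, ?_, ?_⟩ <;>
        simp [t, s, eightEquiv, finSumFinEquiv, Fin.addCases, Fin.castLT, Fin.subNat] <;>
        field_simp)
    (diagSim t s _ hts) (by
      show Matrix.diagonal _ = _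
      congr 1
      funext x
      simp)
  set M := model0_plus (F := F) (by omega : 3 ≤ 4)
  have hu : ∃ u : Fˣ, b 2 * (b 3)⁻¹ = u * u := ⟨sqrtU h2 _, (sqrtU_mul_self h2 _).symm⟩
  obtain ⟨u, hu⟩ := hu
  have hcls : clsS M (card_plus_index 4) (diagSim t s _ hts) = 1 := by
    refine (plus_preserves_cls (by omega : 3 ≤ 4) _).mp ?_
    have := (preserves_iff_dickson M.nondeg (Or.inr M.dim) (card_plus_index 4) (plusU_spec 4).1 (plusU_spec 4).2
      (d := (diagSim t s _ hts).1) (c := ((b 2 * (b 3)⁻¹ : Fˣ) : F)) (fun v => by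
        rw [plusR_apply, plusR_apply, Finset.mul_sum]
        refine Finset.sum_congr rfl fun i _ => ?_
        show (Matrix.diagonal _ *ᵥ v) (.inl i) * (Matrix.diagonal _ *ᵥ v) (.inr i) = _
        rw [Matrix.mulVec_diagonal, Matrix.mulVec_diagonal, Sum.elim_inl, Sum.elim_inr, ← hts i]
        ring) (imageSubmodule_eq_of_mapsTo _ fun v hv => by
        obtain ⟨x, rfl⟩ := hv
        refine ⟨fun i => (t i : F) * x i, ?_⟩
        funext z
        show _ = (Matrix.diagonal _ *ᵥ _) z
        rw [Matrix.mulVec_diagonal]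
        rcases z with i | i <;> simp [LinearEquiv.sumArrowLequivProdArrow]) 1).mpr (by simp [Geometry.dickson_one])
    simpa using this
  have hmem : dia (plusR 4 F) (diagSim t s _ hts) ∈ Cfsg.Inn (Cfsg.POmega F ⇑(plusR 4 F)) :=
    clsN_le_inn_two M (card_plus_index 4) h2 ⟨_, hcls, rfl⟩
  rw [← hg, ← map_inn ψ] at hmem
  exact (Subgroup.mem_map_iff_mem (autMap ψ).injective).mp hmem

/-- The diagonal classes in odd characteristic. -/
theorem qD_eq_one_iff (h2 : (2 : F) ≠ 0) (a : Fin 4 → Fˣ) :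
    goodD4.qD F a = 1 ↔ sqc (a 0) = sqc (a 2) ∧ sqc (a 2) = sqc (a 3) := by
  obtain ⟨ψ, hψ⟩ := exists_model_D4 (F := F)
  have hodd : Odd (Fintype.card F) := by
    have hch : ringChar F ≠ 2 := fun e => h2 (by haveI := (ringChar.eq_iff).mp e; exact CharTwo.two_eq_zero)
    exact Nat.odd_iff.mpr (FiniteField.odd_card_of_char_ne_two hch)
  let t : Fin 4 → Fˣ := ![a 0 * a 1 * a 2, a 1 * a 2, a 2, 1]
  let s : Fin 4 → Fˣ := fun i => a 2 * (a 3)⁻¹ * (t i)⁻¹
  have hts : ∀ i, (t i : F) * s i = ((a 2 * (a 3)⁻¹ : Fˣ) : F) := fun i => by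
    rw [← Units.val_mul]
    congr 1
    simp only [s]
    rw [mul_comm (t i), inv_mul_cancel_right]
  have hg := autMap_dHom hψ (a := a) (d := fun x => Sum.elim (fun i => (t i : F)) (fun i => (s i : F)) (eightEquiv x))
    (by
      refine ⟨?_, ?_, ?_, ?_, ?_, ?_, ?_, ?_⟩ <;>
        simp [t, s, eightEquiv, finSumFinEquiv, Fin.addCases, Fin.castLT, Fin.subNat] <;>
        field_simp)
    (diagSim t s _ hts) (by
      show Matrix.diagonal _ = _
      congr 1
      funext x
      simp)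
  have h1 : goodD4.qD F a = 1 ↔ dia (plusR 4 F) (diagSim t s _ hts) ∈ Cfsg.Inn (Cfsg.POmega F ⇑(plusR 4 F)) := by
    rw [← hg, ← map_inn ψ]
    exact Iff.trans (QuotientGroup.eq_one_iff (goodD4.dHom F a))
      (Subgroup.mem_map_iff_mem (autMap ψ).injective).symm
  have hz : spinH (model0_plus (F := F) (by omega : 3 ≤ 4)).nondeg h2 (negOne (plusR 4 F)) = 1 :=
    (spin_negOne_plus hodd (by omega : 3 ≤ 4)).mpr fun h => absurd h.1 (by decide)
  rw [h1, dia_diagSim_mem_inn (by omega : 3 ≤ 4) h2 hz]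
  have h4 : ∀ x : ℤˣ, x ^ 4 = 1 := fun x => by rcases Int.units_eq_one_or x with rfl | rfl <;> decide
  have hprod : ∏ i, sqc (t i) = sqc (a 0) * sqc (a 2) := by
    simp [Fin.prod_univ_four, t]
    rcases Int.units_eq_one_or (sqc (a 1)) with e | e <;> rcases Int.units_eq_one_or (sqc (a 2)) with e' | e' <;>
      rw [e, e'] <;> simp
  rw [hprod]
  constructor
  · rintro ⟨u, hu, hp⟩
    rw [h4, ← Int.units_inv_eq_self (sqc (a 2)), mul_inv_eq_one] at hp
    have h23 := congrArg sqc hu
    rw [map_mul, map_mul, map_inv, ← pow_two, Int.units_sq, mul_inv_eq_one] at h23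
    exact ⟨hp, h23⟩
  · rintro ⟨h02, h23⟩
    have hs : sqClass ((a 2 * (a 3)⁻¹ : Fˣ) : F) = 1 := by
      show sqc (a 2 * (a 3)⁻¹) = 1
      rw [map_mul, map_inv, h23, mul_inv_cancel]
    obtain ⟨w, hw⟩ := sqClass_eq_one_iff.mp hs
    have hw0 : w ≠ 0 := fun e => (a 2 * (a 3)⁻¹).ne_zero (by rw [hw, e, mul_zero])
    exact ⟨Units.mk0 w hw0, Units.ext hw, by rw [h4, h02, ← pow_two, Int.units_sq]⟩

/-- The outer automorphism group in even characteristic. -/
theorem out_D4_two {f : ℕ} (hF : Fintype.card F = 2 ^ f) (hf : 1 ≤ f) :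
    Nonempty (Cfsg.Out ↥(chevD4.group F) ≃* Equiv.Perm (Fin 3) × Multiplicative (ZMod f)) := by
  haveI : Fact (Nat.Prime 2) := ⟨Nat.prime_two⟩
  haveI : CharP F 2 := charP_of_card_eq_prime_pow hF
  haveI : Finite (Cfsg.Out ↥(chevD4.group F)) := by
    haveI : Finite (MulAut ↥(chevD4.group F)) := Finite.of_injective _ DFunLike.coe_injective
    exact Quotient.finite _
  have hqD : (goodD4.qD F).range = ⊥ := by
    rw [eq_bot_iff]
    rintro _ ⟨a, rfl⟩
    exact qD_eq_one_two CharTwo.two_eq_zero a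
  have hinj : Function.Injective (qG (F := F)) := by
    intro s t h
    apply outerPerm_injective
    rw [← rhoBar_qG (F := F), h, rhoBar_qG]
  have hcard : Nat.card (Cfsg.Out ↥(chevD4.group F)) = Nat.card ↥(qG (F := F)).range * f := by
    rw [← Nat.card_congr (MonoidHom.ofInjective hinj).toEquiv, Nat.card_perm, Nat.card_fin,
      ← (goodD4.rhoBar F (sign_of_par parD4)).ker.index_mul_card, Subgroup.index_ker,
      goodD4.rhoBar_range, Lib.Chev.rangeD4.1, goodD4.rhoBar_ker (sign_of_par parD4) candD4_chk, hqD, bot_sup_eq,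
      ← Nat.card_congr (MonoidHom.ofInjective (goodD4.qF_injective (F := F) (by decide))).toEquiv,
      Lib.Chev.card_ringAut hF]
    rfl
  refine iso_prod_cyclic (qG (F := F)).range (c := goodD4.qF F (frobeniusEquiv F 2)) ?_ ?_ ?_ hcard
    (MonoidHom.ofInjective hinj).symm
  · rintro _ ⟨s, rfl⟩
    exact qG_mul_qF s _
  · rw [orderOf_injective _ (goodD4.qF_injective (F := F) (by decide)), orderOf_frob hF hf]
  · rintro k ⟨s, hs⟩
    have h := congrArg (goodD4.rhoBar F (sign_of_par parD4)) hs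
    rw [rhoBar_qG, ← map_pow, show goodD4.rhoBar F (sign_of_par parD4) (goodD4.qF F (frobeniusEquiv F 2 ^ k)) = 1 from
      MonoidHom.mem_ker.mp (by
        rw [goodD4.rhoBar_ker (sign_of_par parD4) candD4_chk]
        exact Subgroup.mem_sup_right ⟨_, rfl⟩), ← map_one outerPerm] at h
    rw [← hs, outerPerm_injective h, map_one]

/-- The outer automorphism group in odd characteristic. -/
theorem out_D4_odd {p f : ℕ} [Fact p.Prime] (hF : Fintype.card F = p ^ f) (hf : 1 ≤ f) (hp2 : p ≠ 2) :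
    Nonempty (Cfsg.Out ↥(chevD4.group F) ≃* Equiv.Perm (Fin 4) × Multiplicative (ZMod f)) := by
  haveI : CharP F p := charP_of_card_eq_prime_pow hF
  have h2 : (2 : F) ≠ 0 := odd_two_ne_zero (by
    rw [hF]; exact ((Fact.out : p.Prime).odd_of_ne_two hp2).pow)
  haveI : Finite (Cfsg.Out ↥(chevD4.group F)) := by
    haveI : Finite (MulAut ↥(chevD4.group F)) := Finite.of_injective _ DFunLike.coe_injective
    exact Quotient.finite _
  set D := (goodD4.qD F).range with hD
  haveI hDn : D.Normal := goodD4.qD_range_normal (sign_of_par parD4)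
  set rb := goodD4.rhoBar F (sign_of_par parD4) with hrb
  set H := (qG (F := F)).range with hH
  have hinj : Function.Injective (qG (F := F)) := by
    intro s t h
    apply outerPerm_injective
    rw [← rhoBar_qG (F := F), h, rhoBar_qG]
  have hHD : ∀ s : Equiv.Perm (Fin 3), qG (F := F) s ∈ rb.ker → s = 1 := fun s hs =>
    outerPerm_injective (by rw [map_one, ← rhoBar_qG (F := F)]; exact MonoidHom.mem_ker.mp hs)
  have hker : rb.ker = D ⊔ (goodD4.qF F).range := goodD4.rhoBar_ker (sign_of_par parD4) candD4_chk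
  -- the diagonal classes
  let q4 : (Fin 4 → Fˣ) →* Cfsg.Out ↥(chevD4.group F) := goodD4.qD F
  let Ψ : (Fin 4 → Fˣ) →* ℤˣ × ℤˣ :=
    MonoidHom.prod ((sqc.comp (Pi.evalMonoidHom (fun _ : Fin 4 => Fˣ) 0)) * (sqc.comp (Pi.evalMonoidHom (fun _ : Fin 4 => Fˣ) 2)))
      ((sqc.comp (Pi.evalMonoidHom (fun _ : Fin 4 => Fˣ) 2)) * (sqc.comp (Pi.evalMonoidHom (fun _ : Fin 4 => Fˣ) 3)))
  obtain ⟨α, hα⟩ := exists_nonsquare_unit (F := F) h2
  have hsα : sqc α = -1 := sqClass_eq_neg_one_iff.mpr hα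
  have hΨ : Function.Surjective Ψ := by
    rintro ⟨x, y⟩
    rcases Int.units_eq_one_or x with rfl | rfl <;> rcases Int.units_eq_one_or y with rfl | rfl
    · exact ⟨1, map_one _⟩
    · exact ⟨![1, 1, 1, α], by simp [Ψ, hsα]⟩
    · exact ⟨![α, 1, 1, 1], by simp [Ψ, hsα]⟩
    · exact ⟨![1, 1, α, 1], by simp [Ψ, hsα]⟩
  have hΨk : ∀ a : Fin 4 → Fˣ, q4 a = 1 ↔ Ψ a = 1 := fun a => by
    rw [show q4 a = 1 ↔ _ from qD_eq_one_iff h2 a, Prod.ext_iff]
    show _ ↔ sqc (a 0) * sqc (a 2) = 1 ∧ sqc (a 2) * sqc (a 3) = 1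
    rw [mul_eq_one_iff_eq_inv, mul_eq_one_iff_eq_inv, Int.units_inv_eq_self, Int.units_inv_eq_self]
  have hDcard : Nat.card D = 4 := by
    have hk : q4.ker = Ψ.ker := by ext a; exact hΨk a
    rw [hD, show (goodD4.qD F).range = q4.range from rfl,
      ← Nat.card_congr (QuotientGroup.quotientKerEquivRange q4).toEquiv,
      Nat.card_congr ((QuotientGroup.quotientMulEquivOfEq hk).trans
        (QuotientGroup.quotientKerEquivOfSurjective Ψ hΨ)).toEquiv, Nat.card_prod]
    simp [Nat.card_eq_fintype_card, Fintype.card_units_int]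
  -- the group of diagonal and graph classes
  set K := D ⊔ H with hK
  have hdisj : Disjoint D H := by
    rw [Subgroup.disjoint_def]
    rintro _ hd ⟨s, rfl⟩
    rw [hHD s (by rw [hker]; exact Subgroup.mem_sup_left hd), map_one]
  let e : ↥D × ↥H → ↥K := fun z =>
    ⟨(z.1 : Cfsg.Out ↥(chevD4.group F)) * z.2, mul_mem (Subgroup.mem_sup_left z.1.2) (Subgroup.mem_sup_right z.2.2)⟩
  have he : Function.Bijective e := by
    refine ⟨fun z w h => Subgroup.mul_injective_of_disjoint hdisj (congrArg Subtype.val h), ?_⟩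
    rintro ⟨g, hg⟩
    obtain ⟨y, hy, z, hz, h⟩ := Subgroup.mem_sup_of_normal_left.1 hg
    exact ⟨⟨⟨y, hy⟩, ⟨z, hz⟩⟩, Subtype.ext h⟩
  have hHcard : Nat.card H = 6 := by
    rw [hH, ← Nat.card_congr (MonoidHom.ofInjective hinj).toEquiv, Nat.card_perm, Nat.card_fin]
    rfl
  have hKcard : Nat.card K = 24 := by
    rw [← Nat.card_congr (Equiv.ofBijective e he), Nat.card_prod, hDcard, hHcard]
  -- its action on the cosets of the graph classes
  set H' := H.subgroupOf K with hH'
  have hidx : Nat.card (↥K ⧸ H') = 4 := by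
    have h := H'.card_eq_card_quotient_mul_card_subgroup
    rw [Nat.card_congr (Subgroup.subgroupOfEquivOfLe le_sup_right).toEquiv, hHcard, hKcard] at h
    omega
  have hcore : ∀ x : ↥K, MulAction.toPermHom ↥K (↥K ⧸ H') x = 1 → x = 1 := by
    intro x hx
    have hmem : ∀ k : ↥K, k⁻¹ * x * k ∈ H' := by
      intro k
      have h := Equiv.congr_fun hx (QuotientGroup.mk k)
      change QuotientGroup.mk (x * k) = QuotientGroup.mk k at h
      have h' := QuotientGroup.eq.mp h.symm
      rwa [← mul_assoc] at h'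
    obtain ⟨s, hs⟩ : (x : Cfsg.Out ↥(chevD4.group F)) ∈ H := by simpa [hH', Subgroup.mem_subgroupOf] using hmem 1
    have hfix : ∀ a, goodD4.qD F (a ∘ (outerPerm s).symm) = goodD4.qD F a := by
      intro a
      obtain ⟨t, ht⟩ : ((⟨goodD4.qD F a, Subgroup.mem_sup_left ⟨a, rfl⟩⟩ : ↥K)⁻¹ * x *
          ⟨goodD4.qD F a, Subgroup.mem_sup_left ⟨a, rfl⟩⟩ : ↥K).1 ∈ H :=
        Subgroup.mem_subgroupOf.mp (hmem _)
      simp only [Subgroup.coe_mul, Subgroup.coe_inv, ← hs, mul_assoc, qG_mul_qD] at ht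
      rw [← mul_assoc, ← map_inv, ← map_mul] at ht
      have hu : goodD4.qD F (a⁻¹ * a ∘ (outerPerm s).symm) = qG (F := F) t * (qG (F := F) s)⁻¹ := by
        rw [ht, mul_inv_cancel_right]
      have h1 : goodD4.qD F (a⁻¹ * a ∘ (outerPerm s).symm) = 1 := by
        have hd : goodD4.qD F (a⁻¹ * a ∘ (outerPerm s).symm) ∈ D := ⟨_, rfl⟩
        have hh : goodD4.qD F (a⁻¹ * a ∘ (outerPerm s).symm) ∈ H :=
          hu ▸ mul_mem ⟨t, rfl⟩ (inv_mem ⟨s, rfl⟩)
        exact Subgroup.mem_bot.mp (hdisj.le_bot ⟨hd, hh⟩)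
      rw [map_mul, map_inv, inv_mul_eq_one] at h1
      exact h1.symm
    refine Subtype.ext ?_
    rw [← hs]
    suffices s = 1 by rw [this, map_one]; rfl
    apply outerPerm_injective
    rw [map_one]
    set π : Equiv.Perm (Fin 4) := outerPerm s with hπdef
    have hπ1 : π 1 = 1 := outerPerm_fix s
    have hfix' : ∀ a : Fin 4 → Fˣ, q4 (a ∘ π.symm) = q4 a := fun a => hfix a
    have hb : ∀ i : Fin 4, i ≠ 1 → π i = i := by
      intro i hi
      by_contra hne
      have h1 : π i ≠ 1 := fun h => hi (π.injective (h.trans hπ1.symm))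
      have h := hfix' (Function.update (1 : Fin 4 → Fˣ) i α)
      rw [← inv_mul_eq_one, ← map_inv, ← map_mul, hΨk] at h
      generalize hj : π i = j at h1 hne
      have he : (Function.update (1 : Fin 4 → Fˣ) i α) ∘ π.symm = Function.update (1 : Fin 4 → Fˣ) j α := by
        funext k
        simp only [Function.comp_apply, Function.update_apply]
        by_cases hk : k = j
        · subst hk
          rw [if_pos, if_pos rfl]
          rw [← hj]; exact π.symm_apply_apply i
        · rw [if_neg, if_neg hk]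
          · rfl
          · intro h
            exact hk (by rw [← hj, ← h]; exact (π.apply_symm_apply k).symm)
      rw [he] at h
      revert h
      fin_cases i <;> fin_cases j <;> simp [Ψ, hsα] at h1 hne hi ⊢
    show π = (1 : Equiv.Perm (Fin 4))
    refine Equiv.ext fun i => ?_
    by_cases hi : i = 1
    · subst hi; exact hπ1
    · exact hb i hi
  have hφ : Function.Injective (MulAction.toPermHom ↥K (↥K ⧸ H')) := (injective_iff_map_eq_one _).mpr hcore
  haveI : Finite (↥K ⧸ H') := Nat.finite_of_card_ne_zero (by rw [hidx]; norm_num)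
  have hbij : Function.Bijective (MulAction.toPermHom ↥K (↥K ⧸ H')) :=
    (Nat.bijective_iff_injective_and_card _).mpr ⟨hφ, by rw [hKcard, Nat.card_perm, hidx]; rfl⟩
  have eX : ↥K ≃* Equiv.Perm (Fin 4) :=
    (MulEquiv.ofBijective _ hbij).trans ((Finite.equivFinOfCardEq hidx).permCongrHom)
  have hcard : Nat.card (Cfsg.Out ↥(chevD4.group F)) = Nat.card K * f := by
    haveI : ((goodD4.qD F).range ⊔ (goodD4.qF F).range).Normal := hker ▸ inferInstance
    let e' : ↥D × ↥(goodD4.qF F).range → ↥(D ⊔ (goodD4.qF F).range) := fun z =>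
      ⟨(z.1 : Cfsg.Out ↥(chevD4.group F)) * z.2, mul_mem (Subgroup.mem_sup_left z.1.2) (Subgroup.mem_sup_right z.2.2)⟩
    have he' : Function.Bijective e' := by
      refine ⟨fun z w h => Subgroup.mul_injective_of_disjoint (goodD4.disjoint_qD_qF (by decide))
        (congrArg Subtype.val h), ?_⟩
      rintro ⟨g, hg⟩
      obtain ⟨y, hy, z, hz, h⟩ := Subgroup.mem_sup_of_normal_left.1 hg
      exact ⟨⟨⟨y, hy⟩, ⟨z, hz⟩⟩, Subtype.ext h⟩
    rw [hKcard, ← rb.ker.index_mul_card, Subgroup.index_ker, hrb, goodD4.rhoBar_range, Lib.Chev.rangeD4.1,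
      ← hrb, hker, ← Nat.card_congr (Equiv.ofBijective e' he'), Nat.card_prod, hDcard,
      ← Nat.card_congr (MonoidHom.ofInjective (goodD4.qF_injective (F := F) (by decide))).toEquiv,
      Lib.Chev.card_ringAut hF]
    ring
  refine iso_prod_cyclic K (c := goodD4.qF F (frobeniusEquiv F p)) ?_ ?_ ?_ hcard eX
  · have hle : K ≤ Subgroup.centralizer {goodD4.qF F (frobeniusEquiv F p)} := by
      refine sup_le ?_ ?_
      · rintro _ ⟨a, rfl⟩
        rw [Subgroup.mem_centralizer_singleton_iff]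
        have hsame' : ∀ b : Fin 4 → Fˣ, q4 (fun i => Units.map (frobeniusEquiv F p : F →* F) (b i)) = q4 b := by
          intro b
          rw [← inv_mul_eq_one, ← map_inv, ← map_mul, hΨk]
          have hsq : ∀ x : Fˣ, sqc (Units.map (frobeniusEquiv F p : F →* F) x) = sqc x := by
            intro x
            show sqClass (frobeniusEquiv F p (x : F)) = sqClass (x : F)
            by_cases h : IsSquare (x : F)
            · rw [sqClass_eq_one_iff.mpr h, sqClass_eq_one_iff.mpr (h.map _)]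
            · rw [sqClass_eq_neg_one_iff.mpr h, sqClass_eq_neg_one_iff.mpr fun h' => h (by
                have := h'.map (frobeniusEquiv F p).symm
                rwa [RingEquiv.symm_apply_apply] at this)]
          refine Prod.ext ?_ ?_ <;>
            · show sqc (_ * _) * sqc (_ * _) = 1
              simp only [Pi.inv_apply, map_mul, map_inv, hsq, inv_mul_cancel, one_mul]
        have hsame : goodD4.qD F (fun i => Units.map (frobeniusEquiv F p : F →* F) (a i)) = goodD4.qD F a := hsame' a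
        exact ((qF_mul_qD _ a).trans (by rw [hsame])).symm
      · rintro _ ⟨s, rfl⟩
        rw [Subgroup.mem_centralizer_singleton_iff]
        exact qG_mul_qF s _
    intro x hx
    exact Subgroup.mem_centralizer_singleton_iff.mp (hle hx)
  · rw [orderOf_injective _ (goodD4.qF_injective (F := F) (by decide)), orderOf_frob hF hf]
  · intro k hk
    obtain ⟨d, hd, h, ⟨s, rfl⟩, hk'⟩ := Subgroup.mem_sup_of_normal_left.1 hk
    have hck : goodD4.qF F (frobeniusEquiv F p) ^ k ∈ (goodD4.qF F).range := by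
      rw [← map_pow]; exact ⟨_, rfl⟩
    have hs : s = 1 := hHD s (by
      rw [hker, eq_inv_mul_of_mul_eq hk']
      exact mul_mem (inv_mem (Subgroup.mem_sup_left hd)) (Subgroup.mem_sup_right hck))
    rw [hs, map_one, mul_one] at hk'
    rw [← hk'] at hck ⊢
    exact Subgroup.mem_bot.mp ((goodD4.disjoint_qD_qF (by decide)).le_bot ⟨hd, hck⟩)

end Cfsg.Agent.Lib.Classical.AutPOmega

namespace Cfsg.Agent.Lib.Classical.AutPOmega

/-- Isomorphic groups have isomorphic outer automorphism groups. -/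
theorem out_congr {X Y : Type*} [Group X] [Group Y] (ψ : X ≃* Y) : Nonempty (Cfsg.Out X ≃* Cfsg.Out Y) :=
  ⟨QuotientGroup.congr (Cfsg.Inn X) (Cfsg.Inn Y) (autMap ψ) (map_inn ψ)⟩

variable {F : Type*} [Field F] [Fintype F]

/-- Outer automorphisms of the eight-dimensional plus-type group in even characteristic. -/
theorem out_plus_four_two {f : ℕ} (hF : Fintype.card F = 2 ^ f) (hf : 1 ≤ f) :
    Nonempty (Cfsg.Out (Cfsg.POmega F ⇑(plusR 4 F)) ≃* Equiv.Perm (Fin 3) × Multiplicative (ZMod f)) := by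
  obtain ⟨ψ, -⟩ := exists_model_D4 (F := F)
  obtain ⟨e⟩ := out_congr ψ
  obtain ⟨e'⟩ := out_D4_two hF hf
  exact ⟨e.symm.trans e'⟩

/-- Outer automorphisms of the eight-dimensional plus-type group in odd characteristic. -/
theorem out_plus_four_odd {p f : ℕ} [Fact p.Prime] (hF : Fintype.card F = p ^ f) (hf : 1 ≤ f) (hp2 : p ≠ 2) :
    Nonempty (Cfsg.Out (Cfsg.POmega F ⇑(plusR 4 F)) ≃* Equiv.Perm (Fin 4) × Multiplicative (ZMod f)) := by
  obtain ⟨ψ, -⟩ := exists_model_D4 (F := F)
  obtain ⟨e⟩ := out_congr ψ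
  obtain ⟨e'⟩ := out_D4_odd hF hf hp2
  exact ⟨e.symm.trans e'⟩

end Cfsg.Agent.Lib.Classical.AutPOmega
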