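import Cfsg.Agent.Lib.Classical.AutPOmega.Odd
import Cfsg.Agent.Lib.Classical.AutPSL.FieldClass
import Cfsg.Agent.Lib.Geometry.SymmDiscr

/-!
Automorphisms of `PΩ`, part 11: field automorphisms for forms with fixed coefficients: twisted
products, descent and centralizers.
-/

set_option autoImplicit false

namespace Cfsg.Agent.Lib.Classical.AutPOmega

open QuadraticMap (polarBilin)
open Cfsg.Agent.Lib.Geometry (quad_add quad_smul quad_polar_self quad_polar_comm)
open Matrix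

attribute [-simp] QuadraticMap.polarBilin_apply_apply

variable {F : Type*} [Field F] {ι : Type} [Fintype ι] [DecidableEq ι] {R : QuadraticForm F (ι → F)}

/-- The Gram matrix. -/
noncomputable def gram (R : QuadraticForm F (ι → F)) : Matrix ι ι F :=
  LinearMap.BilinForm.toMatrix' (polarBilin R)

theorem gram_apply (i j : ι) : gram R i j = polarBilin R (Pi.single i 1) (Pi.single j 1) :=
  LinearMap.BilinForm.toMatrix'_apply _ _ _

theorem gram_comm (R : QuadraticForm F (ι → F)) : (gram R)ᵀ = gram R :=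
  Matrix.ext fun i j => by rw [Matrix.transpose_apply, gram_apply, gram_apply, quad_polar_comm]

theorem gram_det_ne_zero (hR : (polarBilin R).Nondegenerate) : (gram R).det ≠ 0 :=
  (LinearMap.BilinForm.nondegenerate_toMatrix'_iff.mpr hR).det_ne_zero

theorem toMatrix'_comp_mat (R : QuadraticForm F (ι → F)) (A : Matrix ι ι F) :
    LinearMap.BilinForm.toMatrix' (LinearMap.BilinForm.comp (polarBilin R) (Matrix.toLin' A) (Matrix.toLin' A)) =
      Aᵀ * gram R * A := by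
  rw [LinearMap.BilinForm.toMatrix'_comp, LinearMap.toMatrix'_toLin']; rfl

theorem sim_gram {g : GL ι F} {c : F} (hc : ∀ v, R ((g : Matrix ι ι F) *ᵥ v) = c * R v) :
    (g : Matrix ι ι F)ᵀ * gram R * (g : Matrix ι ι F) = c • gram R := by
  have hBe : LinearMap.BilinForm.comp (polarBilin R) (Matrix.toLin' (g : Matrix ι ι F))
      (Matrix.toLin' (g : Matrix ι ι F)) = c • (polarBilin R : LinearMap.BilinForm F (ι → F)) :=
    LinearMap.BilinForm.ext fun x y => by
      simp only [LinearMap.BilinForm.comp_apply, Matrix.toLin'_apply, LinearMap.smul_apply, smul_eq_mul]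
      exact sim_polar hc x y
  have := congrArg LinearMap.BilinForm.toMatrix' hBe
  rw [toMatrix'_comp_mat, map_smul] at this
  exact this

theorem sim_of_gram (h2 : (2 : F) ≠ 0) {A : Matrix ι ι F} {c : F} (h : Aᵀ * gram R * A = c • gram R)
    (v : ι → F) : R (A *ᵥ v) = c * R v := by
  have hBe : LinearMap.BilinForm.comp (polarBilin R) (Matrix.toLin' A) (Matrix.toLin' A) =
      c • (polarBilin R : LinearMap.BilinForm F (ι → F)) := by
    apply LinearMap.BilinForm.toMatrix'.injective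
    rw [toMatrix'_comp_mat, map_smul, h]; rfl
  have h1 := LinearMap.congr_fun (LinearMap.congr_fun hBe v) v
  simp only [LinearMap.BilinForm.comp_apply, Matrix.toLin'_apply, LinearMap.smul_apply, smul_eq_mul,
    quad_polar_self] at h1
  exact mul_left_cancel₀ h2 (by linear_combination h1)

variable (hR : ∀ (σ : F ≃+* F) v, R (fun i => σ (v i)) = σ (R v))

include hR in
theorem gram_map (σ : F ≃+* F) : (gram R).map σ = gram R := by
  refine Matrix.ext fun i j => ?_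
  have hs : ∀ k, (fun l => σ ((Pi.single k (1 : F) : ι → F) l)) = Pi.single k 1 := fun k =>
    funext fun l => by simp [Pi.single_apply, apply_ite σ]
  have hsum : (fun l => σ ((Pi.single i (1 : F) + Pi.single j 1 : ι → F) l)) =
      (Pi.single i (1 : F) : ι → F) + Pi.single j 1 :=
    funext fun l => by simp [Pi.single_apply, apply_ite σ]
  rw [Matrix.map_apply, gram_apply, QuadraticMap.polarBilin_apply_apply, QuadraticMap.polar, map_sub, map_sub,
    ← hR, ← hR, ← hR, hs, hs, hsum]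

theorem scG_mulVec (u : Fˣ) (w : ι → F) :
    ((GeneralLinearGroup.scalar ι u : GL ι F) : Matrix ι ι F) *ᵥ w = (u : F) • w := by
  show Matrix.scalar ι (u : F) *ᵥ w = _
  simp [Matrix.scalar_apply, ← Matrix.smul_one_eq_diagonal, Matrix.smul_mulVec]

/-- The Galois action on similarities. -/
noncomputable def galS (σ : F ≃+* F) :
    Cfsg.Geo.quadSimilarityGroup (F := F) ⇑R →* Cfsg.Geo.quadSimilarityGroup (F := F) ⇑R :=
  MonoidHom.mk' (fun g => ⟨Units.map (RingHom.toMonoidHom σ.toRingHom.mapMatrix) g.1, by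
    obtain ⟨g, c, hc⟩ := g
    refine ⟨Units.map (σ : F →* F) c, fun v => ?_⟩
    show R ((g : Matrix ι ι F).map σ *ᵥ v) = σ (c : F) * R v
    obtain ⟨w, rfl⟩ : ∃ w : ι → F, (fun i => σ (w i)) = v := ⟨fun i => σ.symm (v i), by simp⟩
    rw [semi_vec, hR, hc, map_mul, hR]⟩)
    fun a b => Subtype.ext (map_mul _ _ _)

theorem galS_coe (σ : F ≃+* F) (g : Cfsg.Geo.quadSimilarityGroup (F := F) ⇑R) :
    ((galS hR σ g).1 : Matrix ι ι F) = (g.1 : Matrix ι ι F).map σ := rfl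

theorem galS_one (g : Cfsg.Geo.quadSimilarityGroup (F := F) ⇑R) : galS hR 1 g = g :=
  Subtype.ext (Units.ext (Matrix.ext fun _ _ => rfl))

theorem galS_mul (σ τ : F ≃+* F) (g : Cfsg.Geo.quadSimilarityGroup (F := F) ⇑R) :
    galS hR (σ * τ) g = galS hR σ (galS hR τ g) :=
  Subtype.ext (Units.ext (Matrix.ext fun _ _ => rfl))

theorem galS_scG (σ : F ≃+* F) (u : Fˣ) : galS hR σ (scG R u) = scG R (Units.map (σ : F →* F) u) := by
  refine Subtype.ext (Units.ext ?_)
  show (Matrix.scalar ι (u : F)).map σ = Matrix.scalar ι (σ (u : F))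
  simp [Matrix.scalar_apply, Matrix.diagonal_map]

theorem fld_mul_dia (σ : F ≃+* F) (g : Cfsg.Geo.quadSimilarityGroup (F := F) ⇑R) :
    fldHom R hR σ * dia R g = dia R (galS hR σ g) * fldHom R hR σ := by
  show semAut _ _ _ * semAut _ _ _ = semAut _ _ _ * semAut _ _ _
  rw [semAut_mul, semAut_mul]
  refine semAut_congr _ _ (Units.ext ?_) (by rw [mul_one, one_mul])
  show (1 : Matrix ι ι F) * (g.1 : Matrix ι ι F).map σ = (g.1 : Matrix ι ι F).map σ * (1 : Matrix ι ι F).map _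
  simp

/-- The twisted product. -/
noncomputable def prodS (σ : F ≃+* F) (g : Cfsg.Geo.quadSimilarityGroup (F := F) ⇑R) :
    ℕ → Cfsg.Geo.quadSimilarityGroup (F := F) ⇑R
  | 0 => 1
  | k + 1 => g * galS hR σ (prodS σ g k)

theorem dia_mul_fld_pow (σ : F ≃+* F) (g : Cfsg.Geo.quadSimilarityGroup (F := F) ⇑R) (k : ℕ) :
    (dia R g * fldHom R hR σ) ^ k = dia R (prodS hR σ g k) * fldHom R hR (σ ^ k) := by
  induction k with
  | zero => rw [pow_zero, pow_zero, prodS, map_one, map_one, mul_one]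
  | succ k ih =>
    rw [pow_succ', ih, prodS, mul_assoc, ← mul_assoc (fldHom R hR σ), fld_mul_dia, map_mul, pow_succ' σ,
      map_mul, mul_assoc, mul_assoc]

theorem conj_fld (σ : F ≃+* F) (k : Cfsg.Geo.quadSimilarityGroup (F := F) ⇑R) :
    dia R k * fldHom R hR σ * (dia R k)⁻¹ = dia R (k * (galS hR σ k)⁻¹) * fldHom R hR σ := by
  rw [mul_assoc, ← map_inv, fld_mul_dia, map_inv, map_inv, ← mul_assoc, map_mul, map_inv]

theorem fldHom_injective [Finite F] (hM : Model R) : Function.Injective (fldHom R hR) := fun σ τ h => by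
  have := congrArg (galPart hM) h
  rwa [show fldHom R hR σ = semAut 1 σ (pair_fld σ (hR σ)) from rfl,
    show fldHom R hR τ = semAut 1 τ (pair_fld τ (hR τ)) from rfl, galPart_semAut, galPart_semAut] at this

theorem exists_standard {x : MulAut (Cfsg.POmega F ⇑R)} (hx : Cfsg.IsFieldAutClassPOmega (⇑R) x) :
    ∃ (σ : F ≃+* F) (a : MulAut (Cfsg.POmega F ⇑R)), σ ≠ 1 ∧ x = a * fldHom R hR σ * a⁻¹ := by
  obtain ⟨α, φ, σ, hσ, hφ, h⟩ := hx
  refine ⟨σ, α⁻¹, hσ, ?_⟩
  rw [← fldHom_eq hR hφ, ← h]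
  group

/-- A twisted product that is scalar gives a form over the fixed field. -/
theorem exists_descent_form [Fintype F] (hn : Nonempty ι) (hRn : (polarBilin R).Nondegenerate) {σ : F ≃+* F}
    {r : ℕ} (hr : r.Prime) (hσ : σ ^ r = 1) (hne : σ ≠ 1) (a : Cfsg.Geo.quadSimilarityGroup (F := F) ⇑R)
    {c : Fˣ} (hc : prodS hR σ a r = scG R c) :
    ∃ (K : Subfield F) (u : Fˣ) (h : GL ι F) (b : Fˣ) (M : Matrix ι ι K),
      (∀ t, t ∈ K ↔ σ t = t) ∧
      a.1 = GeneralLinearGroup.scalar ι u *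
        (h * (Units.map (RingHom.toMonoidHom σ.toRingHom.mapMatrix) h)⁻¹) ∧
      (h : Matrix ι ι F)ᵀ * gram R * (h : Matrix ι ι F) = (b : F) • M.map Subtype.val ∧
      Mᵀ = M ∧ M.det ≠ 0 := by
  classical
  let e : ι ≃ Fin (Fintype.card ι) := Fintype.equivFin ι
  let ρ : GL ι F ≃* GL (Fin (Fintype.card ι)) F := Units.mapEquiv (Matrix.reindexAlgEquiv F F e).toMulEquiv
  have hρg : ∀ g : GL ι F, ρ (Units.map (RingHom.toMonoidHom σ.toRingHom.mapMatrix) g) = AutPSL.galGL σ (ρ g) :=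
    fun g => Units.ext (Matrix.ext fun i j => rfl)
  have hρs : ∀ u : Fˣ, ρ (GeneralLinearGroup.scalar ι u) = GeneralLinearGroup.scalar _ u := by
    intro u
    refine Units.ext (Matrix.ext fun i j => ?_)
    show Matrix.scalar _ (u : F) (e.symm i) (e.symm j) = Matrix.scalar _ (u : F) i j
    simp [Matrix.scalar_apply, Matrix.diagonal_apply]
  have hprod : ∀ k, ρ (prodS hR σ a k).1 = AutPSL.galProd σ (ρ a.1) k := by
    intro k
    induction k with
    | zero => exact map_one ρ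
    | succ k ih =>
      show ρ (a.1 * Units.map (RingHom.toMonoidHom σ.toRingHom.mapMatrix) (prodS hR σ a k).1) = _
      rw [map_mul, hρg, ih]
      rfl
  obtain ⟨u, h', hh'⟩ := AutPSL.exists_eq_scalar_mul_twist hr hσ hne (Fintype.card_pos (α := ι)) (g := ρ a.1) (by
    rw [← hprod, hc, GeneralLinearGroup.center_eq_range_scalar]; exact ⟨c, (hρs c).symm⟩)
  obtain ⟨h, rfl⟩ := ρ.surjective h'
  set hσh := Units.map (RingHom.toMonoidHom σ.toRingHom.mapMatrix) h with hdef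
  rw [← hρg, ← hρs, ← map_inv, ← map_mul, ← map_mul] at hh'
  have ha : a.1 = GeneralLinearGroup.scalar ι u * (h * hσh⁻¹) := ρ.injective hh'
  set a' := (scG R u)⁻¹ * a with ha'
  have hhh : a'.1 * hσh = h := by
    show (GeneralLinearGroup.scalar ι u)⁻¹ * a.1 * hσh = h
    rw [ha, inv_mul_cancel_left, inv_mul_cancel_right]
  obtain ⟨μ, hμ⟩ := a'.2
  set B := (h : Matrix ι ι F)ᵀ * gram R * (h : Matrix ι ι F) with hB
  have hσB : B = (μ : F) • B.map σ := by
    have hm : B.map σ = ((h : Matrix ι ι F).map σ)ᵀ * gram R * (h : Matrix ι ι F).map σ := by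
      rw [hB, Matrix.map_mul, Matrix.map_mul, ← Matrix.transpose_map, gram_map hR]
    have hh : (h : Matrix ι ι F) = (a'.1 : Matrix ι ι F) * (h : Matrix ι ι F).map σ := by
      conv_lhs => rw [← hhh]
      rfl
    rw [hm]
    conv_lhs => rw [hB, hh, Matrix.transpose_mul]
    rw [Matrix.mul_assoc, Matrix.mul_assoc, ← Matrix.mul_assoc (gram R), ← Matrix.mul_assoc (a'.1 : Matrix ι ι F)ᵀ,
      ← Matrix.mul_assoc (a'.1 : Matrix ι ι F)ᵀ, sim_gram hμ, Matrix.smul_mul, Matrix.mul_smul, Matrix.mul_assoc]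
  have hdetB : B.det ≠ 0 := by
    rw [hB, Matrix.det_mul, Matrix.det_mul, Matrix.det_transpose]
    have := (GeneralLinearGroup.det h).ne_zero
    exact mul_ne_zero (mul_ne_zero this (gram_det_ne_zero hRn)) this
  obtain ⟨x, y, hxy⟩ : ∃ x y, B x y ≠ 0 := by
    by_contra hcon
    push Not at hcon
    exact hdetB (by haveI := hn; rw [show B = 0 from Matrix.ext hcon]; exact Matrix.det_zero)
  set b := B x y with hb
  obtain ⟨K, hK⟩ : ∃ K : Subfield F, ∀ c, c ∈ K ↔ σ c = c := by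
    haveI : Finite (F ≃+* F) := Finite.of_injective (fun e : F ≃+* F => (e : F → F)) DFunLike.coe_injective
    refine ⟨FixedPoints.subfield (Subgroup.zpowers σ) F, fun c => ⟨fun h => h ⟨σ, Subgroup.mem_zpowers σ⟩,
      fun h τ => ?_⟩⟩
    exact (Subgroup.zpowers_le.mpr (show σ ∈ MulAction.stabilizer (F ≃+* F) c from h)) τ.2
  have hbK : ∀ i j, b⁻¹ * B i j ∈ K := fun i j => by
    have h1 : b = (μ : F) * σ b := congrFun (congrFun hσB x) y
    have h2 : B i j = (μ : F) * σ (B i j) := congrFun (congrFun hσB i) j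
    rw [hK, map_mul, map_inv₀]
    have hσb : σ b ≠ 0 := fun e => hxy (σ.injective (e.trans (map_zero σ).symm))
    conv_rhs => rw [h1, h2]
    field_simp
  let M : Matrix ι ι K := Matrix.of fun i j => ⟨b⁻¹ * B i j, hbK i j⟩
  have hM : B = b • M.map Subtype.val := Matrix.ext fun i j => by
    show B i j = b * (b⁻¹ * B i j)
    rw [mul_inv_cancel_left₀ hxy]
  refine ⟨K, u, h, Units.mk0 b hxy, M, hK, ha, hM, ?_, fun h0 => hdetB ?_⟩
  · refine Matrix.ext fun i j => Subtype.ext ?_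
    show b⁻¹ * B j i = b⁻¹ * B i j
    congr 1
    have hsym : Bᵀ = B := by
      rw [hB, Matrix.transpose_mul, Matrix.transpose_mul, Matrix.transpose_transpose, gram_comm, Matrix.mul_assoc]
    exact congrFun (congrFun hsym i) j
  · rw [hM, Matrix.det_smul, show M.map Subtype.val = K.subtype.mapMatrix M from rfl, ← RingHom.map_det, h0,
      map_zero, mul_zero]

/-- An isometry over the fixed field turns the form into a coboundary. -/
theorem descent_of_isometry (h2 : (2 : F) ≠ 0) {σ : F ≃+* F} {K : Subfield F} (hK : ∀ t ∈ K, σ t = t)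
    {a : Cfsg.Geo.quadSimilarityGroup (F := F) ⇑R} {u : Fˣ} {h : GL ι F} {b : Fˣ} {M P : Matrix ι ι K} {lam : K}
    (ha : a.1 = GeneralLinearGroup.scalar ι u *
      (h * (Units.map (RingHom.toMonoidHom σ.toRingHom.mapMatrix) h)⁻¹))
    (hh : (h : Matrix ι ι F)ᵀ * gram R * (h : Matrix ι ι F) = (b : F) • M.map Subtype.val)
    (hlam : lam ≠ 0) (hP0 : P.det ≠ 0) (hP : (Pᵀ * M * P).map Subtype.val = (lam : F) • gram R) :
    ∃ k : Cfsg.Geo.quadSimilarityGroup (F := F) ⇑R, a = scG R u * (k * (galS hR σ k)⁻¹) := by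
  set P' : Matrix ι ι F := P.map Subtype.val
  have hP'0 : P'.det ≠ 0 := by
    show (K.subtype.mapMatrix P).det ≠ 0
    rw [← RingHom.map_det]
    exact fun e => hP0 (Subtype.ext e)
  let g : GL ι F := h * GeneralLinearGroup.mkOfDetNeZero P' hP'0
  have hb : (b : F) * (lam : F) ≠ 0 := mul_ne_zero b.ne_zero fun e => hlam (Subtype.ext e)
  have hP' : (Pᵀ * M * P).map Subtype.val = P'ᵀ * M.map Subtype.val * P' := by
    show K.subtype.mapMatrix (Pᵀ * M * P) = _
    rw [map_mul, map_mul]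
    rfl
  have hg : (g : Matrix ι ι F)ᵀ * gram R * (g : Matrix ι ι F) = ((b : F) * lam) • gram R := by
    show ((h : Matrix ι ι F) * P')ᵀ * gram R * ((h : Matrix ι ι F) * P') = _
    rw [Matrix.transpose_mul, Matrix.mul_assoc, Matrix.mul_assoc, ← Matrix.mul_assoc (gram R),
      ← Matrix.mul_assoc (h : Matrix ι ι F)ᵀ, ← Matrix.mul_assoc (h : Matrix ι ι F)ᵀ, hh, Matrix.smul_mul,
      Matrix.mul_smul, ← Matrix.mul_assoc, ← hP', hP, smul_smul]
  refine ⟨⟨g, Units.mk0 _ hb, fun v => sim_of_gram h2 hg v⟩, Subtype.ext ?_⟩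
  show a.1 = GeneralLinearGroup.scalar ι u * (g * (Units.map (RingHom.toMonoidHom σ.toRingHom.mapMatrix) g)⁻¹)
  have hfix : Units.map (RingHom.toMonoidHom σ.toRingHom.mapMatrix) (GeneralLinearGroup.mkOfDetNeZero P' hP'0) =
      GeneralLinearGroup.mkOfDetNeZero P' hP'0 :=
    Units.ext (Matrix.ext fun i j => hK _ (P i j).2)
  simp only [g]
  rw [ha, map_mul, hfix, _root_.mul_inv_rev]
  group

theorem order_iff_conj_of_descent [Fintype F] (hM : Model R) {N : Subgroup (MulAut (Cfsg.POmega F ⇑R))}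
    (hN : N ≤ (dia R).range) (hNn : ∀ (a : MulAut (Cfsg.POmega F ⇑R)), ∀ y ∈ N, a * y * a⁻¹ ∈ N)
    (hdesc : ∀ (σ : F ≃+* F) (r : ℕ), r.Prime → σ ^ r = 1 → σ ≠ 1 →
      ∀ g c, dia R g ∈ N → prodS hR σ g r = scG R c →
        ∃ u k, dia R k ∈ N ∧ g = scG R u * (k * (galS hR σ k)⁻¹))
    {x δ : MulAut (Cfsg.POmega F ⇑R)} (hx : Cfsg.IsFieldAutClassPOmega (⇑R) x) {r : ℕ} (hr : r.Prime)
    (hxr : orderOf x = r) (hδ : δ ∈ N) :
    orderOf (δ * x) = r ↔ Cfsg.IsConjUnder N x (δ * x) := by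
  refine ⟨fun h => ?_, fun ⟨w, _, e⟩ => by rw [e, AutPSL.orderOf_conj_eq, hxr]⟩
  obtain ⟨σ, a, hσ, rfl⟩ := exists_standard hR hx
  have hδ' := hNn a⁻¹ δ hδ
  rw [inv_inv] at hδ'
  obtain ⟨g, hg⟩ := hN hδ'
  rw [AutPSL.orderOf_conj_eq, orderOf_injective _ (fldHom_injective hR hM)] at hxr
  have hσr : σ ^ r = 1 := hxr ▸ pow_orderOf_eq_one σ
  have he : δ * (a * fldHom R hR σ * a⁻¹) = a * (dia R g * fldHom R hR σ) * a⁻¹ := by rw [hg]; group
  rw [he, AutPSL.orderOf_conj_eq] at h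
  have hpow := pow_orderOf_eq_one (dia R g * fldHom R hR σ)
  rw [h, dia_mul_fld_pow, hσr, map_one, mul_one, dia_eq_one_iff hM] at hpow
  obtain ⟨c, hc⟩ := hpow
  obtain ⟨u, k, hk1, hk⟩ := hdesc σ r hr hσr hσ g c (hg ▸ hδ') (Subtype.ext hc)
  refine ⟨a * dia R k * a⁻¹, hNn a _ hk1, ?_⟩
  rw [he, hk, map_mul, (dia_eq_one_iff hM _).mpr ⟨u, rfl⟩, one_mul, ← conj_fld]
  group

/-! ### Centralizers -/

section Cent

variable {F₀ : Type*} [Field F₀] {R₀ : QuadraticForm F₀ (ι → F₀)} (j : F₀ →+* F)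

theorem gram_map_hom (hj : ∀ v, R (fun i => j (v i)) = j (R₀ v)) : (gram R₀).map j = gram R := by
  refine Matrix.ext fun i l => ?_
  have hs : ∀ k, (fun t => j ((Pi.single k (1 : F₀) : ι → F₀) t)) = Pi.single k 1 := fun k =>
    funext fun t => by simp [Pi.single_apply, apply_ite j]
  have hsum : (fun t => j ((Pi.single i (1 : F₀) + Pi.single l 1 : ι → F₀) t)) =
      (Pi.single i (1 : F) : ι → F) + Pi.single l 1 :=
    funext fun t => by simp [Pi.single_apply, apply_ite j]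
  rw [Matrix.map_apply, gram_apply, gram_apply, QuadraticMap.polarBilin_apply_apply,
    QuadraticMap.polarBilin_apply_apply, QuadraticMap.polar, QuadraticMap.polar, map_sub, map_sub,
    ← hj, ← hj, ← hj, hs, hs, hsum]

theorem gl_map_sim (h2 : (2 : F) ≠ 0) (hj : ∀ v, R (fun i => j (v i)) = j (R₀ v))
    (k : Cfsg.Geo.quadSimilarityGroup (F := F₀) ⇑R₀) :
    Units.map (RingHom.toMonoidHom j.mapMatrix) k.1 ∈ Cfsg.Geo.quadSimilarityGroup (F := F) ⇑R := by
  obtain ⟨k, c, hc⟩ := k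
  refine ⟨Units.map (j : F₀ →* F) c, fun v => sim_of_gram h2 ?_ v⟩
  have h := congrArg j.mapMatrix (sim_gram hc)
  simp only [map_mul, RingHom.mapMatrix_apply, gram_map_hom j hj] at h
  show ((k : Matrix ι ι F₀).map j)ᵀ * gram R * (k : Matrix ι ι F₀).map j = j (c : F₀) • gram R
  rw [← Matrix.transpose_map, h, ← gram_map_hom j hj]
  refine Matrix.ext fun s t => ?_
  simp [Matrix.map_apply]

/-- Similarities over a subfield. -/
noncomputable def jS (h2 : (2 : F) ≠ 0) (hj : ∀ v, R (fun i => j (v i)) = j (R₀ v)) :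
    Cfsg.Geo.quadSimilarityGroup (F := F₀) ⇑R₀ →* Cfsg.Geo.quadSimilarityGroup (F := F) ⇑R :=
  MonoidHom.mk' (fun k => ⟨_, gl_map_sim j h2 hj k⟩) fun _ _ => Subtype.ext (map_mul _ _ _)

theorem galS_jS (h2 : (2 : F) ≠ 0) (hj : ∀ v, R (fun i => j (v i)) = j (R₀ v)) {σ : F ≃+* F}
    (hfix : ∀ a, σ a = a ↔ ∃ b, j b = a) (k) : galS hR σ (jS j h2 hj k) = jS j h2 hj k :=
  Subtype.ext (Units.ext (Matrix.ext fun _ _ => (hfix _).mpr ⟨_, rfl⟩))

theorem mem_centralizer_iff [Finite F] (hM : Model0 R) (σ : F ≃+* F)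
    (g : Cfsg.Geo.quadSimilarityGroup (F := F) ⇑R) :
    dia R g ∈ Subgroup.centralizer {fldHom R hR σ} ↔ ∃ c, g⁻¹ * galS hR σ g = scG R c := by
  have hd : dia R g = dia R (galS hR σ g) ↔ dia R (g⁻¹ * galS hR σ g) = 1 := by
    rw [map_mul, map_inv, inv_mul_eq_one]
  rw [Subgroup.mem_centralizer_singleton_iff, fld_mul_dia, mul_left_inj, hd, dia_eq_one_iff hM]
  exact ⟨fun ⟨c, hc⟩ => ⟨c, Subtype.ext hc⟩, fun ⟨c, hc⟩ => ⟨c, congrArg Subtype.val hc⟩⟩

theorem exists_jS_mul_scG (h2 : (2 : F) ≠ 0) (hj : ∀ v, R (fun i => j (v i)) = j (R₀ v))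
    {σ : F ≃+* F} (hfix : ∀ a, σ a = a ↔ ∃ b, j b = a) {r : ℕ} (hr : r.Prime) (hσr : σ ^ r = 1)
    (hne : σ ≠ 1) {v₀ : ι → F₀} (hv₀ : R₀ v₀ ≠ 0) (i₀ : ι) {g : Cfsg.Geo.quadSimilarityGroup (F := F) ⇑R}
    {c : Fˣ} (hc : g⁻¹ * galS hR σ g = scG R c) : ∃ k u, g = jS j h2 hj k * scG R u := by
  have hgc : galS hR σ g = g * scG R c := by rw [← hc, mul_inv_cancel_left]
  have hiter : ∀ k, ∃ v : Fˣ, (v : F) = AutPSL.galNorm σ k c ∧ galS hR (σ ^ k) g = g * scG R v := by
    intro k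
    induction k with
    | zero => exact ⟨1, rfl, by rw [map_one, mul_one, pow_zero, galS_one]⟩
    | succ k ih =>
      obtain ⟨v, hv, e⟩ := ih
      refine ⟨c * Units.map (σ : F →* F) v, by rw [Units.val_mul, AutPSL.galNorm, Units.coe_map, hv]; rfl, ?_⟩
      rw [pow_succ', galS_mul, e, map_mul, hgc, galS_scG, mul_assoc, map_mul]
  obtain ⟨v, hv, e⟩ := hiter r
  rw [hσr, galS_one, eq_comm, mul_eq_left] at e
  have hv1 : (v : F) = 1 := by
    have h := congrArg (fun k : Cfsg.Geo.quadSimilarityGroup (F := F) ⇑R => (k.1 : Matrix ι ι F) i₀ i₀) e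
    simpa [scG, Matrix.scalar_apply] using h
  obtain ⟨b, hb0, hb⟩ := AutPSL.exists_twist_scalar hr hσr hne (a := (c : F)) (by rw [← hv, hv1])
  set h := g * scG R (Units.mk0 b hb0) with hhdef
  have hh : galS hR σ h = h := by
    rw [hhdef, map_mul, hgc, galS_scG, mul_assoc, ← map_mul]
    congr 2
    exact Units.ext hb
  choose H hH using fun s t => (hfix _).mp (show σ ((h.1 : Matrix ι ι F) s t) = (h.1 : Matrix ι ι F) s t from
    congrArg (fun x : Cfsg.Geo.quadSimilarityGroup (F := F) ⇑R => (x.1 : Matrix ι ι F) s t) hh)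
  have hHmat : (Matrix.of H).map j = (h.1 : Matrix ι ι F) := Matrix.ext hH
  have hdet : (Matrix.of H).det ≠ 0 := by
    intro h0
    have h1 : (h.1 : Matrix ι ι F).det = j (Matrix.of H).det := by
      rw [RingHom.map_det, RingHom.mapMatrix_apply, hHmat]
    rw [h0, map_zero] at h1
    exact (GeneralLinearGroup.det h.1).ne_zero h1
  obtain ⟨μ, hμ⟩ := h.2
  have hvec : ∀ w, j (R₀ (Matrix.of H *ᵥ w)) = (μ : F) * j (R₀ w) := by
    intro w
    rw [← hj, ← hj, ← hμ, ← hHmat]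
    refine congrArg R (funext fun i => ?_)
    simp [Matrix.mulVec, dotProduct, map_sum]
  set μ₀ := R₀ (Matrix.of H *ᵥ v₀) / R₀ v₀ with hμ₀
  have hj0 : j (R₀ v₀) ≠ 0 := fun e => hv₀ (j.injective (e.trans (map_zero j).symm))
  have hμj : j μ₀ = μ := by rw [hμ₀, map_div₀, hvec, mul_div_assoc, div_self hj0, mul_one]
  let k : Cfsg.Geo.quadSimilarityGroup (F := F₀) ⇑R₀ := ⟨GeneralLinearGroup.mkOfDetNeZero _ hdet,
    Units.mk0 μ₀ fun e => by rw [e, map_zero] at hμj; exact μ.ne_zero hμj.symm,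
    fun w => j.injective (by
      show j (R₀ (Matrix.of H *ᵥ w)) = _
      rw [map_mul, Units.val_mk0, hμj, hvec])⟩
  refine ⟨k, (Units.mk0 b hb0)⁻¹, ?_⟩
  rw [show jS j h2 hj k = h from Subtype.ext (Units.ext hHmat), hhdef, mul_assoc, ← map_mul, mul_inv_cancel,
    map_one, mul_one]

theorem ker_dia_jS [Finite F] [Finite F₀] (hM : Model0 R) (hM₀ : Model0 R₀) (h2 : (2 : F) ≠ 0)
    (hj : ∀ v, R (fun i => j (v i)) = j (R₀ v)) (i₀ : ι) :
    ((dia R).comp (jS j h2 hj)).ker = (dia R₀).ker := by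
  ext k
  rw [MonoidHom.mem_ker, MonoidHom.mem_ker, MonoidHom.comp_apply, dia_eq_one_iff hM, dia_eq_one_iff hM₀]
  constructor
  · rintro ⟨u, hu⟩
    have hent : ∀ s t, j ((k.1 : Matrix ι ι F₀) s t) = if s = t then (u : F) else 0 := fun s t => by
      have := congrArg (fun x : GL ι F => (x : Matrix ι ι F) s t) hu
      simpa [jS, Matrix.scalar_apply, Matrix.diagonal_apply] using this
    set w := (k.1 : Matrix ι ι F₀) i₀ i₀
    have hw : j w = u := by rw [hent, if_pos rfl]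
    have hw0 : w ≠ 0 := fun e => by rw [e, map_zero] at hw; exact u.ne_zero hw.symm
    refine ⟨Units.mk0 w hw0, Units.ext (Matrix.ext fun s t => j.injective ?_)⟩
    show _ = j (Matrix.scalar ι w s t)
    rw [hent]
    simp [Matrix.scalar_apply, Matrix.diagonal_apply, apply_ite j, hw]
  · rintro ⟨w, hw⟩
    refine ⟨Units.map (j : F₀ →* F) w, Units.ext (Matrix.ext fun s t => ?_)⟩
    show j ((k.1 : Matrix ι ι F₀) s t) = Matrix.scalar ι (j (w : F₀)) s t
    rw [hw]
    simp [Matrix.scalar_apply, Matrix.diagonal_apply, apply_ite j]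

theorem centralizer_eq [Finite F] (hM : Model0 R) (h2 : (2 : F) ≠ 0)
    (hj : ∀ v, R (fun i => j (v i)) = j (R₀ v)) {σ : F ≃+* F} (hfix : ∀ a, σ a = a ↔ ∃ b, j b = a)
    {r : ℕ} (hr : r.Prime) (hσr : σ ^ r = 1) (hne : σ ≠ 1) {v₀ : ι → F₀} (hv₀ : R₀ v₀ ≠ 0) (i₀ : ι) :
    (dia R).range ⊓ Subgroup.centralizer {fldHom R hR σ} = ((dia R).comp (jS j h2 hj)).range := by
  refine le_antisymm ?_ ?_
  · rintro _ ⟨⟨g, rfl⟩, hg⟩
    obtain ⟨c, hc⟩ := (mem_centralizer_iff hR hM σ g).mp hg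
    obtain ⟨k, u, rfl⟩ := exists_jS_mul_scG hR j h2 hj hfix hr hσr hne hv₀ i₀ hc
    refine ⟨k, ?_⟩
    rw [MonoidHom.comp_apply, map_mul, (dia_eq_one_iff hM (scG R u)).mpr ⟨u, rfl⟩, mul_one]
  · rintro _ ⟨k, rfl⟩
    refine ⟨⟨_, rfl⟩, (mem_centralizer_iff hR hM σ _).mpr ⟨1, ?_⟩⟩
    rw [galS_jS hR j h2 hj hfix, inv_mul_cancel, map_one]

end Cent

end Cfsg.Agent.Lib.Classical.AutPOmega
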