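import Cfsg.Agent.Lib.Classical.AutPOmega.PlusMinusGroups
import Cfsg.Agent.Lib.QuadFin.Normal
import Cfsg.Agent.Lib.QuadFin.WittIndex
import Mathlib.FieldTheory.Finite.GaloisField

/-!
Automorphisms of `PΩ`, part 22: the two types of non-degenerate even-dimensional quadratic forms over a
finite field, in any characteristic, and their behaviour under field extensions of prime degree.
-/

set_option autoImplicit false

namespace Cfsg.Agent.Lib.Classical.AutPOmega

open QuadraticMap (polarBilin)
open Cfsg.Agent.Lib.Geometry (quad_add quad_smul quad_polar_comm)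
open Module (finrank)

attribute [-simp] QuadraticMap.polarBilin_apply_apply

section Types

variable {F : Type*} [Field F] {V W : Type*} [AddCommGroup V] [Module F V] [AddCommGroup W] [Module F W]

/-- A totally singular subspace of dimension `M`. -/
def IsHyp (Q : QuadraticForm F V) (M : ℕ) : Prop := ∃ U : Submodule F V, finrank F U = M ∧ ∀ u ∈ U, Q u = 0

theorem isHyp_of_equiv {Q : QuadraticForm F V} {Q' : QuadraticForm F W} (T : V ≃ₗ[F] W) {c : F}
    (h : ∀ v, Q' (T v) = c * Q v) {M : ℕ} (hQ : IsHyp Q M) : IsHyp Q' M := by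
  obtain ⟨U, hU, hU0⟩ := hQ
  refine ⟨U.map T.toLinearMap, ?_, ?_⟩
  · rw [← hU]; exact (T.submoduleMap U).finrank_eq.symm
  · rintro _ ⟨u, hu, rfl⟩
    show Q' (T u) = 0
    rw [h, hU0 u hu, mul_zero]

theorem isHyp_congr {Q : QuadraticForm F V} {Q' : QuadraticForm F W} (T : V ≃ₗ[F] W) {c : F} (hc : c ≠ 0)
    (h : ∀ v, Q' (T v) = c * Q v) (M : ℕ) : IsHyp Q M ↔ IsHyp Q' M :=
  ⟨isHyp_of_equiv T h, isHyp_of_equiv T.symm (c := c⁻¹) fun w => by
    have := h (T.symm w)
    rw [T.apply_symm_apply] at this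
    rw [this, inv_mul_cancel_left₀ hc]⟩

theorem isHyp_plusR (m : ℕ) : IsHyp (plusR m F) m :=
  ⟨plusU m F, (plusU_spec m).1, (plusU_spec m).2⟩

theorem not_isHyp_minusR (k : ℕ) {a b : F}
    (hab : ∀ z₁ z₂ : F, z₁ ^ 2 + a * z₁ * z₂ + b * z₂ ^ 2 = 0 → z₁ = 0 ∧ z₂ = 0) :
    ¬ IsHyp (minusR k a b) (k + 1) := by
  rintro ⟨U, hU, hU0⟩
  have := QuadFin.finrank_singular_minus_le a b hab U fun u hu => by rw [coe_minusR]; exact hU0 u hu
  omega

theorem anisotropic_of_no_root {a b : F} (h : ∀ t : F, t ^ 2 + a * t + b ≠ 0) :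
    ∀ z₁ z₂ : F, z₁ ^ 2 + a * z₁ * z₂ + b * z₂ ^ 2 = 0 → z₁ = 0 ∧ z₂ = 0 := by
  intro z₁ z₂ hz
  by_cases h2 : z₂ = 0
  · subst h2
    simp at hz
    exact ⟨hz, rfl⟩
  · refine absurd ?_ (h (z₁ / z₂))
    field_simp
    linear_combination hz

theorem no_root_of_anisotropic {a b : F}
    (hab : ∀ z₁ z₂ : F, z₁ ^ 2 + a * z₁ * z₂ + b * z₂ ^ 2 = 0 → z₁ = 0 ∧ z₂ = 0) (t : F) :
    t ^ 2 + a * t + b ≠ 0 := fun h => one_ne_zero (hab t 1 (by linear_combination h)).2

theorem hyp_eq [FiniteDimensional F V] {Q : QuadraticForm F V} {m : ℕ}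
    {B : Module.Basis (Fin m ⊕ Fin m) F V} (hB : QuadFin.IsHypBasis Q B) (v : V) :
    Q v = plusR m F (B.equivFun v) := by
  obtain ⟨h0, h1, h2⟩ := hB
  refine QuadFin.quad_ext_basis Q B ((plusR m F).comp B.equivFun.toLinearMap) (fun i => ?_) (fun i j => ?_) v
  · rcases i with i | i <;> simp [plusR_apply, h0 i, Finsupp.single_apply]
  · rw [← QuadFin.polar_eq, ← QuadFin.polar_eq]
    rcases i with i | i <;> rcases j with j | j
    · rw [(h2 i j).1]; simp [QuadraticMap.polar, plusR_apply, Finsupp.single_apply]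
    · rw [h1]; simp [QuadraticMap.polar, plusR_apply, Finsupp.single_apply, eq_comm]
    · rw [QuadraticMap.polar_comm, h1]; simp [QuadraticMap.polar, plusR_apply, Finsupp.single_apply, eq_comm]
    · rw [(h2 i j).2]; simp [QuadraticMap.polar, plusR_apply, Finsupp.single_apply]

theorem ell_eq [FiniteDimensional F V] {Q : QuadraticForm F V} {k : ℕ}
    {B : Module.Basis ((Fin k ⊕ Fin k) ⊕ Fin 2) F V} {ζ : F} (hB : QuadFin.IsEllBasis Q B ζ) (v : V) :
    Q v = minusR k 1 ζ (B.equivFun v) := by
  obtain ⟨-, h0, h1, h2, h3, hx, hxy, hy⟩ := hB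
  refine QuadFin.quad_ext_basis Q B ((minusR k 1 ζ).comp B.equivFun.toLinearMap) (fun i => ?_) (fun i j => ?_) v
  · rcases i with (i | i) | i
    · simp [minusR_apply, h0 i, Finsupp.single_apply]
    · simp [minusR_apply, h0 i, Finsupp.single_apply]
    · fin_cases i <;> simp [minusR_apply, hx, hy, Finsupp.single_apply]
  · rw [← QuadFin.polar_eq, ← QuadFin.polar_eq]
    have hswap : ∀ x y, QuadraticMap.polar ⇑Q (B x) (B y) = QuadraticMap.polar ⇑Q (B y) (B x) := fun x y =>
      QuadraticMap.polar_comm _ _ _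
    rcases i with (i | i) | i <;> rcases j with (j | j) | j
    · rw [(h2 i j).1]; simp [QuadraticMap.polar, minusR_apply, Finsupp.single_apply]
    · rw [h1]; simp [QuadraticMap.polar, minusR_apply, Finsupp.single_apply, eq_comm]
    · rw [(h3 i j).1]
      fin_cases j <;> simp [QuadraticMap.polar, minusR_apply, Finsupp.single_apply]
    · rw [hswap, h1]; simp [QuadraticMap.polar, minusR_apply, Finsupp.single_apply, eq_comm]
    · rw [(h2 i j).2]; simp [QuadraticMap.polar, minusR_apply, Finsupp.single_apply]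
    · rw [(h3 i j).2]
      fin_cases j <;> simp [QuadraticMap.polar, minusR_apply, Finsupp.single_apply]
    · rw [hswap, (h3 j i).1]
      fin_cases i <;> simp [QuadraticMap.polar, minusR_apply, Finsupp.single_apply]
    · rw [hswap, (h3 j i).2]
      fin_cases i <;> simp [QuadraticMap.polar, minusR_apply, Finsupp.single_apply]
    · have hxx : QuadraticMap.polar ⇑Q (B (.inr 0)) (B (.inr 0)) = 2 := by
        rw [QuadraticMap.polar_self, hx]; simp
      have hyy : QuadraticMap.polar ⇑Q (B (.inr 1)) (B (.inr 1)) = 2 * ζ := by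
        rw [QuadraticMap.polar_self, hy]; simp
      fin_cases i <;> fin_cases j <;>
        simp [QuadraticMap.polar, minusR_apply, Finsupp.single_apply] <;>
        simp [QuadraticMap.polar] at hxx hyy hxy ⊢
      all_goals
        have hc := hswap (.inr 1) (.inr 0)
        simp [QuadraticMap.polar] at hc
        first
        | linear_combination hxx
        | linear_combination hyy
        | linear_combination hxy
        | linear_combination hc + hxy

end Types

section Finite

variable {F : Type*} [Field F] [Finite F]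

/-- The anisotropic forms `x² + xy + ζy²` are equivalent. -/
theorem binary_shift {ζ ζ₀ : F} (h : ∀ t : F, t ^ 2 + t + ζ ≠ 0) (h₀ : ∀ t : F, t ^ 2 + t + ζ₀ ≠ 0) :
    ∃ s t : F, t ≠ 0 ∧ 2 * s + t = 1 ∧ s ^ 2 + s * t + ζ * t ^ 2 = ζ₀ := by
  haveI := Fintype.ofFinite F
  by_cases h2 : (2 : F) = 0
  · haveI : CharP F 2 := CharTwo.of_one_ne_zero_of_two_eq_zero one_ne_zero h2
    let φ : F →+ F := AddMonoidHom.mk' (fun x => x ^ 2 + x) fun x y => by
      linear_combination (x * y) * h2
    have hidx : φ.range.index ≤ 2 := by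
      have hk : Nat.card φ.ker ≤ 2 := by
        have : (φ.ker : Set F) ⊆ {0, 1} := fun x hx => by
          have hx' : x * (x + 1) = 0 := by
            have : x ^ 2 + x = 0 := hx
            linear_combination this
          rcases mul_eq_zero.mp hx' with e | e
          · exact Or.inl e
          · exact Or.inr (by rw [Set.mem_singleton_iff]; linear_combination e - h2)
        calc Nat.card φ.ker = (φ.ker : Set F).ncard := Nat.card_coe_set_eq _
          _ ≤ ({0, 1} : Set F).ncard := Set.ncard_le_ncard this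
          _ ≤ 2 := le_trans (Set.ncard_insert_le _ _) (by simp)
      have h1 := φ.ker.card_mul_index
      rw [AddSubgroup.index_ker] at h1
      have h3 := φ.range.card_mul_index
      have h4 : 0 < Nat.card φ.range := Nat.card_pos
      nlinarith
    have hn : ∀ {z : F}, (∀ t : F, t ^ 2 + t + z ≠ 0) → z ∉ φ.range := by
      rintro z hz ⟨t, rfl⟩
      exact hz t (CharTwo.add_self_eq_zero _)
    have hne1 : φ.range.index ≠ 1 := fun e => hn h (by rw [AddSubgroup.index_eq_one.mp e]; trivial)
    have hidx2 : φ.range.index = 2 := by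
      have := AddSubgroup.index_ne_zero_of_finite (H := φ.range)
      omega
    obtain ⟨s, hs⟩ : ζ + ζ₀ ∈ φ.range :=
      (AddSubgroup.add_mem_iff_of_index_two hidx2).mpr ⟨fun h' => absurd h' (hn h), fun h' => absurd h' (hn h₀)⟩
    refine ⟨s, 1, one_ne_zero, by linear_combination s * h2, ?_⟩
    have hs' : s ^ 2 + s = ζ + ζ₀ := hs
    linear_combination hs' + ζ * h2
  · have hns : ∀ {z : F}, (∀ t : F, t ^ 2 + t + z ≠ 0) → ¬ IsSquare (1 - 4 * z) := by
      rintro z hz ⟨r, hr⟩
      refine hz ((r - 1) / 2) ?_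
      field_simp
      linear_combination -hr
    have hn0 : 1 - 4 * ζ ≠ 0 := fun e => hns h (e ▸ IsSquare.zero)
    have hn0' : 1 - 4 * ζ₀ ≠ 0 := fun e => hns h₀ (e ▸ IsSquare.zero)
    obtain ⟨t, ht⟩ := square_of_nonsquares hn0' hn0 (hns h₀) (hns h)
    have ht0 : t ≠ 0 := fun e => hn0' (by
      have : (1 - 4 * ζ₀) / (1 - 4 * ζ) = 0 := by rw [ht, e, mul_zero]
      rcases div_eq_zero_iff.mp this with h' | h'
      · exact h'
      · exact absurd h' hn0)
    refine ⟨(1 - t) / 2, t, ht0, by field_simp; ring, ?_⟩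
    rw [eq_comm, ← sub_eq_zero]
    have ht' : 1 - 4 * ζ₀ = t * t * (1 - 4 * ζ) := by rw [← ht, div_mul_cancel₀ _ hn0]
    field_simp
    linear_combination -ht'
where
  square_of_nonsquares {F : Type _} [Field F] [Finite F] {a b : F} (ha0 : a ≠ 0) (hb0 : b ≠ 0) (ha : ¬ IsSquare a)
      (hb : ¬ IsSquare b) : IsSquare (a / b) := by
    haveI := Fintype.ofFinite F
    rw [← Geometry.sqClass_eq_one_iff, div_eq_mul_inv, Geometry.sqClass_mul ha0 (inv_ne_zero hb0),
      Geometry.sqClass_inv, Geometry.sqClass_eq_neg_one_iff.mpr ha, Geometry.sqClass_eq_neg_one_iff.mpr hb]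
    decide

variable {V W : Type*} [AddCommGroup V] [Module F V] [FiniteDimensional F V] [AddCommGroup W] [Module F W]
  [FiniteDimensional F W]

theorem isHyp_of_hypBasis {Q : QuadraticForm F V} {m : ℕ} {B : Module.Basis (Fin m ⊕ Fin m) F V}
    (hB : QuadFin.IsHypBasis Q B) : IsHyp Q m :=
  isHyp_of_equiv B.equivFun.symm (c := 1) (fun w => by rw [hyp_eq hB, LinearEquiv.apply_symm_apply, one_mul])
    (isHyp_plusR m)

theorem not_isHyp_of_ellBasis {Q : QuadraticForm F V} {k : ℕ}
    {B : Module.Basis ((Fin k ⊕ Fin k) ⊕ Fin 2) F V} {ζ : F} (hB : QuadFin.IsEllBasis Q B ζ) :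
    ¬ IsHyp Q (k + 1) := fun h =>
  not_isHyp_minusR k (anisotropic_of_no_root (a := 1) (b := ζ) fun t => by rw [one_mul]; exact hB.1 t)
    (isHyp_of_equiv B.equivFun (c := 1) (fun v => by rw [one_mul]; exact (ell_eq hB v).symm) h)

/-- Two forms of the same type are isometric. -/
theorem quad_equiv_of_type {Q : QuadraticForm F V} {Q' : QuadraticForm F W} (hQ : (polarBilin Q).Nondegenerate)
    (hQ' : (polarBilin Q').Nondegenerate) {M : ℕ} (hM : 1 ≤ M) (hV : finrank F V = 2 * M)
    (hW : finrank F W = 2 * M) (h : IsHyp Q M ↔ IsHyp Q' M) :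
    ∃ T : V ≃ₗ[F] W, ∀ v, Q' (T v) = Q v := by
  obtain ⟨k, rfl⟩ : ∃ k, M = k + 1 := ⟨M - 1, by omega⟩
  rcases QuadFin.exists_normal_basis Q hQ hM hV with ⟨B, hB⟩ | ⟨B, ζ, hB⟩ <;>
    rcases QuadFin.exists_normal_basis Q' hQ' hM hW with ⟨B', hB'⟩ | ⟨B', ζ', hB'⟩
  · exact ⟨B.equivFun.trans B'.equivFun.symm, fun v => by
      rw [hyp_eq hB', hyp_eq hB, LinearEquiv.trans_apply, LinearEquiv.apply_symm_apply]⟩
  · exact absurd (h.mp (isHyp_of_hypBasis hB)) (not_isHyp_of_ellBasis (k := k) hB')
  · exact absurd (h.mpr (isHyp_of_hypBasis hB')) (not_isHyp_of_ellBasis (k := k) hB)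
  · obtain ⟨s, t, ht, hst, hval⟩ := binary_shift hB'.1 hB.1
    let J := (Fin k ⊕ Fin k) ⊕ Fin 2
    let S : (J → F) ≃ₗ[F] (J → F) :=
      { toFun := fun v i => Sum.elim (fun l => v (.inl l)) ![v (.inr 0) + s * v (.inr 1), t * v (.inr 1)] i
        invFun := fun v i =>
          Sum.elim (fun l => v (.inl l)) ![v (.inr 0) - s * (t⁻¹ * v (.inr 1)), t⁻¹ * v (.inr 1)] i
        map_add' := fun v w => by funext i; rcases i with i | i <;> (try fin_cases i) <;> simp <;> ring
        map_smul' := fun c v => by funext i; rcases i with i | i <;> (try fin_cases i) <;> simp <;> ring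
        left_inv := fun v => by funext i; rcases i with i | i <;> (try fin_cases i) <;> simp [ht]
        right_inv := fun v => by funext i; rcases i with i | i <;> (try fin_cases i) <;> simp [ht] }
    refine ⟨B.equivFun.trans (S.trans B'.equivFun.symm), fun v => ?_⟩
    rw [ell_eq hB (v := v), LinearEquiv.trans_apply, LinearEquiv.trans_apply, ell_eq hB',
      LinearEquiv.apply_symm_apply, minusR_apply, minusR_apply]
    simp [S]
    linear_combination (B.repr v (.inr 0) * B.repr v (.inr 1)) * hst +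
      (B.repr v (.inr 1) ^ 2) * hval

end Finite

/-! ### Fixed fields -/

section Fixed

variable {F : Type*} [Field F] {σ : F ≃+* F} {r : ℕ}

/-- In odd degree a quadratic acquires no root. -/
theorem root_fixed_of_odd (hr : Odd r) (hσ : σ ^ r = 1) {a b t : F} (ha : σ a = a) (hb : σ b = b)
    (ht : t ^ 2 + a * t + b = 0) : σ t = t := by
  have hroot : ∀ u, u ^ 2 + a * u + b = 0 → u = t ∨ u = -a - t := by
    intro u hu
    have : (u - t) * (u + a + t) = 0 := by linear_combination hu - ht
    rcases mul_eq_zero.mp this with h | h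
    · exact Or.inl (sub_eq_zero.mp h)
    · exact Or.inr (by linear_combination h)
  have hst : σ t ^ 2 + a * σ t + b = 0 := by
    have := congrArg σ ht
    rwa [map_add, map_add, map_mul, map_pow, ha, hb, map_zero] at this
  rcases hroot _ hst with h | h
  · exact h
  have h2 : σ (σ t) = t := by rw [h, map_sub, map_neg, ha, h]; ring
  have key : ∀ n, (σ ^ (2 * n)) t = t := by
    intro n
    induction n with
    | zero => rfl
    | succ n ih => rw [Nat.mul_succ, pow_add, pow_two σ, RingAut.mul_apply, RingAut.mul_apply, h2, ih]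
  obtain ⟨n, rfl⟩ := hr
  have := congrArg (fun e : F ≃+* F => e t) hσ
  simp only [RingAut.one_apply] at this
  rw [pow_succ', RingAut.mul_apply, key] at this
  exact this

/-- In degree two every quadratic with fixed coefficients has a root. -/
theorem exists_root_of_two [Finite F] (hσ : σ ^ 2 = 1) (hne : σ ≠ 1) {a b : F} (ha : σ a = a) (hb : σ b = b) :
    ∃ t : F, t ^ 2 + a * t + b = 0 := by
  haveI : Finite (F ≃+* F) := Finite.of_injective (fun e : F ≃+* F => (e : F → F)) DFunLike.coe_injective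
  haveI : Fintype (Subgroup.zpowers σ) := Fintype.ofFinite _
  set K := FixedPoints.subfield (Subgroup.zpowers σ) F
  have hmem : ∀ c, σ c = c → c ∈ K := fun c hc τ =>
    (Subgroup.zpowers_le.mpr (show σ ∈ MulAction.stabilizer (F ≃+* F) c from hc)) τ.2
  have hK : finrank K F = 2 := by
    rw [FixedPoints.finrank_eq_card (Subgroup.zpowers σ) F, ← Nat.card_eq_fintype_card, Nat.card_zpowers]
    exact orderOf_eq_prime hσ hne
  let P : Polynomial K := Polynomial.X ^ 2 + Polynomial.C ⟨a, hmem a ha⟩ * Polynomial.X + Polynomial.C ⟨b, hmem b hb⟩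
  have hPm : P.Monic := by simp only [P]; monicity!
  have hPd : P.natDegree = 2 := by simp only [P]; compute_degree!
  by_cases hP : Irreducible P
  · haveI : Fact (Irreducible P) := ⟨hP⟩
    haveI : FiniteDimensional K (AdjoinRoot P) := (AdjoinRoot.powerBasis hPm.ne_zero).finite
    obtain ⟨f⟩ := FiniteField.nonempty_algHom_of_finrank_dvd (F := K) (K := AdjoinRoot P) (L := F) (by
      rw [(AdjoinRoot.powerBasis hPm.ne_zero).finrank, AdjoinRoot.powerBasis_dim, hPd, hK])
    refine ⟨f (AdjoinRoot.root P), ?_⟩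
    have h := congrArg f (AdjoinRoot.eval₂_root P)
    simp only [P, Polynomial.eval₂_add, Polynomial.eval₂_pow, Polynomial.eval₂_X, Polynomial.eval₂_mul,
      Polynomial.eval₂_C, map_add, map_pow, map_mul, map_zero] at h
    rw [← AdjoinRoot.algebraMap_eq, f.commutes, f.commutes] at h
    exact h
  · rw [hPm.irreducible_iff_roots_eq_zero_of_degree_le_three (by omega) (by omega)] at hP
    obtain ⟨t, ht⟩ := Multiset.exists_mem_of_ne_zero hP
    have ht' := (Polynomial.mem_roots'.mp ht).2
    simp only [P, Polynomial.IsRoot.def, Polynomial.eval_add, Polynomial.eval_pow, Polynomial.eval_X,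
      Polynomial.eval_mul, Polynomial.eval_C] at ht'
    exact ⟨(t : F), congrArg Subtype.val ht'⟩

end Fixed

end Cfsg.Agent.Lib.Classical.AutPOmega
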