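import Cfsg.Agent.Lib.Classical.AutPOmega.BaseChange
import Cfsg.Agent.Lib.Classical.AutPOmega.QuadType
import Cfsg.Agent.Lib.Classical.AutPOmega.Field

/-!
Automorphisms of `PΩ`, part 24: twisted descent of similarities in any characteristic, through the two
types of quadratic forms over the fixed field.
-/

set_option autoImplicit false

namespace Cfsg.Agent.Lib.Classical.AutPOmega

open QuadraticMap (polarBilin)
open Cfsg.Agent.Lib.Geometry (quad_add quad_smul quad_polar_comm)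
open Matrix
open Module (finrank)

attribute [-simp] QuadraticMap.polarBilin_apply_apply

variable {F : Type*} [Field F] {ι : Type} [Fintype ι] [DecidableEq ι] {R : QuadraticForm F (ι → F)}
  {σ : F ≃+* F} (hσ : ∀ v, R (fun i => σ (v i)) = σ (R v))

include hσ in
theorem baseMap_gal : BaseMap R R σ.toRingHom 1 1 :=
  ⟨one_mul 1, one_mul 1, 1, fun v => by rw [Units.val_one, one_mul, Matrix.one_mulVec]; exact hσ v⟩

/-- The action of one field automorphism on similarities. -/
noncomputable def galT : Cfsg.Geo.quadSimilarityGroup (F := F) ⇑R →* Cfsg.Geo.quadSimilarityGroup (F := F) ⇑R :=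
  baseS (baseMap_gal hσ)

theorem galT_val (g : Cfsg.Geo.quadSimilarityGroup (F := F) ⇑R) :
    (galT hσ g).1 = Units.map (RingHom.toMonoidHom σ.toRingHom.mapMatrix) g.1 := by
  refine Units.ext ?_
  show (1 : Matrix ι ι F) * (g.1 : Matrix ι ι F).map σ * 1 = (g.1 : Matrix ι ι F).map σ
  rw [Matrix.one_mul, Matrix.mul_one]

theorem galT_scG (u : Fˣ) : galT hσ (scG R u) = scG R (Units.map (σ : F →* F) u) := baseS_scG _ u

/-- The standard automorphism of `σ`. -/
noncomputable def phiT : MulAut (Cfsg.POmega F ⇑R) := semAut 1 σ (pair_fld σ hσ)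

theorem phiT_mul_dia (g : Cfsg.Geo.quadSimilarityGroup (F := F) ⇑R) :
    phiT hσ * dia R g = dia R (galT hσ g) * phiT hσ := by
  show semAut _ _ _ * semAut _ _ _ = semAut _ _ _ * semAut _ _ _
  rw [semAut_mul, semAut_mul]
  refine semAut_congr _ _ (Units.ext ?_) (by rw [mul_one, one_mul])
  show (1 : Matrix ι ι F) * (g.1 : Matrix ι ι F).map σ = ((galT hσ g).1 : Matrix ι ι F) * (1 : Matrix ι ι F).map _
  rw [galT_val]
  simp

/-- The twisted product. -/
noncomputable def prodT (g : Cfsg.Geo.quadSimilarityGroup (F := F) ⇑R) :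
    ℕ → Cfsg.Geo.quadSimilarityGroup (F := F) ⇑R
  | 0 => 1
  | k + 1 => g * galT hσ (prodT g k)

theorem dia_mul_phiT_pow (g : Cfsg.Geo.quadSimilarityGroup (F := F) ⇑R) (k : ℕ) :
    (dia R g * phiT hσ) ^ k = dia R (prodT hσ g k) * phiT hσ ^ k := by
  induction k with
  | zero => rw [pow_zero, pow_zero, prodT, map_one, one_mul]
  | succ k ih =>
    rw [pow_succ', ih, prodT, mul_assoc, ← mul_assoc (phiT hσ), phiT_mul_dia, map_mul, pow_succ' (phiT hσ)]
    simp only [mul_assoc]

theorem phiT_pow_eq_one [Finite F] {r : ℕ} (hr : σ ^ r = 1) : phiT hσ ^ r = 1 := by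
  obtain ⟨gk, hk, he, hit⟩ := semAut_pow (pair_fld σ hσ) r
  have hg1 : gk = 1 := by
    refine Units.ext (Matrix.ext_of_mulVec_single fun i => ?_)
    have h := hit (Pi.single i 1)
    have hfix : ∀ k, (fun w : ι → F => ((1 : GL ι F) : Matrix ι ι F) *ᵥ fun l => σ (w l))^[k] (Pi.single i 1) =
        fun l => (σ ^ k) ((Pi.single i (1 : F) : ι → F) l) := by
      intro k
      induction k with
      | zero => funext l; simp
      | succ k ih =>
        rw [Function.iterate_succ_apply', ih]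
        funext l
        simp [pow_succ', RingAut.mul_apply]
    rw [hfix, hr] at h
    rw [Units.val_one, Matrix.one_mulVec]
    exact h
  rw [phiT, he]
  subst hg1
  have hp' : Cfsg.IsSemisimilarityPair (⇑R) (GeneralLinearGroup.scalar ι (1 : Fˣ)) 1 := by
    rw [map_one, ← hr]; exact hk
  exact (semAut_congr hk hp' (map_one (GeneralLinearGroup.scalar ι)).symm hr).trans (semAut_scalar 1 hp')

theorem prodT_eq_scalar_iff [Finite F] (hM : Model0 R) {r : ℕ} (hr : σ ^ r = 1) (g : Cfsg.Geo.quadSimilarityGroup (F := F) ⇑R) :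
    (dia R g * phiT hσ) ^ r = 1 ↔ ∃ c, prodT hσ g r = scG R c := by
  rw [dia_mul_phiT_pow, phiT_pow_eq_one hσ hr, mul_one, dia_eq_one_iff hM]
  exact ⟨fun ⟨c, hc⟩ => ⟨c, Subtype.ext hc⟩, fun ⟨c, hc⟩ => ⟨c, congrArg Subtype.val hc⟩⟩

theorem conj_phiT [Finite F] (hM : Model0 R) {a a₀ k : Cfsg.Geo.quadSimilarityGroup (F := F) ⇑R} {u : Fˣ}
    (h : a = scG R u * (k * a₀ * (galT hσ k)⁻¹)) :
    dia R a * phiT hσ = dia R k * (dia R a₀ * phiT hσ) * (dia R k)⁻¹ := by
  rw [h, map_mul, (dia_eq_one_iff hM (scG R u)).mpr ⟨u, rfl⟩, one_mul, mul_assoc (dia R k) (dia R a₀ * phiT hσ),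
    mul_assoc (dia R a₀), ← map_inv (dia R) k, phiT_mul_dia, map_inv (galT hσ) k, ← mul_assoc (dia R a₀),
    ← mul_assoc (dia R k), ← map_mul, ← map_mul, ← mul_assoc k]

/-! ### Forms over the fixed field -/

/-- `Q` is a form over `K` to which `a` descends. -/
def Descends (a : Cfsg.Geo.quadSimilarityGroup (F := F) ⇑R) (K : Subfield F) (Q : QuadraticForm K (ι → K)) : Prop :=
  (polarBilin Q).Nondegenerate ∧ ∃ (u : Fˣ) (h : GL ι F) (b : Fˣ),
    a.1 = GeneralLinearGroup.scalar ι u * (h * (Units.map (RingHom.toMonoidHom σ.toRingHom.mapMatrix) h)⁻¹) ∧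
    ∀ w : ι → K, R ((h : Matrix ι ι F) *ᵥ fun i => (w i : F)) = (b : F) * (Q w : F)

theorem exists_fixed_field [Finite F] (σ : F ≃+* F) : ∃ K : Subfield F, ∀ c, c ∈ K ↔ σ c = c := by
  haveI : Finite (F ≃+* F) := Finite.of_injective (fun e : F ≃+* F => (e : F → F)) DFunLike.coe_injective
  refine ⟨FixedPoints.subfield (Subgroup.zpowers σ) F, fun c => ⟨fun h => h ⟨σ, Subgroup.mem_zpowers σ⟩,
    fun h τ => ?_⟩⟩
  exact (Subgroup.zpowers_le.mpr (show σ ∈ MulAction.stabilizer (F ≃+* F) c from h)) τ.2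

include hσ in
theorem exists_descends [Fintype F] (hn : Nonempty ι) (hRn : (polarBilin R).Nondegenerate) {r : ℕ}
    (hr : r.Prime) (hσr : σ ^ r = 1) (hne : σ ≠ 1) {K : Subfield F} (hK : ∀ t, t ∈ K ↔ σ t = t)
    (a : Cfsg.Geo.quadSimilarityGroup (F := F) ⇑R) {c : Fˣ} (hc : prodT hσ a r = scG R c) :
    ∃ Q : QuadraticForm K (ι → K), Descends (σ := σ) a K Q := by
  classical
  let e : ι ≃ Fin (Fintype.card ι) := Fintype.equivFin ι
  let ρ : GL ι F ≃* GL (Fin (Fintype.card ι)) F := Units.mapEquiv (Matrix.reindexAlgEquiv F F e).toMulEquiv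
  have hρg : ∀ g : GL ι F, ρ (Units.map (RingHom.toMonoidHom σ.toRingHom.mapMatrix) g) = AutPSL.galGL σ (ρ g) :=
    fun g => Units.ext (Matrix.ext fun i j => rfl)
  have hρs : ∀ u : Fˣ, ρ (GeneralLinearGroup.scalar ι u) = GeneralLinearGroup.scalar _ u := by
    intro u
    refine Units.ext (Matrix.ext fun i j => ?_)
    show Matrix.scalar _ (u : F) (e.symm i) (e.symm j) = Matrix.scalar _ (u : F) i j
    simp [Matrix.scalar_apply, Matrix.diagonal_apply]
  have hprod : ∀ k, ρ (prodT hσ a k).1 = AutPSL.galProd σ (ρ a.1) k := by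
    intro k
    induction k with
    | zero => exact map_one ρ
    | succ k ih =>
      show ρ (a.1 * (galT hσ (prodT hσ a k)).1) = _
      rw [galT_val, map_mul, hρg, ih]
      rfl
  obtain ⟨u, h', hh'⟩ := AutPSL.exists_eq_scalar_mul_twist hr hσr hne (Fintype.card_pos (α := ι)) (g := ρ a.1) (by
    rw [← hprod, hc, GeneralLinearGroup.center_eq_range_scalar]; exact ⟨c, (hρs c).symm⟩)
  obtain ⟨h, rfl⟩ := ρ.surjective h'
  set hσh := Units.map (RingHom.toMonoidHom σ.toRingHom.mapMatrix) h with hdef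
  rw [← hρg, ← hρs, ← map_inv, ← map_mul, ← map_mul] at hh'
  have ha : a.1 = GeneralLinearGroup.scalar ι u * (h * hσh⁻¹) := ρ.injective hh'
  set a' := (scG R u)⁻¹ * a with ha'
  have hhh : a'.1 * hσh = h := by
    show (GeneralLinearGroup.scalar ι u)⁻¹ * a.1 * hσh = h
    rw [ha, inv_mul_cancel_left, inv_mul_cancel_right]
  obtain ⟨μ, hμ⟩ := a'.2
  set q : (ι → K) → F := fun w => R ((h : Matrix ι ι F) *ᵥ fun i => (w i : F)) with hq
  have hqσ : ∀ w : ι → K, q w = (μ : F) * σ (q w) := fun w => by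
    have h1 : (h : Matrix ι ι F) = (a'.1 : Matrix ι ι F) * (h : Matrix ι ι F).map σ := by
      conv_lhs => rw [← hhh]
      rfl
    have h2 : (fun i => σ (((h : Matrix ι ι F) *ᵥ fun i => (w i : F)) i)) =
        (h : Matrix ι ι F).map σ *ᵥ fun i => (w i : F) := by
      rw [← semi_vec]
      congr 1
      funext i
      exact (hK _).mp (w i).2
    simp only [q]
    conv_lhs => rw [h1, ← Matrix.mulVec_mulVec, hμ, ← h2, hσ]
  obtain ⟨w₀, hw₀⟩ : ∃ w₀ : ι → K, q w₀ ≠ 0 := by
    by_contra hcon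
    push Not at hcon
    have h0 : (R.comp (Matrix.toLin' (h : Matrix ι ι F))) = (0 : QuadraticForm F (ι → F)) :=
      QuadraticMap.ext fun v => forms_ext K.subtype (Q' := 0) (fun w => by
        show R (_ *ᵥ _) = 0
        exact hcon w) v
    obtain ⟨k⟩ := hn
    have hz : (Pi.single k (1 : F) : ι → F) = 0 := hRn.1 _ fun y => by
      have hR0 : ∀ y, R y = 0 := fun y => by
        have := congrArg (fun Q : QuadraticForm F (ι → F) => Q (((h⁻¹ : GL ι F) : Matrix ι ι F) *ᵥ y)) h0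
        simpa [Matrix.mulVec_mulVec, ← Units.val_mul] using this
      rw [QuadraticMap.polarBilin_apply_apply, QuadraticMap.polar, hR0, hR0, hR0]; ring
    exact one_ne_zero (α := F) (by simpa using congrFun hz k)
  set b := q w₀ with hb
  have hbK : ∀ w, b⁻¹ * q w ∈ K := fun w => by
    rw [hK, map_mul, map_inv₀]
    have hσb : σ b ≠ 0 := fun e => hw₀ (σ.injective (e.trans (map_zero σ).symm))
    conv_rhs => rw [hb, hqσ w₀, hqσ w, ← hb]
    field_simp
  have hcomp : ∀ x y : ι → K, ∀ v, (fun i => (v i : F)) = (fun i => ((x i : F))) + (fun i => (y i : F)) →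
      q v = q x + q y + polarBilin R ((h : Matrix ι ι F) *ᵥ fun i => (x i : F))
        ((h : Matrix ι ι F) *ᵥ fun i => (y i : F)) := fun x y v hv => by
    simp only [q, hv, Matrix.mulVec_add, quad_add]
  have hBK : ∀ x y : ι → K, b⁻¹ * polarBilin R ((h : Matrix ι ι F) *ᵥ fun i => (x i : F))
      ((h : Matrix ι ι F) *ᵥ fun i => (y i : F)) ∈ K := fun x y => by
    have := hcomp x y (x + y) (funext fun i => by simp)
    rw [show b⁻¹ * polarBilin R _ _ = b⁻¹ * q (x + y) - b⁻¹ * q x - b⁻¹ * q y by rw [this]; ring]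
    exact K.sub_mem (K.sub_mem (hbK _) (hbK _)) (hbK _)
  have hval : ∀ (t : K) (x : ι → K), (fun i => ((t • x) i : F)) = (t : F) • fun i => (x i : F) := fun t x =>
    funext fun i => by simp
  let B : LinearMap.BilinMap K (ι → K) K := LinearMap.mk₂ K (fun x y => ⟨_, hBK x y⟩)
    (fun x x' y => Subtype.ext (by
      show b⁻¹ * _ = b⁻¹ * _ + b⁻¹ * _
      rw [show (fun i => ((x + x') i : F)) = (fun i => (x i : F)) + fun i => (x' i : F) from funext fun i => by simp,
        Matrix.mulVec_add, map_add, LinearMap.add_apply, mul_add]))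
    (fun t x y => Subtype.ext (by
      show b⁻¹ * _ = (t : F) * (b⁻¹ * _)
      rw [hval, Matrix.mulVec_smul, map_smul, LinearMap.smul_apply, smul_eq_mul, mul_left_comm]))
    (fun x y y' => Subtype.ext (by
      show b⁻¹ * _ = b⁻¹ * _ + b⁻¹ * _
      rw [show (fun i => ((y + y') i : F)) = (fun i => (y i : F)) + fun i => (y' i : F) from funext fun i => by simp,
        Matrix.mulVec_add, map_add, mul_add]))
    (fun t x y => Subtype.ext (by
      show b⁻¹ * _ = (t : F) * (b⁻¹ * _)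
      rw [hval, Matrix.mulVec_smul, map_smul, smul_eq_mul, mul_left_comm]))
  let Q : QuadraticForm K (ι → K) :=
    { toFun := fun w => ⟨_, hbK w⟩
      toFun_smul := fun t w => Subtype.ext (by
        show b⁻¹ * q (t • w) = ((t * t : K) : F) * (b⁻¹ * q w)
        simp only [q, hval, Matrix.mulVec_smul, quad_smul]
        push_cast; ring)
      exists_companion' := ⟨B, fun x y => Subtype.ext (by
        show b⁻¹ * q (x + y) = b⁻¹ * q x + b⁻¹ * q y + b⁻¹ * _
        rw [hcomp x y (x + y) (funext fun i => by simp)]; ring)⟩ }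
  have hQ : ∀ w, (Q w : F) = b⁻¹ * q w := fun w => rfl
  have hb0 : b ≠ 0 := hw₀
  have hR : ∀ w : ι → K, R ((h : Matrix ι ι F) *ᵥ fun i => (w i : F)) = b * (Q w : F) := fun w => by
    rw [hQ, mul_inv_cancel_left₀ hb0]
  refine ⟨Q, ?_, u, h, Units.mk0 b hb0, ha, hR⟩
  have hpol : ∀ x y, polarBilin R ((h : Matrix ι ι F) *ᵥ fun i => (x i : F))
      ((h : Matrix ι ι F) *ᵥ fun i => (y i : F)) = b * (polarBilin Q x y : F) := fun x y => by
    have e1 := hcomp x y (x + y) (funext fun i => by simp)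
    have e2 := congrArg Subtype.val (quad_add Q x y)
    simp only [AddMemClass.coe_add, hQ] at e2
    simp only [hb] at *
    field_simp at e2
    linear_combination e2 - e1
  have hl : ∀ x, (∀ y, polarBilin Q x y = 0) → x = 0 := by
    intro x hx
    have hz : (h : Matrix ι ι F) *ᵥ (fun i => (x i : F)) = 0 := hRn.1 _ fun z => by
      obtain ⟨z', rfl⟩ : ∃ z', (h : Matrix ι ι F) *ᵥ z' = z := ⟨((h⁻¹ : GL ι F) : Matrix ι ι F) *ᵥ z, by
        rw [Matrix.mulVec_mulVec, ← Units.val_mul, mul_inv_cancel, Units.val_one, Matrix.one_mulVec]⟩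
      rw [pi_eq_sum_univ' z', Matrix.mulVec_sum, map_sum]
      refine Finset.sum_eq_zero fun k _ => ?_
      have hk := hpol x (Pi.single k 1)
      rw [hx, show (fun i => ((Pi.single k (1 : K) : ι → K) i : F)) = Pi.single k 1 from funext fun i => by
        simp [Pi.single_apply, apply_ite (Subtype.val : K → F)]] at hk
      rw [Matrix.mulVec_smul, map_smul, hk]
      simp
    have hz2 := congrArg (((h⁻¹ : GL ι F) : Matrix ι ι F) *ᵥ ·) hz
    simp only [Matrix.mulVec_mulVec, ← Units.val_mul, inv_mul_cancel, Units.val_one, Matrix.one_mulVec,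
      Matrix.mulVec_zero] at hz2
    exact funext fun i => Subtype.ext (by simpa using congrFun hz2 i)
  exact ⟨hl, fun x hx => hl x fun y => by rw [quad_polar_comm]; exact hx y⟩

include hσ in
theorem descends_one [Fintype F] {K : Subfield F} (hK : ∀ t, t ∈ K ↔ σ t = t) {Q : QuadraticForm K (ι → K)}
    (hQn : (polarBilin Q).Nondegenerate) (hQ : ∀ w : ι → K, R (fun i => (w i : F)) = (Q w : F)) :
    Descends (σ := σ) (1 : Cfsg.Geo.quadSimilarityGroup (F := F) ⇑R) K Q :=
  ⟨hQn, 1, 1, 1, by simp, fun w => by rw [Units.val_one, Units.val_one, Matrix.one_mulVec, one_mul, hQ]⟩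

/-- A form over `K` equivalent to a descended one is similar to `R` over `F`. -/
theorem descends_extend [Fintype F] {a : Cfsg.Geo.quadSimilarityGroup (F := F) ⇑R} {K : Subfield F}
    {Q : QuadraticForm K (ι → K)} (hd : Descends (σ := σ) a K Q) {ι' : Type} [Fintype ι'] [DecidableEq ι']
    {Q' : QuadraticForm K (ι' → K)} (T : (ι' → K) ≃ₗ[K] (ι → K)) (hT : ∀ v, Q (T v) = Q' v)
    {Q'F : QuadraticForm F (ι' → F)} (hQ' : ∀ v : ι' → K, Q'F (fun i => (v i : F)) = (Q' v : F)) :
    ∃ (L : (ι' → F) ≃ₗ[F] (ι → F)) (c : F), c ≠ 0 ∧ ∀ v, R (L v) = c * Q'F v := by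
  obtain ⟨-, u, h, b, -, hR⟩ := hd
  let P : Matrix ι ι' F := (LinearMap.toMatrix' T.toLinearMap).map Subtype.val
  let P' : Matrix ι' ι F := (LinearMap.toMatrix' T.symm.toLinearMap).map Subtype.val
  have hP : P' * P = 1 := by
    show (LinearMap.toMatrix' T.symm.toLinearMap).map K.subtype * (LinearMap.toMatrix' T.toLinearMap).map K.subtype = 1
    rw [← Matrix.map_mul, ← LinearMap.toMatrix'_comp,
      show T.symm.toLinearMap.comp T.toLinearMap = LinearMap.id from LinearMap.ext fun v => T.symm_apply_apply v,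
      LinearMap.toMatrix'_id, Matrix.map_one _ (map_zero K.subtype) (map_one K.subtype)]
  have hP' : P * P' = 1 := by
    show (LinearMap.toMatrix' T.toLinearMap).map K.subtype * (LinearMap.toMatrix' T.symm.toLinearMap).map K.subtype = 1
    rw [← Matrix.map_mul, ← LinearMap.toMatrix'_comp,
      show T.toLinearMap.comp T.symm.toLinearMap = LinearMap.id from LinearMap.ext fun v => T.apply_symm_apply v,
      LinearMap.toMatrix'_id, Matrix.map_one _ (map_zero K.subtype) (map_one K.subtype)]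
  let L : (ι' → F) ≃ₗ[F] (ι → F) :=
    { toLinearMap := Matrix.toLin' ((h : Matrix ι ι F) * P)
      invFun := fun w => (P' * ((h⁻¹ : GL ι F) : Matrix ι ι F)) *ᵥ w
      left_inv := fun v => by
        show (P' * ((h⁻¹ : GL ι F) : Matrix ι ι F)) *ᵥ (Matrix.toLin' _ v) = v
        rw [Matrix.toLin'_apply, Matrix.mulVec_mulVec, Matrix.mul_assoc, ← Matrix.mul_assoc _ (h : Matrix ι ι F),
          ← Units.val_mul, inv_mul_cancel, Units.val_one, Matrix.one_mul, hP, Matrix.one_mulVec]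
      right_inv := fun v => by
        show Matrix.toLin' _ ((P' * ((h⁻¹ : GL ι F) : Matrix ι ι F)) *ᵥ v) = v
        rw [Matrix.toLin'_apply, Matrix.mulVec_mulVec, Matrix.mul_assoc, ← Matrix.mul_assoc P, hP', Matrix.one_mul,
          ← Units.val_mul, mul_inv_cancel, Units.val_one, Matrix.one_mulVec] }
  refine ⟨L, b, b.ne_zero, fun v => ?_⟩
  refine forms_ext K.subtype (Q := R.comp L.toLinearMap) (Q' := (b : F) • Q'F) (fun w => ?_) v
  show R (Matrix.toLin' ((h : Matrix ι ι F) * P) (fun i => (w i : F))) = (b : F) * Q'F (fun i => (w i : F))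
  rw [hQ', ← hT, ← hR, Matrix.toLin'_apply, ← Matrix.mulVec_mulVec]
  refine congrArg (fun z => R ((h : Matrix ι ι F) *ᵥ z)) ?_
  rw [show P = (LinearMap.toMatrix' T.toLinearMap).map K.subtype from rfl]
  refine (map_mulVec_rect K.subtype _ w).trans (funext fun i => ?_)
  rw [LinearMap.toMatrix'_mulVec]
  rfl
where
  map_mulVec_rect {K' F' : Type _} [Field K'] [Field F'] {κ κ' : Type} [Fintype κ'] (j : K' →+* F')
      (A : Matrix κ κ' K') (v : κ' → K') : A.map j *ᵥ (fun i => j (v i)) = fun i => j ((A *ᵥ v) i) := by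
    funext i
    simp [Matrix.mulVec, dotProduct, map_sum]

/-- Descended forms of one type give conjugate twists. -/
theorem twist_of_same_type [Fintype F] {M : ℕ} (hι : Fintype.card ι = 2 * M) (hM1 : 1 ≤ M) {K : Subfield F}
    (hK : ∀ t, t ∈ K ↔ σ t = t) {a a₀ : Cfsg.Geo.quadSimilarityGroup (F := F) ⇑R}
    {Q Q₀ : QuadraticForm K (ι → K)} (hd : Descends (σ := σ) a K Q) (hd₀ : Descends (σ := σ) a₀ K Q₀)
    (ht : IsHyp Q M ↔ IsHyp Q₀ M) :
    ∃ u k, a = scG R u * (k * a₀ * (galT hσ k)⁻¹) := by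
  have hf : finrank K (ι → K) = 2 * M := by rw [Module.finrank_fintype_fun_eq_card, hι]
  obtain ⟨T, hT⟩ := quad_equiv_of_type hd₀.1 hd.1 hM1 hf hf ht.symm
  obtain ⟨-, u₁, h₁, b₁, ha, hR₁⟩ := hd
  obtain ⟨-, u₀, h₀, b₀, ha₀, hR₀⟩ := hd₀
  let P : GL ι F :=
    Units.map (RingHom.toMonoidHom K.subtype.mapMatrix) (GeneralLinearGroup.mkOfDetNeZero
      (LinearMap.toMatrix' T.toLinearMap) (by
        have h1 : LinearMap.toMatrix' T.symm.toLinearMap * LinearMap.toMatrix' T.toLinearMap = 1 := by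
          rw [← LinearMap.toMatrix'_comp, show T.symm.toLinearMap.comp T.toLinearMap = LinearMap.id from
            LinearMap.ext fun v => T.symm_apply_apply v, LinearMap.toMatrix'_id]
        intro h0
        have := congrArg Matrix.det h1
        rw [Matrix.det_mul, h0, mul_zero, Matrix.det_one] at this
        exact zero_ne_one this))
  have hPfix : Units.map (RingHom.toMonoidHom σ.toRingHom.mapMatrix) P = P :=
    Units.ext (Matrix.ext fun i j => (hK _).mp (LinearMap.toMatrix' T.toLinearMap i j).2)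
  have hPv : ∀ w : ι → K, (P : Matrix ι ι F) *ᵥ (fun i => (w i : F)) = fun i => (T w i : F) := fun w => by
    refine (map_mulVec_hom K.subtype _ w).trans (funext fun i => ?_)
    show ((LinearMap.toMatrix' T.toLinearMap *ᵥ w) i : F) = _
    rw [LinearMap.toMatrix'_mulVec]
    rfl
  have hb : (b₁ : F) / b₀ ≠ 0 := div_ne_zero b₁.ne_zero b₀.ne_zero
  let k : Cfsg.Geo.quadSimilarityGroup (F := F) ⇑R := ⟨h₁ * P * h₀⁻¹, Units.mk0 _ hb, fun v => by
    obtain ⟨w, rfl⟩ : ∃ w, (h₀ : Matrix ι ι F) *ᵥ w = v := ⟨((h₀⁻¹ : GL ι F) : Matrix ι ι F) *ᵥ v, by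
      rw [Matrix.mulVec_mulVec, ← Units.val_mul, mul_inv_cancel, Units.val_one, Matrix.one_mulVec]⟩
    rw [Matrix.mulVec_mulVec, ← Units.val_mul, inv_mul_cancel_right, Units.val_mk0]
    refine forms_ext K.subtype (Q := R.comp (Matrix.toLin' ((h₁ * P : GL ι F) : Matrix ι ι F)))
      (Q' := ((b₁ : F) / b₀) • R.comp (Matrix.toLin' (h₀ : Matrix ι ι F))) (fun w => ?_) w
    show R (_ *ᵥ fun i => (w i : F)) = (b₁ : F) / b₀ * R ((h₀ : Matrix ι ι F) *ᵥ fun i => (w i : F))
    rw [Units.val_mul, ← Matrix.mulVec_mulVec, hPv, hR₁, hT, hR₀, ← mul_assoc, div_mul_cancel₀ _ b₀.ne_zero]⟩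
  refine ⟨u₁ * u₀⁻¹, k, Subtype.ext ?_⟩
  show a.1 = GeneralLinearGroup.scalar ι (u₁ * u₀⁻¹) * ((h₁ * P * h₀⁻¹) * a₀.1 * ((galT hσ k).1)⁻¹)
  rw [galT_val, show k.1 = h₁ * P * h₀⁻¹ from rfl]
  set U := Units.map (RingHom.toMonoidHom (σ.toRingHom.mapMatrix (m := ι)))
  rw [map_mul U, map_mul U, hPfix, map_inv U, ha, ha₀, map_mul (GeneralLinearGroup.scalar ι), map_inv (GeneralLinearGroup.scalar ι)]
  set s₁ := GeneralLinearGroup.scalar ι u₁
  set s₀ := GeneralLinearGroup.scalar ι u₀ with hs₀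
  have hc : ∀ g : GL ι F, g * s₀ = s₀ * g := fun g =>
    (Units.ext ((Matrix.scalar_commute (u₀ : F) (fun _ => Commute.all _ _) _).eq)).symm
  simp only [_root_.mul_inv_rev, inv_inv, mul_assoc]
  rw [← mul_assoc h₀⁻¹ s₀, hc, mul_assoc s₀, ← mul_assoc P s₀, hc, mul_assoc s₀, ← mul_assoc h₁ s₀, hc,
    mul_assoc s₀]
  group

end Cfsg.Agent.Lib.Classical.AutPOmega
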