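import Cfsg.Agent.Lib.Classical.AutPOmega.MinusAut

/-!
Automorphisms of `PΩ`, part 17: the outer automorphism groups of the minus-type groups.
-/

set_option autoImplicit false

namespace Cfsg.Agent.Lib.Classical.AutPOmega

open QuadraticMap (polarBilin)
open Cfsg.Agent.Lib.Geometry (sqClass sqClass_eq_one_iff sqClass_eq_neg_one_iff)
open Matrix

attribute [-simp] QuadraticMap.polarBilin_apply_apply

variable {F : Type*} [Field F] [Fintype F]

section Generic

variable {ι : Type} [Fintype ι] [DecidableEq ι] {R : QuadraticForm F (ι → F)}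

/-- The class modulo inner automorphisms. -/
noncomputable def outMk (R : QuadraticForm F (ι → F)) :
    MulAut (Cfsg.POmega F ⇑R) →* Cfsg.Out (Cfsg.POmega F ⇑R) := QuotientGroup.mk' _

theorem outMk_eq_iff (x y : MulAut (Cfsg.POmega F ⇑R)) :
    outMk R x = outMk R y ↔ x⁻¹ * y ∈ Cfsg.Inn (Cfsg.POmega F ⇑R) := QuotientGroup.eq

theorem outMk_eq_one_iff (x : MulAut (Cfsg.POmega F ⇑R)) :
    outMk R x = 1 ↔ x ∈ Cfsg.Inn (Cfsg.POmega F ⇑R) := QuotientGroup.eq_one_iff x

/-- The field part on outer automorphisms. -/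
noncomputable def outGal (hM : Model R) : Cfsg.Out (Cfsg.POmega F ⇑R) →* (F ≃+* F) :=
  QuotientGroup.lift _ (galPart hM) (fun x hx => by rw [ker_galPart]; exact inn_le_range hx)

theorem outGal_mk (hM : Model R) (x : MulAut (Cfsg.POmega F ⇑R)) : outGal hM (outMk R x) = galPart hM x := rfl

theorem card_out_mul (hM : Model R) :
    Nat.card (Cfsg.Out (Cfsg.POmega F ⇑R)) * Nat.card (Cfsg.POmega F ⇑R) =
      Nat.card (MulAut (Cfsg.POmega F ⇑R)) := by
  have := Subgroup.card_eq_card_quotient_mul_card_subgroup (Cfsg.Inn (Cfsg.POmega F ⇑R))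
  rw [card_inn hM] at this
  exact this.symm

theorem galPart_dia (hM : Model R) (g : Cfsg.Geo.quadSimilarityGroup (F := F) ⇑R) :
    galPart hM (dia R g) = 1 := by
  rw [dia_apply, galPart_semAut]

end Generic

variable {m : ℕ} {a b : F}

theorem exists_generator {p f : ℕ} [Fact p.Prime] [CharP F p] (hF : Fintype.card F = p ^ f) (hf : 1 ≤ f)
    (hm : 3 ≤ m) (hab : ∀ z₁ z₂ : F, z₁ ^ 2 + a * z₁ * z₂ + b * z₂ ^ 2 = 0 → z₁ = 0 ∧ z₂ = 0) :
    ∃ (g : GL ((Fin m ⊕ Fin m) ⊕ Fin 2) F) (hp : Cfsg.IsSemisimilarityPair (⇑(minusR m a b)) g (frobeniusEquiv F p)),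
      (∀ v, minusR m a b ((g : Matrix ((Fin m ⊕ Fin m) ⊕ Fin 2) ((Fin m ⊕ Fin m) ⊕ Fin 2) F) *ᵥ
        fun i => frobeniusEquiv F p (v i)) = frobeniusEquiv F p (minusR m a b v)) ∧
      orderOf (galPart (model_minus hm hab) (semAut g _ hp)) = f ∧
      ∃ w, minusR m a b w ≠ 0 ∧
        semAut g _ hp ^ f = dia (minusR m a b) (isoG (minusR m a b) (reflI (minusR m a b) w)) := by
  obtain ⟨g, hg, hw, hit⟩ := exists_frobL (m := m) hF hab
  have hp : Cfsg.IsSemisimilarityPair (⇑(minusR m a b)) g (frobeniusEquiv F p) :=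
    ⟨1, fun v => by rw [Units.val_one, one_mul]; exact hg v⟩
  refine ⟨g, hp, hg, by rw [galPart_semAut, orderOf_frob hF hf], _, hw, ?_⟩
  obtain ⟨gk, hk, e, hv⟩ := semAut_pow hp f
  rw [e, dia_apply]
  have h1 : frobeniusEquiv F p ^ f = 1 := by
    conv_lhs => rw [← orderOf_frob hF hf (F := F)]
    exact pow_orderOf_eq_one _
  refine semAut_congr _ _ (Units.ext (Matrix.ext_of_mulVec_single fun i => ?_)) h1
  have hs : (fun l => (frobeniusEquiv F p ^ f) ((Pi.single i (1 : F) : (Fin m ⊕ Fin m) ⊕ Fin 2 → F) l)) =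
      Pi.single i 1 := funext fun l => by rw [h1]; rfl
  conv_lhs => rw [← hs, hv]
  rw [hit]
  rfl

theorem out_minus_two {f : ℕ} (hF : Fintype.card F = 2 ^ f) (hf : 1 ≤ f) (hm : 3 ≤ m)
    (hab : ∀ z₁ z₂ : F, z₁ ^ 2 + a * z₁ * z₂ + b * z₂ ^ 2 = 0 → z₁ = 0 ∧ z₂ = 0) :
    IsCyclic (Cfsg.Out (Cfsg.POmega F ⇑(minusR m a b))) ∧
      Nat.card (Cfsg.Out (Cfsg.POmega F ⇑(minusR m a b))) = 2 * f := by
  haveI : Fact (Nat.Prime 2) := ⟨Nat.prime_two⟩
  haveI : CharP F 2 := charP_of_card_eq_prime_pow hF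
  have hM := model_minus hm hab
  set R := minusR m a b
  haveI : Finite (MulAut (Cfsg.POmega F ⇑R)) := Finite.of_injective _ DFunLike.coe_injective
  have hcard : Nat.card (Cfsg.Out (Cfsg.POmega F ⇑R)) = 2 * f := by
    have h := card_out_mul hM
    rw [card_mulAut_minus hF hf hm hab, if_pos rfl] at h
    exact Nat.eq_of_mul_eq_mul_right Nat.card_pos h
  obtain ⟨g, hp, -, hπ, w, hw, hpow⟩ := exists_generator hF hf hm hab
  set s := outMk R (semAut g _ hp)
  have hsf : s ^ f ≠ 1 := by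
    rw [← map_pow, hpow, Ne, outMk_eq_one_iff]
    intro h
    obtain ⟨v, hv⟩ := hM.exists_one
    have hnot : reflI R w ∉ Cfsg.Omega F ⇑R := by
      have htop := Geometry.closure_refl_eq_top R hM.nondeg (Or.inr (by
        rw [Module.finrank_fintype_fun_eq_card, card_minus_index]; omega))
      intro hmem
      let D : Cfsg.isometryGroup F ⇑R →* ℤˣ :=
        (Geometry.dicksonHom R hM.nondeg htop).comp (Geometry.isometryEquiv R).toMonoidHom
      have h1 : D (reflI R w) = 1 := Abelianization.commutator_subset_ker D hmem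
      have h2 : D (reflI R w) = -1 := by
        show Geometry.dicksonHom R hM.nondeg htop (Geometry.isometryEquiv R (reflI R w)) = -1
        rw [reflI, MulEquiv.apply_symm_apply, Geometry.dicksonHom_refl R hM.nondeg htop hw]
      rw [h1] at h2
      exact absurd h2 (by decide)
    have hz : negOne R = 1 := Subtype.ext (by
      show GeneralLinearGroup.scalar _ (-1 : Fˣ) = 1
      rw [show (-1 : Fˣ) = 1 from Units.ext (by rw [Units.val_neg, Units.val_one, CharTwo.neg_eq]), map_one])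
    rcases (dia_iso_mem_inn_iff hM (v := v) (by rw [hv]; exact one_ne_zero) _).mp h with h | h
    · exact hnot h
    · rw [hz, mul_one] at h; exact hnot h
  have hord : orderOf s = 2 * f := by
    have h1 : orderOf s ∣ 2 * f := hcard ▸ orderOf_dvd_natCard s
    have h2 : f ∣ orderOf s := by
      have := orderOf_map_dvd (outGal hM) s
      rwa [outGal_mk, hπ] at this
    obtain ⟨k, hk⟩ := h2
    rw [hk, mul_comm 2] at h1
    rcases (Nat.dvd_prime Nat.prime_two).mp ((Nat.mul_dvd_mul_iff_left (by omega)).mp h1) with rfl | rfl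
    · exfalso
      apply hsf
      rw [show f = orderOf s by omega]
      exact pow_orderOf_eq_one s
    · omega
  exact ⟨isCyclic_of_orderOf_eq_card s (hord.trans hcard.symm), hcard⟩

theorem out_minus_odd {p f : ℕ} [Fact p.Prime] (hF : Fintype.card F = p ^ f) (hf : 1 ≤ f) (hp2 : p ≠ 2)
    (hm : 3 ≤ m) (hab : ∀ z₁ z₂ : F, z₁ ^ 2 + a * z₁ * z₂ + b * z₂ ^ 2 = 0 → z₁ = 0 ∧ z₂ = 0) :
    (p ^ f % 4 = 3 ∧ Odd (m + 1) →
      Nonempty (Cfsg.Out (Cfsg.POmega F ⇑(minusR m a b)) ≃* DihedralGroup 4 × Multiplicative (ZMod f))) ∧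
    (¬ (p ^ f % 4 = 3 ∧ Odd (m + 1)) →
      Nonempty (Cfsg.Out (Cfsg.POmega F ⇑(minusR m a b)) ≃* Multiplicative (ZMod 2 × ZMod (2 * f)))) := by
  haveI : CharP F p := charP_of_card_eq_prime_pow hF
  haveI : Finite (F ≃+* F) := Finite.of_injective (fun e : F ≃+* F => (e : F → F)) DFunLike.coe_injective
  have hpodd : Odd p := (Fact.out : p.Prime).odd_of_ne_two hp2
  have hodd : Odd (Fintype.card F) := hF ▸ hpodd.pow
  have h2 := odd_two_ne_zero hodd
  have hM := model_minus hm hab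
  have hι := card_minus_index m
  have hn : 2 ≤ Fintype.card ((Fin m ⊕ Fin m) ⊕ Fin 2) := by omega
  haveI : Finite (MulAut (Cfsg.POmega F ⇑(minusR m a b))) := Finite.of_injective _ DFunLike.coe_injective
  set R := minusR m a b
  set S := spinH hM.nondeg h2 with hS
  set cl : Cfsg.Geo.quadSimilarityGroup (F := F) ⇑R →* Cfsg.Out (Cfsg.POmega F ⇑R) := (outMk R).comp (dia R)
  obtain ⟨g, hp, hgR, hπ, w, hw, hpow⟩ := exists_generator hF hf hm hab
  set s := outMk R (semAut g _ hp) with hs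
  have hπcl : ∀ x, outGal hM (cl x) = 1 := fun x => galPart_dia hM x
  have hreflinv : ∀ v, R v ≠ 0 → ((reflI R v : GL ((Fin m ⊕ Fin m) ⊕ Fin 2) F) :
      Matrix ((Fin m ⊕ Fin m) ⊕ Fin 2) ((Fin m ⊕ Fin m) ⊕ Fin 2) F).det = -1 ∧ S (reflI R v) = sqClass (R v) :=
    fun v hv => ⟨by rw [reflI_matrix, Geometry.det_reflectionMatrix R hv],
      spinH_reflection hM.nondeg h2 hv (reflI_matrix v)⟩
  have hne1 : (-1 : F) ≠ 1 := fun h => h2 (by linear_combination -h)
  have hrefl_ne : ∀ v, R v ≠ 0 → cl (isoG R (reflI R v)) ≠ 1 := fun v hv h => by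
    have := det_eq_of_dia_mem_inn hM hι ((outMk_eq_one_iff _).mp h)
    rw [(hreflinv v hv).1] at this
    exact hne1 this
  have hrefl_sq : ∀ v, cl (isoG R (reflI R v)) * cl (isoG R (reflI R v)) = 1 := fun v => by
    rw [← map_mul, ← map_mul, reflI_mul_self, map_one, map_one]
  have hsf : s ^ f = cl (isoG R (reflI R w)) := by rw [hs, ← map_pow, hpow]; rfl
  have hcl_eq : ∀ k k' : Cfsg.isometryGroup F ⇑R,
      ((k : GL ((Fin m ⊕ Fin m) ⊕ Fin 2) F) : Matrix ((Fin m ⊕ Fin m) ⊕ Fin 2) ((Fin m ⊕ Fin m) ⊕ Fin 2) F).det =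
      ((k' : GL ((Fin m ⊕ Fin m) ⊕ Fin 2) F) : Matrix ((Fin m ⊕ Fin m) ⊕ Fin 2) ((Fin m ⊕ Fin m) ⊕ Fin 2) F).det →
      S k = S k' → cl (isoG R k) = cl (isoG R k') := fun k k' hd hk =>
    (outMk_eq_iff _ _).mpr (dia_inv_mul_mem_inn hM h2 hι hn hd hk)
  obtain ⟨α, hα⟩ := FiniteField.exists_nonsquare (F := F) (fun e => h2 (by
    haveI := (ringChar.eq_iff).mp e; exact CharTwo.two_eq_zero))
  have hiso_ne : ∀ (d : Cfsg.Geo.quadSimilarityGroup (F := F) ⇑R) (k : Cfsg.isometryGroup F ⇑R),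
      ¬ IsSquare (multS hM d : F) → cl d ≠ cl (isoG R k) := by
    intro d k hd h
    obtain ⟨y, hy⟩ := (outMk_eq_iff _ _).mp h
    obtain ⟨t, rfl⟩ := QuotientGroup.mk'_surjective _ y
    have h' : dia R (omG R t) = dia R (d⁻¹ * isoG R k) := by
      rw [map_mul, map_inv]; exact (dia_omG t).trans hy
    obtain ⟨u, hu⟩ := (dia_eq_one_iff hM ((omG R t)⁻¹ * (d⁻¹ * isoG R k))).mp (by
      rw [map_mul, map_inv, h', inv_mul_cancel])
    have hu' : d⁻¹ * isoG R k = omG R t * scG R u := inv_mul_eq_iff_eq_mul.mp (Subtype.ext hu)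
    have hmi : ∀ k, multS hM (isoG R k) = 1 := fun k =>
      Units.ext (multS_eq hM fun v => (k.2 v v).trans (one_mul _).symm)
    have := congrArg (multS hM) hu'
    rw [map_mul, map_mul, map_inv, hmi, multS_scG, show multS hM (omG R t) = 1 from hmi t.1, one_mul, mul_one,
      inv_eq_iff_eq_inv, mul_inv] at this
    exact hd ⟨((u⁻¹ : Fˣ) : F), by rw [this, Units.val_mul]⟩
  constructor
  · intro hA
    have hq : Fintype.card F % 4 = 3 := hF ▸ hA.1
    have hz : S (negOne R) = 1 := spinH_omega hM.nondeg h2 hn ((negOne_mem_iff hm hab hodd).mpr ⟨hq, hA.2⟩)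
    have hns : ¬ IsSquare (-1 : F) := by
      rw [FiniteField.isSquare_neg_one_iff]; omega
    have hfodd : Odd f := by
      by_contra hev
      rw [Nat.not_odd_iff_even] at hev
      obtain ⟨k, rfl⟩ := hev
      have h1 := hA.1
      rw [← two_mul, pow_mul, Nat.pow_mod] at h1
      have : p % 4 = 1 ∨ p % 4 = 3 := by obtain ⟨t, ht⟩ := hpodd; omega
      have h3 : p ^ 2 % 4 = 1 := by rcases this with e | e <;> rw [Nat.pow_mod, e]
      rw [h3] at h1
      simp at h1
    obtain ⟨v₁, hv₁⟩ := hM.exists_one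
    obtain ⟨h, hh⟩ := minus_multS_surjective hm hab (-1)
    set v₂ := ((h.1 : GL ((Fin m ⊕ Fin m) ⊕ Fin 2) F) :
      Matrix ((Fin m ⊕ Fin m) ⊕ Fin 2) ((Fin m ⊕ Fin m) ⊕ Fin 2) F) *ᵥ v₁
    have hv₂ : R v₂ = -1 := by rw [multS_spec hM, hh, hv₁, Units.val_neg, Units.val_one, mul_one]
    have hv₁0 : R v₁ ≠ 0 := by rw [hv₁]; exact one_ne_zero
    have hv₂0 : R v₂ ≠ 0 := by rw [hv₂]; exact neg_ne_zero.mpr one_ne_zero
    set r₁ := cl (isoG R (reflI R v₁)) with hr₁
    set r₂ := cl (isoG R (reflI R v₂)) with hr₂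
    set η := cl h with hη
    set z := r₁ * r₂ with hzdef
    have hr12 : r₁ * r₂ = r₂ * r₁ := by
      rw [← map_mul, ← map_mul, ← map_mul, ← map_mul]
      exact hcl_eq _ _ (by simp only [Subgroup.coe_mul, Units.val_mul, Matrix.det_mul]; ring)
        (by rw [map_mul, map_mul, mul_comm])
    have hz1 : z ≠ 1 := by
      rw [hzdef, hr₁, hr₂, ← map_mul, ← map_mul]
      intro e
      have := spin_eq_of_dia_mem_inn hM h2 hn hz ((outMk_eq_one_iff _).mp e)
      rw [map_mul, (hreflinv _ hv₁0).2, (hreflinv _ hv₂0).2, hv₁, hv₂, sqClass_eq_one_iff.mpr IsSquare.one,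
        sqClass_eq_neg_one_iff.mpr hns] at this
      exact absurd this (by decide)
    have hzz : z * z = 1 := by
      rw [hzdef]; nth_rewrite 2 [hr12]
      rw [← mul_assoc, mul_assoc r₁, hrefl_sq, mul_one, hrefl_sq]
    have hηr : η * r₁ = r₂ * η := by
      show outMk R (dia R h) * outMk R (dia R _) = outMk R (dia R _) * outMk R (dia R h)
      rw [← map_mul, ← map_mul]
      refine congrArg (outMk R) ?_
      have hconj := semAut_conj_refl (R := R) (pair_of_sim h.2) v₁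
      rw [← dia_apply] at hconj
      rw [map_mul (dia R)]
      exact hconj
    have hη2 : η * η = 1 ∨ η * η = z := by
      have hmu : multS hM (h * h) = 1 * 1 := by rw [map_mul, hh, one_mul, neg_mul_neg, one_mul]
      obtain ⟨k, hk⟩ := exists_iso_of_multS hM hmu
      have hdk : ((k : GL ((Fin m ⊕ Fin m) ⊕ Fin 2) F) :
          Matrix ((Fin m ⊕ Fin m) ⊕ Fin 2) ((Fin m ⊕ Fin m) ⊕ Fin 2) F).det = 1 := by
        have hd := det_sq_eq hM.nondeg (g := h.1) (c := -1) (fun v => by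
          rw [multS_spec hM, hh, Units.val_neg, Units.val_one])
        rw [hι, pow_mul, neg_one_sq, one_pow] at hd
        have := congrArg (fun x : Cfsg.Geo.quadSimilarityGroup (F := F) ⇑R => ((x.1 : GL ((Fin m ⊕ Fin m) ⊕ Fin 2) F) :
          Matrix ((Fin m ⊕ Fin m) ⊕ Fin 2) ((Fin m ⊕ Fin m) ⊕ Fin 2) F).det) hk
        simp only [Subgroup.coe_mul, Units.val_mul, Matrix.det_mul] at this
        rw [hd, show ((scG R (1 : Fˣ)).1 : GL ((Fin m ⊕ Fin m) ⊕ Fin 2) F) = 1 from map_one _] at this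
        simpa [isoG] using this.symm
      rw [hη, ← map_mul, hk, map_one, one_mul]
      rcases Int.units_eq_one_or (S k) with e | e
      · left
        rw [← map_one cl, ← map_one (isoG R)]
        exact hcl_eq _ _ (by rw [hdk, OneMemClass.coe_one, Units.val_one, Matrix.det_one]) (by rw [e, map_one])
      · right
        rw [hzdef, hr₁, hr₂, ← map_mul, ← map_mul]
        refine hcl_eq _ _ ?_ ?_
        · rw [hdk, Subgroup.coe_mul, Units.val_mul, Matrix.det_mul, (hreflinv _ hv₁0).1, (hreflinv _ hv₂0).1,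
            neg_mul_neg, one_mul]
        · rw [e, map_mul, (hreflinv _ hv₁0).2, (hreflinv _ hv₂0).2, hv₁, hv₂, sqClass_eq_one_iff.mpr IsSquare.one,
            sqClass_eq_neg_one_iff.mpr hns, one_mul]
    have hηne : ∀ k, η ≠ cl (isoG R k) := fun k => hiso_ne h k (by
      rw [hh, Units.val_neg, Units.val_one]; exact hns)
    have hr₁i : r₁⁻¹ = r₁ := inv_eq_of_mul_eq_one_left (hrefl_sq _)
    have hr₂z : r₁ * z = r₂ := by rw [hzdef, ← mul_assoc, hrefl_sq, one_mul]
    have hzr : z * r₁ = r₁ * z := by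
      rw [hr₂z, hzdef, mul_assoc, ← hr12, ← mul_assoc, hrefl_sq, one_mul]
    -- the rotation
    obtain ⟨ρ, hρ2, hρc, hρne⟩ : ∃ ρ, ρ * ρ = z ∧ r₁ * ρ * r₁ = ρ⁻¹ ∧ (∀ k, ρ ≠ cl (isoG R k)) ∧
        (ρ = η ∨ ρ = η * r₁) := by
      rcases hη2 with e | e
      · refine ⟨η * r₁, ?_, ?_, fun k hk => ?_, Or.inr rfl⟩
        · calc η * r₁ * (η * r₁) = r₂ * (η * η) * r₁ := by rw [← mul_assoc, hηr]; group
            _ = z := by rw [e, mul_one, hzdef, hr12]
        · rw [mul_assoc, mul_assoc, hrefl_sq, mul_one, _root_.mul_inv_rev, hr₁i, inv_eq_of_mul_eq_one_left e]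
        · refine hηne (k * reflI R v₁) ?_
          rw [map_mul, map_mul, ← hk, ← hr₁, mul_assoc, hrefl_sq, mul_one]
      · refine ⟨η, e, ?_, hηne, Or.inl rfl⟩
        have hηz : η * z = z * η := by rw [← e, mul_assoc]
        refine eq_inv_of_mul_eq_one_left ?_
        have h3 : r₂ * η * r₂ = η * (r₁ * r₂) := by rw [← hηr, mul_assoc]
        have h4 : r₁ * η = η * r₂ := by
          apply mul_left_cancel (a := η)
          calc η * (r₁ * η) = r₂ * (η * η) := by rw [← mul_assoc, hηr, mul_assoc]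
            _ = r₂ * z := by rw [e]
            _ = r₁ := by rw [hzdef, hr12, ← mul_assoc, hrefl_sq, one_mul]
            _ = z * r₂ := by rw [hzdef, mul_assoc, hrefl_sq, mul_one]
            _ = η * (η * r₂) := by rw [← e, mul_assoc]
        calc r₁ * η * r₁ * η = η * r₂ * r₁ * η := by rw [h4]
          _ = η * z * η := by rw [mul_assoc η r₂, hzdef, hr12]
          _ = z * (η * η) := by rw [hηz, mul_assoc]
          _ = 1 := by rw [e, hzz]
    have hρ4 : ρ ^ 4 = 1 := by
      rw [show (4 : ℕ) = 2 + 2 from rfl, pow_add, pow_two, hρ2, hzz]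
    have hy1 : ∀ i : ℕ, r₁ ≠ ρ ^ i := by
      intro i e
      rw [← Nat.mod_add_div i 4, pow_add, pow_mul, hρ4, one_pow, mul_one] at e
      have hi : i % 4 < 4 := Nat.mod_lt _ (by norm_num)
      rcases hρne with ⟨hρne, -⟩
      interval_cases hi' : i % 4
      · exact hrefl_ne _ hv₁0 (e.trans (pow_zero _))
      · exact hρne _ (e.trans (pow_one _)).symm
      · rw [pow_two, hρ2] at e
        exact hrefl_ne _ hv₂0 (by
          rw [← hr₂, ← hr₂z, ← e, hrefl_sq])
      · refine hρne (reflI R v₂) ?_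
        have : ρ = r₁ * z := by
          rw [e, ← hρ2, ← pow_two, ← pow_add, show 3 + 2 = 4 + 1 from rfl, pow_succ, hρ4, one_mul]
        rw [this, hr₂z]
    have hs2f : s ^ (2 * f) = 1 := by rw [two_mul, pow_add, hsf, hrefl_sq]
    have hsr : ∀ v, R v ≠ 0 → s * cl (isoG R (reflI R v)) = cl (isoG R (reflI R v)) * s := by
      intro v hv
      show outMk R (semAut g _ hp) * outMk R (dia R _) = _
      rw [← map_mul, semAut_conj_refl hp v, map_mul]
      refine congrArg (· * s) (hcl_eq _ _ ?_ ?_)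
      · have hv' : R ((g : Matrix ((Fin m ⊕ Fin m) ⊕ Fin 2) ((Fin m ⊕ Fin m) ⊕ Fin 2) F) *ᵥ
            fun i => frobeniusEquiv F p (v i)) ≠ 0 := by
          rw [hgR]; exact (map_ne_zero _).mpr hv
        rw [(hreflinv _ hv').1, (hreflinv _ hv).1]
      · have hv' : R ((g : Matrix ((Fin m ⊕ Fin m) ⊕ Fin 2) ((Fin m ⊕ Fin m) ⊕ Fin 2) F) *ᵥ
            fun i => frobeniusEquiv F p (v i)) ≠ 0 := by
          rw [hgR]; exact (map_ne_zero _).mpr hv
        rw [(hreflinv _ hv').2, (hreflinv _ hv).2, hgR, frobeniusEquiv_apply, frobenius_def]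
        by_cases hsq : IsSquare (R v)
        · rw [sqClass_eq_one_iff.mpr hsq, sqClass_eq_one_iff.mpr (hsq.pow _)]
        · rw [sqClass_eq_neg_one_iff.mpr hsq, sqClass_eq_neg_one_iff.mpr fun hsq' => hsq ?_]
          obtain ⟨t, ht⟩ := hpodd
          rw [ht, pow_succ, pow_mul', pow_two] at hsq'
          have := hsq'.mul (IsSquare.mul_self (R v ^ t)⁻¹)
          rwa [show R v ^ t * R v ^ t * R v * ((R v ^ t)⁻¹ * (R v ^ t)⁻¹) = R v by field_simp] at this
    obtain ⟨k₀, hk₀⟩ : ∃ k, s * η = cl (isoG R k) * η * s := by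
      have hmem : semGL g (frobeniusEquiv F p) h.1 ∈ Cfsg.Geo.quadSimilarityGroup (F := F) ⇑R := by
        refine ⟨-1, fun v => ?_⟩
        obtain ⟨x, rfl⟩ := semi_surjective g (frobeniusEquiv F p) v
        rw [semGL_mulVec, hgR, hgR, multS_spec hM, hh, map_mul, Units.val_neg, Units.val_one, map_neg, map_one]
      set h' : Cfsg.Geo.quadSimilarityGroup (F := F) ⇑R := ⟨_, hmem⟩
      obtain ⟨k, hk⟩ := exists_iso_of_multS hM (g := h' * h⁻¹) (u := 1) (by
        rw [map_mul, map_inv, hh, one_mul, show multS hM h' = -1 from Units.ext (multS_eq hM (g := h') (fun v => by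
          obtain ⟨x, rfl⟩ := semi_surjective g (frobeniusEquiv F p) v
          show R (((semGL g (frobeniusEquiv F p) h.1 : GL ((Fin m ⊕ Fin m) ⊕ Fin 2) F) :
            Matrix ((Fin m ⊕ Fin m) ⊕ Fin 2) ((Fin m ⊕ Fin m) ⊕ Fin 2) F) *ᵥ _) = _
          rw [semGL_mulVec, hgR, hgR, multS_spec hM, hh, map_mul, Units.val_neg, Units.val_one, map_neg, map_one])),
          mul_inv_cancel])
      refine ⟨k, ?_⟩
      show outMk R (semAut g _ hp) * outMk R (dia R h) = _
      rw [← map_mul, semAut_conj_dia hp h h' (fun v => semGL_mulVec g _ _ v), map_mul]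
      refine congrArg (· * s) ?_
      show cl h' = cl (isoG R k) * cl h
      rw [← map_mul]
      refine congrArg cl ?_
      rw [map_one, one_mul] at hk
      rw [← hk, inv_mul_cancel_right]
    have hVcomm : ∀ k : Cfsg.isometryGroup F ⇑R, s * cl (isoG R k) = cl (isoG R k) * s ∧
        cl (isoG R k) * cl (isoG R k) = 1 := by
      intro k
      rcases sq_eq_one_iff.mp (Geometry.det_isometry_sq R hM.nondeg k) with hd | hd <;>
        rcases Int.units_eq_one_or (S k) with e | e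
      · rw [show cl (isoG R k) = 1 by
          rw [← map_one cl, ← map_one (isoG R)]
          exact hcl_eq _ _ (by rw [hd, OneMemClass.coe_one, Units.val_one, Matrix.det_one]) (by rw [e, map_one])]
        exact ⟨by rw [mul_one, one_mul], one_mul 1⟩
      · rw [show cl (isoG R k) = z by
          rw [hzdef, hr₁, hr₂, ← map_mul, ← map_mul]
          exact hcl_eq _ _ (by rw [hd, Subgroup.coe_mul, Units.val_mul, Matrix.det_mul, (hreflinv _ hv₁0).1,
            (hreflinv _ hv₂0).1, neg_mul_neg, one_mul]) (by rw [e, map_mul, (hreflinv _ hv₁0).2, (hreflinv _ hv₂0).2,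
            hv₁, hv₂, sqClass_eq_one_iff.mpr IsSquare.one, sqClass_eq_neg_one_iff.mpr hns, one_mul])]
        exact ⟨by rw [hzdef, ← mul_assoc, hsr _ hv₁0, mul_assoc, hsr _ hv₂0, ← mul_assoc], hzz⟩
      · rw [show cl (isoG R k) = r₁ from hcl_eq _ _ (by rw [hd, (hreflinv _ hv₁0).1])
          (by rw [e, (hreflinv _ hv₁0).2, hv₁, sqClass_eq_one_iff.mpr IsSquare.one])]
        exact ⟨hsr _ hv₁0, hrefl_sq _⟩
      · rw [show cl (isoG R k) = r₂ from hcl_eq _ _ (by rw [hd, (hreflinv _ hv₂0).1])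
          (by rw [e, (hreflinv _ hv₂0).2, hv₂, sqClass_eq_neg_one_iff.mpr hns])]
        exact ⟨hsr _ hv₂0, hrefl_sq _⟩
    have hs2η : s * s * η = η * (s * s) := by
      rw [mul_assoc, hk₀, ← mul_assoc, ← mul_assoc, (hVcomm k₀).1, mul_assoc (cl (isoG R k₀)), hk₀,
        ← mul_assoc (cl (isoG R k₀)), ← mul_assoc (cl (isoG R k₀)), (hVcomm k₀).2, one_mul]
      group
    have hs2r : s * s * r₁ = r₁ * (s * s) := by
      rw [mul_assoc, hsr _ hv₁0, ← mul_assoc, hsr _ hv₁0, mul_assoc]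
    have hcρ : Commute (s * s) ρ := by
      rcases hρne.2 with e | e <;> rw [e]
      · exact hs2η
      · exact Commute.mul_right (b := η) hs2η hs2r
    have hcard : Nat.card (Cfsg.Out (Cfsg.POmega F ⇑R)) = 8 * f := by
      have hh := card_out_mul hM
      rw [card_mulAut_minus hF hf hm hab, if_neg hp2, if_pos hA] at hh
      exact Nat.eq_of_mul_eq_mul_right Nat.card_pos hh
    refine iso_dihedral_prod_cyclic (outGal hM) (ρ := ρ) (y := r₁) (c := s * s) hf hcard ?_ hρ4 (hrefl_sq _) hρc hy1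
      hcρ hs2r ?_ ?_ ?_ ?_
    · rw [pow_two, hρ2]; exact hz1
    · rw [← pow_two, ← pow_mul]; exact hs2f
    · rcases hρne.2 with e | e <;> rw [e]
      · exact hπcl h
      · rw [map_mul, hπcl h, hπcl, one_mul]
    · exact hπcl _
    · rw [← pow_two, map_pow, hs, outGal_mk, orderOf_pow, hπ]
      rw [Nat.Coprime.gcd_eq_one (Nat.coprime_two_right.mpr hfodd), Nat.div_one]
  · intro hB
    have hz : S (negOne R) = -1 := by
      rcases Int.units_eq_one_or (S (negOne R)) with e | e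
      · exact absurd ((mem_omega_det_iff hM.nondeg h2 hn _).mpr ⟨det_negOne_even hι, e⟩)
          (fun h => hB (hF ▸ (negOne_mem_iff hm hab hodd).mp h))
      · exact e
    have hcard : Nat.card (Cfsg.Out (Cfsg.POmega F ⇑R)) = 4 * f := by
      have hh := card_out_mul hM
      rw [card_mulAut_minus hF hf hm hab, if_neg hp2, if_neg hB] at hh
      exact Nat.eq_of_mul_eq_mul_right Nat.card_pos hh
    have hinn : ∀ (x : Cfsg.Geo.quadSimilarityGroup (F := F) ⇑R) (u : Fˣ), multS hM x = u * u →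
        (x.1 : Matrix ((Fin m ⊕ Fin m) ⊕ Fin 2) ((Fin m ⊕ Fin m) ⊕ Fin 2) F).det = (multS hM x : F) ^ (m + 1) →
        cl x = 1 := by
      intro x u hu hd
      obtain ⟨k, rfl⟩ := exists_iso_of_multS hM hu
      rw [hu] at hd
      have hdk : ((k : GL ((Fin m ⊕ Fin m) ⊕ Fin 2) F) :
          Matrix ((Fin m ⊕ Fin m) ⊕ Fin 2) ((Fin m ⊕ Fin m) ⊕ Fin 2) F).det = 1 := by
        change (Matrix.scalar ((Fin m ⊕ Fin m) ⊕ Fin 2) (u : F) * _).det = _ at hd
        rw [Matrix.det_mul, Matrix.scalar_apply, Matrix.det_diagonal, Finset.prod_const, Finset.card_univ, hι,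
          Units.val_mul, ← pow_two, ← pow_mul] at hd
        exact mul_left_cancel₀ (pow_ne_zero _ u.ne_zero) (hd.trans (mul_one _).symm)
      show outMk R (dia R (scG R u * isoG R k)) = 1
      rw [map_mul, (dia_eq_one_iff hM (scG R u)).mpr ⟨u, rfl⟩, one_mul, outMk_eq_one_iff]
      exact dia_mem_inn_of_det hM h2 hι hn hdk (Or.inr hz)
    have hα0 : α ≠ 0 := fun e => hα (e ▸ IsSquare.zero)
    obtain ⟨h, hh⟩ := minus_multS_surjective hm hab (Units.mk0 α hα0)
    set η := cl h with hη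
    have hdh : (h.1 : Matrix ((Fin m ⊕ Fin m) ⊕ Fin 2) ((Fin m ⊕ Fin m) ⊕ Fin 2) F).det *
        (h.1 : Matrix ((Fin m ⊕ Fin m) ⊕ Fin 2) ((Fin m ⊕ Fin m) ⊕ Fin 2) F).det = α ^ (m + 1) * α ^ (m + 1) := by
      rw [det_sq_eq hM.nondeg (g := h.1) (c := α) (fun v => by rw [multS_spec hM, hh, Units.val_mk0]), hι, two_mul,
        pow_add]
    have hη2 : η * η = 1 := by
      rw [hη, ← map_mul]
      refine hinn _ (Units.mk0 α hα0) (by rw [map_mul, hh]) ?_
      rw [map_mul, Units.val_mul, hh, Units.val_mk0, Subgroup.coe_mul, Units.val_mul, Matrix.det_mul, hdh, mul_pow]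
    have hcomm : Commute η s := by
      have hmem : semGL g (frobeniusEquiv F p) h.1 ∈ Cfsg.Geo.quadSimilarityGroup (F := F) ⇑R := by
        refine ⟨Units.map (frobeniusEquiv F p : F →* F) (Units.mk0 α hα0), fun v => ?_⟩
        obtain ⟨x, rfl⟩ := semi_surjective g (frobeniusEquiv F p) v
        rw [semGL_mulVec, hgR, hgR, multS_spec hM, hh, map_mul]
        rfl
      set h' : Cfsg.Geo.quadSimilarityGroup (F := F) ⇑R := ⟨_, hmem⟩
      have hμ' : (multS hM h' : F) = α ^ p := multS_eq hM (g := h') fun v => by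
        obtain ⟨x, rfl⟩ := semi_surjective g (frobeniusEquiv F p) v
        show R (((semGL g (frobeniusEquiv F p) h.1 : GL ((Fin m ⊕ Fin m) ⊕ Fin 2) F) :
          Matrix ((Fin m ⊕ Fin m) ⊕ Fin 2) ((Fin m ⊕ Fin m) ⊕ Fin 2) F) *ᵥ _) = _
        rw [semGL_mulVec, hgR, hgR, multS_spec hM, hh, map_mul, Units.val_mk0, frobeniusEquiv_apply, frobenius_def]
      have hd' : (h'.1 : Matrix ((Fin m ⊕ Fin m) ⊕ Fin 2) ((Fin m ⊕ Fin m) ⊕ Fin 2) F).det =
          (h.1 : Matrix ((Fin m ⊕ Fin m) ⊕ Fin 2) ((Fin m ⊕ Fin m) ⊕ Fin 2) F).det ^ p := by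
        show ((semGL g (frobeniusEquiv F p) h.1 : GL ((Fin m ⊕ Fin m) ⊕ Fin 2) F) :
          Matrix ((Fin m ⊕ Fin m) ⊕ Fin 2) ((Fin m ⊕ Fin m) ⊕ Fin 2) F).det = _
        rw [semGL_coe, Matrix.det_mul, Matrix.det_mul, mul_right_comm, ← Matrix.det_mul, ← Units.val_mul,
          mul_inv_cancel, Units.val_one, Matrix.det_one, one_mul]
        exact ((frobeniusEquiv F p).toRingHom.map_det _).symm
      obtain ⟨t, ht⟩ := hpodd
      have hone : cl (h⁻¹ * h') = 1 := by
        refine hinn _ (Units.mk0 α hα0 ^ t) (Units.ext ?_) ?_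
        · rw [map_mul, map_inv, Units.val_mul, Units.val_inv_eq_inv_val, hμ', hh, Units.val_mk0, Units.val_mul,
            Units.val_pow_eq_pow_val, Units.val_mk0, ht]
          field_simp; ring
        · rw [map_mul, map_inv, Units.val_mul, Units.val_inv_eq_inv_val, hμ', hh, Units.val_mk0, Subgroup.coe_mul,
            Units.val_mul, Matrix.det_mul, Subgroup.coe_inv, Matrix.coe_units_inv, Matrix.det_nonsing_inv,
            Ring.inverse_eq_inv', hd', ht]
          have hd0 : (h.1 : Matrix ((Fin m ⊕ Fin m) ⊕ Fin 2) ((Fin m ⊕ Fin m) ⊕ Fin 2) F).det ≠ 0 :=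
            (GeneralLinearGroup.det h.1).ne_zero
          rw [show α⁻¹ * α ^ (2 * t + 1) = α ^ (2 * t) from by field_simp; ring]
          rw [pow_succ, pow_mul, pow_two, hdh, mul_pow]
          field_simp
          ring
      show η * s = s * η
      rw [show s * η = cl h' * s by
        show outMk R (semAut g _ hp) * outMk R (dia R h) = outMk R (dia R h') * outMk R (semAut g _ hp)
        rw [← map_mul, ← map_mul, semAut_conj_dia hp h h' (fun v => semGL_mulVec g _ _ v)]]
      rw [map_mul, map_inv, inv_mul_eq_one] at hone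
      rw [← hone]
    refine iso_two_prod_cyclic (outGal hM) (d := η) (s := s) hf hcard hcomm ?_ hη2 ?_ ?_ ?_ (hπcl h) ?_
    · intro e
      refine hiso_ne h 1 (by rw [hh]; exact hα) ?_
      rw [map_one, map_one]; exact e
    · rw [hsf]; exact hiso_ne h _ (by rw [hh]; exact hα)
    · rw [hsf]; exact hrefl_ne w hw
    · rw [hsf]; exact hrefl_sq w
    · rw [hs, outGal_mk]; exact hπ

end Cfsg.Agent.Lib.Classical.AutPOmega
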