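import Cfsg.Agent.Lib.Classical.AutPOmega.PlusNormal
import Cfsg.Agent.Lib.Classical.AutPOmega.MinusOut

/-!
Automorphisms of `PΩ`, part 33: diagonal isometries of the hyperbolic form, their spinor norms, and a criterion
for an extension of a group of outer classes by a cyclic group to be a direct product.
-/

set_option autoImplicit false

namespace Cfsg.Agent.Lib.Classical.AutPOmega

open QuadraticMap (polarBilin)
open Cfsg.Agent.Lib.Geometry (sqClass sqClass_eq_one_iff sqClass_eq_neg_one_iff)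
open Matrix

attribute [-simp] QuadraticMap.polarBilin_apply_apply

/-- A subgroup commuting with an element generating a complement gives a direct product. -/
theorem iso_prod_cyclic {O : Type*} [Group O] [Finite O] (A : Subgroup O) {c : O} {f : ℕ}
    (hcomm : ∀ a ∈ A, Commute a c) (hc : orderOf c = f) (hint : ∀ k : ℕ, c ^ k ∈ A → c ^ k = 1)
    (hcard : Nat.card O = Nat.card A * f) {X : Type*} [Group X] (e : A ≃* X) :
    Nonempty (O ≃* X × Multiplicative (ZMod f)) := by
  have hcomm' : ∀ (x : A) (y : Subgroup.zpowers c), Commute (A.subtype x) ((Subgroup.zpowers c).subtype y) := by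
    intro x y
    obtain ⟨k, hk⟩ := Subgroup.mem_zpowers_iff.mp y.2
    show Commute (x : O) y
    rw [← hk]
    exact (hcomm x x.2).zpow_right k
  let Φ : A × Subgroup.zpowers c →* O := MonoidHom.noncommCoprod A.subtype (Subgroup.zpowers c).subtype hcomm'
  have hinj : Function.Injective Φ := by
    rw [injective_iff_map_eq_one]
    rintro ⟨⟨x, hx⟩, ⟨y, hy⟩⟩ h
    change x * y = 1 at h
    obtain ⟨k, rfl⟩ := (mem_powers_iff_mem_zpowers (x := c)).mpr hy
    dsimp only at h
    have h' := hint k (by rw [eq_inv_of_mul_eq_one_right h]; exact A.inv_mem hx)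
    refine Prod.ext (Subtype.ext ?_) (Subtype.ext h')
    show x = 1
    rwa [h', mul_one] at h
  have hcard' : Nat.card (A × Subgroup.zpowers c) = Nat.card O := by
    rw [Nat.card_prod, Nat.card_zpowers, hc, hcard]
  have hbij : Function.Bijective Φ := (Nat.bijective_iff_injective_and_card Φ).mpr ⟨hinj, hcard'⟩
  let eC : Subgroup.zpowers c ≃* Multiplicative (ZMod f) := mulEquivOfCyclicCardEq (by
    rw [Nat.card_zpowers, hc, Nat.card_congr Multiplicative.toAdd, Nat.card_zmod])
  exact ⟨(MulEquiv.ofBijective Φ hbij).symm.trans (e.prodCongr eC)⟩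

/-- The same with a homomorphism separating the complement. -/
theorem iso_prod_cyclic_of_hom {O G : Type*} [Group O] [Finite O] [Group G] (π : O →* G) (A : Subgroup O)
    (hA : A ≤ π.ker) {c : O} {f : ℕ} (hcomm : ∀ a ∈ A, Commute a c) (hcf : c ^ f = 1)
    (hπc : orderOf (π c) = f) (hcard : Nat.card O = Nat.card A * f) {X : Type*} [Group X] (e : A ≃* X) :
    Nonempty (O ≃* X × Multiplicative (ZMod f)) := by
  have hc : orderOf c = f := Nat.dvd_antisymm (orderOf_dvd_of_pow_eq_one hcf) (hπc ▸ orderOf_map_dvd π c)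
  refine iso_prod_cyclic A hcomm hc (fun k hk => ?_) hcard e
  rw [← orderOf_dvd_iff_pow_eq_one, hc, ← hπc, orderOf_dvd_iff_pow_eq_one, ← map_pow]
  exact hA hk

variable {F : Type*} [Field F] [Fintype F] {m : ℕ}

/-- The diagonal isometries. -/
noncomputable def diagIso (m : ℕ) : (Fin m → Fˣ) →* Cfsg.isometryGroup F ⇑(plusR m F) :=
  MonoidHom.mk' (fun t => ⟨(diagSim t (fun i => (t i)⁻¹) 1 fun i => by simp).1, fun v _ => by
    show plusR m F (Matrix.diagonal _ *ᵥ v) = plusR m F v
    rw [plusR_apply, plusR_apply]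
    refine Finset.sum_congr rfl fun i _ => ?_
    rw [Matrix.mulVec_diagonal, Matrix.mulVec_diagonal, Sum.elim_inl, Sum.elim_inr,
      Units.val_inv_eq_inv_val]
    field_simp⟩) fun a b => by
    refine Subtype.ext (Units.ext ?_)
    show Matrix.diagonal _ = Matrix.diagonal _ * Matrix.diagonal _
    rw [Matrix.diagonal_mul_diagonal]
    congr 1
    funext x
    rcases x with i | i <;> simp [mul_comm]

omit [Fintype F] in
theorem diagIso_val (t : Fin m → Fˣ) :
    ((diagIso m t : GL (Fin m ⊕ Fin m) F) : Matrix (Fin m ⊕ Fin m) (Fin m ⊕ Fin m) F) =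
      Matrix.diagonal (Sum.elim (fun i => (t i : F)) fun i => (((t i)⁻¹ : Fˣ) : F)) := rfl

omit [Fintype F] in
theorem diagIso_det (t : Fin m → Fˣ) :
    ((diagIso m t : GL (Fin m ⊕ Fin m) F) : Matrix (Fin m ⊕ Fin m) (Fin m ⊕ Fin m) F).det = 1 := by
  rw [diagIso_val, Matrix.det_diagonal, Fintype.prod_sum_type, ← Finset.prod_mul_distrib]
  simp

theorem diagIso_single (i₀ : Fin m) (α : Fˣ) :
    diagIso m (Pi.mulSingle i₀ α) =
      reflI (plusR m F) (plusVec m F i₀) *
        reflI (plusR m F) (Sum.elim (Pi.single i₀ 1) (Pi.single i₀ (α : F))) := by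
  refine Subtype.ext (Units.ext ?_)
  rw [diagIso_val]
  refine Eq.trans ?_ (refl_pair_diag i₀ α).symm
  congr 1
  funext x
  rcases x with i | i <;> by_cases h : i = i₀ <;> simp [Pi.mulSingle_apply, Function.update_apply, h]

theorem diagIso_spin (hm : 3 ≤ m) (h2 : (2 : F) ≠ 0) (t : Fin m → Fˣ) :
    spinH (model0_plus (F := F) hm).nondeg h2 (diagIso m t) = ∏ i, sqc (t i) := by
  have key : (spinH (model0_plus (F := F) hm).nondeg h2).comp (diagIso m) =
      ∏ i, (sqc (F := F)).comp (Pi.evalMonoidHom (fun _ : Fin m => Fˣ) i) := by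
    refine MonoidHom.functions_ext _ _ _ fun i α => ?_
    have hw : plusR m F (Sum.elim (Pi.single i 1) (Pi.single i (α : F))) = α := by
      simp [plusR_apply, Pi.single_apply]
    rw [MonoidHom.comp_apply, diagIso_single, (det_spin_two_refl (model0_plus (F := F) hm) h2
      (v := plusVec m F i) (w := Sum.elim (Pi.single i 1) (Pi.single i (α : F)))
      (by rw [plusR_plusVec]; exact one_ne_zero) (by rw [hw]; exact α.ne_zero)).2, plusR_plusVec, hw,
      sqClass_eq_one_iff.mpr ⟨1, (one_mul 1).symm⟩, one_mul, MonoidHom.finsetProd_apply,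
      Finset.prod_eq_single i]
    · simp [sqc]
    · intro j _ hj
      simp [Pi.evalMonoidHom, Pi.mulSingle_eq_of_ne hj]
    · exact fun h => absurd (Finset.mem_univ i) h
  exact (DFunLike.congr_fun key t).trans (by simp [MonoidHom.finsetProd_apply])

omit [Fintype F] in
theorem diagSim_eq (t s : Fin m → Fˣ) (u : Fˣ) (h : ∀ i, (t i : F) * s i = ((u * u : Fˣ) : F)) :
    diagSim t s (u * u) h = scG (plusR m F) u * isoG (plusR m F) (diagIso m fun i => t i * u⁻¹) := by
  refine Subtype.ext (Units.ext ?_)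
  show Matrix.diagonal _ = Matrix.scalar _ (u : F) * Matrix.diagonal _
  rw [Matrix.scalar_apply, Matrix.diagonal_mul_diagonal]
  congr 1
  funext x
  rcases x with i | i
  · simp only [Sum.elim_inl, Units.val_mul, Units.val_inv_eq_inv_val]
    field_simp
  · have hi := h i
    rw [Units.val_mul] at hi
    simp only [Sum.elim_inr, _root_.mul_inv_rev, inv_inv, Units.val_mul, Units.val_inv_eq_inv_val]
    field_simp
    linear_combination hi

/-- When `-1` has trivial spinor norm: the diagonal similarities acting by inner automorphisms. -/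
theorem dia_diagSim_mem_inn (hm : 3 ≤ m) (h2 : (2 : F) ≠ 0)
    (hz : spinH (model0_plus (F := F) hm).nondeg h2 (negOne (plusR m F)) = 1)
    (t s : Fin m → Fˣ) (c : Fˣ) (h : ∀ i, (t i : F) * s i = c) :
    dia (plusR m F) (diagSim t s c h) ∈ Cfsg.Inn (Cfsg.POmega F ⇑(plusR m F)) ↔
      ∃ u : Fˣ, c = u * u ∧ ∏ i, sqc (t i) = sqc u ^ m := by
  have hM := model0_plus (F := F) hm
  have hn : 2 ≤ Fintype.card (Fin m ⊕ Fin m) := by rw [card_plus_index]; omega
  have hμ : multS hM (diagSim t s c h) = c := Units.ext <|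
    multS_eq hM (g := diagSim t s c h) (c := (c : F)) fun v => by
    rw [plusR_apply, plusR_apply, Finset.mul_sum]
    refine Finset.sum_congr rfl fun i _ => ?_
    show (Matrix.diagonal _ *ᵥ v) (.inl i) * (Matrix.diagonal _ *ᵥ v) (.inr i) = _
    rw [Matrix.mulVec_diagonal, Matrix.mulVec_diagonal, Sum.elim_inl, Sum.elim_inr, ← h i]
    ring
  have hspin : ∀ u : Fˣ, spinH hM.nondeg h2 (diagIso m fun i => t i * u⁻¹) = 1 ↔ ∏ i, sqc (t i) = sqc u ^ m := by
    intro u
    rw [diagIso_spin hm h2]
    simp only [map_mul, map_inv, Finset.prod_mul_distrib, Finset.prod_const, Finset.card_univ, Fintype.card_fin]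
    rw [inv_pow, mul_inv_eq_one]
  constructor
  · intro hmem
    obtain ⟨g, hg, hge⟩ := inn_le_psoImage hmem
    have hp : psiS hM h2 (card_plus_index m) (diagSim t s c h) = 1 := by
      have h1 : psiS hM h2 (card_plus_index m) ((isoG (plusR m F) g)⁻¹ * diagSim t s c h) = 1 :=
        psiS_ker_dia hM h2 _ (by rw [map_mul, map_inv, inv_mul_eq_one]; exact hge)
      rwa [map_mul, map_inv, show psiS hM h2 (card_plus_index m) (isoG (plusR m F) g) = 1 from
        (psiS_eq_one_iff hM h2 _ _).mpr ⟨1, g, by rw [map_one, one_mul], congrArg Units.val hg⟩,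
        inv_one, one_mul] at h1
    have hsq : sqClass ((multS hM (diagSim t s c h) : Fˣ) : F) = 1 := congrArg Prod.fst hp
    rw [hμ] at hsq
    obtain ⟨a, ha⟩ := sqClass_eq_one_iff.mp hsq
    have ha0 : a ≠ 0 := fun e => c.ne_zero (by rw [ha, e, mul_zero])
    obtain ⟨u, rfl⟩ : ∃ u : Fˣ, c = u * u := ⟨Units.mk0 a ha0, Units.ext ha⟩
    refine ⟨u, rfl, (hspin u).mp ?_⟩
    rw [diagSim_eq t s u h, map_mul, (dia_eq_one_iff hM (scG (plusR m F) u)).mpr ⟨u, rfl⟩, one_mul] at hmem
    exact spin_eq_of_dia_mem_inn hM h2 hn hz hmem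
  · rintro ⟨u, rfl, hu⟩
    rw [diagSim_eq t s u h, map_mul, (dia_eq_one_iff hM (scG (plusR m F) u)).mpr ⟨u, rfl⟩, one_mul]
    exact dia_mem_inn_of_det hM h2 (card_plus_index m) hn (diagIso_det _) (Or.inl ((hspin u).mpr hu))

end Cfsg.Agent.Lib.Classical.AutPOmega
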