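import Cfsg.Agent.Lib.Classical.AutPOmega.OddField

/-!
Automorphisms of `PΩ`, part 14: multipliers, determinants and spinor norms; orders.
-/

set_option autoImplicit false

namespace Cfsg.Agent.Lib.Classical.AutPOmega

open QuadraticMap (polarBilin)
open Cfsg.Agent.Lib.Geometry (quad_smul quad_add quad_polar_comm sqClass sqClass_eq_one_iff refl refl_apply
  isometryEquiv isometryEquiv_apply isometryEquiv_eq_refl_iff closure_refl_eq_top two_ne_zero_exc
  signHom signHom_neg_one mem_Omega_iff det_reflectionMatrix dicksonHom dicksonHom_refl)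
open Matrix

attribute [-simp] QuadraticMap.polarBilin_apply_apply

variable {F : Type*} [Field F]

/-- The order of the Frobenius automorphism. -/
theorem orderOf_frob [Fintype F] {p f : ℕ} [Fact p.Prime] [CharP F p] (hF : Fintype.card F = p ^ f)
    (hf : 1 ≤ f) : orderOf (frobeniusEquiv F p) = f := by
  have hpow : ∀ k (x : F), (frobeniusEquiv F p ^ k) x = x ^ p ^ k := by
    intro k
    induction k with
    | zero => intro x; simp
    | succ k ih =>
      intro x
      rw [pow_succ', RingAut.mul_apply, ih, frobeniusEquiv_apply, frobenius_def, ← pow_mul, ← pow_succ]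
  rw [orderOf_eq_iff hf]
  refine ⟨RingEquiv.ext fun x => by rw [hpow, ← hF, FiniteField.pow_card, RingAut.one_apply], fun k hkf hk0 h => ?_⟩
  have h1 : ∀ x : Fˣ, x ^ (p ^ k - 1) = 1 := fun x => by
    have hx : (x : F) ^ p ^ k = x := by rw [← hpow, h, RingAut.one_apply]
    refine Units.ext ?_
    rw [Units.val_pow_eq_pow_val, Units.val_one, pow_sub₀ _ x.ne_zero (Nat.one_le_pow _ _ (NeZero.pos p)),
      hx, pow_one, mul_inv_cancel₀ x.ne_zero]
  have h2 := Nat.le_of_dvd (by
    have := Nat.one_lt_pow hk0.ne' (Fact.out : p.Prime).one_lt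
    omega) ((FiniteField.forall_pow_eq_one_iff F _).mp h1)
  rw [hF] at h2
  have h3 : p ^ k < p ^ f := Nat.pow_lt_pow_right (Fact.out : p.Prime).one_lt hkf
  have := Nat.one_le_pow k p (NeZero.pos p)
  omega

theorem frob_generates [Fintype F] {p f : ℕ} [Fact p.Prime] [CharP F p] (hF : Fintype.card F = p ^ f)
    (hf : 1 ≤ f) : Subgroup.zpowers (frobeniusEquiv F p) = ⊤ := by
  haveI : Finite (F ≃+* F) := Finite.of_injective (fun e : F ≃+* F => (e : F → F)) DFunLike.coe_injective
  refine Subgroup.eq_top_of_card_eq _ ?_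
  rw [Nat.card_zpowers, orderOf_frob hF hf, (AutPSL.gal_cyclic_card hF).2]

variable {ι : Type} [Fintype ι] [DecidableEq ι] {R : QuadraticForm F (ι → F)}

theorem Model0.exists_one (hM : Model0 R) : ∃ v, R v = 1 := by
  obtain ⟨e, f, e₂, f₂, e₃, f₃, h⟩ := hM.hyp
  exact ⟨e + f, by rw [quad_add, h.two.qe, h.two.qf, h.two.ef]; ring⟩

theorem mult_unique {v : ι → F} (hv : R v ≠ 0) {A : Matrix ι ι F} {c d : F}
    (hc : ∀ w, R (A *ᵥ w) = c * R w) (hd : ∀ w, R (A *ᵥ w) = d * R w) : c = d :=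
  mul_right_cancel₀ hv ((hc v).symm.trans (hd v))

/-- The multiplier of a similarity. -/
noncomputable def multS (hM : Model0 R) : Cfsg.Geo.quadSimilarityGroup (F := F) ⇑R →* Fˣ :=
  MonoidHom.mk' (fun g => g.2.choose) fun a b => Units.ext (by
    obtain ⟨v, hv⟩ := hM.exists_one
    refine mult_unique (by rw [hv]; exact one_ne_zero) (a * b).2.choose_spec fun w => ?_
    show R (((a.1 : Matrix ι ι F) * (b.1 : Matrix ι ι F)) *ᵥ w) = _
    rw [← Matrix.mulVec_mulVec, a.2.choose_spec, b.2.choose_spec, Units.val_mul, mul_assoc])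

theorem multS_spec (hM : Model0 R) (g : Cfsg.Geo.quadSimilarityGroup (F := F) ⇑R) (w : ι → F) :
    R ((g.1 : Matrix ι ι F) *ᵥ w) = (multS hM g : F) * R w :=
  g.2.choose_spec w

theorem multS_eq (hM : Model0 R) {g : Cfsg.Geo.quadSimilarityGroup (F := F) ⇑R} {c : F}
    (hc : ∀ w, R ((g.1 : Matrix ι ι F) *ᵥ w) = c * R w) : (multS hM g : F) = c := by
  obtain ⟨v, hv⟩ := hM.exists_one
  exact mult_unique (by rw [hv]; exact one_ne_zero) (multS_spec hM g) hc

theorem multS_scG (hM : Model0 R) (u : Fˣ) : multS hM (scG R u) = u * u :=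
  Units.ext (multS_eq hM fun w => by
    show R (((GeneralLinearGroup.scalar ι u : GL ι F) : Matrix ι ι F) *ᵥ w) = _
    rw [scG_mulVec, quad_smul, Units.val_mul])

theorem exists_iso_of_multS (hM : Model0 R) {g : Cfsg.Geo.quadSimilarityGroup (F := F) ⇑R} {u : Fˣ}
    (h : multS hM g = u * u) : ∃ k : Cfsg.isometryGroup F ⇑R, g = scG R u * isoG R k := by
  have hk : ∀ w, R ((((scG R u)⁻¹ * g).1 : Matrix ι ι F) *ᵥ w) = R w := fun w => by
    rw [multS_spec hM, map_mul, map_inv, multS_scG, h, inv_mul_cancel, Units.val_one, one_mul]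
  refine ⟨⟨((scG R u)⁻¹ * g).1, fun v _ => hk v⟩, ?_⟩
  rw [show isoG R ⟨((scG R u)⁻¹ * g).1, fun v _ => hk v⟩ = (scG R u)⁻¹ * g from Subtype.ext rfl,
    mul_inv_cancel_left]

theorem card_range_dia_of_mult [Fintype F] [Nonempty ι] (hM : Model0 R) (hs : Function.Surjective (multS hM)) :
    Nat.card (dia R).range = Nat.card (Cfsg.isometryGroup F ⇑R) := by
  classical
  haveI : Finite (GL ι F) := inferInstance
  have h1 := (dia R).ker.index_mul_card
  have h2 := (multS hM).ker.index_mul_card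
  have hk1 : Nat.card (dia R).ker = Nat.card Fˣ := by
    let sc : Fˣ →* (dia R).ker := MonoidHom.codRestrict (scG R) _ fun u => (dia_eq_one_iff hM _).mpr ⟨u, rfl⟩
    refine (Nat.card_congr (Equiv.ofBijective sc ⟨fun u v h => ?_, fun ⟨g, hg⟩ => ?_⟩)).symm
    · have i₀ := Classical.arbitrary ι
      have := congrArg (fun g : (dia R).ker => ((g.1.1 : GL ι F) : Matrix ι ι F) i₀ i₀) h
      exact Units.ext (by simpa [sc, scG, Matrix.scalar_apply] using this)
    · obtain ⟨u, hu⟩ := (dia_eq_one_iff hM _).mp hg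
      exact ⟨u, Subtype.ext (Subtype.ext hu.symm)⟩
  have hk2 : Nat.card (multS hM).ker = Nat.card (Cfsg.isometryGroup F ⇑R) := by
    let is : Cfsg.isometryGroup F ⇑R →* (multS hM).ker := MonoidHom.codRestrict (isoG R) _ fun k =>
      Units.ext (multS_eq hM fun w => (k.2 w w).trans (one_mul _).symm)
    refine (Nat.card_congr (Equiv.ofBijective is ⟨fun u v h => ?_, fun ⟨g, hg⟩ => ?_⟩)).symm
    · exact Subtype.ext (congrArg (fun g : (multS hM).ker => g.1.1) h)
    · refine ⟨⟨g.1, fun v _ => ?_⟩, Subtype.ext (Subtype.ext rfl)⟩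
      show R ((g.1 : Matrix ι ι F) *ᵥ v) = R v
      rw [multS_spec hM, MonoidHom.mem_ker.mp hg, Units.val_one, one_mul]
  rw [Subgroup.index_ker, hk1] at h1
  rw [Subgroup.index_ker, MonoidHom.range_eq_top.mpr hs, Subgroup.card_top, hk2] at h2
  exact Nat.eq_of_mul_eq_mul_right (Nat.card_pos (α := Fˣ)) (h1.trans (h2.symm.trans (mul_comm _ _)))

/-- The reflection as an element of the isometry group. -/
noncomputable def reflI (R : QuadraticForm F (ι → F)) (v : ι → F) : Cfsg.isometryGroup F ⇑R :=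
  (isometryEquiv R).symm (refl R v)

theorem reflI_matrix (v : ι → F) :
    ((reflI R v : GL ι F) : Matrix ι ι F) = Cfsg.reflectionMatrix (⇑R) v :=
  (isometryEquiv_eq_refl_iff R _ v).mp (MulEquiv.apply_symm_apply _ _)

theorem reflI_mulVec (v x : ι → F) :
    ((reflI R v : GL ι F) : Matrix ι ι F) *ᵥ x = x - ((R v)⁻¹ * polarBilin R v x) • v := by
  rw [← isometryEquiv_apply, reflI, MulEquiv.apply_symm_apply, refl_apply]

theorem reflI_mul_self (v : ι → F) : reflI R v * reflI R v = 1 := by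
  rw [reflI, ← map_mul, Geometry.refl_mul_self, map_one]

/-- Powers of an automorphism induced by a semisimilarity. -/
theorem semAut_pow {g : GL ι F} {σ : F ≃+* F} (hp : Cfsg.IsSemisimilarityPair (⇑R) g σ) (k : ℕ) :
    ∃ (gk : GL ι F) (hk : Cfsg.IsSemisimilarityPair (⇑R) gk (σ ^ k)),
      semAut g σ hp ^ k = semAut gk (σ ^ k) hk ∧
      ∀ v, (gk : Matrix ι ι F) *ᵥ (fun i => (σ ^ k) (v i)) =
        (fun w : ι → F => (g : Matrix ι ι F) *ᵥ fun i => σ (w i))^[k] v := by
  induction k with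
  | zero =>
    refine ⟨1, ⟨1, fun v => by simp⟩, ?_, fun v => by simp⟩
    refine MulEquiv.ext fun x => ?_
    obtain ⟨s, rfl⟩ := QuotientGroup.mk'_surjective _ x
    show pr R s = pr R (semOmega _ _ _ s)
    refine congrArg (pr R) (omega_ext ?_)
    refine Eq.trans ?_ (omat_semOmega _ _ _ s).symm
    simp only [Units.val_one, inv_one, one_mul, mul_one, pow_zero]
    exact Matrix.ext fun i j => rfl
  | succ k ih =>
    obtain ⟨gk, hk, e, hv⟩ := ih
    refine ⟨g * Units.map (RingHom.toMonoidHom σ.toRingHom.mapMatrix) gk,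
      by rw [pow_succ']; exact pair_mul hp hk, ?_, fun v => ?_⟩
    · rw [pow_succ', e, semAut_mul]
      exact semAut_congr _ _ rfl (pow_succ' σ k).symm
    · rw [pow_succ', semi_comp, Function.iterate_succ_apply', hv]

/-- Conjugating a similarity by a semisimilarity. -/
theorem semAut_conj_dia {g : GL ι F} {σ : F ≃+* F} (hp : Cfsg.IsSemisimilarityPair (⇑R) g σ)
    (a a' : Cfsg.Geo.quadSimilarityGroup (F := F) ⇑R)
    (h : ∀ v : ι → F, (a'.1 : Matrix ι ι F) *ᵥ ((g : Matrix ι ι F) *ᵥ fun i => σ (v i)) =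
      (g : Matrix ι ι F) *ᵥ fun i => σ (((a.1 : Matrix ι ι F) *ᵥ v) i)) :
    semAut g σ hp * dia R a = dia R a' * semAut g σ hp := by
  rw [dia_apply, dia_apply, semAut_mul, semAut_mul]
  refine semAut_congr _ _ (Units.ext (Matrix.ext_of_mulVec_single fun i => ?_)) (by rw [mul_one, one_mul])
  have hs : (fun l => (σ * 1) ((Pi.single i (1 : F) : ι → F) l)) = Pi.single i 1 :=
    funext fun l => by simp [Pi.single_apply, apply_ite σ]
  have hs' : (fun l => ((1 : F ≃+* F) * σ) ((Pi.single i (1 : F) : ι → F) l)) = Pi.single i 1 :=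
    funext fun l => by simp [Pi.single_apply, apply_ite σ]
  conv_lhs => rw [← hs, semi_comp]
  conv_rhs => rw [← hs', semi_comp]
  simp only [RingAut.one_apply]
  exact (h _).symm

theorem semAut_conj_refl {g : GL ι F} {σ : F ≃+* F} (hp : Cfsg.IsSemisimilarityPair (⇑R) g σ) (w : ι → F) :
    semAut g σ hp * dia R (isoG R (reflI R w)) =
      dia R (isoG R (reflI R ((g : Matrix ι ι F) *ᵥ fun i => σ (w i)))) * semAut g σ hp := by
  obtain ⟨c, hc⟩ := hp
  refine semAut_conj_dia _ _ _ fun v => ?_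
  set L : (ι → F) → ι → F := fun v => (g : Matrix ι ι F) *ᵥ fun i => σ (v i) with hL
  have hadd : ∀ u x, L (u + x) = L u + L x := fun u x => by
    simp only [L, ← Matrix.mulVec_add]; congr 1; funext i; simp
  have hsub : ∀ u x, L (u - x) = L u - L x := fun u x => by
    rw [eq_sub_iff_add_eq, ← hadd, sub_add_cancel]
  have hsmul : ∀ (t : F) x, L (t • x) = σ t • L x := fun t x => by
    simp only [L, ← Matrix.mulVec_smul]; congr 1; funext i; simp
  have hB : polarBilin R (L w) (L v) = c * σ (polarBilin R w v) := by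
    have e1 := quad_add R (L w) (L v)
    rw [← hadd, show ∀ x, R (L x) = c * σ (R x) from hc, show ∀ x, R (L x) = c * σ (R x) from hc,
      show ∀ x, R (L x) = c * σ (R x) from hc, quad_add R w v, map_add, map_add] at e1
    linear_combination -e1
  show ((reflI R (L w) : GL ι F) : Matrix ι ι F) *ᵥ L v = L (((reflI R w : GL ι F) : Matrix ι ι F) *ᵥ v)
  rw [reflI_mulVec, reflI_mulVec, hsub, hsmul, hB, show R (L w) = c * σ (R w) from hc w, map_mul, map_inv₀,
    _root_.mul_inv_rev]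
  congr 2
  field_simp

section Invariants

variable [Finite F]

/-- The Dickson invariant is the determinant in odd characteristic. -/
theorem dickson_det (hR : (polarBilin R).Nondegenerate) (h2 : (2 : F) ≠ 0) (g : Cfsg.isometryGroup F ⇑R) :
    Geometry.dickson R (isometryEquiv R g) = 1 ↔ ((g : GL ι F) : Matrix ι ι F).det = 1 := by
  set D : Cfsg.isometryGroup F ⇑R →* ℤˣ :=
    (dicksonHom R hR (closure_refl_eq_top R hR (two_ne_zero_exc h2))).comp (isometryEquiv R).toMonoidHom
  let S : ℤˣ →* Fˣ := signHom (-1 : Fˣ) (by rw [neg_mul_neg, one_mul])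
  have hSD : S.comp D = GeneralLinearGroup.det.comp (Cfsg.isometryGroup F ⇑R).subtype := by
    refine MonoidHom.eq_of_eqOn_dense (Geometry.closure_reflectionMatrix_eq_top R hR
      (Or.inl ⟨-1, neg_ne_zero.mpr one_ne_zero, fun h => h2 (by linear_combination -h)⟩)) ?_
    rintro k ⟨v, hv, hk⟩
    have hd : D k = -1 := by
      show dicksonHom R hR (closure_refl_eq_top R hR (two_ne_zero_exc h2)) (isometryEquiv R k) = -1
      rw [(isometryEquiv_eq_refl_iff R k v).mpr hk, dicksonHom_refl R hR _ hv]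
    refine Units.ext ?_
    show ((S (D k) : Fˣ) : F) = ((k : GL ι F) : Matrix ι ι F).det
    rw [hd, signHom_neg_one, hk, det_reflectionMatrix R hv, Units.val_neg, Units.val_one]
  have hg := congrArg Units.val (DFunLike.congr_fun hSD g)
  change ((S (D g) : Fˣ) : F) = ((g : GL ι F) : Matrix ι ι F).det at hg
  show D g = 1 ↔ _
  rw [← hg]
  rcases Int.units_eq_one_or (D g) with h | h
  · simp [h]
  · rw [h, signHom_neg_one, Units.val_neg, Units.val_one]
    exact ⟨fun e => absurd e (by decide), fun e => absurd (by linear_combination -e) h2⟩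

theorem mem_omega_det_iff (hR : (polarBilin R).Nondegenerate) (h2 : (2 : F) ≠ 0) (hn : 2 ≤ Fintype.card ι)
    (g : Cfsg.isometryGroup F ⇑R) :
    g ∈ Cfsg.Omega F ⇑R ↔ ((g : GL ι F) : Matrix ι ι F).det = 1 ∧ spinH hR h2 g = 1 := by
  rw [mem_Omega_iff R hR h2 hn g, dickson_det hR h2 g]
  rfl

theorem det_negOne_even {M : ℕ} (hι : Fintype.card ι = 2 * M) :
    (((negOne R : Cfsg.isometryGroup F ⇑R) : GL ι F) : Matrix ι ι F).det = 1 := by
  show (Matrix.scalar ι ((-1 : Fˣ) : F)).det = 1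
  rw [Matrix.scalar_apply, Matrix.det_diagonal, Finset.prod_const, Finset.card_univ, hι,
    Units.val_neg, Units.val_one, Even.neg_one_pow ⟨M, two_mul M⟩]

theorem det_eq_of_dia_mem_inn (hM : Model0 R) {M : ℕ} (hι : Fintype.card ι = 2 * M)
    {g : Cfsg.isometryGroup F ⇑R} (h : dia R (isoG R g) ∈ Cfsg.Inn (Cfsg.POmega F ⇑R)) :
    ((g : GL ι F) : Matrix ι ι F).det = 1 := by
  obtain ⟨v, hv⟩ := hM.exists_one
  rcases (dia_iso_mem_inn_iff hM (by rw [hv]; exact one_ne_zero) g).mp h with h | h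
  · exact det_omega h
  · have := det_omega h
    rwa [Subgroup.coe_mul, Units.val_mul, Matrix.det_mul, det_negOne_even hι, mul_one] at this

theorem spin_eq_of_dia_mem_inn (hM : Model0 R) (h2 : (2 : F) ≠ 0) (hn : 2 ≤ Fintype.card ι)
    (hz : spinH hM.nondeg h2 (negOne R) = 1)
    {g : Cfsg.isometryGroup F ⇑R} (h : dia R (isoG R g) ∈ Cfsg.Inn (Cfsg.POmega F ⇑R)) :
    spinH hM.nondeg h2 g = 1 := by
  obtain ⟨v, hv⟩ := hM.exists_one
  rcases (dia_iso_mem_inn_iff hM (by rw [hv]; exact one_ne_zero) g).mp h with h | h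
  · exact spinH_omega hM.nondeg h2 hn h
  · have := spinH_omega hM.nondeg h2 hn h
    rwa [map_mul, hz, mul_one] at this

theorem dia_mem_inn_of_det (hM : Model0 R) (h2 : (2 : F) ≠ 0) {M : ℕ} (hι : Fintype.card ι = 2 * M)
    (hn : 2 ≤ Fintype.card ι) {g : Cfsg.isometryGroup F ⇑R} (hd : ((g : GL ι F) : Matrix ι ι F).det = 1)
    (hs : spinH hM.nondeg h2 g = 1 ∨ spinH hM.nondeg h2 (negOne R) = -1) :
    dia R (isoG R g) ∈ Cfsg.Inn (Cfsg.POmega F ⇑R) := by
  obtain ⟨v, hv⟩ := hM.exists_one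
  rw [dia_iso_mem_inn_iff hM (v := v) (by rw [hv]; exact one_ne_zero)]
  rcases Int.units_eq_one_or (spinH hM.nondeg h2 g) with h | h
  · exact Or.inl ((mem_omega_det_iff hM.nondeg h2 hn g).mpr ⟨hd, h⟩)
  · have hz := hs.resolve_left (by rw [h]; decide)
    refine Or.inr ((mem_omega_det_iff hM.nondeg h2 hn _).mpr ⟨?_, ?_⟩)
    · rw [Subgroup.coe_mul, Units.val_mul, Matrix.det_mul, det_negOne_even hι, hd, mul_one]
    · rw [map_mul, h, hz]; decide

theorem dia_inv_mul_mem_inn (hM : Model0 R) (h2 : (2 : F) ≠ 0) {M : ℕ} (hι : Fintype.card ι = 2 * M)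
    (hn : 2 ≤ Fintype.card ι) {g k : Cfsg.isometryGroup F ⇑R}
    (hd : ((g : GL ι F) : Matrix ι ι F).det = ((k : GL ι F) : Matrix ι ι F).det)
    (hs : spinH hM.nondeg h2 g = spinH hM.nondeg h2 k) :
    (dia R (isoG R g))⁻¹ * dia R (isoG R k) ∈ Cfsg.Inn (Cfsg.POmega F ⇑R) := by
  rw [← map_inv, ← map_mul, ← map_inv, ← map_mul]
  refine dia_mem_inn_of_det hM h2 hι hn ?_ (Or.inl (by rw [map_mul, map_inv, hs, inv_mul_cancel]))
  rw [Subgroup.coe_mul, Units.val_mul, Matrix.det_mul, ← hd, ← Matrix.det_mul, ← Units.val_mul, Subgroup.coe_inv,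
    inv_mul_cancel, Units.val_one, Matrix.det_one]

end Invariants

end Cfsg.Agent.Lib.Classical.AutPOmega
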