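import Mathlib

/-!
Automorphisms of `PΩ`, part 15: recognising the shapes `2 × 2f` and `D₈ × f` of outer automorphism
groups from generators.
-/

set_option autoImplicit false

namespace Cfsg.Agent.Lib.Classical.AutPOmega

variable {O G : Type*} [Group O] [Group G] [Finite O]

theorem iso_two_prod_cyclic (π : O →* G) {d s : O} {f : ℕ} (hf : 1 ≤ f) (hcard : Nat.card O = 4 * f)
    (hcomm : Commute d s) (hd1 : d ≠ 1) (hd2 : d * d = 1) (hds : d ≠ s ^ f) (hs1 : s ^ f ≠ 1)
    (hs2 : s ^ f * s ^ f = 1) (hπd : π d = 1) (hπs : orderOf (π s) = f) :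
    Nonempty (O ≃* Multiplicative (ZMod 2 × ZMod (2 * f))) := by
  have hsord : orderOf s = 2 * f := by
    have h1 : orderOf s ∣ 2 * f := orderOf_dvd_of_pow_eq_one (by rw [two_mul, pow_add, hs2])
    have h2 : f ∣ orderOf s := hπs ▸ orderOf_map_dvd π s
    obtain ⟨k, hk⟩ := h2
    rw [hk, mul_comm 2] at h1
    rcases (Nat.dvd_prime Nat.prime_two).mp ((Nat.mul_dvd_mul_iff_left (by omega)).mp h1) with rfl | rfl
    · exfalso
      apply hs1
      rw [show f = orderOf s by omega]
      exact pow_orderOf_eq_one s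
    · omega
  have hdord : orderOf d = 2 := orderOf_eq_prime (by rw [pow_two, hd2]) hd1
  let A := Subgroup.zpowers d
  let B := Subgroup.zpowers s
  let Φ : A × B →* O := MonoidHom.noncommCoprod A.subtype B.subtype (fun x y => by
    obtain ⟨i, hi⟩ := Subgroup.mem_zpowers_iff.mp x.2
    obtain ⟨j, hj⟩ := Subgroup.mem_zpowers_iff.mp y.2
    show Commute (x : O) y
    rw [← hi, ← hj]
    exact (hcomm.zpow_left i).zpow_right j)
  have hinj : Function.Injective Φ := by
    rw [injective_iff_map_eq_one]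
    rintro ⟨⟨x, hx⟩, ⟨y, hy⟩⟩ h
    change x * y = 1 at h
    obtain ⟨j, rfl⟩ := Subgroup.mem_zpowers_iff.mp hy
    obtain ⟨i, rfl⟩ := Subgroup.mem_zpowers_iff.mp hx
    have hdi : d ^ i = 1 ∨ d ^ i = d := by
      rw [← zpow_mod_orderOf d i, hdord]
      rcases Int.emod_two_eq_zero_or_one i with e | e <;> simp [e]
    rcases hdi with e | e
    · simp only [e, one_mul] at h
      exact Prod.ext (Subtype.ext e) (Subtype.ext h)
    · exfalso
      rw [e] at h
      have hfj : (f : ℤ) ∣ j := by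
        rw [← hπs, orderOf_dvd_iff_zpow_eq_one, ← map_zpow]
        have := congrArg π h
        rwa [map_mul, hπd, one_mul, map_one] at this
      obtain ⟨k, rfl⟩ := hfj
      rw [zpow_mul, zpow_natCast] at h
      have hsf : orderOf (s ^ f) = 2 := orderOf_eq_prime (by rw [pow_two, hs2]) hs1
      rw [← zpow_mod_orderOf (s ^ f) k, hsf] at h
      rcases Int.emod_two_eq_zero_or_one k with e' | e' <;> simp [e'] at h
      · exact hd1 h
      · exact hds (by rw [eq_inv_of_mul_eq_one_left h, inv_eq_of_mul_eq_one_left hs2])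
  have hc : Nat.card (A × B) = Nat.card O := by
    rw [Nat.card_prod, Nat.card_zpowers, Nat.card_zpowers, hdord, hsord, hcard]; ring
  haveI : Fintype (A × B) := Fintype.ofFinite _
  haveI : Fintype O := Fintype.ofFinite _
  have hbij : Function.Bijective Φ := (Fintype.bijective_iff_injective_and_card Φ).mpr
    ⟨hinj, by rwa [← Nat.card_eq_fintype_card, ← Nat.card_eq_fintype_card]⟩
  let eA : A ≃* Multiplicative (ZMod 2) := mulEquivOfCyclicCardEq (by
    rw [Nat.card_zpowers, hdord, Nat.card_congr Multiplicative.toAdd, Nat.card_zmod])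
  let eB : B ≃* Multiplicative (ZMod (2 * f)) := mulEquivOfCyclicCardEq (by
    rw [Nat.card_zpowers, hsord, Nat.card_congr Multiplicative.toAdd, Nat.card_zmod])
  exact ⟨(MulEquiv.ofBijective Φ hbij).symm.trans ((eA.prodCongr eB).trans
    (MulEquiv.prodMultiplicative (ZMod 2) (ZMod (2 * f))).symm)⟩

theorem iso_dihedral_prod_cyclic (π : O →* G) {ρ y c : O} {f : ℕ} (hf : 1 ≤ f) (hcard : Nat.card O = 8 * f)
    (hρ2 : ρ ^ 2 ≠ 1) (hρ4 : ρ ^ 4 = 1) (hy : y * y = 1) (hyρ : y * ρ * y = ρ⁻¹)
    (hy1 : ∀ i : ℕ, y ≠ ρ ^ i) (hcρ : Commute c ρ) (hcy : Commute c y) (hcf : c ^ f = 1)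
    (hπρ : π ρ = 1) (hπy : π y = 1) (hπc : orderOf (π c) = f) :
    Nonempty (O ≃* DihedralGroup 4 × Multiplicative (ZMod f)) := by
  have hρ : orderOf ρ = 4 := by
    have h := orderOf_dvd_of_pow_eq_one hρ4
    have h4 : orderOf ρ ≤ 4 := Nat.le_of_dvd (by norm_num) h
    have hp := pow_orderOf_eq_one ρ
    interval_cases hn : orderOf ρ
    · simp at h
    · exact absurd (by rw [pow_one] at hp; rw [hp, one_pow]) hρ2
    · exact absurd hp hρ2
    · norm_num at h
    · rfl
  have hmod : ∀ a b : ℕ, (a : ZMod 4) = (b : ZMod 4) → ρ ^ a = ρ ^ b := fun a b h => by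
    rw [pow_eq_pow_iff_modEq, hρ]
    exact (ZMod.natCast_eq_natCast_iff a b 4).mp h
  let P : ZMod 4 → O := fun i => ρ ^ i.val
  have hPadd : ∀ i j, P i * P j = P (i + j) := fun i j => by
    rw [← pow_add]; exact hmod _ _ (by simp)
  have hPneg : ∀ i, P (-i) = (P i)⁻¹ := fun i => by
    rw [eq_inv_iff_mul_eq_one, hPadd, neg_add_cancel]; simp [P]
  have hyP : ∀ i, P i * y = y * P (-i) := fun i => by
    have hy' : y⁻¹ = y := inv_eq_of_mul_eq_one_left hy
    have hconj : y * P i * y = (P i)⁻¹ := by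
      show y * ρ ^ i.val * y = _
      have := (conj_pow (i := i.val) (a := y) (b := ρ)).symm
      rw [hy'] at this
      rw [this, hyρ, inv_pow]
    rw [hPneg, ← hconj, ← mul_assoc, ← mul_assoc, hy, one_mul]
  let D : DihedralGroup 4 →* O := MonoidHom.mk'
    (fun x => match x with | .r i => P i | .sr i => y * P i) (by
      rintro (i | i) (j | j)
      · exact (hPadd i j).symm
      · show y * P (j - i) = P i * (y * P j)
        rw [← mul_assoc, hyP, mul_assoc, hPadd, neg_add_eq_sub]
      · show y * P (i + j) = y * P i * P j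
        rw [mul_assoc, hPadd]
      · show P (j - i) = y * P i * (y * P j)
        rw [mul_assoc y, ← mul_assoc (P i), hyP, ← mul_assoc, ← mul_assoc, hy, one_mul, hPadd, neg_add_eq_sub])
  let C := Subgroup.zpowers c
  let Φ : DihedralGroup 4 × C →* O := MonoidHom.noncommCoprod D C.subtype (fun x z => by
    obtain ⟨k, hk⟩ := Subgroup.mem_zpowers_iff.mp z.2
    show Commute (D x) (z : O)
    rw [← hk]
    refine Commute.zpow_right ?_ k
    rcases x with i | i
    · exact (hcρ.pow_right _).symm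
    · exact (hcy.mul_right (hcρ.pow_right _)).symm)
  have hπD : ∀ x, π (D x) = 1 := by
    rintro (i | i)
    · show π (ρ ^ i.val) = 1
      rw [map_pow, hπρ, one_pow]
    · show π (y * ρ ^ i.val) = 1
      rw [map_mul, map_pow, hπρ, one_pow, hπy, one_mul]
  have hcord : orderOf c = f := Nat.dvd_antisymm (orderOf_dvd_of_pow_eq_one hcf) (hπc ▸ orderOf_map_dvd π c)
  have hinj : Function.Injective Φ := by
    rw [injective_iff_map_eq_one]
    rintro ⟨x, ⟨z, hz⟩⟩ h
    change D x * z = 1 at h
    obtain ⟨k, rfl⟩ := Subgroup.mem_zpowers_iff.mp hz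
    have hk : c ^ k = 1 := by
      have := congrArg π h
      rw [map_mul, hπD, one_mul, map_one, map_zpow, ← orderOf_dvd_iff_zpow_eq_one, hπc] at this
      rwa [← orderOf_dvd_iff_zpow_eq_one, hcord]
    rw [hk, mul_one] at h
    refine Prod.ext ?_ (Subtype.ext hk)
    rcases x with i | i
    · change ρ ^ i.val = 1 at h
      rw [← orderOf_dvd_iff_pow_eq_one, hρ] at h
      have : i.val = 0 := Nat.eq_zero_of_dvd_of_lt h (ZMod.val_lt i)
      show DihedralGroup.r i = 1
      rw [(ZMod.val_eq_zero i).mp this]; rfl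
    · exfalso
      change y * P i = 1 at h
      refine hy1 (-i).val ?_
      rw [eq_inv_of_mul_eq_one_left h, ← hPneg]
  have hc : Nat.card (DihedralGroup 4 × C) = Nat.card O := by
    rw [Nat.card_prod, DihedralGroup.nat_card, Nat.card_zpowers, hcord, hcard]
  haveI : Fintype (DihedralGroup 4 × C) := Fintype.ofFinite _
  haveI : Fintype O := Fintype.ofFinite _
  have hbij : Function.Bijective Φ := (Fintype.bijective_iff_injective_and_card Φ).mpr
    ⟨hinj, by rwa [← Nat.card_eq_fintype_card, ← Nat.card_eq_fintype_card]⟩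
  let eC : C ≃* Multiplicative (ZMod f) := mulEquivOfCyclicCardEq (by
    rw [Nat.card_zpowers, hcord, Nat.card_congr Multiplicative.toAdd, Nat.card_zmod])
  exact ⟨(MulEquiv.ofBijective Φ hbij).symm.trans ((MulEquiv.refl _).prodCongr eC)⟩

end Cfsg.Agent.Lib.Classical.AutPOmega
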