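import Cfsg.Agent.Lib.Classical.AutPOmega.EvenDim
import Cfsg.Agent.Lib.Classical.AutPOmega.OutShape
import Cfsg.Agent.Lib.Geometry.SymmDiscr

/-!
Automorphisms of `PΩ`, part 18: the similarity, special and inner-diagonal groups modulo inner
automorphisms, for even dimension and odd characteristic.
-/

set_option autoImplicit false

namespace Cfsg.Agent.Lib.Classical.AutPOmega

open QuadraticMap (polarBilin)
open Cfsg.Agent.Lib.Geometry (sqClass sqClass_eq_one_iff sqClass_eq_neg_one_iff sqClass_mul exists_quad_class_vectors)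
open Matrix

attribute [-simp] QuadraticMap.polarBilin_apply_apply

/-- A hom on a subgroup of the source descends to its image. -/
theorem exists_lift_map {G A X : Type*} [Group G] [Group A] [Group X] (d : G →* A) (N : Subgroup G)
    (ψ : N →* X) (hs : Function.Surjective ψ) (hker : ∀ n : N, d n = 1 → ψ n = 1) :
    ∃ φ : ↥(N.map d) →* X, Function.Surjective φ ∧
      φ.ker = ((ψ.ker.map N.subtype).map d).subgroupOf (N.map d) := by
  let r : N →* ↥(N.map d) := d.subgroupMap N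
  have hrs : Function.Surjective r := MonoidHom.subgroupMap_surjective d N
  have hle : r.ker ≤ ψ.ker := fun n hn => hker n (congrArg Subtype.val hn)
  refine ⟨r.liftOfSurjective hrs ⟨ψ, hle⟩, fun x => ?_, ?_⟩
  · obtain ⟨n, rfl⟩ := hs x
    exact ⟨r n, MonoidHom.liftOfRightInverse_comp_apply _ _ _ _ n⟩
  · ext y
    obtain ⟨n, rfl⟩ := hrs y
    rw [MonoidHom.mem_ker, MonoidHom.liftOfRightInverse_comp_apply, Subgroup.mem_subgroupOf]
    constructor
    · intro h
      exact ⟨n, ⟨n, h, rfl⟩, rfl⟩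
    · rintro ⟨k, ⟨k', hk', rfl⟩, he⟩
      have : n⁻¹ * k' ∈ ψ.ker := hle (Subtype.ext (by
        show d ((n : G)⁻¹ * (k' : G)) = 1
        rw [map_mul, map_inv, inv_mul_eq_one]
        exact he.symm))
      simpa using mul_mem hk' (inv_mem this)

theorem ker_iso_comp {G H K : Type*} [Group G] [Group H] [Group K] (e : H ≃* K) (f : G →* H) :
    (e.toMonoidHom.comp f).ker = f.ker := by
  ext x; simp

variable {F : Type*} [Field F] {ι : Type} [Fintype ι] [DecidableEq ι] {R : QuadraticForm F (ι → F)}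

/-- The class of `±1`-valued units. -/
noncomputable def signOfUnit (u : Fˣ) : ℤˣ := by classical exact if u = 1 then 1 else -1

variable [Fintype F]

/-- The square class of a unit. -/
noncomputable def sqc : Fˣ →* ℤˣ :=
  MonoidHom.mk' (fun u => sqClass (u : F)) fun a b => by
    rw [Units.val_mul]; exact sqClass_mul a.ne_zero b.ne_zero

/-- `det g / μ(g)^M`. -/
noncomputable def deltaS (hM : Model0 R) (M : ℕ) : Cfsg.Geo.quadSimilarityGroup (F := F) ⇑R →* Fˣ :=
  (GeneralLinearGroup.det.comp (Cfsg.Geo.quadSimilarityGroup (F := F) ⇑R).subtype) *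
    ((powMonoidHom M).comp (multS hM))⁻¹

theorem deltaS_apply (hM : Model0 R) (M : ℕ) (g : Cfsg.Geo.quadSimilarityGroup (F := F) ⇑R) :
    deltaS hM M g = GeneralLinearGroup.det g.1 * (multS hM g ^ M)⁻¹ := rfl

theorem deltaS_sq (hM : Model0 R) {M : ℕ} (hι : Fintype.card ι = 2 * M)
    (g : Cfsg.Geo.quadSimilarityGroup (F := F) ⇑R) : deltaS hM M g = 1 ∨ deltaS hM M g = -1 := by
  have hd : (GeneralLinearGroup.det g.1 * GeneralLinearGroup.det g.1 : Fˣ) = multS hM g ^ (2 * M) :=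
    Units.ext (by
      rw [Units.val_mul, Units.val_pow_eq_pow_val, ← hι]
      exact det_sq_eq hM.nondeg (multS_spec hM g))
  have h1 : deltaS hM M g * deltaS hM M g = 1 := by
    rw [deltaS_apply, mul_mul_mul_comm, hd, ← mul_inv, ← pow_add, ← two_mul, mul_inv_cancel]
  rcases mul_self_eq_one_iff.mp (show (deltaS hM M g : F) * (deltaS hM M g : F) = 1 by
    rw [← Units.val_mul, h1, Units.val_one]) with h | h
  · exact Or.inl (Units.ext h)
  · exact Or.inr (Units.ext (by simpa using h))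

/-- The sign of `deltaS`. -/
noncomputable def sgnS (hM : Model0 R) (h2 : (2 : F) ≠ 0) {M : ℕ} (hι : Fintype.card ι = 2 * M) :
    Cfsg.Geo.quadSimilarityGroup (F := F) ⇑R →* ℤˣ :=
  MonoidHom.mk' (fun g => signOfUnit (deltaS hM M g)) fun a b => by
    have hne : (-1 : Fˣ) ≠ 1 := fun h => h2 (by
      have h' := congrArg Units.val h
      rw [Units.val_neg, Units.val_one] at h'
      linear_combination -h')
    rw [map_mul]
    rcases deltaS_sq hM hι a with ha | ha <;> rcases deltaS_sq hM hι b with hb | hb <;>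
      simp [signOfUnit, ha, hb, hne]

theorem sgnS_eq_one (hM : Model0 R) (h2 : (2 : F) ≠ 0) {M : ℕ} (hι : Fintype.card ι = 2 * M)
    (g : Cfsg.Geo.quadSimilarityGroup (F := F) ⇑R) : sgnS hM h2 hι g = 1 ↔ deltaS hM M g = 1 := by
  show signOfUnit _ = 1 ↔ _
  unfold signOfUnit
  split_ifs with h <;> simp [h]

theorem multS_isoG (hM : Model0 R) (k : Cfsg.isometryGroup F ⇑R) : multS hM (isoG R k) = 1 :=
  Units.ext (multS_eq hM fun v => (k.2 v v).trans (one_mul _).symm)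

theorem deltaS_scG (hM : Model0 R) {M : ℕ} (hι : Fintype.card ι = 2 * M) (u : Fˣ) :
    deltaS hM M (scG R u) = 1 := by
  rw [deltaS_apply, mul_inv_eq_one, multS_scG]
  refine Units.ext ?_
  show (Matrix.scalar ι (u : F)).det = _
  rw [Matrix.scalar_apply, Matrix.det_diagonal, Finset.prod_const, Finset.card_univ, hι,
    Units.val_pow_eq_pow_val, Units.val_mul, ← pow_two, ← pow_mul]

theorem deltaS_isoG (hM : Model0 R) (M : ℕ) (k : Cfsg.isometryGroup F ⇑R) :
    deltaS hM M (isoG R k) = GeneralLinearGroup.det k.1 := by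
  rw [deltaS_apply, multS_isoG, one_pow, inv_one, mul_one]; rfl

/-- The invariants of a similarity. -/
noncomputable def psiS (hM : Model0 R) (h2 : (2 : F) ≠ 0) {M : ℕ} (hι : Fintype.card ι = 2 * M) :
    Cfsg.Geo.quadSimilarityGroup (F := F) ⇑R →* ℤˣ × ℤˣ :=
  (sqc.comp (multS hM)).prod (sgnS hM h2 hι)

theorem psiS_scG (hM : Model0 R) (h2 : (2 : F) ≠ 0) {M : ℕ} (hι : Fintype.card ι = 2 * M) (u : Fˣ) :
    psiS hM h2 hι (scG R u) = 1 := by
  refine Prod.ext ?_ ((sgnS_eq_one hM h2 hι _).mpr (deltaS_scG hM hι u))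
  show sqClass ((multS hM (scG R u) : Fˣ) : F) = 1
  rw [multS_scG, Units.val_mul, sqClass_eq_one_iff]
  exact IsSquare.mul_self _

theorem psiS_ker_dia (hM : Model0 R) (h2 : (2 : F) ≠ 0) {M : ℕ} (hι : Fintype.card ι = 2 * M)
    {g : Cfsg.Geo.quadSimilarityGroup (F := F) ⇑R} (hg : dia R g = 1) : psiS hM h2 hι g = 1 := by
  obtain ⟨u, hu⟩ := (dia_eq_one_iff hM g).mp hg
  rw [show g = scG R u from Subtype.ext hu, psiS_scG]

theorem psiS_eq_one_iff (hM : Model0 R) (h2 : (2 : F) ≠ 0) {M : ℕ} (hι : Fintype.card ι = 2 * M)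
    (g : Cfsg.Geo.quadSimilarityGroup (F := F) ⇑R) :
    psiS hM h2 hι g = 1 ↔ ∃ (u : Fˣ) (k : Cfsg.isometryGroup F ⇑R),
      g = scG R u * isoG R k ∧ ((k : GL ι F) : Matrix ι ι F).det = 1 := by
  constructor
  · intro h
    obtain ⟨t, ht⟩ := sqClass_eq_one_iff.mp (show sqClass ((multS hM g : Fˣ) : F) = 1 from congrArg Prod.fst h)
    have hd : deltaS hM M g = 1 := (sgnS_eq_one hM h2 hι g).mp (congrArg Prod.snd h)
    have ht0 : t ≠ 0 := fun e => (multS hM g).ne_zero (by rw [ht, e, mul_zero])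
    obtain ⟨k, rfl⟩ := exists_iso_of_multS hM (u := Units.mk0 t ht0) (Units.ext (by rw [ht]; rfl))
    rw [map_mul, deltaS_scG hM hι, one_mul, deltaS_isoG] at hd
    exact ⟨_, k, rfl, congrArg Units.val hd⟩
  · rintro ⟨u, k, rfl, hk⟩
    rw [map_mul, psiS_scG, one_mul]
    refine Prod.ext ?_ ((sgnS_eq_one hM h2 hι _).mpr ?_)
    · show sqClass ((multS hM (isoG R k) : Fˣ) : F) = 1
      rw [multS_isoG, Units.val_one, sqClass_eq_one_iff]
      exact IsSquare.one
    · rw [deltaS_isoG]; exact Units.ext hk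

theorem exists_refl_sign (hM : Model0 R) (h2 : (2 : F) ≠ 0) {M : ℕ} (hι : Fintype.card ι = 2 * M) :
    ∃ v, R v = 1 ∧ psiS hM h2 hι (isoG R (reflI R v)) = (1, -1) := by
  obtain ⟨v, hv⟩ := hM.exists_one
  refine ⟨v, hv, Prod.ext ?_ ?_⟩
  · show sqClass ((multS hM (isoG R (reflI R v)) : Fˣ) : F) = 1
    rw [multS_isoG, Units.val_one, sqClass_eq_one_iff]
    exact IsSquare.one
  · rcases Int.units_eq_one_or (sgnS hM h2 hι (isoG R (reflI R v))) with h | h
    · exfalso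
      have h' := congrArg Units.val ((sgnS_eq_one hM h2 hι _).mp h)
      rw [deltaS_isoG, Units.val_one, show ((GeneralLinearGroup.det (reflI R v).1 : Fˣ) : F) =
        ((reflI R v : GL ι F) : Matrix ι ι F).det from rfl, reflI_matrix,
        Geometry.det_reflectionMatrix R (by rw [hv]; exact one_ne_zero)] at h'
      exact h2 (by linear_combination -h')
    · exact h

theorem exists_nonsquare_unit (h2 : (2 : F) ≠ 0) : ∃ α : Fˣ, ¬ IsSquare (α : F) := by
  obtain ⟨α, hα⟩ := FiniteField.exists_nonsquare (F := F) (fun e => h2 (by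
    haveI := (ringChar.eq_iff).mp e; exact CharTwo.two_eq_zero))
  exact ⟨Units.mk0 α fun e => hα (e ▸ IsSquare.zero), hα⟩

theorem psiS_surjective (hM : Model0 R) (h2 : (2 : F) ≠ 0) {M : ℕ} (hι : Fintype.card ι = 2 * M)
    (hs : Function.Surjective (multS hM)) : Function.Surjective (psiS hM h2 hι) := by
  obtain ⟨v, -, hv⟩ := exists_refl_sign hM h2 hι
  obtain ⟨α, hα⟩ := exists_nonsquare_unit (F := F) h2
  obtain ⟨g, hg⟩ := hs α
  have hg1 : (psiS hM h2 hι g).1 = -1 := by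
    show sqClass ((multS hM g : Fˣ) : F) = -1
    rw [hg, sqClass_eq_neg_one_iff]; exact hα
  rintro ⟨x, y⟩
  rcases Int.units_eq_one_or x with rfl | rfl <;> rcases Int.units_eq_one_or y with rfl | rfl
  · exact ⟨1, map_one _⟩
  · exact ⟨_, hv⟩
  all_goals
    rcases Int.units_eq_one_or (psiS hM h2 hι g).2 with h | h <;>
      first
      | exact ⟨g, Prod.ext hg1 h⟩
      | exact ⟨g * isoG R (reflI R v), by rw [map_mul, hv]; exact Prod.ext (by simp [hg1]) (by simp [h])⟩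

/-- The image of the special orthogonal group. -/
noncomputable def psoImage (R : QuadraticForm F (ι → F)) : Subgroup (MulAut (Cfsg.POmega F ⇑R)) :=
  ((GeneralLinearGroup.det.comp (Cfsg.isometryGroup F ⇑R).subtype).ker).map ((dia R).comp (isoG R))

theorem psoAut_eq (R : QuadraticForm F (ι → F)) : Cfsg.psoAut F ⇑R = psoImage R := by
  refine le_antisymm ((Subgroup.closure_le _).mpr ?_) ?_
  · rintro β ⟨g, hg, hind⟩
    exact ⟨⟨g, hg.1⟩, hg.2, (eq_semAut (pair_of_sim ⟨1, fun v => by rw [Units.val_one, one_mul]; exact hg.1 v v⟩) hind).symm⟩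
  · rintro _ ⟨g, hg, rfl⟩
    exact Subgroup.subset_closure ⟨g.1, ⟨g.2, hg⟩, isInduced_semAut _ _ _⟩

theorem ker_psiS_map (hM : Model0 R) (h2 : (2 : F) ≠ 0) {M : ℕ} (hι : Fintype.card ι = 2 * M) :
    (psiS hM h2 hι).ker.map (dia R) = psoImage R := by
  refine le_antisymm ?_ ?_
  · rintro _ ⟨g, hg, rfl⟩
    obtain ⟨u, k, rfl, hk⟩ := (psiS_eq_one_iff hM h2 hι g).mp hg
    refine ⟨k, Units.ext hk, ?_⟩
    rw [map_mul, (dia_eq_one_iff hM (scG R u)).mpr ⟨u, rfl⟩, one_mul]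
    rfl
  · rintro _ ⟨k, hk, rfl⟩
    exact ⟨isoG R k, (psiS_eq_one_iff hM h2 hι _).mpr ⟨1, k, by rw [map_one, one_mul], congrArg Units.val hk⟩, rfl⟩

theorem inn_le_psoImage : Cfsg.Inn (Cfsg.POmega F ⇑R) ≤ psoImage R := by
  rintro _ ⟨y, rfl⟩
  obtain ⟨s, rfl⟩ := QuotientGroup.mk'_surjective _ y
  exact ⟨s.1, Units.ext (det_omega s.2), dia_omG s⟩

theorem psoImage_le_inn (hM : Model0 R) (h2 : (2 : F) ≠ 0) {M : ℕ} (hι : Fintype.card ι = 2 * M)
    (hn : 2 ≤ Fintype.card ι) (hz : spinH hM.nondeg h2 (negOne R) = -1) :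
    psoImage R = Cfsg.Inn (Cfsg.POmega F ⇑R) := by
  refine le_antisymm ?_ inn_le_psoImage
  rintro _ ⟨k, hk, rfl⟩
  exact dia_mem_inn_of_det hM h2 hι hn (congrArg Units.val hk) (Or.inr hz)

theorem exists_det_one_spin (hM : Model0 R) (h2 : (2 : F) ≠ 0) (hn : 2 ≤ Fintype.card ι) :
    ∃ k : Cfsg.isometryGroup F ⇑R, ((k : GL ι F) : Matrix ι ι F).det = 1 ∧ spinH hM.nondeg h2 k = -1 := by
  obtain ⟨v, w, hv, hw, hw0⟩ := exists_quad_class_vectors R hM.nondeg h2
    (by rw [Module.finrank_fintype_fun_eq_card]; exact hn)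
  have hv0 : R v ≠ 0 := by rw [hv]; exact one_ne_zero
  refine ⟨reflI R v * reflI R w, ?_, ?_⟩
  · rw [Subgroup.coe_mul, Units.val_mul, Matrix.det_mul, reflI_matrix, reflI_matrix,
      Geometry.det_reflectionMatrix R hv0, Geometry.det_reflectionMatrix R hw0, neg_mul_neg, one_mul]
  · rw [map_mul, spinH_reflection hM.nondeg h2 hv0 (reflI_matrix v), spinH_reflection hM.nondeg h2 hw0 (reflI_matrix w),
      hv, sqClass_eq_one_iff.mpr IsSquare.one, sqClass_eq_neg_one_iff.mpr hw, one_mul]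

theorem relIndex_pso (hM : Model0 R) (h2 : (2 : F) ≠ 0) {M : ℕ} (hι : Fintype.card ι = 2 * M)
    (hn : 2 ≤ Fintype.card ι) :
    (spinH hM.nondeg h2 (negOne R) = -1 → (Cfsg.Inn (Cfsg.POmega F ⇑R)).relIndex (psoImage R) = 1) ∧
    (spinH hM.nondeg h2 (negOne R) = 1 → (Cfsg.Inn (Cfsg.POmega F ⇑R)).relIndex (psoImage R) = 2) := by
  refine ⟨fun hz => by rw [psoImage_le_inn hM h2 hι hn hz, Subgroup.relIndex_self], fun hz => ?_⟩
  obtain ⟨k, hk, hks⟩ := exists_det_one_spin hM h2 hn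
  rw [Subgroup.relIndex, Subgroup.index_eq_two_iff]
  refine ⟨⟨_, k, Units.ext hk, rfl⟩, ?_⟩
  rintro ⟨_, g, hg, rfl⟩
  have hd : ((g : GL ι F) : Matrix ι ι F).det = 1 := congrArg Units.val hg
  have hmem : ∀ x : Cfsg.isometryGroup F ⇑R, ((x : GL ι F) : Matrix ι ι F).det = 1 →
      ((dia R).comp (isoG R) x ∈ Cfsg.Inn (Cfsg.POmega F ⇑R) ↔ spinH hM.nondeg h2 x = 1) := fun x hx =>
    ⟨spin_eq_of_dia_mem_inn hM h2 hn hz, fun h => dia_mem_inn_of_det hM h2 hι hn hx (Or.inl h)⟩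
  simp only [Subgroup.mem_subgroupOf, Subgroup.coe_mul, ← map_mul]
  rw [hmem _ hd, hmem _ (by rw [Subgroup.coe_mul, Units.val_mul, Matrix.det_mul, hd, hk, one_mul]), map_mul, hks]
  rcases Int.units_eq_one_or (spinH hM.nondeg h2 g) with h | h <;> rw [h] <;> decide

/-- `ℤˣ ≅ Z/2`. -/
theorem signs_iso : Nonempty (ℤˣ ≃* Multiplicative (ZMod 2)) :=
  haveI : Fact (Nat.Prime 2) := ⟨Nat.prime_two⟩
  ⟨mulEquivOfPrimeCardEq (p := 2) (by simp [Nat.card_eq_fintype_card, Fintype.card_units_int])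
    (by rw [Nat.card_congr Multiplicative.toAdd, Nat.card_zmod])⟩

theorem pgo_quot_pso (hM : Model0 R) (h2 : (2 : F) ≠ 0) {M : ℕ} (hι : Fintype.card ι = 2 * M)
    (hs : Function.Surjective (multS hM)) :
    ∃ φ : ↥(Cfsg.pgoAut F ⇑R) →* Multiplicative (ZMod 2 × ZMod 2), Function.Surjective φ ∧
      φ.ker = (Cfsg.psoAut F ⇑R).subgroupOf (Cfsg.pgoAut F ⇑R) := by
  rw [pgoAut_eq, psoAut_eq, MonoidHom.range_eq_map]
  obtain ⟨s⟩ := signs_iso
  let e : ℤˣ × ℤˣ ≃* Multiplicative (ZMod 2 × ZMod 2) :=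
    (s.prodCongr s).trans (MulEquiv.prodMultiplicative (ZMod 2) (ZMod 2)).symm
  obtain ⟨φ, hφs, hφk⟩ := exists_lift_map (dia R) ⊤
    (e.toMonoidHom.comp ((psiS hM h2 hι).comp (⊤ : Subgroup _).subtype))
    (e.surjective.comp ((psiS_surjective hM h2 hι hs).comp fun g => ⟨⟨g, trivial⟩, rfl⟩))
    (fun g hg => by
      show e (psiS hM h2 hι g) = 1
      rw [psiS_ker_dia hM h2 hι hg, map_one])
  refine ⟨φ, hφs, hφk.trans ?_⟩
  rw [← ker_psiS_map hM h2 hι, ker_iso_comp]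
  congr 2
  ext g
  exact ⟨fun ⟨g', hg', e⟩ => e ▸ hg', fun hg => ⟨⟨g, trivial⟩, hg, rfl⟩⟩

/-- The restriction of the class map. -/
noncomputable def clN (N : Subgroup (MulAut (Cfsg.POmega F ⇑R))) :
    N →* Cfsg.Out (Cfsg.POmega F ⇑R) :=
  (QuotientGroup.mk' (Cfsg.Inn (Cfsg.POmega F ⇑R))).comp N.subtype

theorem exists_quot_inn {X : Type*} [Group X] (N : Subgroup (MulAut (Cfsg.POmega F ⇑R)))
    (h : Nonempty ((clN N).range ≃* X)) :
    ∃ φ : N →* X, Function.Surjective φ ∧ φ.ker = (Cfsg.Inn (Cfsg.POmega F ⇑R)).subgroupOf N := by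
  obtain ⟨e⟩ := h
  refine ⟨e.toMonoidHom.comp (clN N).rangeRestrict, e.surjective.comp (clN N).rangeRestrict_surjective, ?_⟩
  rw [ker_iso_comp, MonoidHom.ker_rangeRestrict]
  ext x
  rw [MonoidHom.mem_ker, Subgroup.mem_subgroupOf]
  exact QuotientGroup.eq_one_iff _

theorem card_clN (N : Subgroup (MulAut (Cfsg.POmega F ⇑R))) :
    Nat.card (clN N).range = (Cfsg.Inn (Cfsg.POmega F ⇑R)).relIndex N := by
  rw [← Subgroup.index_ker, Subgroup.relIndex]
  congr 1
  ext x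
  rw [MonoidHom.mem_ker, Subgroup.mem_subgroupOf]
  exact QuotientGroup.eq_one_iff _

theorem pgo_quot_inn_four (hM : Model0 R) (h2 : (2 : F) ≠ 0) {M : ℕ} (hι : Fintype.card ι = 2 * M)
    (hn : 2 ≤ Fintype.card ι) (hs : Function.Surjective (multS hM))
    (hz : spinH hM.nondeg h2 (negOne R) = -1) :
    ∃ φ : ↥(Cfsg.pgoAut F ⇑R) →* Multiplicative (ZMod 2 × ZMod 2), Function.Surjective φ ∧
      φ.ker = (Cfsg.Inn (Cfsg.POmega F ⇑R)).subgroupOf (Cfsg.pgoAut F ⇑R) := by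
  rw [← psoImage_le_inn hM h2 hι hn hz, ← psoAut_eq]
  exact pgo_quot_pso hM h2 hι hs

theorem relIndex_pso_pgo (hM : Model0 R) (h2 : (2 : F) ≠ 0) {M : ℕ} (hι : Fintype.card ι = 2 * M)
    (hs : Function.Surjective (multS hM)) : (psoImage R).relIndex (dia R).range = 4 := by
  obtain ⟨φ, hφs, hφk⟩ := pgo_quot_pso hM h2 hι hs
  rw [← pgoAut_eq, ← psoAut_eq, Subgroup.relIndex, ← hφk, Subgroup.index_ker, MonoidHom.range_eq_top.mpr hφs,
    Subgroup.card_top, Nat.card_congr Multiplicative.toAdd, Nat.card_prod, Nat.card_zmod]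

theorem pgo_quot_inn_dihedral (hM : Model0 R) (h2 : (2 : F) ≠ 0) {M : ℕ} (hι : Fintype.card ι = 2 * M)
    (hn : 2 ≤ Fintype.card ι) (hs : Function.Surjective (multS hM))
    (hz : spinH hM.nondeg h2 (negOne R) = 1) :
    ∃ φ : ↥(Cfsg.pgoAut F ⇑R) →* DihedralGroup 4, Function.Surjective φ ∧
      φ.ker = (Cfsg.Inn (Cfsg.POmega F ⇑R)).subgroupOf (Cfsg.pgoAut F ⇑R) := by
  rw [pgoAut_eq]
  refine exists_quot_inn _ ?_
  set N := (dia R).range
  haveI : Finite (MulAut (Cfsg.POmega F ⇑R)) := Finite.of_injective _ DFunLike.coe_injective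
  have hcard : Nat.card (clN N).range = 8 * 1 := by
    rw [card_clN, ← Subgroup.relIndex_mul_relIndex _ (psoImage R) N inn_le_psoImage
      (by rintro _ ⟨k, -, rfl⟩; exact ⟨isoG R k, rfl⟩), (relIndex_pso hM h2 hι hn).2 hz, relIndex_pso_pgo hM h2 hι hs]
  set O := (clN N).range
  let c : Cfsg.Geo.quadSimilarityGroup (F := F) ⇑R →* O :=
    (clN N).rangeRestrict.comp (dia R).rangeRestrict
  have hc1 : ∀ g, c g = 1 ↔ dia R g ∈ Cfsg.Inn (Cfsg.POmega F ⇑R) := fun g => by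
    rw [Subtype.ext_iff]
    exact QuotientGroup.eq_one_iff (dia R g)
  have hceq : ∀ k k' : Cfsg.isometryGroup F ⇑R,
      ((k : GL ι F) : Matrix ι ι F).det = ((k' : GL ι F) : Matrix ι ι F).det →
      spinH hM.nondeg h2 k = spinH hM.nondeg h2 k' → c (isoG R k) = c (isoG R k') := by
    intro k k' hd hk
    rw [← inv_mul_eq_one, ← map_inv, ← map_mul, hc1, map_mul, map_inv]
    exact dia_inv_mul_mem_inn hM h2 hι hn hd hk
  obtain ⟨α, hα⟩ := exists_nonsquare_unit (F := F) h2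
  obtain ⟨h, hh⟩ := hs α
  obtain ⟨v₁, hv₁⟩ := hM.exists_one
  set v₂ := (h.1 : Matrix ι ι F) *ᵥ v₁
  have hv₂ : R v₂ = (α : F) := by rw [multS_spec hM, hh, hv₁, mul_one]
  have hv₁0 : R v₁ ≠ 0 := by rw [hv₁]; exact one_ne_zero
  have hv₂0 : R v₂ ≠ 0 := by rw [hv₂]; exact α.ne_zero
  have hdet : ∀ v, R v ≠ 0 → ((reflI R v : GL ι F) : Matrix ι ι F).det = -1 := fun v hv => by
    rw [reflI_matrix, Geometry.det_reflectionMatrix R hv]
  have hsp₁ : spinH hM.nondeg h2 (reflI R v₁) = 1 := by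
    rw [spinH_reflection hM.nondeg h2 hv₁0 (reflI_matrix v₁), hv₁, sqClass_eq_one_iff]
    exact IsSquare.one
  have hsp₂ : spinH hM.nondeg h2 (reflI R v₂) = -1 := by
    rw [spinH_reflection hM.nondeg h2 hv₂0 (reflI_matrix v₂), hv₂, sqClass_eq_neg_one_iff]
    exact hα
  set r₁ := c (isoG R (reflI R v₁)) with hr₁
  set r₂ := c (isoG R (reflI R v₂)) with hr₂
  set η := c h with hη
  set z := r₁ * r₂ with hzdef
  have hrr : ∀ v, c (isoG R (reflI R v)) * c (isoG R (reflI R v)) = 1 := fun v => by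
    rw [← map_mul, ← map_mul, reflI_mul_self, map_one, map_one]
  have hr₁' : r₁ ≠ 1 := by
    intro e
    have := det_eq_of_dia_mem_inn hM hι ((hc1 _).mp e)
    rw [hdet _ hv₁0] at this
    exact h2 (by linear_combination -this)
  have hr₂' : r₂ ≠ 1 := by
    intro e
    have := det_eq_of_dia_mem_inn hM hι ((hc1 _).mp e)
    rw [hdet _ hv₂0] at this
    exact h2 (by linear_combination -this)
  have hr12 : r₁ * r₂ = r₂ * r₁ := by
    rw [hr₁, hr₂, ← map_mul, ← map_mul, ← map_mul, ← map_mul]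
    exact hceq _ _ (by simp only [Subgroup.coe_mul, Units.val_mul, Matrix.det_mul]; ring)
      (by rw [map_mul, map_mul, mul_comm])
  have hz1 : z ≠ 1 := by
    rw [hzdef, hr₁, hr₂, ← map_mul, ← map_mul, Ne, hc1]
    intro e
    have := spin_eq_of_dia_mem_inn hM h2 hn hz e
    rw [map_mul, hsp₁, hsp₂] at this
    exact absurd this (by decide)
  have hzz : z * z = 1 := by
    rw [hzdef]; nth_rewrite 2 [hr12]
    rw [← mul_assoc, mul_assoc r₁, hr₂, hrr, mul_one, hr₁, hrr]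
  have hηr : η * r₁ = r₂ * η := by
    rw [hη, hr₁, hr₂, ← map_mul, ← map_mul, ← inv_mul_eq_one, ← map_inv, ← map_mul, hc1]
    have hconj := semAut_conj_refl (R := R) (pair_of_sim h.2) v₁
    rw [← dia_apply] at hconj
    change dia R h * _ = dia R (isoG R (reflI R v₂)) * dia R h at hconj
    rw [map_mul, map_inv, map_mul, map_mul, hconj, inv_mul_cancel]
    exact one_mem _
  have hη2 : η * η = 1 ∨ η * η = z := by
    obtain ⟨k, hk⟩ := exists_iso_of_multS hM (g := h * h) (u := α) (by rw [map_mul, hh])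
    have hd : deltaS hM M (h * h) = 1 := by
      rcases deltaS_sq hM hι h with e | e <;> rw [map_mul, e]
      · rw [one_mul]
      · rw [neg_mul_neg, one_mul]
    rw [hk, map_mul, deltaS_scG hM hι, one_mul, deltaS_isoG] at hd
    have hdk : ((k : GL ι F) : Matrix ι ι F).det = 1 := congrArg Units.val hd
    have hu : c (scG R α) = 1 := by
      rw [hc1, (dia_eq_one_iff hM (scG R α)).mpr ⟨α, rfl⟩]; exact one_mem _
    rw [hη, ← map_mul, hk, map_mul, hu, one_mul]
    rcases Int.units_eq_one_or (spinH hM.nondeg h2 k) with e | e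
    · left
      rw [← map_one c, ← map_one (isoG R)]
      exact hceq _ _ (by rw [hdk, OneMemClass.coe_one, Units.val_one, Matrix.det_one]) (by rw [e, map_one])
    · right
      rw [hzdef, hr₁, hr₂, ← map_mul, ← map_mul]
      refine hceq _ _ ?_ (by rw [e, map_mul, hsp₁, hsp₂, one_mul])
      rw [hdk, Subgroup.coe_mul, Units.val_mul, Matrix.det_mul, hdet _ hv₁0, hdet _ hv₂0, neg_mul_neg, one_mul]
  have hηne : ∀ k : Cfsg.isometryGroup F ⇑R, η ≠ c (isoG R k) := by
    intro k e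
    rw [hη, ← inv_mul_eq_one, ← map_inv, ← map_mul, hc1] at e
    obtain ⟨g, hg, hge⟩ := inn_le_psoImage e
    have hp : psiS hM h2 hι (h⁻¹ * isoG R k) = psiS hM h2 hι (isoG R g) := by
      rw [← inv_mul_eq_one, ← map_inv, ← map_mul]
      refine psiS_ker_dia hM h2 hι ?_
      rw [map_mul, map_inv, inv_mul_eq_one]
      exact hge.symm
    have h1 : sqClass ((multS hM (h⁻¹ * isoG R k) : Fˣ) : F) = sqClass ((multS hM (isoG R g) : Fˣ) : F) :=
      congrArg Prod.fst hp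
    rw [map_mul, map_inv, hh, multS_isoG, multS_isoG, mul_one, Units.val_inv_eq_inv_val, Geometry.sqClass_inv,
      sqClass_eq_neg_one_iff.mpr hα, Units.val_one, sqClass_eq_one_iff.mpr IsSquare.one] at h1
    exact absurd h1 (by decide)
  have hr₁i : r₁⁻¹ = r₁ := inv_eq_of_mul_eq_one_left (hrr _)
  have hr₂z : r₁ * z = r₂ := by rw [hzdef, ← mul_assoc, hr₁, hrr, one_mul]
  obtain ⟨ρ, hρ2, hρc, hρne⟩ : ∃ ρ, ρ * ρ = z ∧ r₁ * ρ * r₁ = ρ⁻¹ ∧ (∀ k, ρ ≠ c (isoG R k)) := by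
    rcases hη2 with e | e
    · refine ⟨η * r₁, ?_, ?_, fun k hk => ?_⟩
      · calc η * r₁ * (η * r₁) = r₂ * (η * η) * r₁ := by rw [← mul_assoc, hηr]; group
          _ = z := by rw [e, mul_one, hzdef, hr12]
      · rw [mul_assoc, mul_assoc, hr₁, hrr, mul_one, _root_.mul_inv_rev, ← hr₁, hr₁i, inv_eq_of_mul_eq_one_left e]
      · refine hηne (k * reflI R v₁) ?_
        rw [map_mul, map_mul, ← hk, ← hr₁, mul_assoc, hr₁, hrr, mul_one]
    · refine ⟨η, e, ?_, hηne⟩
      have hηz : η * z = z * η := by rw [← e, mul_assoc]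
      refine eq_inv_of_mul_eq_one_left ?_
      have h4 : r₁ * η = η * r₂ := by
        apply mul_left_cancel (a := η)
        calc η * (r₁ * η) = r₂ * (η * η) := by rw [← mul_assoc, hηr, mul_assoc]
          _ = r₂ * z := by rw [e]
          _ = r₁ := by rw [hzdef, hr12, ← mul_assoc, hr₂, hrr, one_mul]
          _ = z * r₂ := by rw [hzdef, mul_assoc, hr₂, hrr, mul_one]
          _ = η * (η * r₂) := by rw [← e, mul_assoc]
      calc r₁ * η * r₁ * η = η * r₂ * r₁ * η := by rw [h4]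
        _ = η * z * η := by rw [mul_assoc η r₂, hzdef, hr12]
        _ = z * (η * η) := by rw [hηz, mul_assoc]
        _ = 1 := by rw [e, hzz]
  have hρ4 : ρ ^ 4 = 1 := by rw [show (4 : ℕ) = 2 + 2 from rfl, pow_add, pow_two, hρ2, hzz]
  have hy1 : ∀ i : ℕ, r₁ ≠ ρ ^ i := by
    intro i e
    rw [← Nat.mod_add_div i 4, pow_add, pow_mul, hρ4, one_pow, mul_one] at e
    have hi : i % 4 < 4 := Nat.mod_lt _ (by norm_num)
    interval_cases hi' : i % 4
    · exact hr₁' (e.trans (pow_zero _))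
    · exact hρne _ (e.trans (pow_one _)).symm
    · rw [pow_two, hρ2] at e
      apply hr₂'
      rw [← hr₂z, ← e, hr₁, hrr]
    · refine hρne (reflI R v₂) ?_
      have : ρ = r₁ * z := by
        rw [e, ← hρ2, ← pow_two, ← pow_add, show 3 + 2 = 4 + 1 from rfl, pow_succ, hρ4, one_mul]
      rw [this, hr₂z]
  obtain ⟨e⟩ := iso_dihedral_prod_cyclic (1 : O →* Unit) (ρ := ρ) (y := r₁) (c := 1) le_rfl hcard
    (by rw [pow_two, hρ2]; exact hz1) hρ4 (hrr _) hρc hy1 (Commute.one_left _) (Commute.one_left _) (one_pow _)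
    rfl rfl orderOf_one
  exact ⟨e.trans MulEquiv.prodUnique⟩

/-- Similarities with `det = μ^M`. -/
noncomputable def dia1 (hM : Model0 R) (h2 : (2 : F) ≠ 0) {M : ℕ} (hι : Fintype.card ι = 2 * M) :
    Subgroup (MulAut (Cfsg.POmega F ⇑R)) := (sgnS hM h2 hι).ker.map (dia R)

theorem dia1_quot_pso (hM : Model0 R) (h2 : (2 : F) ≠ 0) {M : ℕ} (hι : Fintype.card ι = 2 * M)
    (hs : Function.Surjective (multS hM)) :
    ∃ φ : ↥(dia1 hM h2 hι) →* Multiplicative (ZMod 2), Function.Surjective φ ∧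
      φ.ker = (psoImage R).subgroupOf (dia1 hM h2 hι) := by
  obtain ⟨s⟩ := signs_iso
  obtain ⟨φ, hφs, hφk⟩ := exists_lift_map (dia R) (sgnS hM h2 hι).ker
    (s.toMonoidHom.comp ((MonoidHom.fst ℤˣ ℤˣ).comp ((psiS hM h2 hι).comp (sgnS hM h2 hι).ker.subtype)))
    (s.surjective.comp fun x => by
      obtain ⟨g, hg⟩ := psiS_surjective hM h2 hι hs (x, 1)
      exact ⟨⟨g, congrArg Prod.snd hg⟩, congrArg Prod.fst hg⟩)
    (fun g hg => by
      show s (psiS hM h2 hι g).1 = 1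
      rw [psiS_ker_dia hM h2 hι hg]; exact map_one _)
  refine ⟨φ, hφs, hφk.trans ?_⟩
  rw [← ker_psiS_map hM h2 hι, ker_iso_comp]
  congr 2
  ext g
  constructor
  · rintro ⟨g', hg', rfl⟩
    exact Prod.ext hg' g'.2
  · intro hg
    exact ⟨⟨g, congrArg Prod.snd hg⟩, congrArg Prod.fst hg, rfl⟩

theorem dia1_quot_inn_two (hM : Model0 R) (h2 : (2 : F) ≠ 0) {M : ℕ} (hι : Fintype.card ι = 2 * M)
    (hn : 2 ≤ Fintype.card ι) (hs : Function.Surjective (multS hM))
    (hz : spinH hM.nondeg h2 (negOne R) = -1) :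
    ∃ φ : ↥(dia1 hM h2 hι) →* Multiplicative (ZMod 2), Function.Surjective φ ∧
      φ.ker = (Cfsg.Inn (Cfsg.POmega F ⇑R)).subgroupOf (dia1 hM h2 hι) := by
  rw [← psoImage_le_inn hM h2 hι hn hz]
  exact dia1_quot_pso hM h2 hι hs

/-- With `-1 ∈ Ω`: the quotient is cyclic or a four-group according to the spinor norm of `h²/μ(h)`. -/
theorem dia1_quot_inn_four (hM : Model0 R) (h2 : (2 : F) ≠ 0) {M : ℕ} (hι : Fintype.card ι = 2 * M)
    (hn : 2 ≤ Fintype.card ι) (hs : Function.Surjective (multS hM))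
    (hz : spinH hM.nondeg h2 (negOne R) = 1) {α : Fˣ} (hα : ¬ IsSquare (α : F))
    {h : Cfsg.Geo.quadSimilarityGroup (F := F) ⇑R} (hh : multS hM h = α) (hd : deltaS hM M h = 1)
    {k : Cfsg.isometryGroup F ⇑R} (hk : h * h = scG R α * isoG R k) :
    (spinH hM.nondeg h2 k = -1 →
      ∃ φ : ↥(dia1 hM h2 hι) →* Multiplicative (ZMod 4), Function.Surjective φ ∧
        φ.ker = (Cfsg.Inn (Cfsg.POmega F ⇑R)).subgroupOf (dia1 hM h2 hι)) ∧
    (spinH hM.nondeg h2 k = 1 →
      ∃ φ : ↥(dia1 hM h2 hι) →* Multiplicative (ZMod 2 × ZMod 2), Function.Surjective φ ∧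
        φ.ker = (Cfsg.Inn (Cfsg.POmega F ⇑R)).subgroupOf (dia1 hM h2 hι)) := by
  haveI : Finite (MulAut (Cfsg.POmega F ⇑R)) := Finite.of_injective _ DFunLike.coe_injective
  set N := dia1 hM h2 hι with hN
  have hsub : psoImage R ≤ N := by
    rw [← ker_psiS_map hM h2 hι]
    exact Subgroup.map_mono fun g hg => congrArg Prod.snd hg
  obtain ⟨φ₀, hφ₀s, hφ₀k⟩ := dia1_quot_pso hM h2 hι hs
  have hcard : Nat.card (clN N).range = 4 := by
    rw [card_clN, ← Subgroup.relIndex_mul_relIndex _ (psoImage R) N inn_le_psoImage hsub,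
      (relIndex_pso hM h2 hι hn).2 hz]
    show 2 * (psoImage R).relIndex N = 4
    rw [Subgroup.relIndex, ← hφ₀k, Subgroup.index_ker, MonoidHom.range_eq_top.mpr hφ₀s, Subgroup.card_top,
      Nat.card_congr Multiplicative.toAdd, Nat.card_zmod]
  set O := (clN N).range
  let c : (sgnS hM h2 hι).ker →* O := (clN N).rangeRestrict.comp ((dia R).subgroupMap _)
  have hc1 : ∀ g, c g = 1 ↔ dia R g.1 ∈ Cfsg.Inn (Cfsg.POmega F ⇑R) := fun g => by
    rw [Subtype.ext_iff]
    exact QuotientGroup.eq_one_iff (dia R g.1)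
  obtain ⟨k₀, hk₀, hks₀⟩ := exists_det_one_spin hM h2 hn
  set η := c ⟨h, (sgnS_eq_one hM h2 hι h).mpr hd⟩ with hη
  set z := c ⟨isoG R k₀, (sgnS_eq_one hM h2 hι _).mpr (by rw [deltaS_isoG]; exact Units.ext hk₀)⟩ with hzd
  have hdk : ((k : GL ι F) : Matrix ι ι F).det = 1 := by
    have hd' : deltaS hM M (h * h) = 1 := by rw [map_mul, hd, one_mul]
    rw [hk, map_mul, deltaS_scG hM hι, one_mul, deltaS_isoG] at hd'
    exact congrArg Units.val hd'
  have hz1 : z ≠ 1 := by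
    rw [hzd, Ne, hc1]
    intro e
    exact absurd (spin_eq_of_dia_mem_inn hM h2 hn hz e) (by rw [hks₀]; decide)
  have hzz : z * z = 1 := by
    rw [hzd, ← map_mul, hc1, Subgroup.coe_mul, ← map_mul]
    exact dia_mem_inn_of_det hM h2 hι hn
      (by rw [Subgroup.coe_mul, Units.val_mul, Matrix.det_mul, hk₀, one_mul])
      (Or.inl (by rw [map_mul, hks₀]; decide))
  have hη1 : η ≠ 1 ∧ η ≠ z := by
    have key : ∀ g : (sgnS hM h2 hι).ker, c g = η → sqClass ((multS hM g.1 : Fˣ) : F) = -1 := by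
      intro g hg
      rw [hη, ← inv_mul_eq_one, ← map_inv, ← map_mul, hc1] at hg
      obtain ⟨s, hs', hse⟩ := inn_le_psoImage hg
      have hp : psiS hM h2 hι (g.1⁻¹ * h) = psiS hM h2 hι (isoG R s) := by
        rw [← inv_mul_eq_one, ← map_inv, ← map_mul]
        refine psiS_ker_dia hM h2 hι ?_
        rw [map_mul, map_inv, inv_mul_eq_one]
        exact hse.symm
      have h1 : sqClass ((multS hM (g.1⁻¹ * h) : Fˣ) : F) = sqClass ((multS hM (isoG R s) : Fˣ) : F) :=
        congrArg Prod.fst hp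
      rw [map_mul, map_inv, multS_isoG, hh, Units.val_mul, sqClass_mul (Units.ne_zero _) α.ne_zero,
        Units.val_inv_eq_inv_val, Geometry.sqClass_inv, sqClass_eq_neg_one_iff.mpr hα, Units.val_one,
        sqClass_eq_one_iff.mpr (IsSquare.one : IsSquare (1 : F))] at h1
      rcases Int.units_eq_one_or (sqClass ((multS hM g.1 : Fˣ) : F)) with e | e
      · rw [e] at h1; exact absurd h1 (by decide)
      · exact e
    refine ⟨fun e => ?_, fun e => ?_⟩
    · have := key 1 (by rw [map_one, e])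
      rw [OneMemClass.coe_one, map_one, Units.val_one, sqClass_eq_one_iff.mpr IsSquare.one] at this
      exact absurd this (by decide)
    · have := key _ e.symm
      rw [multS_isoG, Units.val_one, sqClass_eq_one_iff.mpr IsSquare.one] at this
      exact absurd this (by decide)
  have hu : dia R (scG R α) = 1 := (dia_eq_one_iff hM (scG R α)).mpr ⟨α, rfl⟩
  constructor <;> intro hks <;> refine exists_quot_inn _ ?_
  · have hη2 : η * η = z := by
      rw [hη, hzd, ← map_mul, ← inv_mul_eq_one, ← map_inv, ← map_mul, hc1]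
      show dia R ((h * h)⁻¹ * isoG R k₀) ∈ _
      rw [hk, map_mul, map_inv, map_mul, hu, one_mul]
      exact dia_inv_mul_mem_inn hM h2 hι hn (hdk.trans hk₀.symm) (hks.trans hks₀.symm)
    have hη4 : η ^ 2 ^ (1 + 1) = 1 := by
      rw [show 2 ^ (1 + 1) = 2 + 2 by rfl, pow_add, pow_two, hη2, hzz]
    have hη2' : ¬ η ^ 2 ^ 1 = 1 := by rw [pow_one, pow_two, hη2]; exact hz1
    haveI : Fact (Nat.Prime 2) := ⟨Nat.prime_two⟩
    haveI : IsCyclic O := isCyclic_of_orderOf_eq_card η (by rw [orderOf_eq_prime_pow hη2' hη4, hcard]; rfl)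
    exact ⟨mulEquivOfCyclicCardEq (by rw [hcard, Nat.card_congr Multiplicative.toAdd, Nat.card_zmod])⟩
  · have hη2 : η * η = 1 := by
      rw [hη, ← map_mul, hc1]
      show dia R (h * h) ∈ _
      rw [hk, map_mul, hu, one_mul]
      exact dia_mem_inn_of_det hM h2 hι hn hdk (Or.inl hks)
    have hcomm : Commute η z := by
      haveI : Fact (Nat.Prime 2) := ⟨Nat.prime_two⟩
      exact IsPGroup.commutative_of_card_eq_prime_sq (p := 2) (by rw [hcard]; rfl) η z
    exact iso_two_prod_cyclic (1 : O →* Unit) (d := η) (s := z) (f := 1) le_rfl hcard hcomm hη1.1 hη2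
      (by rw [pow_one]; exact hη1.2) (by rw [pow_one]; exact hz1) (by rw [pow_one]; exact hzz) rfl orderOf_one

end Cfsg.Agent.Lib.Classical.AutPOmega
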