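import Cfsg.Agent.Lib.Classical.AutPOmega.PlusTwist

/-!
Automorphisms of `PΩ`, part 31: classes and centralizers of involutory graph-field automorphisms of the
plus-type groups.
-/

set_option autoImplicit false

namespace Cfsg.Agent.Lib.Classical.AutPOmega

open QuadraticMap (polarBilin)
open Cfsg.Agent.Lib.Geometry (sqClass sqClass_eq_one_iff sqClass_eq_neg_one_iff)
open Matrix

attribute [-simp] QuadraticMap.polarBilin_apply_apply

variable {F : Type*} [Field F] [Fintype F]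

theorem gal_invol_unique {p f : ℕ} [Fact p.Prime] (hF : Fintype.card F = p ^ f) {σ τ : F ≃+* F}
    (hσ : σ ^ 2 = 1) (hσ1 : σ ≠ 1) (hτ : τ ^ 2 = 1) (hτ1 : τ ≠ 1) : τ = σ := by
  classical
  haveI : CharP F p := charP_of_card_eq_prime_pow hF
  haveI := (AutPSL.gal_cyclic_card (F := F) hF).1
  haveI : Finite (F ≃+* F) := Finite.of_injective (fun e : F ≃+* F => (e : F → F)) DFunLike.coe_injective
  haveI : Fintype (F ≃+* F) := Fintype.ofFinite _
  by_contra hne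
  have h3 : ({1, σ, τ} : Finset (F ≃+* F)).card = 3 := by
    rw [Finset.card_insert_of_notMem (by simp [Ne.symm hσ1, Ne.symm hτ1]), Finset.card_pair (Ne.symm hne)]
  have hle := Finset.card_le_card (show ({1, σ, τ} : Finset (F ≃+* F)) ⊆
      Finset.univ.filter (fun a => a ^ 2 = 1) by
    intro a ha
    simp only [Finset.mem_insert, Finset.mem_singleton] at ha
    rcases ha with rfl | rfl | rfl <;> simp [hσ, hτ])
  have := IsCyclic.card_pow_eq_one_le (α := F ≃+* F) (n := 2) (by omega)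
  omega

/-- The shape of an involutory graph-field automorphism. -/
theorem graph_field_shape {m : ℕ} (hm : 5 ≤ m) {x : MulAut (Cfsg.POmega F ⇑(plusR m F))}
    (hx : ∃ (α γ φ : MulAut (Cfsg.POmega F ⇑(plusR m F))) (σ : F ≃+* F) (v : Fin m ⊕ Fin m → F)
        (g : GL (Fin m ⊕ Fin m) F),
        σ ≠ RingEquiv.refl F ∧ plusR m F v ≠ 0 ∧ (∀ i, σ (v i) = v i) ∧
        (g : Matrix (Fin m ⊕ Fin m) (Fin m ⊕ Fin m) F) = Cfsg.reflectionMatrix (⇑(plusR m F)) v ∧
        Cfsg.IsInducedBySemilinearPOmega (⇑(plusR m F)) g (RingEquiv.refl F) γ ∧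
        Cfsg.IsFieldAutPOmegaOf (⇑(plusR m F)) σ φ ∧ α * x * α⁻¹ = γ * φ)
    (hxr : orderOf x = 2) :
    ∃ (σ : F ≃+* F) (a : Cfsg.Geo.quadSimilarityGroup (F := F) ⇑(plusR m F)), σ ≠ 1 ∧ σ ^ 2 = 1 ∧
      x = dia (plusR m F) a * phiT (plusR_map σ) ∧ clsS (model0_plus (by omega)) (card_plus_index m) a = -1 := by
  obtain ⟨α, γ, φ, σ, v, g, hσ, hv, -, hg, hγ, hφ, hx⟩ := hx
  set r₀ := isoG (plusR m F) (reflI (plusR m F) v)
  have hγ' : γ = dia (plusR m F) r₀ := by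
    have hgr : g = (reflI (plusR m F) v).1 := Units.ext (hg.trans (reflI_matrix v).symm)
    subst hgr
    exact eq_semAut (pair_of_sim r₀.2) hγ
  have hφ' : φ = phiT (plusR_map σ) := fldHom_eq (R := plusR m F) (fun τ => plusR_map τ) hφ
  obtain ⟨a', ha', hcls⟩ := plus_conj_form hm α⁻¹ σ r₀
  have hx' : x = α⁻¹ * (dia (plusR m F) r₀ * phiT (plusR_map σ)) * α⁻¹⁻¹ := by rw [← hγ', ← hφ', ← hx]; group
  rw [← hx'] at ha'
  refine ⟨σ, a', hσ, ?_, ha', hcls.trans (clsS_refl _ _ hv)⟩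
  rw [← galPart_dia_phiT hm σ a', ← ha', ← map_pow, ← hxr, pow_orderOf_eq_one, map_one]

variable {k : ℕ}

theorem stdRefl_cls (hk : 3 ≤ k + 1) :
    clsS (model0_plus (F := F) hk) (card_plus_index (k + 1)) (stdRefl k F) = -1 :=
  clsS_refl _ _ (by rw [plusR_plusVec]; exact one_ne_zero)

/-- Involutory graph-field twists are conjugate to the standard one. -/
theorem graph_field_conj (hk : 3 ≤ k + 1) {σ : F ≃+* F} (hσ2 : σ ^ 2 = 1) (hσ : σ ≠ 1)
    {a : Cfsg.Geo.quadSimilarityGroup (F := F) ⇑(plusR (k + 1) F)}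
    (ha : (dia (plusR (k + 1) F) a * phiT (plusR_map σ)) ^ 2 = 1)
    (hcls : clsS (model0_plus hk) (card_plus_index (k + 1)) a = -1) :
    ∃ w ∈ clsN (model0_plus (F := F) hk) (card_plus_index (k + 1)),
      dia (plusR (k + 1) F) a * phiT (plusR_map σ) =
        w * (dia (plusR (k + 1) F) (stdRefl k F) * phiT (plusR_map σ)) * w⁻¹ := by
  have hfix : galT (plusR_map σ) (stdRefl k F) = stdRefl k F :=
    reflI_fixed fun i => congrFun (plusVec_fixed σ 0) i
  refine plus_conj hk Nat.prime_two hσ2 hσ ha ?_ (hcls.trans (stdRefl_cls hk).symm) (stdRefl_cls hk) ?_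
  · refine (prodT_eq_scalar_iff (plusR_map σ) (model0_plus hk) hσ2 _).mpr ⟨1, ?_⟩
    rw [prodT_of_fixed hfix, map_one, pow_two, stdRefl, ← map_mul, reflI_mul_self, map_one]
  · rw [hfix, mul_inv_cancel_right]

theorem isSquare_sqrt_iff {F₀ : Type*} [Field F₀] [Fintype F₀] (h2 : (2 : F) ≠ 0) (h2₀ : (2 : F₀) ≠ 0)
    (hq : Fintype.card F = Fintype.card F₀ ^ 2) {j : F₀ →+* F} {α : F₀} (hα : ¬ IsSquare α) {s : F}
    (hs : s * s = j α) : IsSquare s ↔ Fintype.card F₀ % 4 = 3 := by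
  have hc : ringChar F ≠ 2 := fun e => h2 (by
    haveI : CharP F 2 := (ringChar.eq_iff).mp e
    exact CharTwo.two_eq_zero)
  have hc₀ : ringChar F₀ ≠ 2 := fun e => h2₀ (by
    haveI : CharP F₀ 2 := (ringChar.eq_iff).mp e
    exact CharTwo.two_eq_zero)
  obtain ⟨t, ht⟩ : ∃ t, Fintype.card F₀ = 2 * t + 1 :=
    ⟨Fintype.card F₀ / 2, by have := FiniteField.odd_card_of_char_ne_two hc₀; omega⟩
  have hα0 : α ≠ 0 := fun e => hα (e ▸ IsSquare.zero)
  have hs0 : s ≠ 0 := fun e => hα0 ((map_eq_zero j).mp (by rw [← hs, e, mul_zero]))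
  have hαt : α ^ t = -1 := by
    have h1 := FiniteField.pow_dichotomy hc₀ hα0
    have h2' := (FiniteField.isSquare_iff hc₀ hα0).not.mp hα
    rw [show Fintype.card F₀ / 2 = t by omega] at h1 h2'
    exact h1.resolve_left h2'
  have hhalf : Fintype.card F / 2 = 2 * (t * (t + 1)) := by
    rw [hq, ht, show (2 * t + 1) ^ 2 = 1 + 2 * (2 * (t * (t + 1))) by ring, Nat.add_mul_div_left _ _ two_pos]
    omega
  rw [FiniteField.isSquare_iff hc hs0, hhalf, pow_mul, pow_two, hs, pow_mul, ← map_pow, hαt, map_neg, map_one,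
    neg_one_pow_eq_one_iff_even (fun e => h2 (by linear_combination -e))]
  rw [Nat.even_iff, ht]
  omega

/-- The splitting index of the standard graph-field involution. -/
theorem graph_field_index (hk : 4 ≤ k) {σ : F ≃+* F} (hσ : σ ≠ 1) (hσ2 : ∀ t, σ (σ t) = t) {ω : F}
    (hw : σ ω - ω ≠ 0) {F₀ : Type*} [Field F₀] [Fintype F₀] {j : F₀ →+* F} (hj : ∀ t, σ t = t ↔ ∃ s, j s = t)
    (hq : Fintype.card F = Fintype.card F₀ ^ 2) {a₀ b₀ : F₀} (ha : j a₀ = ω + σ ω) (hb : j b₀ = ω * σ ω)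
    (hab₀ : ∀ z₁ z₂ : F₀, z₁ ^ 2 + a₀ * z₁ * z₂ + b₀ * z₂ ^ 2 = 0 → z₁ = 0 ∧ z₂ = 0) :
    ((2 : F) = 0 →
      ((clsN (model0_plus (F := F) (by omega : 3 ≤ k + 1)) (card_plus_index (k + 1)) ⊓
          Subgroup.centralizer {dia (plusR (k + 1) F) (stdRefl k F) * phiT (plusR_map σ)}) ⊔
        Cfsg.Inn (Cfsg.POmega F ⇑(plusR (k + 1) F))).relIndex
          (clsN (model0_plus (F := F) (by omega : 3 ≤ k + 1)) (card_plus_index (k + 1))) = 1) ∧
    ((2 : F) ≠ 0 →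
      ((Odd (k + 1) ∧ Fintype.card F₀ % 4 = 1) →
        ((clsN (model0_plus (F := F) (by omega : 3 ≤ k + 1)) (card_plus_index (k + 1)) ⊓
            Subgroup.centralizer {dia (plusR (k + 1) F) (stdRefl k F) * phiT (plusR_map σ)}) ⊔
          Cfsg.Inn (Cfsg.POmega F ⇑(plusR (k + 1) F))).relIndex
            (clsN (model0_plus (F := F) (by omega : 3 ≤ k + 1)) (card_plus_index (k + 1))) = 4) ∧
      (¬ (Odd (k + 1) ∧ Fintype.card F₀ % 4 = 1) →
        ((clsN (model0_plus (F := F) (by omega : 3 ≤ k + 1)) (card_plus_index (k + 1)) ⊓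
            Subgroup.centralizer {dia (plusR (k + 1) F) (stdRefl k F) * phiT (plusR_map σ)}) ⊔
          Cfsg.Inn (Cfsg.POmega F ⇑(plusR (k + 1) F))).relIndex
            (clsN (model0_plus (F := F) (by omega : 3 ≤ k + 1)) (card_plus_index (k + 1))) = 2)) := by
  have hk1 : 3 ≤ k + 1 := by omega
  have hι := card_plus_index (k + 1)
  have hι₀ := card_minus_index k
  have hM := model0_plus (F := F) hk1
  have hM₀ := (model_minus (by omega : 3 ≤ k) hab₀).toModel0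
  have hn : 2 ≤ Fintype.card (Fin (k + 1) ⊕ Fin (k + 1)) := by omega
  haveI : Nonempty (Fin (k + 1) ⊕ Fin (k + 1)) := ⟨Sum.inl 0⟩
  have hbm := twist_base (k := k) hw ha hb
  set N := clsN hM hι with hN
  set C := N ⊓ Subgroup.centralizer {dia (plusR (k + 1) F) (stdRefl k F) * phiT (plusR_map σ)} with hCdef
  set I := Cfsg.Inn (Cfsg.POmega F ⇑(plusR (k + 1) F)) with hI
  have hIN : I ≤ N := inn_le_clsN hM hι
  refine ⟨fun h2 => Subgroup.relIndex_eq_one.mpr ((clsN_le_inn_two hM hι h2).trans le_sup_right), fun h2 => ?_⟩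
  have h2₀ : (2 : F₀) ≠ 0 := fun e => h2 (by rw [← map_ofNat j 2, e, map_zero])
  have hC : C = ((dia (plusR (k + 1) F)).comp ((baseS hbm).comp (clsS hM₀ hι₀).ker.subtype)).range :=
    centralizer_base (plusR_map σ) hbm hj (twist_fixed hw hσ2) hM₀ hM hι₀ hι
  have hj2 : ∀ t : F₀, IsSquare (j t) := fun t => isSquare_of_fixed h2 hσ2 hσ ((hj _).mpr ⟨t, rfl⟩)
  set P := psoImage (plusR (k + 1) F) with hP
  have hNdia : N = dia1 hM h2 hι := by rw [hN, clsN, dia1, clsS, dif_neg h2]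
  have hCP : C ≤ P := by
    rw [hC, hP, ← ker_psiS_map hM h2 hι]
    rintro _ ⟨⟨g, hg⟩, rfl⟩
    refine ⟨baseS hbm g, Prod.ext ?_ ?_, rfl⟩
    · show sqClass ((multS hM (baseS hbm g) : Fˣ) : F) = 1
      rw [multS_baseS hbm hM₀ hM, sqClass_eq_one_iff]
      exact hj2 _
    · refine (sgnS_eq_one _ _ _ _).mpr ?_
      rw [← clsS_odd hM hι h2, clsS_baseS hbm hM₀ hM hι₀ hι]
      exact hg
  have hIP : I ≤ P := inn_le_psoImage
  have hPN : P.relIndex N = 2 := by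
    obtain ⟨φ, hφs, hφk⟩ := dia1_quot_pso hM h2 hι (plus_multS_surjective hk1)
    rw [hNdia, Subgroup.relIndex, ← hφk, Subgroup.index_ker, MonoidHom.range_eq_top.mpr hφs, Subgroup.card_top,
      Nat.card_congr Multiplicative.toAdd, Nat.card_zmod]
  have hq4 : Fintype.card F % 4 = 1 := by
    have hodd : Fintype.card F₀ % 2 = 1 := FiniteField.odd_card_of_char_ne_two fun e => h2₀ (by
      haveI : CharP F₀ 2 := (ringChar.eq_iff).mp e
      exact CharTwo.two_eq_zero)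
    obtain ⟨t, ht⟩ : ∃ t, Fintype.card F₀ = 2 * t + 1 := ⟨Fintype.card F₀ / 2, by omega⟩
    rw [hq, ht, show (2 * t + 1) ^ 2 = 1 + 4 * (t * (t + 1)) by ring]
    omega
  have hz : spinH hM.nondeg h2 (negOne (plusR (k + 1) F)) = 1 :=
    (spin_negOne_plus (Nat.odd_iff.mpr (by omega)) hk1).mpr (by rintro ⟨-, h⟩; omega)
  -- base isometries have trivial spinor norm
  obtain ⟨c, hc⟩ := hbm.sim
  have hbase : ∀ g : Cfsg.isometryGroup F₀ ⇑(minusR k a₀ b₀), ∃ h, spinH hM.nondeg h2 h = 1 ∧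
      baseS hbm (isoG _ g) = isoG _ h := by
    intro g
    have hg : g ∈ (⊤ : Subgroup _) := Subgroup.mem_top g
    rw [← closure_refl_iso hM₀] at hg
    induction hg using Subgroup.closure_induction with
    | mem g hg =>
      obtain ⟨v, hv, hgv⟩ := hg
      obtain rfl : g = reflI _ v := Subtype.ext (Units.ext (hgv.trans (reflI_matrix v).symm))
      have hv' : plusR (k + 1) F (twistP k hw *ᵥ fun i => j (v i)) ≠ 0 := by
        rw [hc]; exact mul_ne_zero c.ne_zero ((map_ne_zero j).mpr hv)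
      refine ⟨_, ?_, baseS_refl hbm v⟩
      rw [spinH_reflection hM.nondeg h2 hv' (reflI_matrix _), twistP_mulVec, sqClass_eq_one_iff]
      have hneg : plusR (k + 1) F (twistL k hw fun i => j (v i)) = j (-(minusR k a₀ b₀ v)) := by
        rw [map_neg, plusR_apply, minusR_apply, Fin.sum_univ_succ]
        simp [twistL, map_sum, ha, hb, Finset.sum_neg_distrib]
        ring
      rw [hneg]
      exact hj2 _
    | one => exact ⟨1, map_one _, by rw [map_one, map_one, map_one]⟩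
    | mul x y _ _ hx hy =>
      obtain ⟨h1, hs1, he1⟩ := hx
      obtain ⟨h2', hs2, he2⟩ := hy
      exact ⟨h1 * h2', by rw [map_mul, hs1, hs2, one_mul], by rw [map_mul, map_mul, map_mul, he1, he2]⟩
    | inv x _ hx =>
      obtain ⟨h1, hs1, he1⟩ := hx
      exact ⟨h1⁻¹, by rw [map_inv, hs1, inv_one], by rw [map_inv, map_inv, map_inv, he1]⟩
  obtain ⟨α, hα⟩ := exists_nonsquare_unit (F := F₀) h2₀
  obtain ⟨x, y, d₀, hN₀, hd₀, hd₀m, hd₀δ⟩ := exists_minusSim (by omega : 3 ≤ k) hab₀ α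
  set θ := j x + j y * ω with hθ
  have hNθ : θ * σ θ = j (α : F₀) := by
    rw [hθ, map_add, map_mul, (hj _).mpr ⟨x, rfl⟩, (hj _).mpr ⟨y, rfl⟩, ← hN₀]
    simp only [map_add, map_mul, map_pow, ha, hb]
    ring
  have hθsq : ¬ IsSquare θ := by
    rintro ⟨u, hu⟩
    obtain ⟨w, hw'⟩ := (hj (u * σ u)).mp (by rw [map_mul, hσ2, mul_comm])
    refine hα ⟨w, j.injective ?_⟩
    rw [map_mul, hw', ← hNθ, hu, map_mul]
    ring
  have hjα0 : j (α : F₀) ≠ 0 := (map_ne_zero j).mpr α.ne_zero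
  obtain ⟨s, hs, hsθ⟩ : ∃ s, s * s = j (α : F₀) ∧ s ≠ σ θ := by
    obtain ⟨s, hs⟩ := hj2 (α : F₀)
    by_cases e : s = σ θ
    · refine ⟨-s, by rw [neg_mul_neg, hs], fun e' => ?_⟩
      have : (2 : F) * s = 0 := by linear_combination e - e'
      exact hjα0 (by rw [hs, (mul_eq_zero.mp this).resolve_left h2, mul_zero])
    · exact ⟨s, hs.symm, e⟩
  have hs0 : s ≠ 0 := fun e => hjα0 (by rw [← hs, e, mul_zero])
  have hs1 : s ≠ 1 := fun e => hα (by
    have : j (α : F₀) = 1 := by rw [← hs, e, one_mul]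
    exact ⟨1, j.injective (by rw [this, mul_one, map_one])⟩)
  have hσθ0 : σ θ ≠ 0 := fun e => hjα0 (by rw [← hNθ, e, mul_zero])
  obtain ⟨h, hh⟩ := exists_iso_of_multS hM (g := baseS hbm d₀) (u := Units.mk0 s hs0) (by
    rw [multS_baseS hbm hM₀ hM, hd₀m]; exact Units.ext hs.symm)
  have hhdet : ((h : GL (Fin (k + 1) ⊕ Fin (k + 1)) F) : Matrix (Fin (k + 1) ⊕ Fin (k + 1))
      (Fin (k + 1) ⊕ Fin (k + 1)) F).det = 1 := by
    have h1 := congrArg (deltaS hM (k + 1)) hh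
    rw [deltaS_baseS hbm hM₀ hM, hd₀δ, map_one, map_mul, deltaS_scG hM hι, one_mul, deltaS_isoG] at h1
    exact congrArg Units.val h1.symm
  have hspin : spinH hM.nondeg h2 h = -(sqClass s) ^ (k + 1) := by
    have hD : ((h : GL (Fin (k + 1) ⊕ Fin (k + 1)) F) : Matrix (Fin (k + 1) ⊕ Fin (k + 1))
        (Fin (k + 1) ⊕ Fin (k + 1)) F) = Matrix.diagonal (Sum.elim (Fin.cons (σ θ / s) fun _ => s)
          fun i => ((Fin.cons (σ θ / s) fun _ => s : Fin (k + 1) → F) i)⁻¹) := by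
      have h1 := congrArg (fun g : Cfsg.Geo.quadSimilarityGroup (F := F) ⇑(plusR (k + 1) F) =>
        (g.1 : Matrix (Fin (k + 1) ⊕ Fin (k + 1)) (Fin (k + 1) ⊕ Fin (k + 1)) F)) hh
      simp only [baseS_coe] at h1
      rw [twist_minusSim hw ha hb hj hd₀] at h1
      have h3 : Matrix.scalar (Fin (k + 1) ⊕ Fin (k + 1)) s * ((h : GL (Fin (k + 1) ⊕ Fin (k + 1)) F) :
          Matrix (Fin (k + 1) ⊕ Fin (k + 1)) (Fin (k + 1) ⊕ Fin (k + 1)) F) =
          Matrix.diagonal (Sum.elim (Fin.cons (σ θ) fun _ => j (α : F₀)) (Fin.cons θ fun _ => 1)) := h1.symm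
      refine Matrix.ext fun a b => mul_left_cancel₀ hs0 ?_
      have h4 := congrFun (congrFun h3 a) b
      rw [Matrix.scalar_apply, Matrix.diagonal_mul] at h4
      rw [h4]
      rcases eq_or_ne a b with rfl | hab
      · simp only [Matrix.diagonal_apply_eq]
        rcases a with i | i <;> refine Fin.cases ?_ (fun l => ?_) i <;>
          simp [← hs, ← hNθ, mul_div_assoc'] <;> field_simp
        rw [← pow_two] at *
        linear_combination hNθ.trans hs.symm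
      · simp [Matrix.diagonal_apply_ne _ hab]
    have ht : ∀ i, (Fin.cons (σ θ / s) fun _ => s : Fin (k + 1) → F) i ≠ 0 :=
      Fin.cases (by simp [hσθ0, hs0]) fun _ => by simp [hs0]
    have ht1 : ∀ i, (Fin.cons (σ θ / s) fun _ => s : Fin (k + 1) → F) i ≠ 1 :=
      Fin.cases (by rw [Fin.cons_zero]; exact fun e => hsθ ((div_eq_one_iff_eq hs0).mp e).symm)
        fun _ => by simp [hs1]
    rw [spin_diag h2 hk1 h _ ht ht1 hD, Fin.prod_univ_succ]
    simp only [Fin.cons_zero, Fin.cons_succ, Finset.prod_const, Finset.card_univ, Fintype.card_fin]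
    rw [div_eq_mul_inv, Geometry.sqClass_mul hσθ0 (inv_ne_zero hs0), Geometry.sqClass_inv,
      (sqClass_eq_neg_one_iff.mpr fun e => hθsq (by
        obtain ⟨u, hu⟩ := e
        exact ⟨σ u, by rw [← map_mul, ← hu, hσ2]⟩) : sqClass (σ θ) = -1), pow_succ']
    simp
  have hsq := isSquare_sqrt_iff h2 h2₀ hq hα hs
  have hmem : dia (plusR (k + 1) F) (isoG _ h) ∈ C := by
    rw [hC]
    refine ⟨⟨d₀, (clsS_odd hM₀ hι₀ h2₀ d₀).mpr hd₀δ⟩, ?_⟩
    show dia _ (baseS hbm d₀) = _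
    rw [hh, map_mul, (dia_eq_one_iff hM (scG _ _)).mpr ⟨_, rfl⟩, one_mul]
  have hq₀ : Fintype.card F₀ % 4 = 1 ∨ Fintype.card F₀ % 4 = 3 := by
    have hodd : Fintype.card F₀ % 2 = 1 := FiniteField.odd_card_of_char_ne_two fun e => h2₀ (by
      haveI : CharP F₀ 2 := (ringChar.eq_iff).mp e
      exact CharTwo.two_eq_zero)
    omega
  refine ⟨fun ⟨hko, hk4⟩ => ?_, fun hno => ?_⟩
  · -- trivial spinor norm: the centralizer gives only inner automorphisms
    have h1 : spinH hM.nondeg h2 h = 1 := by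
      rw [hspin, sqClass_eq_neg_one_iff.mpr (fun e => by have := hsq.mp e; omega), hko.neg_one_pow, neg_neg]
    have hCI : C ≤ I := by
      rw [hC]
      rintro _ ⟨⟨g, hg⟩, rfl⟩
      have hgδ : deltaS hM₀ (k + 1) g = 1 := (clsS_odd hM₀ hι₀ h2₀ g).mp hg
      have key : ∀ g, deltaS hM₀ (k + 1) g = 1 → IsSquare ((multS hM₀ g : F₀ˣ) : F₀) →
          dia (plusR (k + 1) F) (baseS hbm g) ∈ I := by
        intro g hg hμ
        obtain ⟨u, g', rfl, hg'⟩ := (psiS_eq_one_iff hM₀ h2₀ hι₀ g).mp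
          (Prod.ext (sqClass_eq_one_iff.mpr hμ) ((sgnS_eq_one _ _ _ _).mpr hg))
        obtain ⟨h', hs', he'⟩ := hbase g'
        rw [map_mul, baseS_scG, he', map_mul, (dia_eq_one_iff hM (scG _ _)).mpr ⟨_, rfl⟩, one_mul]
        refine dia_mem_inn_of_det hM h2 hι hn ?_ (Or.inl hs')
        have hd' := congrArg (deltaS hM (k + 1)) he'
        rw [deltaS_baseS hbm hM₀ hM, deltaS_isoG, deltaS_isoG,
          show GeneralLinearGroup.det g'.1 = 1 from Units.ext hg', map_one] at hd'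
        exact congrArg Units.val hd'.symm
      show dia _ (baseS hbm g) ∈ I
      by_cases hμ : IsSquare ((multS hM₀ g : F₀ˣ) : F₀)
      · exact key g hgδ hμ
      · have h3 := key (d₀⁻¹ * g) (by rw [map_mul, map_inv, hd₀δ, hgδ, inv_one, one_mul]) (by
          rw [map_mul, map_inv, hd₀m, Units.val_mul]
          refine square_or_nonsquare_mul (Units.ne_zero _) (Units.ne_zero _) ?_ hμ
          rw [Units.val_inv_eq_inv_val, isSquare_inv]
          exact hα)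
        have h4 : dia (plusR (k + 1) F) (baseS hbm d₀) ∈ I := by
          rw [hh, map_mul, (dia_eq_one_iff hM (scG _ _)).mpr ⟨_, rfl⟩, one_mul]
          exact dia_mem_inn_of_det hM h2 hι hn hhdet (Or.inl h1)
        have := I.mul_mem h4 h3
        rwa [map_mul, map_mul, map_inv, map_inv, mul_inv_cancel_left] at this
    rw [sup_eq_right.mpr hCI, ← Subgroup.relIndex_mul_relIndex I P N hIP (by
      rw [hP, hNdia, ← ker_psiS_map hM h2 hι]; exact Subgroup.map_mono fun g hg => congrArg Prod.snd hg),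
      (relIndex_pso hM h2 hι hn).2 hz, hPN]
  · have h1 : spinH hM.nondeg h2 h = -1 := by
      rw [hspin]
      rcases Nat.even_or_odd (k + 1) with he | ho
      · obtain ⟨l, hl⟩ := he
        rw [hl, ← two_mul, pow_mul, Int.units_sq, one_pow]
      · rw [sqClass_eq_one_iff.mpr (hsq.mpr (hq₀.resolve_left fun e => hno ⟨ho, e⟩)), one_pow]
    rw [show C ⊔ I = P from le_antisymm (sup_le hCP hIP) ?_, hPN]
    rintro _ ⟨g, hg, rfl⟩
    have hgd : ((g : GL (Fin (k + 1) ⊕ Fin (k + 1)) F) : Matrix (Fin (k + 1) ⊕ Fin (k + 1))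
        (Fin (k + 1) ⊕ Fin (k + 1)) F).det = 1 := congrArg Units.val hg
    rcases Int.units_eq_one_or (spinH hM.nondeg h2 g) with e | e
    · exact Subgroup.mem_sup_right (dia_mem_inn_of_det hM h2 hι hn hgd (Or.inl e))
    · have := mul_mem (Subgroup.mem_sup_left (T := I) hmem)
        (Subgroup.mem_sup_right (S := C) (dia_inv_mul_mem_inn hM h2 hι hn (g := h) (k := g) (hhdet.trans hgd.symm)
          (h1.trans e.symm)))
      rwa [mul_inv_cancel_left] at this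

/-- Involutory graph-field automorphisms of the plus-type groups. -/
theorem graph_field_class {p f : ℕ} [Fact p.Prime] (hF : Fintype.card F = p ^ f) {k : ℕ} (hk : 4 ≤ k)
    {x : MulAut (Cfsg.POmega F ⇑(plusR (k + 1) F))}
    (hx : ∃ (α γ φ : MulAut (Cfsg.POmega F ⇑(plusR (k + 1) F))) (σ : F ≃+* F)
        (v : Fin (k + 1) ⊕ Fin (k + 1) → F) (g : GL (Fin (k + 1) ⊕ Fin (k + 1)) F),
        σ ≠ RingEquiv.refl F ∧ plusR (k + 1) F v ≠ 0 ∧ (∀ i, σ (v i) = v i) ∧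
        (g : Matrix (Fin (k + 1) ⊕ Fin (k + 1)) (Fin (k + 1) ⊕ Fin (k + 1)) F) =
          Cfsg.reflectionMatrix (⇑(plusR (k + 1) F)) v ∧
        Cfsg.IsInducedBySemilinearPOmega (⇑(plusR (k + 1) F)) g (RingEquiv.refl F) γ ∧
        Cfsg.IsFieldAutPOmegaOf (⇑(plusR (k + 1) F)) σ φ ∧ α * x * α⁻¹ = γ * φ)
    (hx2 : orderOf x = 2) {F₀ : Type*} [Field F₀] [Fintype F₀] (hF₀ : Fintype.card F₀ = p ^ (f / 2)) :
    Even f ∧
      (∀ y : MulAut (Cfsg.POmega F ⇑(plusR (k + 1) F)),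
        (∃ (α γ φ : MulAut (Cfsg.POmega F ⇑(plusR (k + 1) F))) (σ : F ≃+* F)
          (v : Fin (k + 1) ⊕ Fin (k + 1) → F) (g : GL (Fin (k + 1) ⊕ Fin (k + 1)) F),
          σ ≠ RingEquiv.refl F ∧ plusR (k + 1) F v ≠ 0 ∧ (∀ i, σ (v i) = v i) ∧
          (g : Matrix (Fin (k + 1) ⊕ Fin (k + 1)) (Fin (k + 1) ⊕ Fin (k + 1)) F) =
            Cfsg.reflectionMatrix (⇑(plusR (k + 1) F)) v ∧
          Cfsg.IsInducedBySemilinearPOmega (⇑(plusR (k + 1) F)) g (RingEquiv.refl F) γ ∧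
          Cfsg.IsFieldAutPOmegaOf (⇑(plusR (k + 1) F)) σ φ ∧ α * y * α⁻¹ = γ * φ) → orderOf y = 2 →
        Cfsg.IsConjUnder (clsN (model0_plus (F := F) (by omega : 3 ≤ k + 1)) (card_plus_index (k + 1))) x y) ∧
      (∃ a₀ b₀ : F₀, (∀ z₁ z₂ : F₀, z₁ ^ 2 + a₀ * z₁ * z₂ + b₀ * z₂ ^ 2 = 0 → z₁ = 0 ∧ z₂ = 0) ∧
        Nonempty (↥(clsN (model0_plus (F := F) (by omega : 3 ≤ k + 1)) (card_plus_index (k + 1)) ⊓
          Subgroup.centralizer {x}) ≃* ↥(Cfsg.inndiagPOmegaMinus k F₀ a₀ b₀))) ∧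
      (p = 2 → Cfsg.splitClassCount (clsN (model0_plus (F := F) (by omega : 3 ≤ k + 1)) (card_plus_index (k + 1)))
        (Cfsg.Inn (Cfsg.POmega F ⇑(plusR (k + 1) F))) x = 1) ∧
      ((p ≠ 2 ∧ Odd (k + 1) ∧ p ^ (f / 2) % 4 = 1) →
        Cfsg.splitClassCount (clsN (model0_plus (F := F) (by omega : 3 ≤ k + 1)) (card_plus_index (k + 1)))
          (Cfsg.Inn (Cfsg.POmega F ⇑(plusR (k + 1) F))) x = 4) ∧
      ((p ≠ 2 ∧ ¬ (Odd (k + 1) ∧ p ^ (f / 2) % 4 = 1)) →
        Cfsg.splitClassCount (clsN (model0_plus (F := F) (by omega : 3 ≤ k + 1)) (card_plus_index (k + 1)))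
          (Cfsg.Inn (Cfsg.POmega F ⇑(plusR (k + 1) F))) x = 2) := by
  classical
  have hk1 : 3 ≤ k + 1 := by omega
  set N := clsN (model0_plus (F := F) hk1) (card_plus_index (k + 1))
  obtain ⟨σ, a, hσ, hσ2, rfl, hcls⟩ := graph_field_shape (by omega) hx hx2
  have hx2' := pow_orderOf_eq_one (dia (plusR (k + 1) F) a * phiT (plusR_map σ))
  rw [hx2] at hx2'
  obtain ⟨w, hw, hxw⟩ := graph_field_conj hk1 hσ2 hσ hx2' hcls
  haveI : CharP F p := charP_of_card_eq_prime_pow hF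
  have hord : orderOf σ = 2 := orderOf_eq_prime hσ2 hσ
  have hf2 : 2 ∣ f := by
    rw [← (AutPSL.gal_cyclic_card (F := F) hF).2, ← hord]
    exact orderOf_dvd_natCard σ
  obtain ⟨j, hj⟩ := AutPSL.exists_fixedField_hom hF hord hf2 hF₀
  have hσσ : ∀ t, σ (σ t) = t := fun t => by
    rw [← RingAut.mul_apply, ← pow_two, hσ2]; rfl
  obtain ⟨ω, hω⟩ : ∃ ω, σ ω - ω ≠ 0 := by
    by_contra hcon
    push Not at hcon
    exact hσ (RingEquiv.ext fun t => sub_eq_zero.mp (hcon t))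
  obtain ⟨a₀, ha₀⟩ := (hj (ω + σ ω)).mp (by rw [map_add, hσσ, add_comm])
  obtain ⟨b₀, hb₀⟩ := (hj (ω * σ ω)).mp (by rw [map_mul, hσσ, mul_comm])
  have hab₀ : ∀ z₁ z₂ : F₀, z₁ ^ 2 + a₀ * z₁ * z₂ + b₀ * z₂ ^ 2 = 0 → z₁ = 0 ∧ z₂ = 0 := by
    intro z₁ z₂ h
    have h' : (j z₁ + ω * j z₂) * (j z₁ + σ ω * j z₂) = 0 := by
      have := congrArg j h
      simp only [map_add, map_mul, map_pow, map_zero, ha₀, hb₀] at this
      linear_combination this
    have h2 : z₂ = 0 := by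
      by_contra hz
      have hz' := (map_ne_zero j).mpr hz
      rcases mul_eq_zero.mp h' with e | e
      · refine hω (sub_eq_zero.mpr ((hj ω).mpr ⟨-z₁ / z₂, ?_⟩))
        rw [map_div₀, map_neg, div_eq_iff hz']
        linear_combination -e
      · refine hω (sub_eq_zero.mpr ((hj ω).mpr ⟨-z₁ / z₂, ?_⟩))
        have h3 := congrArg σ e
        rw [map_add, map_mul, hσσ, (hj _).mpr ⟨z₁, rfl⟩, (hj _).mpr ⟨z₂, rfl⟩, map_zero] at h3
        rw [map_div₀, map_neg, div_eq_iff hz']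
        linear_combination -h3
    subst h2
    refine ⟨pow_eq_zero_iff two_ne_zero |>.mp (by linear_combination h), rfl⟩
  have hq : Fintype.card F = Fintype.card F₀ ^ 2 := by
    rw [hF, hF₀, ← pow_mul, Nat.div_mul_cancel hf2]
  obtain ⟨H1, H2⟩ := graph_field_index hk hσ hσσ hω hj hq ha₀ hb₀ hab₀
  have hNmap : N.map (MulAut.conj w⁻¹).toMonoidHom = N := by
    refine le_antisymm ?_ fun z hz => ⟨w * z * w⁻¹, mul_mem (mul_mem hw hz) (inv_mem hw), by
      simp [mul_assoc]⟩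
    rintro _ ⟨z, hz, rfl⟩
    exact mul_mem (mul_mem (inv_mem hw) hz) (inv_mem (inv_mem hw))
  have hImap : (Cfsg.Inn (Cfsg.POmega F ⇑(plusR (k + 1) F))).map (MulAut.conj w⁻¹).toMonoidHom =
      Cfsg.Inn (Cfsg.POmega F ⇑(plusR (k + 1) F)) := by
    refine le_antisymm ?_ fun z hz => ⟨w * z * w⁻¹, Subgroup.Normal.conj_mem inferInstance z hz w, by
      simp [mul_assoc]⟩
    rintro _ ⟨z, hz, rfl⟩
    exact Subgroup.Normal.conj_mem inferInstance z hz w⁻¹
  have hE : MulAut.conj w⁻¹ (dia (plusR (k + 1) F) a * phiT (plusR_map σ)) =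
      dia (plusR (k + 1) F) (stdRefl k F) * phiT (plusR_map σ) := by
    rw [hxw, MulAut.conj_apply]; group
  have hcount : Cfsg.splitClassCount N (Cfsg.Inn (Cfsg.POmega F ⇑(plusR (k + 1) F)))
      (dia (plusR (k + 1) F) a * phiT (plusR_map σ)) =
      ((N ⊓ Subgroup.centralizer {dia (plusR (k + 1) F) (stdRefl k F) * phiT (plusR_map σ)}) ⊔
        Cfsg.Inn (Cfsg.POmega F ⇑(plusR (k + 1) F))).relIndex N := by
    rw [split_count_map (MulAut.conj w⁻¹) hNmap hImap (inn_le_clsN _ _)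
      (fun b _ z hz => Subgroup.Normal.conj_mem inferInstance z hz b), hE]
  have h2iff : (2 : F) = 0 ↔ p = 2 := by
    constructor
    · intro h
      exact (Nat.prime_dvd_prime_iff_eq Fact.out Nat.prime_two).mp
        ((CharP.cast_eq_zero_iff F p 2).mp (by exact_mod_cast h))
    · rintro rfl; exact CharTwo.two_eq_zero
  refine ⟨even_iff_two_dvd.mpr hf2, fun y hy hy2 => ?_, ⟨a₀, b₀, hab₀, ?_⟩, fun hp => ?_, fun ⟨hp, h⟩ => ?_,
    fun ⟨hp, h⟩ => ?_⟩
  · obtain ⟨τ, b, hτ, hτ2, rfl, hclsb⟩ := graph_field_shape (by omega) hy hy2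
    obtain rfl := gal_invol_unique hF hσ2 hσ hτ2 hτ
    have hy2' := pow_orderOf_eq_one (dia (plusR (k + 1) F) b * phiT (plusR_map τ))
    rw [hy2] at hy2'
    obtain ⟨w', hw', hyw⟩ := graph_field_conj hk1 hτ2 hτ hy2' hclsb
    refine ⟨w' * w⁻¹, mul_mem hw' (inv_mem hw), ?_⟩
    rw [hyw, hxw]
    group
  · haveI : Nonempty (Fin (k + 1) ⊕ Fin (k + 1)) := ⟨Sum.inl 0⟩
    haveI : Nonempty ((Fin k ⊕ Fin k) ⊕ Fin 2) := ⟨Sum.inr 0⟩
    obtain ⟨e⟩ := centralizer_base_iso (plusR_map σ) (twist_base hω ha₀ hb₀) hj (twist_fixed hω hσσ)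
      (model_minus (by omega : 3 ≤ k) hab₀).toModel0 (model0_plus (F := F) hk1) (card_minus_index k)
      (card_plus_index (k + 1))
    have e1 := ((MulAut.conj w⁻¹).subgroupMap (N ⊓ Subgroup.centralizer
      {dia (plusR (k + 1) F) a * phiT (plusR_map σ)})).trans
      (MulEquiv.subgroupCongr ((map_inf_centralizer (MulAut.conj w⁻¹) hNmap _).trans (by rw [hE])))
    exact inndiag_minus_transfer' (by omega : 3 ≤ k) hab₀
      (fun _ N₀ => Nonempty (↥(N ⊓ Subgroup.centralizer {dia (plusR (k + 1) F) a * phiT (plusR_map σ)}) ≃* ↥N₀))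
      ⟨e1.trans e⟩
  · rw [hcount]
    exact H1 (h2iff.mpr hp)
  · rw [hcount]
    exact (H2 fun e => hp (h2iff.mp e)).1 (by rw [hF₀]; exact h)
  · rw [hcount]
    exact (H2 fun e => hp (h2iff.mp e)).2 (by rw [hF₀]; exact h)

end Cfsg.Agent.Lib.Classical.AutPOmega
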