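import Cfsg.Agent.Lib.Classical.AutPOmega.PlusMinusGroups
import Cfsg.Agent.Lib.Geometry.OrthClassGen
import Cfsg.Agent.Lib.Geometry.OrthSiegel
import Mathlib.LinearAlgebra.Matrix.Charpoly.Coeff

/-!
Automorphisms of `PΩ`, part 21: involutions outside the inner-diagonal group and the number of classes
into which their inner-diagonal classes split.
-/

set_option autoImplicit false

namespace Cfsg.Agent.Lib.Classical.AutPOmega

open QuadraticMap (polarBilin)
open Cfsg.Agent.Lib.Geometry (sqClass sqClass_eq_one_iff sqClass_eq_neg_one_iff quad_add quad_smul quad_polar_comm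
  isometryEquiv isometryEquiv_eq_refl_iff closure_refl_eq_top two_ne_zero_exc dicksonHom dicksonHom_refl)
open Matrix
open Module (finrank)

attribute [-simp] QuadraticMap.polarBilin_apply_apply

/-! ### Characteristic polynomials -/

section Charpoly

open Polynomial

variable {F : Type*} [Field F] {ι : Type} [Fintype ι] [DecidableEq ι]

theorem charpoly_mul_neg {A : Matrix ι ι F} {c : F} (hA : A * A = c • 1) :
    A.charpoly * (-A).charpoly = (X ^ 2 - C c) ^ Fintype.card ι := by
  rw [Matrix.charpoly, Matrix.charpoly, ← Matrix.det_mul]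
  have h : A.charmatrix * (-A).charmatrix = Matrix.scalar ι (X ^ 2 - C c) := by
    have hB : (C : F →+* F[X]).mapMatrix A * (C : F →+* F[X]).mapMatrix A = Matrix.scalar ι (C c) := by
      rw [← map_mul, hA]
      refine Matrix.ext fun i j => ?_
      rcases eq_or_ne i j with rfl | h <;> simp_all [Matrix.one_apply, Matrix.scalar_apply]
    have hc : Commute (Matrix.scalar ι (X : F[X])) ((C : F →+* F[X]).mapMatrix A) :=
      Matrix.scalar_commute _ (fun _ => Commute.all _ _) _
    rw [Matrix.charmatrix, Matrix.charmatrix, map_neg, sub_neg_eq_add, map_sub, map_pow, ← hB, pow_two, sub_mul,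
      mul_add, mul_add, ← hc.eq]
    abel
  rw [h, Matrix.scalar_apply, Matrix.det_diagonal, Finset.prod_const, Finset.card_univ]

theorem det_of_charpoly {A : Matrix ι ι F} {c : F} {M : ℕ} (hι : Fintype.card ι = 2 * M)
    (h : A.charpoly = (X ^ 2 - C c) ^ M) : A.det = (-c) ^ M := by
  rw [Matrix.det_eq_sign_charpoly_coeff, hι, pow_mul, neg_one_sq, one_pow, one_mul, h,
    coeff_zero_eq_eval_zero]
  simp

/-- A square root of a scalar similar to its negative. -/
theorem det_of_neg {A : Matrix ι ι F} {c : F} {M : ℕ} (h2 : (2 : F) ≠ 0) (hι : Fintype.card ι = 2 * M)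
    (hA : A * A = c • 1) (hneg : (-A).charpoly = A.charpoly) : A.det = (-c) ^ M := by
  refine det_of_charpoly hι ?_
  have h := charpoly_mul_neg hA
  rw [hneg, hι, two_mul, pow_add, mul_self_eq_mul_self_iff] at h
  rcases h with h | h
  · exact h
  · exfalso
    have hm : ((X ^ 2 - C c : F[X]) ^ M).Monic := (monic_X_pow_sub_C c (by norm_num)).pow M
    have e := congrArg leadingCoeff h
    rw [leadingCoeff_neg, hm.leadingCoeff, (Matrix.charpoly_monic A).leadingCoeff] at e
    exact h2 (by linear_combination e)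

/-- A square root of a nonsquare scalar. -/
theorem det_of_nonsquare {A : Matrix ι ι F} {c : F} {M : ℕ} (hι : Fintype.card ι = 2 * M) (hA : A * A = c • 1)
    (hc : ¬ IsSquare c) : A.det = (-c) ^ M := by
  refine det_of_charpoly hι ?_
  have hP : (X ^ 2 - C c : F[X]).Monic := monic_X_pow_sub_C c (by norm_num)
  have hirr : Irreducible (X ^ 2 - C c : F[X]) := by
    rw [hP.irreducible_iff_roots_eq_zero_of_degree_le_three (by rw [natDegree_X_pow_sub_C])
      (by rw [natDegree_X_pow_sub_C]; norm_num)]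
    refine Multiset.eq_zero_of_forall_notMem fun t ht => hc ⟨t, ?_⟩
    have ht' := (mem_roots'.mp ht).2
    simp only [IsRoot.def, eval_sub, eval_pow, eval_X, eval_C] at ht'
    linear_combination -ht'
  obtain ⟨i, -, hi⟩ := (dvd_prime_pow hirr.prime _).mp (Dvd.intro _ (charpoly_mul_neg hA))
  have he := eq_of_monic_of_associated (Matrix.charpoly_monic A) (hP.pow i) hi
  have hd := congrArg natDegree he
  rw [Matrix.charpoly_natDegree_eq_dim, natDegree_pow, natDegree_X_pow_sub_C, hι] at hd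
  rw [he, show i = M by omega]

end Charpoly

/-! ### Conjugation of isometries by similarities -/

variable {F : Type*} [Field F] [Fintype F] {ι : Type} [Fintype ι] [DecidableEq ι] {R : QuadraticForm F (ι → F)}

/-- Conjugation of isometries by a similarity. -/
noncomputable def conjI (g : Cfsg.Geo.quadSimilarityGroup (F := F) ⇑R) :
    Cfsg.isometryGroup F ⇑R ≃* Cfsg.isometryGroup F ⇑R := semIso g.1 1 (pair_of_sim g.2)

theorem isoG_conjI (g : Cfsg.Geo.quadSimilarityGroup (F := F) ⇑R) (k : Cfsg.isometryGroup F ⇑R) :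
    isoG R (conjI g k) = g * isoG R k * g⁻¹ := Subtype.ext (Units.ext rfl)

theorem spinH_conjI (hM : Model0 R) (h2 : (2 : F) ≠ 0) {g : Cfsg.Geo.quadSimilarityGroup (F := F) ⇑R}
    (hg : ¬ IsSquare ((multS hM g : Fˣ) : F)) {k : Cfsg.isometryGroup F ⇑R}
    (hk : ((k : GL ι F) : Matrix ι ι F).det = -1) :
    spinH hM.nondeg h2 (conjI g k) = -spinH hM.nondeg h2 k := by
  set D : Cfsg.isometryGroup F ⇑R →* ℤˣ :=
    (dicksonHom R hM.nondeg (closure_refl_eq_top R hM.nondeg (two_ne_zero_exc h2))).comp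
      (isometryEquiv R).toMonoidHom
  have hD : D * spinH hM.nondeg h2 = (spinH hM.nondeg h2).comp (conjI g).toMonoidHom := by
    refine MonoidHom.eq_of_eqOn_dense (Geometry.closure_reflectionMatrix_eq_top R hM.nondeg
      (Or.inl ⟨-1, neg_ne_zero.mpr one_ne_zero, fun h => h2 (by linear_combination -h)⟩)) ?_
    rintro r ⟨v, hv, hr⟩
    have hd : D r = -1 := by
      show dicksonHom R hM.nondeg (closure_refl_eq_top R hM.nondeg (two_ne_zero_exc h2)) (isometryEquiv R r) = -1
      rw [(isometryEquiv_eq_refl_iff R r v).mpr hr, dicksonHom_refl R hM.nondeg _ hv]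
    set w := (g.1 : Matrix ι ι F) *ᵥ v
    have hw : R w = (multS hM g : F) * R v := multS_spec hM g v
    have hw0 : R w ≠ 0 := by rw [hw]; exact mul_ne_zero (Units.ne_zero _) hv
    have hcr : ((conjI g r : GL ι F) : Matrix ι ι F) = Cfsg.reflectionMatrix (⇑R) w := by
      rw [← reflI_matrix (R := R) w]
      refine Matrix.ext_of_mulVec_single fun i => ?_
      have hrv : r = reflI R v := Subtype.ext (Units.ext (hr.trans (reflI_matrix v).symm))
      subst hrv
      obtain ⟨x, hx⟩ : ∃ x, (g.1 : Matrix ι ι F) *ᵥ x = Pi.single i 1 :=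
        ⟨((g.1⁻¹ : GL ι F) : Matrix ι ι F) *ᵥ Pi.single i 1, by
          rw [Matrix.mulVec_mulVec, ← Units.val_mul, mul_inv_cancel, Units.val_one, Matrix.one_mulVec]⟩
      rw [← hx]
      show (((g * isoG R (reflI R v) * g⁻¹).1 : GL ι F) : Matrix ι ι F) *ᵥ ((g.1 : Matrix ι ι F) *ᵥ x) = _
      rw [Matrix.mulVec_mulVec, ← Units.val_mul, ← Subgroup.coe_mul, inv_mul_cancel_right, Subgroup.coe_mul,
        Units.val_mul, ← Matrix.mulVec_mulVec]
      show (g.1 : Matrix ι ι F) *ᵥ (((reflI R v : GL ι F) : Matrix ι ι F) *ᵥ x) = _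
      rw [reflI_mulVec, reflI_mulVec, Matrix.mulVec_sub, Matrix.mulVec_smul,
        sim_polar (fun z => multS_spec hM g z), hw, _root_.mul_inv_rev]
      congr 2
      have := (multS hM g).ne_zero
      field_simp
    show D r * spinH hM.nondeg h2 r = spinH hM.nondeg h2 (conjI g r)
    rw [hd, spinH_reflection hM.nondeg h2 hv hr, spinH_reflection hM.nondeg h2 hw0 hcr, hw,
      Geometry.sqClass_mul (Units.ne_zero _) hv, sqClass_eq_neg_one_iff.mpr hg]
  have hk' : D k = -1 := by
    rcases Int.units_eq_one_or (D k) with h | h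
    · exfalso
      have := (dickson_det hM.nondeg h2 k).mp h
      rw [hk] at this
      exact h2 (by linear_combination -this)
    · exact h
  show (spinH hM.nondeg h2).comp (conjI g).toMonoidHom k = _
  rw [← hD, MonoidHom.mul_apply, hk', neg_one_mul]

theorem scG_comm (u : Fˣ) (g : Cfsg.Geo.quadSimilarityGroup (F := F) ⇑R) : scG R u * g = g * scG R u :=
  Subtype.ext (Units.ext ((Matrix.scalar_commute (u : F) (fun _ => Commute.all _ _) _).eq))

theorem isoG_negOne (R : QuadraticForm F (ι → F)) : isoG R (negOne R) = scG R (-1) :=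
  Subtype.ext (Units.ext rfl)

theorem isoG_injective (R : QuadraticForm F (ι → F)) : Function.Injective (isoG R) := fun a b h =>
  Subtype.ext (congrArg (fun x : Cfsg.Geo.quadSimilarityGroup (F := F) ⇑R => x.1) h)

/-- An isometry of determinant `-1` commuting projectively with a similarity of nonsquare multiplier. -/
theorem spin_of_commute (hM : Model0 R) (h2 : (2 : F) ≠ 0) {h : Cfsg.Geo.quadSimilarityGroup (F := F) ⇑R}
    (hh : ¬ IsSquare ((multS hM h : Fˣ) : F)) {k : Cfsg.isometryGroup F ⇑R}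
    (hk : ((k : GL ι F) : Matrix ι ι F).det = -1) {s : Fˣ}
    (hc : h * isoG R k = scG R s * (isoG R k * h)) :
    s = -1 ∧ spinH hM.nondeg h2 (negOne R) = -1 := by
  have hs : s = 1 ∨ s = -1 := by
    have e := congrArg (multS hM) hc
    simp only [map_mul, multS_scG, multS_isoG, one_mul, mul_one] at e
    have e' : ((s : F)) * s = 1 := by
      have := congrArg Units.val (mul_right_cancel (show s * s * multS hM h = 1 * multS hM h by rw [one_mul, ← e]))
      simpa using this
    rcases mul_self_eq_one_iff.mp e' with a | a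
    · exact Or.inl (Units.ext a)
    · exact Or.inr (Units.ext (by rw [a, Units.val_neg, Units.val_one]))
  have hsp := spinH_conjI hM h2 hh hk
  rcases hs with rfl | rfl
  · rw [map_one, one_mul] at hc
    have : conjI h k = k := isoG_injective R (by rw [isoG_conjI, hc, mul_inv_cancel_right])
    rw [this] at hsp
    rcases Int.units_eq_one_or (spinH hM.nondeg h2 k) with e | e <;> rw [e] at hsp <;> exact absurd hsp (by decide)
  · have : conjI h k = negOne R * k :=
      isoG_injective R (by rw [isoG_conjI, hc, map_mul, isoG_negOne, ← mul_assoc, mul_inv_cancel_right])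
    rw [this, map_mul, ← neg_one_mul (spinH hM.nondeg h2 k)] at hsp
    exact ⟨rfl, mul_right_cancel hsp⟩

theorem proj_comm (hM : Model0 R) {g h : Cfsg.Geo.quadSimilarityGroup (F := F) ⇑R}
    (hc : dia R g * dia R h = dia R h * dia R g) : ∃ s, g * h = scG R s * (h * g) := by
  have h1 : dia R ((g * h) * (h * g)⁻¹) = 1 := by rw [map_mul, map_inv, map_mul, map_mul, hc, mul_inv_cancel]
  obtain ⟨s, hs⟩ := (dia_eq_one_iff hM _).mp h1
  exact ⟨s, by rw [← show (g * h) * (h * g)⁻¹ = scG R s from Subtype.ext hs, inv_mul_cancel_right]⟩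

theorem square_or_nonsquare_mul {a b : F} (ha0 : a ≠ 0) (hb0 : b ≠ 0) (ha : ¬ IsSquare a) (hb : ¬ IsSquare b) :
    IsSquare (a * b) := by
  rw [← sqClass_eq_one_iff, Geometry.sqClass_mul ha0 hb0, sqClass_eq_neg_one_iff.mpr ha,
    sqClass_eq_neg_one_iff.mpr hb]
  decide

theorem exists_scG_isoG (hM : Model0 R) {M : ℕ} (hι : Fintype.card ι = 2 * M)
    {g : Cfsg.Geo.quadSimilarityGroup (F := F) ⇑R}
    (hsq : IsSquare ((multS hM g : Fˣ) : F)) (hd : deltaS hM M g = -1) :
    ∃ u k, g = scG R u * isoG R k ∧ ((k : GL ι F) : Matrix ι ι F).det = -1 := by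
  obtain ⟨t, ht⟩ := hsq
  have ht0 : t ≠ 0 := fun e => (multS hM g).ne_zero (by rw [ht, e, mul_zero])
  obtain ⟨k, hk⟩ := exists_iso_of_multS hM (g := g) (u := Units.mk0 t ht0) (Units.ext (by rw [ht]; rfl))
  refine ⟨_, k, hk, ?_⟩
  rw [hk, map_mul, deltaS_scG hM hι, one_mul, deltaS_isoG] at hd
  have := congrArg Units.val hd
  rw [Units.val_neg, Units.val_one] at this
  exact this

/-- With `-1 ∈ Ω` no similarity of nonsquare multiplier in the inner-diagonal group commutes with one outside. -/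
theorem not_commute_of_spin (hM : Model0 R) (h2 : (2 : F) ≠ 0) {M : ℕ} (hι : Fintype.card ι = 2 * M)
    (hz : spinH hM.nondeg h2 (negOne R) = 1) {g h : Cfsg.Geo.quadSimilarityGroup (F := F) ⇑R}
    (hg : deltaS hM M g = -1) (hh1 : deltaS hM M h = 1) (hh : ¬ IsSquare ((multS hM h : Fˣ) : F)) :
    dia R g * dia R h ≠ dia R h * dia R g := by
  intro hc
  by_cases hsq : IsSquare ((multS hM g : Fˣ) : F)
  · obtain ⟨u, k, rfl, hk⟩ := exists_scG_isoG hM hι hsq hg
    rw [map_mul, (dia_eq_one_iff hM (scG R u)).mpr ⟨u, rfl⟩, one_mul] at hc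
    obtain ⟨s, hs⟩ := proj_comm hM hc.symm
    have := (spin_of_commute hM h2 hh hk hs).2
    rw [hz] at this
    exact absurd this (by decide)
  · obtain ⟨u, k, hk, hkd⟩ := exists_scG_isoG hM hι (g := h * g)
      (by rw [map_mul, Units.val_mul]; exact square_or_nonsquare_mul (Units.ne_zero _) (Units.ne_zero _) hh hsq)
      (by rw [map_mul, hh1, hg, one_mul])
    have hc' : dia R g * dia R (h * g) = dia R (h * g) * dia R g := by
      rw [map_mul, ← mul_assoc, hc]
    rw [hk, map_mul, (dia_eq_one_iff hM (scG R u)).mpr ⟨u, rfl⟩, one_mul] at hc'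
    obtain ⟨s, hs⟩ := proj_comm hM hc'
    have := (spin_of_commute hM h2 hsq hkd hs).2
    rw [hz] at this
    exact absurd this (by decide)

/-! ### The shape of the involutions -/

theorem invol_shape (hM : Model0 R) (h2 : (2 : F) ≠ 0) {M : ℕ} (hι : Fintype.card ι = 2 * M)
    {g : Cfsg.Geo.quadSimilarityGroup (F := F) ⇑R} (hg : deltaS hM M g = -1)
    (h1 : dia R g * dia R g = 1) :
    ∃ c : Fˣ, g * g = scG R c ∧ multS hM g = c ∧
      (∀ v, (g.1 : Matrix ι ι F) *ᵥ ((g.1 : Matrix ι ι F) *ᵥ v) = (c : F) • v) ∧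
      (∀ x y, polarBilin R ((g.1 : Matrix ι ι F) *ᵥ x) y = polarBilin R x ((g.1 : Matrix ι ι F) *ᵥ y)) ∧
      (¬ IsSquare (c : F) → Odd M) := by
  rw [← map_mul] at h1
  obtain ⟨c, hc⟩ := (dia_eq_one_iff hM _).mp h1
  have hgg : g * g = scG R c := Subtype.ext hc
  set A := (g.1 : Matrix ι ι F)
  have hA : A * A = (c : F) • 1 := by
    have := congrArg (fun x : GL ι F => (x : Matrix ι ι F)) hc
    change A * A = Matrix.scalar ι (c : F) at this
    rw [this, Matrix.scalar_apply, ← Matrix.smul_one_eq_diagonal]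
  have hμ2 : multS hM g * multS hM g = c * c := by rw [← map_mul, hgg, multS_scG]
  have hμc : multS hM g = c ∨ multS hM g = -c := by
    have := congrArg Units.val hμ2
    rw [Units.val_mul, Units.val_mul] at this
    rcases mul_self_eq_mul_self_iff.mp this with e | e
    · exact Or.inl (Units.ext e)
    · exact Or.inr (Units.ext (by rw [e, Units.val_neg]))
  have hgram := sim_gram (fun v => multS_spec hM g v)
  have hadj : (c : F) • (Aᵀ * gram R) = (multS hM g : F) • (gram R * A) := by
    rw [← Matrix.smul_mul (multS hM g : F), ← hgram]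
    show _ = Aᵀ * gram R * A * A
    rw [Matrix.mul_assoc (Aᵀ * gram R), hA, Matrix.mul_smul, Matrix.mul_one]
  have hdetA : ((GeneralLinearGroup.det g.1 : Fˣ) : F) = A.det := rfl
  rcases hμc with hμ | hμ
  · have hA' : ∀ v, A *ᵥ (A *ᵥ v) = (c : F) • v := fun v => by
      rw [Matrix.mulVec_mulVec, hA, Matrix.smul_mulVec, Matrix.one_mulVec]
    refine ⟨c, hgg, hμ, hA', fun x y => ?_, fun hns => ?_⟩
    · have h := sim_polar (fun z => multS_spec hM g z) x (A *ᵥ y)
      rw [hA' y, hμ, map_smul, smul_eq_mul] at h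
      exact mul_left_cancel₀ c.ne_zero h
    · by_contra hM'
      rw [Nat.not_odd_iff_even] at hM'
      have hdet := det_of_nonsquare hι hA hns
      rw [hM'.neg_pow] at hdet
      have : deltaS hM M g = 1 := by
        rw [deltaS_apply, hμ, mul_inv_eq_one]
        exact Units.ext (by rw [Units.val_pow_eq_pow_val, hdetA, hdet])
      rw [hg] at this
      have h' := congrArg Units.val this
      rw [Units.val_neg, Units.val_one] at h'
      exact h2 (by linear_combination -h')
  · exfalso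
    rw [hμ, Units.val_neg, neg_smul, ← smul_neg] at hadj
    have hadj' : Aᵀ * gram R = -(gram R * A) := smul_right_injective _ c.ne_zero hadj
    let U : GL ι F := GeneralLinearGroup.mkOfDetNeZero (gram R) (gram_det_ne_zero hM.nondeg)
    have hU : (U : Matrix ι ι F) = gram R := rfl
    have hneg : (-A).charpoly = A.charpoly := by
      rw [← Matrix.charpoly_transpose (-A), ← Matrix.charpoly_units_conj U A]
      congr 1
      have hUA : (U : Matrix ι ι F) * A = -(Aᵀ * (U : Matrix ι ι F)) := by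
        rw [hU]; exact (neg_eq_iff_eq_neg.mpr hadj').symm
      rw [← Matrix.coe_units_inv, Matrix.transpose_neg, hUA, neg_mul, Matrix.mul_assoc,
        ← Units.val_mul, mul_inv_cancel, Units.val_one, Matrix.mul_one]
    have hdet := det_of_neg h2 hι hA hneg
    have : deltaS hM M g = 1 := by
      rw [deltaS_apply, hμ, mul_inv_eq_one]
      exact Units.ext (by rw [Units.val_pow_eq_pow_val, hdetA, hdet, Units.val_neg])
    rw [hg] at this
    have h' := congrArg Units.val this
    rw [Units.val_neg, Units.val_one] at h'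
    exact h2 (by linear_combination -h')

/-- In half-dimension even no similarity of nonsquare multiplier commutes with an outer involution. -/
theorem not_commute_of_even (hM : Model0 R) (h2 : (2 : F) ≠ 0) {M : ℕ} (hι : Fintype.card ι = 2 * M)
    (hMe : Even M) {g h : Cfsg.Geo.quadSimilarityGroup (F := F) ⇑R} (hg : deltaS hM M g = -1)
    (h1 : dia R g * dia R g = 1) (hh : ¬ IsSquare ((multS hM h : Fˣ) : F)) :
    dia R g * dia R h ≠ dia R h * dia R g := by
  intro hc
  obtain ⟨c, hgg, hμ, -, -, hodd⟩ := invol_shape hM h2 hι hg h1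
  have hcs : IsSquare (c : F) := by
    by_contra hns
    exact (Nat.not_odd_iff_even.mpr hMe) (hodd hns)
  obtain ⟨u, k, rfl, hk⟩ := exists_scG_isoG hM hι (hμ ▸ hcs) hg
  have hu : dia R (scG R u) = 1 := (dia_eq_one_iff hM (scG R u)).mpr ⟨u, rfl⟩
  rw [map_mul, hu, one_mul] at hc
  obtain ⟨s, hs⟩ := proj_comm hM hc.symm
  obtain ⟨rfl, -⟩ := spin_of_commute hM h2 hh hk hs
  rw [map_mul, multS_scG, multS_isoG, mul_one] at hμ
  rw [mul_assoc, ← mul_assoc (isoG R k), ← scG_comm u (isoG R k), mul_assoc, ← mul_assoc, ← map_mul (scG R), hμ,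
    ← map_mul, mul_eq_left, map_eq_one_iff _ (isoG_injective R)] at hgg
  set K := ((k : GL ι F) : Matrix ι ι F)
  have hK : K * K = (1 : F) • 1 := by
    rw [one_smul]
    exact congrArg (fun x : Cfsg.isometryGroup F ⇑R => ((x : GL ι F) : Matrix ι ι F)) hgg
  have hneg : (-K).charpoly = K.charpoly := by
    have e : (h.1 : Matrix ι ι F) * K * ((h.1⁻¹ : GL ι F) : Matrix ι ι F) = -K := by
      have := congrArg (fun x : Cfsg.Geo.quadSimilarityGroup (F := F) ⇑R => (x.1 : Matrix ι ι F)) hs
      change (h.1 : Matrix ι ι F) * K = Matrix.scalar ι ((-1 : Fˣ) : F) * (K * h.1) at this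
      rw [this, ← Matrix.mul_assoc, Matrix.mul_assoc _ (h.1 : Matrix ι ι F), ← Units.val_mul, mul_inv_cancel,
        Units.val_one, Matrix.mul_one, Units.val_neg, Units.val_one, map_neg, map_one, neg_one_mul]
    rw [← e, Matrix.coe_units_inv, Matrix.charpoly_units_conj]
  have := det_of_neg h2 hι hK hneg
  rw [hk, hMe.neg_one_pow] at this
  exact h2 (by linear_combination -this)

/-! ### A commuting element of spinor norm `-1` -/

theorem reflI_smul (v : ι → F) {t : F} (ht : t ≠ 0) : reflI R (t • v) = reflI R v := by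
  rw [reflI, reflI, Geometry.refl_smul R v ht]

theorem reflI_commute {v w : ι → F} (h : polarBilin R v w = 0) :
    reflI R v * reflI R w = reflI R w * reflI R v := by
  refine Subtype.ext (Units.ext (Matrix.ext_of_mulVec_single fun i => ?_))
  rw [Subgroup.coe_mul, Units.val_mul, Subgroup.coe_mul, Units.val_mul, ← Matrix.mulVec_mulVec,
    ← Matrix.mulVec_mulVec]
  simp only [reflI_mulVec, map_sub, map_smul, h, quad_polar_comm R w v, smul_eq_mul, mul_zero, sub_zero]
  abel

theorem dia_comm_refl (g : Cfsg.Geo.quadSimilarityGroup (F := F) ⇑R) (w : ι → F) :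
    dia R g * dia R (isoG R (reflI R w)) =
      dia R (isoG R (reflI R ((g.1 : Matrix ι ι F) *ᵥ w))) * dia R g :=
  semAut_conj_refl (pair_of_sim g.2) w

theorem det_spin_two_refl (hM : Model0 R) (h2 : (2 : F) ≠ 0) {v w : ι → F} (hv : R v ≠ 0) (hw : R w ≠ 0) :
    (((reflI R v * reflI R w : Cfsg.isometryGroup F ⇑R) : GL ι F) : Matrix ι ι F).det = 1 ∧
      spinH hM.nondeg h2 (reflI R v * reflI R w) = sqClass (R v) * sqClass (R w) := by
  refine ⟨?_, ?_⟩
  · rw [Subgroup.coe_mul, Units.val_mul, Matrix.det_mul, reflI_matrix, reflI_matrix,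
      Geometry.det_reflectionMatrix R hv, Geometry.det_reflectionMatrix R hw, neg_mul_neg, one_mul]
  · rw [map_mul, spinH_reflection _ _ hv (reflI_matrix v), spinH_reflection _ _ hw (reflI_matrix w)]

/-- An anisotropic vector orthogonal to its image. -/
theorem exists_perp_image (hM : Model0 R) (h2 : (2 : F) ≠ 0) (hn : 6 ≤ Fintype.card ι) {A : Matrix ι ι F} {c : F}
    (hA : ∀ v, A *ᵥ (A *ᵥ v) = c • v) (hsa : ∀ x y, polarBilin R (A *ᵥ x) y = polarBilin R x (A *ᵥ y))
    (hsim : ∀ v, R (A *ᵥ v) = c * R v) (hc : ¬ IsSquare c) :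
    ∃ v, R v ≠ 0 ∧ polarBilin R v (A *ᵥ v) = 0 := by
  have hn' : 6 ≤ finrank F (ι → F) := by rw [Module.finrank_fintype_fun_eq_card]; exact hn
  have hc0 : c ≠ 0 := fun e => hc (e ▸ IsSquare.zero)
  obtain ⟨x, hx⟩ := hM.exists_one
  set s := polarBilin R x (A *ᵥ x) with hs
  by_cases hs0 : s = 0
  · exact ⟨x, by rw [hx]; exact one_ne_zero, hs0⟩
  obtain ⟨y, hy1, hy2, hy⟩ := Geometry.exists_quad_eq_orthogonal R hM.nondeg h2 hn' x (A *ᵥ x) 1
  set k := s * c - 4 * c ^ 2 / s with hk
  have hk0 : k ≠ 0 := by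
    intro e
    apply hc
    refine ⟨s / 2, ?_⟩
    rw [hk] at e
    field_simp at e
    have e' : s ^ 2 - c * 4 = 0 := mul_left_cancel₀ hc0 (by rw [mul_zero]; linear_combination e)
    rw [div_mul_div_comm, eq_div_iff (mul_ne_zero h2 h2)]
    linear_combination -e'
  obtain ⟨α', β, he⟩ := Geometry.exists_sq_add_sq_eq h2 hs0 hk0 (-polarBilin R y (A *ᵥ y))
  set α := α' - 2 * c * β / s
  set v := α • x + β • (A *ᵥ x) + y with hv
  have hxx : polarBilin R x x = 2 := by rw [Geometry.quad_polar_self, hx, mul_one]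
  have hv0 : v ≠ 0 := by
    intro e
    have h' : polarBilin R v y = 0 := by rw [e]; simp
    rw [hv, map_add, map_add, map_smul, map_smul, LinearMap.add_apply, LinearMap.add_apply, LinearMap.smul_apply,
      LinearMap.smul_apply, quad_polar_comm R x y, hy1, quad_polar_comm R (A *ᵥ x) y, hy2,
      Geometry.quad_polar_self, hy] at h'
    simp at h'
    exact h2 h'
  have hxAy : polarBilin R x (A *ᵥ y) = 0 := by rw [← hsa, quad_polar_comm, hy2]
  have hAxAy : polarBilin R (A *ᵥ x) (A *ᵥ y) = 0 := by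
    rw [hsa, hA, map_smul, quad_polar_comm R x y, hy1, smul_eq_mul, mul_zero]
  have hAxAx : polarBilin R (A *ᵥ x) (A *ᵥ x) = c * 2 := by
    rw [Geometry.quad_polar_self, hsim, hx]; ring
  have hvv : polarBilin R v (A *ᵥ v) = 0 := by
    rw [hv]
    simp only [Matrix.mulVec_add, Matrix.mulVec_smul, hA, map_add, map_smul, LinearMap.add_apply,
      LinearMap.smul_apply, smul_eq_mul, hxx, hAxAx, ← hs, hy1, hy2, hxAy, hAxAy,
      quad_polar_comm R (A *ᵥ x) x]
    have hα : α = α' - 2 * c * β / s := rfl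
    rw [hk] at he
    rw [hα]
    field_simp at he ⊢
    linear_combination he
  by_cases hRv : R v ≠ 0
  · exact ⟨v, hRv, hvv⟩
  push Not at hRv
  -- `v` and `A v` are independent
  have hli : ∀ t : F, A *ᵥ v ≠ t • v := by
    intro t e
    have := hA v
    rw [e, Matrix.mulVec_smul, e, smul_smul] at this
    exact hc ⟨t, (smul_left_injective F hv0 this).symm⟩
  obtain ⟨w₁, hw₁v, hw₁⟩ : ∃ w, polarBilin R v w = 0 ∧ polarBilin R (A *ᵥ v) w = 1 := by
    by_contra hcon
    push Not at hcon
    have hker : ∀ w, polarBilin R v w = 0 → polarBilin R (A *ᵥ v) w = 0 := fun w hw => by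
      by_contra hne
      refine hcon ((polarBilin R (A *ᵥ v) w)⁻¹ • w) ?_ ?_
      · rw [map_smul, hw, smul_zero]
      · rw [map_smul, smul_eq_mul, inv_mul_cancel₀ hne]
    obtain ⟨u, hu⟩ : ∃ u, polarBilin R v u ≠ 0 := by
      by_contra hall
      push Not at hall
      exact hv0 (hM.nondeg.1 v hall)
    refine hli (polarBilin R (A *ᵥ v) u / polarBilin R v u) (sub_eq_zero.mp (hM.nondeg.1 _ fun z => ?_))
    have h0 := hker (z - (polarBilin R v z / polarBilin R v u) • u)
      (by rw [map_sub, map_smul, smul_eq_mul, div_mul_cancel₀ _ hu, sub_self])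
    rw [map_sub, map_smul, smul_eq_mul] at h0
    rw [map_sub, map_smul, LinearMap.sub_apply, LinearMap.smul_apply, smul_eq_mul]
    field_simp at h0 ⊢
    linear_combination h0
  obtain ⟨z, hzv, hzA, hz⟩ := Geometry.exists_quad_eq_orthogonal R hM.nondeg h2 hn' v (A *ᵥ v) 1
  obtain ⟨u, huv, hu, hu0⟩ : ∃ u, polarBilin R v u = 0 ∧ polarBilin R (A *ᵥ v) u = 1 ∧ R u ≠ 0 := by
    by_contra hcon
    push Not at hcon
    have e0 := hcon w₁ hw₁v hw₁
    have e1 := hcon (w₁ + z) (by rw [map_add, hw₁v, quad_polar_comm R v z, hzv, add_zero])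
      (by rw [map_add, hw₁, quad_polar_comm R (A *ᵥ v) z, hzA, add_zero])
    have e2 := hcon (w₁ - z) (by rw [map_sub, hw₁v, quad_polar_comm R v z, hzv, sub_zero])
      (by rw [map_sub, hw₁, quad_polar_comm R (A *ᵥ v) z, hzA, sub_zero])
    rw [quad_add, e0, hz, zero_add] at e1
    rw [show w₁ - z = w₁ + (-1 : F) • z by rw [neg_one_smul, sub_eq_add_neg], quad_add, quad_smul, e0, hz,
      map_smul, smul_eq_mul] at e2
    exact h2 (by linear_combination e1 + e2)
  set t := -polarBilin R u (A *ᵥ u) / 2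
  refine ⟨u + t • v, ?_, ?_⟩
  · rw [quad_add, quad_smul, hRv, map_smul, smul_eq_mul, quad_polar_comm R u v, huv]
    simpa using hu0
  · simp only [Matrix.mulVec_add, Matrix.mulVec_smul, map_add, map_smul, LinearMap.add_apply, LinearMap.smul_apply,
      smul_eq_mul, hvv]
    rw [quad_polar_comm R u (A *ᵥ v), hu, ← hsa v u, hu]
    have ht : t = -polarBilin R u (A *ᵥ u) / 2 := rfl
    rw [ht]
    field_simp
    ring

theorem exists_commuting_spin (hM : Model0 R) (h2 : (2 : F) ≠ 0) {M : ℕ} (hι : Fintype.card ι = 2 * M)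
    (hn : 6 ≤ Fintype.card ι) {g : Cfsg.Geo.quadSimilarityGroup (F := F) ⇑R} (hg : deltaS hM M g = -1)
    (h1 : dia R g * dia R g = 1) :
    ∃ k : Cfsg.isometryGroup F ⇑R, ((k : GL ι F) : Matrix ι ι F).det = 1 ∧ spinH hM.nondeg h2 k = -1 ∧
      dia R g * dia R (isoG R k) = dia R (isoG R k) * dia R g := by
  obtain ⟨c, -, hμ, hA, hsa, -⟩ := invol_shape hM h2 hι hg h1
  set A := (g.1 : Matrix ι ι F)
  have hsim : ∀ v, R (A *ᵥ v) = (c : F) * R v := fun v => by rw [multS_spec hM g v, hμ]
  by_cases hc : IsSquare (c : F)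
  · obtain ⟨d, hd⟩ := hc
    have hd0 : d ≠ 0 := fun e => c.ne_zero (by rw [hd, e, mul_zero])
    let E : F → Submodule F (ι → F) := fun t => LinearMap.ker (Matrix.toLin' A - t • LinearMap.id)
    have hE : ∀ t x, x ∈ E t ↔ A *ᵥ x = t • x := fun t x => by
      simp [E, LinearMap.mem_ker, sub_eq_zero]
    have hmem : ∀ x, A *ᵥ x + d • x ∈ E d ∧ A *ᵥ x - d • x ∈ E (-d) := fun x => by
      rw [hE, hE]
      constructor
      · rw [Matrix.mulVec_add, Matrix.mulVec_smul, hA, hd]; module
      · rw [Matrix.mulVec_sub, Matrix.mulVec_smul, hA, hd]; module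
    have horth : ∀ a ∈ E d, ∀ b ∈ E (-d), polarBilin R a b = 0 := fun a ha b hb => by
      have h := hsa a b
      rw [(hE d a).mp ha, (hE _ b).mp hb, map_smul, LinearMap.smul_apply, map_smul, smul_eq_mul, smul_eq_mul] at h
      exact mul_left_cancel₀ (mul_ne_zero h2 hd0) (by linear_combination h)
    let φ : (ι → F) →ₗ[F] E d × E (-d) :=
      { toFun := fun x => (⟨_, (hmem x).1⟩, ⟨_, (hmem x).2⟩)
        map_add' := fun x y => Prod.ext (Subtype.ext (by simp [Matrix.mulVec_add]; abel))
          (Subtype.ext (by simp [Matrix.mulVec_add]; abel))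
        map_smul' := fun s x => Prod.ext (Subtype.ext (by simp [Matrix.mulVec_smul, smul_comm d s]))
          (Subtype.ext (by simp [Matrix.mulVec_smul, smul_comm d s, smul_sub])) }
    have hφ : Function.Injective φ := by
      intro x y h
      have e1 : A *ᵥ x + d • x = A *ᵥ y + d • y := congrArg (fun p : E d × E (-d) => (p.1 : ι → F)) h
      have e2 : A *ᵥ x - d • x = A *ᵥ y - d • y := congrArg (fun p : E d × E (-d) => (p.2 : ι → F)) h
      refine smul_right_injective (ι → F) (mul_ne_zero h2 hd0) ?_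
      show (2 * d) • x = (2 * d) • y
      linear_combination (norm := module) e1 - e2
    have hrank := LinearMap.finrank_le_finrank_of_injective hφ
    rw [Module.finrank_fintype_fun_eq_card, Module.finrank_prod] at hrank
    have hnd : ∀ t, t = d ∨ t = -d → ∀ a ∈ E t, (∀ b ∈ E t, polarBilin R a b = 0) → a = 0 := by
      intro t ht a ha hab
      refine hM.nondeg.1 a fun x => ?_
      have hx : (2 * d) • x = (A *ᵥ x + d • x) - (A *ᵥ x - d • x) := by module
      refine mul_left_cancel₀ (mul_ne_zero h2 hd0) ?_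
      rw [mul_zero, ← smul_eq_mul, ← map_smul, hx, map_sub]
      rcases ht with rfl | rfl
      · rw [hab _ (hmem x).1, horth a ha _ (hmem x).2, sub_zero]
      · rw [hab _ (hmem x).2, quad_polar_comm, horth _ (hmem x).1 a ha, sub_zero]
    obtain ⟨t, ht, hdim⟩ : ∃ t, (t = d ∨ t = -d) ∧ 2 ≤ finrank F (E t) := by
      by_cases h : 2 ≤ finrank F (E d)
      · exact ⟨d, Or.inl rfl, h⟩
      · exact ⟨-d, Or.inr rfl, by omega⟩
    have ht0 : t ≠ 0 := by rcases ht with rfl | rfl <;> simp [hd0]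
    obtain ⟨α, hα⟩ := exists_nonsquare_unit (F := F) h2
    obtain ⟨v, hv, hRv⟩ := Geometry.exists_quad_eq_mem R h2 (E t) (hnd t ht) hdim 1 one_ne_zero
    obtain ⟨w, hw, hRw⟩ := Geometry.exists_quad_eq_mem R h2 (E t) (hnd t ht) hdim (α : F) α.ne_zero
    have hv0 : R v ≠ 0 := by rw [hRv]; exact one_ne_zero
    have hw0 : R w ≠ 0 := by rw [hRw]; exact α.ne_zero
    refine ⟨reflI R v * reflI R w, (det_spin_two_refl hM h2 hv0 hw0).1, ?_, ?_⟩
    · rw [(det_spin_two_refl hM h2 hv0 hw0).2, hRv, hRw, sqClass_eq_neg_one_iff.mpr hα,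
        sqClass_eq_one_iff.mpr IsSquare.one, one_mul]
    · rw [map_mul, map_mul, ← mul_assoc, dia_comm_refl, mul_assoc, dia_comm_refl, ← mul_assoc,
        show (g.1 : Matrix ι ι F) *ᵥ v = t • v from (hE t v).mp hv, reflI_smul v ht0,
        show (g.1 : Matrix ι ι F) *ᵥ w = t • w from (hE t w).mp hw, reflI_smul w ht0]
  · obtain ⟨v, hv0, hperp⟩ := exists_perp_image hM h2 hn hA hsa hsim hc
    set w := A *ᵥ v with hw
    have hw0 : R w ≠ 0 := by rw [hw, hsim]; exact mul_ne_zero c.ne_zero hv0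
    refine ⟨reflI R v * reflI R w, (det_spin_two_refl hM h2 hv0 hw0).1, ?_, ?_⟩
    · rw [(det_spin_two_refl hM h2 hv0 hw0).2, hw, hsim, Geometry.sqClass_mul c.ne_zero hv0,
        sqClass_eq_neg_one_iff.mpr hc]
      rcases Int.units_eq_one_or (sqClass (R v)) with e | e <;> rw [e] <;> decide
    · rw [map_mul, map_mul, ← mul_assoc, dia_comm_refl, mul_assoc, dia_comm_refl, ← mul_assoc,
        show (g.1 : Matrix ι ι F) *ᵥ v = w from rfl, show (g.1 : Matrix ι ι F) *ᵥ w = (c : F) • v from hA v,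
        reflI_smul v c.ne_zero, ← map_mul (dia R) (isoG R (reflI R w)), ← map_mul (isoG R) (reflI R w),
        reflI_commute (quad_polar_comm R w v ▸ hperp), map_mul, map_mul]

/-! ### The count -/

theorem dia_mem_dia1_iff (hM : Model0 R) (h2 : (2 : F) ≠ 0) {M : ℕ} (hι : Fintype.card ι = 2 * M)
    (g : Cfsg.Geo.quadSimilarityGroup (F := F) ⇑R) : dia R g ∈ dia1 hM h2 hι ↔ deltaS hM M g = 1 := by
  refine ⟨?_, fun h => ⟨g, (sgnS_eq_one _ _ _ _).mpr h, rfl⟩⟩
  rintro ⟨g', hg', he⟩
  have h : dia R (g'⁻¹ * g) = 1 := by rw [map_mul, map_inv, he, inv_mul_cancel]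
  obtain ⟨u, hu⟩ := (dia_eq_one_iff hM _).mp h
  have : g = g' * scG R u := by rw [← show g'⁻¹ * g = scG R u from Subtype.ext hu, mul_inv_cancel_left]
  rw [this, map_mul, deltaS_scG hM hι, mul_one]
  exact (sgnS_eq_one _ _ _ _).mp hg'

theorem split_count (hM : Model0 R) (h2 : (2 : F) ≠ 0) {M : ℕ} (hι : Fintype.card ι = 2 * M)
    (hn : 6 ≤ Fintype.card ι) (hs : Function.Surjective (multS hM)) {g : Cfsg.Geo.quadSimilarityGroup (F := F) ⇑R}
    (hg : dia R g ∉ dia1 hM h2 hι) (h1 : orderOf (dia R g) = 2) :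
    (Cfsg.splitClassCount (dia1 hM h2 hι) (Cfsg.Inn (Cfsg.POmega F ⇑R)) (dia R g) = 1 ∨
      Cfsg.splitClassCount (dia1 hM h2 hι) (Cfsg.Inn (Cfsg.POmega F ⇑R)) (dia R g) = 2) ∧
    ((spinH hM.nondeg h2 (negOne R) = 1 ∨ Even M) →
      Cfsg.splitClassCount (dia1 hM h2 hι) (Cfsg.Inn (Cfsg.POmega F ⇑R)) (dia R g) = 2) := by
  have hgd : deltaS hM M g = -1 := (deltaS_sq hM hι g).resolve_left ((dia_mem_dia1_iff hM h2 hι g).not.mp hg)
  have h11 : dia R g * dia R g = 1 := by rw [← pow_two, ← h1, pow_orderOf_eq_one]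
  set N := dia1 hM h2 hι
  set K := Cfsg.Inn (Cfsg.POmega F ⇑R)
  set P := psoImage R
  have hPN : P ≤ N := by
    rintro _ ⟨k, hk, rfl⟩
    exact (dia_mem_dia1_iff hM h2 hι _).mpr (by rw [deltaS_isoG]; exact hk)
  have hKP : K ≤ P := inn_le_psoImage
  have hn2 : 2 ≤ Fintype.card ι := le_trans (by norm_num) hn
  rw [AutPSL.card_quot_conj N K (hKP.trans hPN) (fun a _ k hk => by
    obtain ⟨y, rfl⟩ := hk
    exact ⟨a y, MulEquiv.ext fun x => by simp [MulAut.mul_apply, MulAut.conj_apply]⟩)]
  set C := N ⊓ Subgroup.centralizer {dia R g}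
  have hPN2 : P.relIndex N = 2 := by
    obtain ⟨φ, hφs, hφk⟩ := dia1_quot_pso hM h2 hι hs
    rw [Subgroup.relIndex, ← hφk, Subgroup.index_ker, MonoidHom.range_eq_top.mpr hφs, Subgroup.card_top,
      Nat.card_congr Multiplicative.toAdd, Nat.card_zmod]
  have hCN : C ⊔ K ≤ N := sup_le inf_le_left (hKP.trans hPN)
  have hCP : (spinH hM.nondeg h2 (negOne R) = 1 ∨ Even M) → C ⊔ K ≤ P := by
    intro hyp
    refine sup_le ?_ hKP
    rintro y ⟨⟨h, hh, rfl⟩, hy⟩
    have hhd := (sgnS_eq_one _ _ _ _).mp hh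
    have hcomm : dia R g * dia R h = dia R h * dia R g := (Subgroup.mem_centralizer_singleton_iff.mp hy).symm
    have hsq : IsSquare ((multS hM h : Fˣ) : F) := by
      by_contra hns
      rcases hyp with hz | he
      · exact not_commute_of_spin hM h2 hι hz hgd hhd hns hcomm
      · exact not_commute_of_even hM h2 hι he hgd h11 hns hcomm
    rw [show P = _ from (ker_psiS_map hM h2 hι).symm]
    exact ⟨h, Prod.ext (sqClass_eq_one_iff.mpr hsq) ((sgnS_eq_one _ _ _ _).mpr hhd), rfl⟩
  rcases Int.units_eq_one_or (spinH hM.nondeg h2 (negOne R)) with hz | hz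
  · have hle := hCP (Or.inl hz)
    obtain ⟨k, hkd, hks, hkc⟩ := exists_commuting_spin hM h2 hι hn hgd h11
    have hkC : dia R (isoG R k) ∈ C :=
      ⟨(dia_mem_dia1_iff hM h2 hι _).mpr (by rw [deltaS_isoG]; exact Units.ext hkd),
        Subgroup.mem_centralizer_singleton_iff.mpr hkc.symm⟩
    have hkK : dia R (isoG R k) ∉ K := fun e => by
      have := spin_eq_of_dia_mem_inn hM h2 hn2 hz e
      rw [hks] at this
      exact absurd this (by decide)
    have e1 := Subgroup.relIndex_mul_relIndex K (C ⊔ K) P le_sup_right hle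
    rw [(relIndex_pso hM h2 hι hn2).2 hz] at e1
    have hne : K.relIndex (C ⊔ K) ≠ 1 := fun e => hkK ((Subgroup.relIndex_eq_one.mp e) (le_sup_left (b := K) hkC))
    have e2 : (C ⊔ K).relIndex P = 1 := by
      rcases (Nat.dvd_prime Nat.prime_two).mp ⟨_, e1.symm⟩ with e | e
      · exact absurd e hne
      · rw [e] at e1; omega
    have e3 := Subgroup.relIndex_mul_relIndex (C ⊔ K) P N hle hPN
    rw [e2, hPN2, one_mul] at e3
    exact ⟨Or.inr e3.symm, fun _ => e3.symm⟩
  · have hPK : P = K := psoImage_le_inn hM h2 hι hn2 hz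
    refine ⟨?_, fun hyp => ?_⟩
    · have e1 := Subgroup.relIndex_mul_relIndex K (C ⊔ K) N le_sup_right hCN
      rw [← hPK, hPN2] at e1
      rw [← hPK]
      exact (Nat.dvd_prime Nat.prime_two).mp (Dvd.intro_left _ e1)
    · rw [show C ⊔ K = P from le_antisymm (hCP hyp) (hPK.le.trans le_sup_right), hPN2]

/-! ### Semilinear involutions of a form of minus type -/

theorem isSquare_of_fixed (h2 : (2 : F) ≠ 0) {σ : F ≃+* F} (hσ2 : ∀ x, σ (σ x) = x) (hne : σ ≠ 1) {y : F}
    (hy : σ y = y) : IsSquare y := by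
  classical
  by_cases hy0 : y = 0
  · exact hy0 ▸ IsSquare.zero
  obtain ⟨w, hw⟩ : ∃ w, σ w ≠ w := by
    by_contra hcon
    push Not at hcon
    exact hne (RingEquiv.ext hcon)
  let F₀ : Subfield F :=
    { carrier := {x | σ x = x}
      mul_mem' := fun ha hb => by simp only [Set.mem_setOf_eq, map_mul] at *; rw [ha, hb]
      one_mem' := map_one σ
      add_mem' := fun ha hb => by simp only [Set.mem_setOf_eq, map_add] at *; rw [ha, hb]
      zero_mem' := map_zero σ
      neg_mem' := fun ha => by simp only [Set.mem_setOf_eq, map_neg] at *; rw [ha]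
      inv_mem' := fun a ha => by simp only [Set.mem_setOf_eq, map_inv₀] at *; rw [ha] }
  set e := w - σ w
  have he : σ e = -e := by simp [e, hσ2]
  let t : F₀ := ⟨e * e, show σ (e * e) = e * e by rw [map_mul, he, neg_mul_neg]⟩
  let y₀ : F₀ := ⟨y, hy⟩
  have he0 : e ≠ 0 := sub_ne_zero.mpr (Ne.symm hw)
  have ht : ¬ IsSquare t := by
    rintro ⟨s, hs⟩
    have hse : e * e = (s : F) * s := congrArg Subtype.val hs
    have hfix : σ e = e := by
      rcases mul_self_eq_mul_self_iff.mp hse with h | h <;> rw [h]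
      · exact s.2
      · rw [map_neg, s.2]
    exact he0 (mul_left_cancel₀ h2 (by rw [mul_zero]; linear_combination he.symm.trans hfix * (-1)))
  by_cases hsq : IsSquare y₀
  · obtain ⟨s, hs⟩ := hsq
    exact ⟨s, congrArg Subtype.val hs⟩
  · haveI : Fintype F₀ := Fintype.ofFinite F₀
    obtain ⟨s, hs⟩ := square_or_nonsquare_mul (a := y₀) (b := t) (fun h => hy0 (congrArg Subtype.val h))
      (fun h => ht (h ▸ IsSquare.zero)) hsq ht
    have hse : y * (e * e) = (s : F) * s := congrArg Subtype.val hs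
    exact ⟨(s : F) / e, by field_simp; linear_combination hse⟩

theorem no_semilinear_invol (hM : Model0 R) (h2 : (2 : F) ≠ 0) {M : ℕ} (hι : Fintype.card ι = 2 * M)
    (hD : ¬ IsSquare ((-1) ^ M * (gram R).det)) {g : GL ι F} {σ : F ≃+* F}
    (hp : Cfsg.IsSemisimilarityPair (⇑R) g σ) (hσ2 : ∀ x, σ (σ x) = x) {c : F}
    (hgg : (g : Matrix ι ι F) * (g : Matrix ι ι F).map σ = c • 1) : σ = 1 := by
  by_contra hne
  obtain ⟨μ, hμ⟩ := hp
  set A := (g : Matrix ι ι F)
  have hvv : ∀ v : ι → F, A *ᵥ (fun i => σ ((A *ᵥ fun j => σ (v j)) i)) = c • v := fun v => by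
    rw [← semi_vec, show (fun i => σ (σ (v i))) = v from funext fun i => hσ2 _, Matrix.mulVec_mulVec, hgg,
      Matrix.smul_mulVec, Matrix.one_mulVec]
  obtain ⟨v₁, hv₁⟩ := hM.exists_one
  have hμμ : (μ : F) * σ μ = c * c := by
    have e := hμ (fun i => ((A *ᵥ fun j => σ (v₁ j)) i))
    rw [hvv, hμ, quad_smul, hv₁, map_mul, map_one, map_one, mul_one, mul_one] at e
    exact e.symm
  have hB : ∀ x y, polarBilin R (A *ᵥ fun i => σ (x i)) (A *ᵥ fun i => σ (y i)) = μ * σ (polarBilin R x y) := by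
    intro x y
    have h := quad_add R (A *ᵥ fun i => σ (x i)) (A *ᵥ fun i => σ (y i))
    rw [← Matrix.mulVec_add, show (fun i => σ (x i)) + (fun i => σ (y i)) = fun i => σ ((x + y) i) from
      funext fun i => (map_add σ _ _).symm, hμ, hμ, hμ, quad_add R x y, map_add, map_add] at h
    linear_combination -h
  have hgram : Aᵀ * gram R * A = (μ : F) • (gram R).map σ := by
    rw [← toMatrix'_comp_mat]
    refine Matrix.ext fun i j => ?_
    have hs : ∀ k, (fun l => σ ((Pi.single k (1 : F) : ι → F) l)) = Pi.single k 1 := fun k =>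
      funext fun l => by simp [Pi.single_apply, apply_ite σ]
    have h := hB (Pi.single i 1) (Pi.single j 1)
    rw [hs, hs] at h
    rw [LinearMap.BilinForm.toMatrix'_apply, LinearMap.BilinForm.comp_apply, Matrix.toLin'_apply,
      Matrix.toLin'_apply, h]
    simp [gram_apply]
  have hdet := congrArg Matrix.det hgram
  rw [Matrix.det_mul, Matrix.det_mul, Matrix.det_transpose, Matrix.det_smul, hι,
    show ((gram R).map σ).det = σ (gram R).det from (RingHom.map_det σ.toRingHom _).symm] at hdet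
  have hdet2 := congrArg Matrix.det hgg
  rw [Matrix.det_mul, Matrix.det_smul, Matrix.det_one, mul_one, hι,
    show (A.map σ).det = σ A.det from (RingHom.map_det σ.toRingHom A).symm] at hdet2
  set E := (-1 : F) ^ M * (gram R).det with hE
  set δ := A.det / (μ : F) ^ M with hδ
  have hμM : (μ : F) ^ M ≠ 0 := pow_ne_zero _ μ.ne_zero
  have hσμM : σ (μ : F) ^ M ≠ 0 := pow_ne_zero _ fun e => μ.ne_zero (σ.injective (e.trans (map_zero σ).symm))
  have hδ1 : δ * σ δ = 1 := by
    have hc0 : c ≠ 0 := fun e => by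
      rw [e, mul_zero, mul_eq_zero] at hμμ
      rcases hμμ with h | h
      · exact μ.ne_zero h
      · exact μ.ne_zero (σ.injective (h.trans (map_zero σ).symm))
    rw [hδ, map_div₀, map_pow, div_mul_div_comm, hdet2, ← mul_pow, hμμ, ← pow_two, ← pow_mul,
      div_self (pow_ne_zero _ hc0)]
  have hδE : σ E = δ * δ * E := by
    rw [hE, map_mul, map_pow, map_neg, map_one, hδ]
    field_simp
    linear_combination (-1 : F) * hdet
  obtain ⟨e, he0, he⟩ : ∃ e, e ≠ 0 ∧ δ * σ e = e := by
    by_cases hd : 1 + δ = 0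
    · obtain ⟨w, hw⟩ : ∃ w, σ w ≠ w := by
        by_contra hcon
        push Not at hcon
        exact hne (RingEquiv.ext hcon)
      refine ⟨w - σ w, sub_ne_zero.mpr (Ne.symm hw), ?_⟩
      rw [map_sub, hσ2]
      linear_combination (σ w - w) * hd
    · exact ⟨1 + δ, hd, by rw [map_add, map_one, mul_add, mul_one, hδ1, add_comm]⟩
  have hfix : σ (E * (e * e)) = E * (e * e) := by
    rw [map_mul, hδE, map_mul]
    linear_combination (E * (δ * σ e + e)) * he
  obtain ⟨s, hs⟩ := isSquare_of_fixed h2 hσ2 hne hfix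
  exact hD ⟨s / e, by field_simp; linear_combination hs⟩

end Cfsg.Agent.Lib.Classical.AutPOmega
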