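import Cfsg.Agent.Lib.Classical.AutPOmega.GraphInv
import Cfsg.Agent.Lib.Classical.OrthOddFree

/-!
Automorphisms of `PΩ`, part 40: a block isometric to a multiple of a sum of squares, its rigidity under
semilinear maps and its odd normal subgroups.
-/

set_option autoImplicit false

namespace Cfsg.Agent.Lib.Classical.AutPOmega

open Matrix
open scoped commutatorElement

/-- The orthogonal group of a sum of squares. -/
abbrev OA (K : Type*) [Field K] (a : ℕ) : Subgroup (GL (Fin a) K) :=
  Cfsg.isometryGroup K (OddFree.diagForm (fun _ : Fin a => (1 : K)))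

section SumSquares

variable {K : Type*} [Field K] {a : ℕ}

theorem diagForm_dot (x : Fin a → K) : OddFree.diagForm (fun _ : Fin a => (1 : K)) x = x ⬝ᵥ x := by
  simp [OddFree.diagForm, dotProduct, sq]

theorem mem_OA {g : GL (Fin a) K} :
    g ∈ OA K a ↔ ∀ x, ((g : Matrix (Fin a) (Fin a) K) *ᵥ x) ⬝ᵥ ((g : Matrix (Fin a) (Fin a) K) *ᵥ x) = x ⬝ᵥ x := by
  rw [OddFree.mem_diag]
  simp only [diagForm_dot]

/-- The matrix of an element of the orthogonal group. -/
abbrev oMat (k : OA K a) : Matrix (Fin a) (Fin a) K := ((k.1 : GL (Fin a) K) : Matrix (Fin a) (Fin a) K)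

theorem oMat_ext {k l : OA K a} (h : ∀ x, oMat k *ᵥ x = oMat l *ᵥ x) : k = l :=
  Subtype.ext (Units.ext (Matrix.ext_of_mulVec_single fun i => h _))

theorem oMat_mul_mulVec (k l : OA K a) (x : Fin a → K) : oMat (k * l) *ᵥ x = oMat k *ᵥ (oMat l *ᵥ x) :=
  (Matrix.mulVec_mulVec _ _ _).symm

/-- An involution as an element of the orthogonal group. -/
def oOfInvol (M : Matrix (Fin a) (Fin a) K) (h : M * M = 1) (h' : ∀ x, (M *ᵥ x) ⬝ᵥ (M *ᵥ x) = x ⬝ᵥ x) : OA K a :=
  ⟨⟨M, M, h, h⟩, mem_OA.mpr h'⟩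

/-- The exchange of two coordinates. -/
def swO (i j : Fin a) : OA K a :=
  oOfInvol ((Equiv.swap i j).toPEquiv.toMatrix)
    (by rw [← PEquiv.toMatrix_trans, ← Equiv.toPEquiv_trans]; simp)
    (fun x => by
      simp only [PEquiv.toMatrix_toPEquiv_mulVec]
      exact Equiv.sum_comp (Equiv.swap i j) (fun l => x l * x l))

theorem swO_mulVec (i j : Fin a) (x : Fin a → K) : oMat (swO i j : OA K a) *ᵥ x = x ∘ Equiv.swap i j :=
  PEquiv.toMatrix_toPEquiv_mulVec _ _

/-- The sign change of one coordinate. -/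
def negO (i : Fin a) : OA K a :=
  oOfInvol (Matrix.diagonal fun l => if l = i then -1 else 1)
    (by
      rw [Matrix.diagonal_mul_diagonal, ← Matrix.diagonal_one]
      congr 1; funext l; split_ifs <;> simp)
    (fun x => Finset.sum_congr rfl fun l _ => by
      rw [Matrix.mulVec_diagonal]; split_ifs <;> ring)

theorem negO_mulVec (i : Fin a) (x : Fin a → K) (l : Fin a) :
    (oMat (negO i : OA K a) *ᵥ x) l = if l = i then - x l else x l := by
  show (Matrix.diagonal _ *ᵥ x) l = _
  rw [Matrix.mulVec_diagonal]; split_ifs <;> ring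

theorem swO_inv (i j : Fin a) : (swO i j : OA K a)⁻¹ = swO i j := Subtype.ext (Units.ext rfl)

theorem negO_inv (i : Fin a) : (negO i : OA K a)⁻¹ = negO i := Subtype.ext (Units.ext rfl)

/-- The sign change of two coordinates. -/
def pairO (i j : Fin a) : OA K a := negO i * negO j

theorem pairO_mulVec {i j : Fin a} (hij : i ≠ j) (x : Fin a → K) (l : Fin a) :
    (oMat (pairO i j : OA K a) *ᵥ x) l = if l = i ∨ l = j then - x l else x l := by
  rw [pairO, oMat_mul_mulVec, negO_mulVec, negO_mulVec]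
  by_cases h : l = i <;> by_cases h' : l = j <;> simp_all

theorem pairO_eq_commutator {i j : Fin a} (hij : i ≠ j) : (pairO i j : OA K a) = ⁅(negO i : OA K a), (swO i j : OA K a)⁆ := by
  refine oMat_ext fun x => funext fun l => ?_
  rw [commutatorElement_def, negO_inv (K := K), swO_inv (K := K), pairO_mulVec hij, oMat_mul_mulVec, oMat_mul_mulVec, oMat_mul_mulVec,
    negO_mulVec, swO_mulVec, Function.comp_apply, negO_mulVec, swO_mulVec, Function.comp_apply,
    Equiv.swap_apply_self]
  rcases eq_or_ne l i with rfl | hi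
  · simp [hij.symm]
  rcases eq_or_ne l j with rfl | hj
  · simp [hi]
  simp [hi, hj, Equiv.swap_apply_of_ne_of_ne]

/-- A cyclic exchange of three coordinates. -/
def cycO (i j l : Fin a) : OA K a := ⁅(swO i j : OA K a), (swO j l : OA K a)⁆

theorem cycO_mulVec (i j l : Fin a) (x : Fin a → K) (t : Fin a) :
    (oMat (cycO i j l : OA K a) *ᵥ x) t =
      x (Equiv.swap j l (Equiv.swap i j (Equiv.swap j l (Equiv.swap i j t)))) := by
  rw [cycO, commutatorElement_def, swO_inv (K := K), swO_inv (K := K), oMat_mul_mulVec, oMat_mul_mulVec, oMat_mul_mulVec, swO_mulVec,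
    swO_mulVec, swO_mulVec, swO_mulVec]
  rfl

theorem cycO_vals {i j l : Fin a} (hij : i ≠ j) (hil : i ≠ l) (hjl : j ≠ l) (x : Fin a → K) :
    (oMat (cycO i j l : OA K a) *ᵥ x) i = x j ∧ (oMat (cycO i j l : OA K a) *ᵥ x) j = x l ∧
      (oMat (cycO i j l : OA K a) *ᵥ x) l = x i ∧
      ∀ t, t ≠ i → t ≠ j → t ≠ l → (oMat (cycO i j l : OA K a) *ᵥ x) t = x t := by
  refine ⟨?_, ?_, ?_, fun t h1 h2 h3 => ?_⟩ <;> rw [cycO_mulVec]
  · simp [Equiv.swap_apply_of_ne_of_ne, hij, hil, hjl, hij.symm, hil.symm, hjl.symm]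
  · simp [Equiv.swap_apply_of_ne_of_ne, hij, hil, hjl, hij.symm, hil.symm, hjl.symm]
  · simp [Equiv.swap_apply_of_ne_of_ne, hij, hil, hjl, hij.symm, hil.symm, hjl.symm]
  · simp [Equiv.swap_apply_of_ne_of_ne, h1, h2, h3]

theorem exists_third (ha : 3 ≤ a) (i j : Fin a) : ∃ l, i ≠ l ∧ j ≠ l := by
  obtain ⟨l, hl⟩ : ∃ l : Fin a, l ∉ ({i, j} : Finset (Fin a)) := by
    by_contra hcon
    push Not at hcon
    have := (Finset.card_le_card (s := (Finset.univ : Finset (Fin a))) (t := {i, j}) fun b _ => hcon b).trans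
      Finset.card_le_two
    simp at this
    omega
  simp only [Finset.mem_insert, Finset.mem_singleton, not_or] at hl
  exact ⟨l, Ne.symm hl.1, Ne.symm hl.2⟩

theorem pairO_mem {i j : Fin a} (hij : i ≠ j) : (pairO i j : OA K a) ∈ commutator (OA K a) := by
  rw [pairO_eq_commutator hij, commutator_def]
  exact Subgroup.commutator_mem_commutator (Subgroup.mem_top _) (Subgroup.mem_top _)

theorem cycO_mem (i j l : Fin a) : (cycO i j l : OA K a) ∈ commutator (OA K a) := by
  rw [commutator_def]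
  exact Subgroup.commutator_mem_commutator (G := OA K a) (Subgroup.mem_top _) (Subgroup.mem_top _)

theorem conj_mem_commutator (k : OA K a) {s : OA K a} (hs : s ∈ commutator (OA K a)) :
    k * s * k⁻¹ ∈ commutator (OA K a) := (inferInstance : (commutator (OA K a)).Normal).conj_mem s hs k

/-- A sign-valued character is trivial on the sign changes of two coordinates and on three-cycles. -/
theorem char_pairO {U : Type*} [CommGroup U] (χ : commutator (OA K a) →* U) (hU : ∀ s, χ s * χ s = 1) (ha : 3 ≤ a)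
    {i j : Fin a} (hij : i ≠ j) :
    χ ⟨pairO i j, pairO_mem hij⟩ = 1 ∧ ∀ l, i ≠ l → j ≠ l → χ ⟨cycO i j l, cycO_mem i j l⟩ = 1 := by
  have hcyc : ∀ i j l : Fin a, i ≠ j → i ≠ l → j ≠ l → χ ⟨cycO i j l, cycO_mem i j l⟩ = 1 := by
    intro i j l h1 h2 h3
    set P : commutator (OA K a) := ⟨cycO i j l, cycO_mem i j l⟩
    have h : P * P * P = 1 := Subtype.ext (oMat_ext fun x => funext fun t => by
      show (oMat (cycO i j l * cycO i j l * cycO i j l : OA K a) *ᵥ x) t = ((1 : Matrix (Fin a) (Fin a) K) *ᵥ x) t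
      rw [oMat_mul_mulVec, oMat_mul_mulVec, Matrix.one_mulVec]
      have e := cycO_vals (K := K) h1 h2 h3
      rcases eq_or_ne t i with rfl | hi
      · rw [(e _).1, (e _).2.1, (e _).2.2.1]
      rcases eq_or_ne t j with rfl | hj
      · rw [(e _).2.1, (e _).2.2.1, (e _).1]
      rcases eq_or_ne t l with rfl | hl
      · rw [(e _).2.2.1, (e _).1, (e _).2.1]
      rw [(e _).2.2.2 t hi hj hl, (e _).2.2.2 t hi hj hl, (e _).2.2.2 t hi hj hl])
    have := congrArg χ h
    rwa [map_mul, map_mul, hU, one_mul, map_one] at this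
  refine ⟨?_, fun l => hcyc i j l hij⟩
  obtain ⟨l, hil, hjl⟩ := exists_third ha i j
  -- the product of two of the sign changes is the third, and all three are conjugate by a three-cycle
  have hprod : (⟨pairO i j, pairO_mem hij⟩ : commutator (OA K a)) * ⟨pairO j l, pairO_mem hjl⟩ =
      ⟨pairO i l, pairO_mem hil⟩ := Subtype.ext (oMat_ext fun x => funext fun t => by
    show (oMat (pairO i j * pairO j l : OA K a) *ᵥ x) t = (oMat (pairO i l) *ᵥ x) t
    rw [oMat_mul_mulVec, pairO_mulVec hij, pairO_mulVec hjl, pairO_mulVec hil]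
    rcases eq_or_ne t i with rfl | hi
    · simp [hij, hil]
    rcases eq_or_ne t j with rfl | hj
    · simp [hij.symm, hjl]
    simp [hi, hj])
  set P : commutator (OA K a) := ⟨cycO i j l, cycO_mem i j l⟩
  have hc : ∀ p q p' q' : Fin a, ∀ (h : p ≠ q) (h' : p' ≠ q'),
      (∀ x t, (oMat (cycO i j l : OA K a) *ᵥ (oMat (pairO p q : OA K a) *ᵥ x)) t =
        (oMat (pairO p' q' : OA K a) *ᵥ (oMat (cycO i j l : OA K a) *ᵥ x)) t) →
      χ ⟨pairO p q, pairO_mem h⟩ = χ ⟨pairO p' q', pairO_mem h'⟩ := by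
    intro p q p' q' h h' he
    have : P * ⟨pairO p q, pairO_mem h⟩ = ⟨pairO p' q', pairO_mem h'⟩ * P := Subtype.ext (oMat_ext fun x => by
      show oMat (cycO i j l * pairO p q : OA K a) *ᵥ x = oMat (pairO p' q' * cycO i j l : OA K a) *ᵥ x
      rw [oMat_mul_mulVec, oMat_mul_mulVec]
      exact funext (he x))
    have := congrArg χ this
    rwa [map_mul, map_mul, mul_comm (χ P), mul_left_inj] at this
  have e := cycO_vals (K := K) hij hil hjl
  have e1 : χ ⟨pairO j l, pairO_mem hjl⟩ = χ ⟨pairO i j, pairO_mem hij⟩ := hc j l i j hjl hij fun x t => by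
    rw [pairO_mulVec hij]
    rcases eq_or_ne t i with rfl | hi
    · rw [(e _).1, pairO_mulVec hjl, (e _).1]; simp
    rcases eq_or_ne t j with rfl | hj
    · rw [(e _).2.1, pairO_mulVec hjl, (e _).2.1]; simp
    rcases eq_or_ne t l with rfl | hl
    · rw [(e _).2.2.1, pairO_mulVec hjl, (e _).2.2.1]; simp [hij, hil, hi, hj]
    rw [(e _).2.2.2 t hi hj hl, pairO_mulVec hjl, (e _).2.2.2 t hi hj hl]; simp [hi, hj, hl]
  have e2 : χ ⟨pairO i l, pairO_mem hil⟩ = χ ⟨pairO j l, pairO_mem hjl⟩ := hc i l j l hil hjl fun x t => by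
    rw [pairO_mulVec hjl]
    rcases eq_or_ne t i with rfl | hi
    · rw [(e _).1, pairO_mulVec hil, (e _).1]; simp [hij.symm, hjl, hij, hil]
    rcases eq_or_ne t j with rfl | hj
    · rw [(e _).2.1, pairO_mulVec hil, (e _).2.1]; simp
    rcases eq_or_ne t l with rfl | hl
    · rw [(e _).2.2.1, pairO_mulVec hil, (e _).2.2.1]; simp
    rw [(e _).2.2.2 t hi hj hl, pairO_mulVec hil, (e _).2.2.2 t hi hj hl]; simp [hi, hj, hl]
  have := congrArg χ hprod
  rw [map_mul, e1, hU, e2, e1] at this
  exact this.symm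

/-- The reflection in a vector. -/
noncomputable def houseO (u : Fin a → K) (hu : u ⬝ᵥ u ≠ 0) : OA K a :=
  oOfInvol (1 - (2 / (u ⬝ᵥ u)) • Matrix.vecMulVec u u)
    (by
      have h : Matrix.vecMulVec u u * Matrix.vecMulVec u u = (u ⬝ᵥ u) • Matrix.vecMulVec u u := by
        rw [Matrix.vecMulVec_mul_vecMulVec]
        ext p q
        simp [Matrix.vecMulVec_apply]
        ring
      rw [sub_mul, one_mul, mul_sub, mul_one, Matrix.smul_mul, Matrix.mul_smul, h, smul_smul, smul_smul, sub_sub,
        ← sub_smul, ← add_smul, show (2 / (u ⬝ᵥ u) + (2 / (u ⬝ᵥ u) - 2 / (u ⬝ᵥ u) * (2 / (u ⬝ᵥ u)) * (u ⬝ᵥ u))) = 0 by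
          field_simp; ring, zero_smul, sub_zero])
    (fun x => by
      simp only [Matrix.sub_mulVec, Matrix.one_mulVec, Matrix.smul_mulVec, Matrix.vecMulVec_mulVec, op_smul_eq_smul,
        smul_smul, sub_dotProduct, dotProduct_sub, smul_dotProduct, dotProduct_smul, smul_eq_mul]
      rw [dotProduct_comm x u]
      field_simp
      ring)

theorem houseO_single (u : Fin a → K) (hu : u ⬝ᵥ u ≠ 0) (i t : Fin a) :
    (oMat (houseO u hu) *ᵥ Pi.single i 1) t = (Pi.single i (1 : K) : Fin a → K) t - 2 / (u ⬝ᵥ u) * u i * u t := by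
  show ((1 - (2 / (u ⬝ᵥ u)) • Matrix.vecMulVec u u) *ᵥ Pi.single i 1) t = _
  simp [Matrix.sub_mulVec, Matrix.smul_mulVec, Matrix.vecMulVec_mulVec, Matrix.vecMulVec_apply, Matrix.one_apply, Pi.single_apply]
  ring

end SumSquares

/-- A direct summand carrying a multiple of a sum of squares over an extension field. -/
structure Block {F : Type*} [Field F] {ι : Type} [Fintype ι] [DecidableEq ι] (R : QuadraticForm F (ι → F))
    (K : Type*) [Field K] [Algebra F K] (a : ℕ) (W : Type*) [AddCommGroup W] [Module F W] where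
  T : (ι → F) ≃ₗ[F] (Fin a → K) × W
  φ : K →ₗ[F] F
  c : K
  rest : W → F
  form : ∀ v, R v = φ (c * ((T v).1 ⬝ᵥ (T v).1)) + rest (T v).2
  nondeg : ∀ z : K, (∀ t : K, φ (c * (t * t) * z) = 0) → z = 0

namespace Block

variable {F : Type*} [Field F] {ι : Type} [Fintype ι] [DecidableEq ι] {R : QuadraticForm F (ι → F)}
  {K : Type*} [Field K] [Algebra F K] {a : ℕ} {W : Type*} [AddCommGroup W] [Module F W] (b : Block R K a W)

/-- The action on the block. -/
noncomputable def actL (M : Matrix (Fin a) (Fin a) K) : (ι → F) →ₗ[F] (ι → F) :=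
  b.T.symm.toLinearMap ∘ₗ (((Matrix.mulVecLin M).restrictScalars F).prodMap LinearMap.id) ∘ₗ b.T.toLinearMap

theorem actL_apply (M : Matrix (Fin a) (Fin a) K) (v : ι → F) :
    b.actL M v = b.T.symm (M *ᵥ (b.T v).1, (b.T v).2) := rfl

/-- Matrices of the block as matrices of the space. -/
noncomputable def actHom : Matrix (Fin a) (Fin a) K →* Matrix ι ι F where
  toFun M := LinearMap.toMatrix' (b.actL M)
  map_one' := by
    rw [show b.actL 1 = LinearMap.id from LinearMap.ext fun v => by simp [actL_apply], LinearMap.toMatrix'_id]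
  map_mul' M N := by
    rw [← LinearMap.toMatrix'_comp]
    congr 1
    exact LinearMap.ext fun v => by simp [actL_apply, Matrix.mulVec_mulVec]

theorem actHom_mulVec (M : Matrix (Fin a) (Fin a) K) (v : ι → F) :
    b.actHom M *ᵥ v = b.T.symm (M *ᵥ (b.T v).1, (b.T v).2) := by
  show LinearMap.toMatrix' (b.actL M) *ᵥ v = _
  rw [LinearMap.toMatrix'_mulVec, actL_apply]

/-- The orthogonal group of the block as isometries of the space. -/
noncomputable def ext : OA K a →* Cfsg.isometryGroup F ⇑R :=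
  ((Units.map b.actHom).comp (OA K a).subtype).codRestrict (Cfsg.isometryGroup F ⇑R) fun k v _ => by
    show R (b.actHom (oMat k) *ᵥ v) = R v
    rw [actHom_mulVec, b.form, b.form v, LinearEquiv.apply_symm_apply, mem_OA.mp k.2]

theorem ext_mulVec (k : OA K a) (v : ι → F) :
    ((b.ext k : GL ι F) : Matrix ι ι F) *ᵥ v = b.T.symm (oMat k *ᵥ (b.T v).1, (b.T v).2) :=
  b.actHom_mulVec _ v

/-- Rigidity of the block. -/
theorem rigid (h2F : (2 : F) ≠ 0) (ha : 3 ≤ a) {τ : F ≃+* F} (S : (ι → F) → (ι → F))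
    (hadd : ∀ u v, S (u + v) = S u + S v) (hsmul : ∀ (t : F) v, S (t • v) = τ t • S v) (hinj : Function.Injective S)
    (hS : ∀ s ∈ commutator (OA K a), ∃ ε : F, (ε = 1 ∨ ε = -1) ∧
      ∀ v, S (((b.ext s : GL ι F) : Matrix ι ι F) *ᵥ v) = ε • (((b.ext s : GL ι F) : Matrix ι ι F) *ᵥ S v)) :
    τ = 1 ∧ ∃ μ : K, (∀ x, b.T (S (b.T.symm (x, 0))) = (μ • x, 0)) ∧ ∀ y, (b.T (S (b.T.symm (0, y)))).1 = 0 := by
  classical
  have h2 : (2 : K) ≠ 0 := fun e => h2F ((algebraMap F K).injective (by rw [map_ofNat, e, map_zero]))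
  set act : OA K a → (ι → F) → (ι → F) := fun s v => ((b.ext s : GL ι F) : Matrix ι ι F) *ᵥ v with hact
  have hact_mul : ∀ s t v, act (s * t) v = act s (act t v) := fun s t v => by
    simp only [act, map_mul, Subgroup.coe_mul, Units.val_mul, Matrix.mulVec_mulVec]
  have hact_smul : ∀ s (e : F) v, act s (e • v) = e • act s v := fun s e v => Matrix.mulVec_smul _ _ _
  obtain ⟨v₀, hv₀⟩ : ∃ v : ι → F, v ≠ 0 := by
    refine ⟨b.T.symm (Pi.single ⟨0, by omega⟩ 1, 0), fun e => ?_⟩
    have := congrArg Prod.fst ((b.T.apply_symm_apply _).symm.trans ((congrArg b.T e).trans (map_zero b.T)))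
    simpa using congrFun this ⟨0, by omega⟩
  have hS0 : S 0 = 0 := by simpa using hsmul 0 0
  -- the signs form a character
  have hex : ∀ s : commutator (OA K a), ∃ ε : Fˣ, ε * ε = 1 ∧ ∀ v, S (act s.1 v) = (ε : F) • act s.1 (S v) := by
    intro s
    obtain ⟨ε, hε, he⟩ := hS s.1 s.2
    rcases hε with rfl | rfl
    · exact ⟨1, one_mul 1, by simpa [act] using he⟩
    · exact ⟨-1, by simp, by simpa [act] using he⟩
  choose χ₀ hχsq hχ using hex
  have huniq : ∀ (s : commutator (OA K a)) (e : Fˣ), (∀ v, S (act s.1 v) = (e : F) • act s.1 (S v)) → χ₀ s = e := by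
    intro s e he
    have h := (hχ s v₀).symm.trans (he v₀)
    refine Units.ext (smul_left_injective F ?_ h)
    intro e0
    have h' := hχ s v₀
    rw [e0, smul_zero, ← hS0] at h'
    exact hv₀ (by
      have := congrArg (act (s.1⁻¹)) (hinj h')
      rw [← hact_mul, inv_mul_cancel] at this
      simpa [act] using this)
  let χ : commutator (OA K a) →* Fˣ := MonoidHom.mk' χ₀ fun s t => huniq _ _ fun v => by
    show S (act (s.1 * t.1) v) = _
    rw [hact_mul, hχ s, hχ t, hact_smul, smul_smul, ← hact_mul, Units.val_mul]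
    rfl
  have hexact : ∀ (s : OA K a) (hs : s ∈ commutator (OA K a)), χ ⟨s, hs⟩ = 1 → ∀ v, S (act s v) = act s (S v) := by
    intro s hs h v
    have h' := hχ ⟨s, hs⟩ v
    rwa [show χ₀ ⟨s, hs⟩ = 1 from h, Units.val_one, one_smul] at h'
  have hD : ∀ (k : OA K a) (i j : Fin a), i ≠ j → ∀ v,
      S (act (k * pairO i j * k⁻¹) v) = act (k * pairO i j * k⁻¹) (S v) := by
    intro k i j hij
    let cj : commutator (OA K a) →* commutator (OA K a) :=
      MonoidHom.mk' (fun s => ⟨k * s.1 * k⁻¹, conj_mem_commutator k s.2⟩) fun s t => Subtype.ext (by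
        show k * (s.1 * t.1) * k⁻¹ = k * s.1 * k⁻¹ * (k * t.1 * k⁻¹); group)
    exact hexact _ _ (char_pairO (χ.comp cj) (fun s => hχsq _) ha hij).1
  have hactT : ∀ s v, b.T (act s v) = (oMat s *ᵥ (b.T v).1, (b.T v).2) := fun s v => by
    simp only [act, b.ext_mulVec, LinearEquiv.apply_symm_apply]
  have hneg : ∀ v : ι → F, S (-v) = - S v := fun v => by
    have := hsmul (-1) v
    rwa [map_neg, map_one, neg_one_smul, neg_one_smul] at this
  -- two groups of fixed and negated vectors
  set x₁ : (Fin a → K) → Fin a → K := fun x => (b.T (S (b.T.symm (x, 0)))).1 with hx₁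
  have hW : ∀ y i, (b.T (S (b.T.symm (0, y)))).1 i = 0 := by
    intro y i
    obtain ⟨j, hij, -⟩ := exists_third ha i i
    have h := hD 1 i j hij (b.T.symm (0, y))
    rw [one_mul, inv_one, mul_one] at h
    have hv : act (pairO i j) (b.T.symm (0, y)) = b.T.symm (0, y) := b.T.injective (by
      rw [hactT, LinearEquiv.apply_symm_apply, Matrix.mulVec_zero])
    rw [hv] at h
    have h' := congrArg (fun v => (b.T v).1 i) h
    simp only [hactT, pairO_mulVec hij, true_or, if_true] at h'
    exact (mul_eq_zero.mp (show (2 : K) * _ = 0 by linear_combination h')).resolve_left h2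
  have hline : ∀ (k : OA K a) (i : Fin a) (z : K),
      (∀ t, t ≠ i → (oMat k⁻¹ *ᵥ x₁ (z • (oMat k *ᵥ Pi.single i 1))) t = 0) := by
    intro k i z t ht
    obtain ⟨l, hil, htl⟩ := exists_third ha i t
    have h := hD k t l htl (b.T.symm (z • (oMat k *ᵥ Pi.single i 1), 0))
    have hfix : oMat (k * pairO t l * k⁻¹) *ᵥ (z • (oMat k *ᵥ Pi.single i 1)) = z • (oMat k *ᵥ Pi.single i 1) := by
      rw [Matrix.mulVec_smul, ← oMat_mul_mulVec, inv_mul_cancel_right, oMat_mul_mulVec]
      congr 2
      funext u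
      rw [pairO_mulVec htl]
      split_ifs with hu
      · have : u ≠ i := by rcases hu with rfl | rfl; exacts [ht, hil.symm]
        simp [Pi.single_apply, this]
      · rfl
    have hv : act (k * pairO t l * k⁻¹) (b.T.symm (z • (oMat k *ᵥ Pi.single i 1), 0)) =
        b.T.symm (z • (oMat k *ᵥ Pi.single i 1), 0) := b.T.injective (by
      rw [hactT, LinearEquiv.apply_symm_apply, hfix])
    rw [hv] at h
    have h' := congrArg (fun v => (oMat k⁻¹ *ᵥ (b.T v).1) t) h
    simp only [hactT, ← oMat_mul_mulVec] at h'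
    rw [show k⁻¹ * (k * pairO t l * k⁻¹) = pairO t l * k⁻¹ by group, oMat_mul_mulVec, pairO_mulVec htl] at h'
    simp only [true_or, if_true] at h'
    exact (mul_eq_zero.mp (show (2 : K) * _ = 0 by linear_combination h')).resolve_left h2
  -- the coordinate lines
  have hdiag : ∀ i z t, t ≠ i → x₁ (Pi.single i z) t = 0 := fun i z t ht => by
    have h := hline 1 i z t ht
    have h1 : ∀ x : Fin a → K, oMat (1 : OA K a) *ᵥ x = x := fun x => Matrix.one_mulVec x
    rw [inv_one, h1, h1, ← Pi.single_smul, smul_eq_mul, mul_one] at h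
    exact h
  have hx₁add : ∀ x x', x₁ (x + x') = x₁ x + x₁ x' := fun x x' => by
    show (b.T (S (b.T.symm (x + x', 0)))).1 = _
    rw [show ((x + x', 0) : (Fin a → K) × W) = (x, 0) + (x', 0) by simp, map_add, hadd, map_add]
    rfl
  have hx₁0 : x₁ 0 = 0 := by
    show (b.T (S (b.T.symm (0, 0)))).1 = 0
    rw [show ((0 : Fin a → K), (0 : W)) = 0 from rfl, map_zero, hS0, map_zero]; rfl
  let f : Fin a → K → K := fun i z => x₁ (Pi.single i z) i
  have hx₁sum : ∀ x t, x₁ x t = f t (x t) := by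
    intro x t
    let g : (Fin a → K) →+ K := AddMonoidHom.mk' (fun x => x₁ x t) fun x x' => by rw [hx₁add]; rfl
    show g x = _
    conv_lhs => rw [← Finset.univ_sum_single x]
    rw [map_sum]
    show ∑ i, x₁ (Pi.single i (x i)) t = _
    rw [Finset.sum_eq_single t (fun i _ hi => hdiag i _ t (Ne.symm hi)) (by simp)]
  have hsecond : ∀ i z, (b.T (S (b.T.symm (Pi.single i z, 0)))).2 = 0 := by
    intro i z
    obtain ⟨j, hij, -⟩ := exists_third ha i i
    have h := hD 1 i j hij (b.T.symm (Pi.single i z, 0))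
    rw [one_mul, inv_one, mul_one] at h
    have hv : act (pairO i j) (b.T.symm (Pi.single i z, 0)) = - b.T.symm (Pi.single i z, 0) := b.T.injective (by
      rw [hactT, map_neg, LinearEquiv.apply_symm_apply]
      refine Prod.ext (funext fun t => ?_) neg_zero.symm
      show (oMat (pairO i j) *ᵥ Pi.single i z) t = -(Pi.single i z : Fin a → K) t
      rw [pairO_mulVec hij]
      rcases eq_or_ne t i with rfl | ht
      · simp
      · simp [ht])
    rw [hv, hneg] at h
    have h' := congrArg (fun v => (b.T v).2) h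
    simp only [hactT, map_neg, Prod.snd_neg] at h'
    have h3 : (2 : F) • (b.T (S (b.T.symm (Pi.single i z, 0)))).2 = 0 := by
      rw [two_smul]
      nth_rw 2 [← h']
      exact add_neg_cancel _
    exact (smul_eq_zero.mp h3).resolve_left h2F
  have hcomp : ∀ i j, i ≠ j → f i = f j := by
    intro i j hij
    obtain ⟨l, hil, hjl⟩ := exists_third ha i j
    funext z
    have h := hexact _ _ ((char_pairO χ (fun s => hχsq _) ha hij).2 l hil hjl) (b.T.symm (Pi.single j z, 0))
    have hv : act (cycO i j l) (b.T.symm (Pi.single j z, 0)) = b.T.symm (Pi.single i z, 0) := b.T.injective (by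
      rw [hactT, LinearEquiv.apply_symm_apply, LinearEquiv.apply_symm_apply]
      refine Prod.ext (funext fun t => ?_) rfl
      show (oMat (cycO i j l) *ᵥ Pi.single j z) t = (Pi.single i z : Fin a → K) t
      obtain ⟨e1, e2, e3, e4⟩ := cycO_vals (K := K) hij hil hjl (Pi.single j z)
      rcases eq_or_ne t i with rfl | hi
      · rw [e1]; simp
      rcases eq_or_ne t j with rfl | hj
      · rw [e2]; simp [hij.symm, hjl.symm]
      rcases eq_or_ne t l with rfl | hl
      · rw [e3]; simp [hij, hil.symm]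
      rw [e4 t hi hj hl]; simp [hi, hj])
    rw [hv] at h
    have h' := congrArg (fun v => (b.T v).1 i) h
    simp only [hactT] at h'
    rw [(cycO_vals (K := K) hij hil hjl _).1] at h'
    exact h'
  let i₀ : Fin a := ⟨0, by omega⟩
  let j₀ : Fin a := ⟨1, by omega⟩
  let l₀ : Fin a := ⟨2, by omega⟩
  have hij₀ : i₀ ≠ j₀ := by simp [i₀, j₀]
  have hil₀ : i₀ ≠ l₀ := by simp [i₀, l₀]
  have hjl₀ : j₀ ≠ l₀ := by simp [j₀, l₀]
  have hf : ∀ i, f i = f i₀ := fun i => by
    rcases eq_or_ne i i₀ with rfl | h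
    exacts [rfl, hcomp _ _ h]
  set g := f i₀
  have hgadd : ∀ y y', g (y + y') = g y + g y' := fun y y' => by
    show x₁ (Pi.single i₀ (y + y')) i₀ = _
    rw [Pi.single_add, hx₁add]; rfl
  have hg0 : g 0 = 0 := by
    show x₁ (Pi.single i₀ 0) i₀ = 0
    rw [Pi.single_zero, hx₁0]; rfl
  -- linearity
  have hlin : ∀ e : K, 1 + e * e + 1 ≠ 0 → ∀ y, g (e * y) = e * g y := by
    intro e he y
    let u : Fin a → K := Pi.single i₀ 1 + Pi.single j₀ e + Pi.single l₀ 1
    have huu : u ⬝ᵥ u = 1 + e * e + 1 := by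
      simp [u, add_dotProduct, dotProduct_add, hij₀, hij₀.symm, hil₀, hil₀.symm, hjl₀, hjl₀.symm]
    have hu : u ⬝ᵥ u ≠ 0 := huu ▸ he
    set k := houseO u hu
    set d := 2 / (u ⬝ᵥ u) with hd
    have hd0 : d ≠ 0 := div_ne_zero h2 hu
    set z := -(y / d)
    set C := oMat k *ᵥ Pi.single i₀ 1 with hC
    have hcj : C j₀ = -(d * e) := by
      simp only [hC, k, houseO_single, ← hd]
      simp [u, hij₀, hij₀.symm, hjl₀, hjl₀.symm, hil₀, hil₀.symm]
    have hcl : C l₀ = -d := by
      simp only [hC, k, houseO_single, ← hd]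
      simp [u, hij₀, hij₀.symm, hjl₀, hjl₀.symm, hil₀, hil₀.symm]
    set w := z • C with hw
    have hwj : w j₀ = e * y := by
      rw [hw, Pi.smul_apply, smul_eq_mul, hcj]
      simp only [z]
      field_simp
    have hwl : w l₀ = y := by
      rw [hw, Pi.smul_apply, smul_eq_mul, hcl]
      simp only [z]
      field_simp
    set r := (oMat k⁻¹ *ᵥ x₁ w) i₀ with hr
    have hX : x₁ w = r • C := by
      have h1 : x₁ w = oMat k *ᵥ (oMat k⁻¹ *ᵥ x₁ w) := by
        rw [← oMat_mul_mulVec, mul_inv_cancel]; exact (Matrix.one_mulVec _).symm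
      refine h1.trans ?_
      rw [hC, ← Matrix.mulVec_smul]
      congr 1
      funext t
      rw [Pi.smul_apply, smul_eq_mul]
      rcases eq_or_ne t i₀ with rfl | ht
      · rw [Pi.single_eq_same, mul_one, hr]
      · rw [Pi.single_eq_of_ne ht, mul_zero]
        exact hline k i₀ z t ht
    have ej := congrFun hX j₀
    have el := congrFun hX l₀
    rw [hx₁sum, hwj, hf, Pi.smul_apply, smul_eq_mul, hcj] at ej
    rw [hx₁sum, hwl, hf, Pi.smul_apply, smul_eq_mul, hcl] at el
    rw [ej, el]
    ring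
  have hall : ∀ e y, g (e * y) = e * g y := by
    intro e y
    by_cases he : 1 + e * e + 1 = 0
    · by_cases he' : 1 + (e - 1) * (e - 1) + 1 = 0
      · have h9 : (3 : K) * 3 = 0 := by linear_combination (3 - 2 * e) * he + (2 * e + 1) * he'
        have h3 : (3 : K) = 0 := (mul_self_eq_zero (a := (3 : K))).mp h9
        have hee : e = -1 := by
          refine eq_neg_of_add_eq_zero_left ((mul_eq_zero.mp (show (2 : K) * (e + 1) = 0 from ?_)).resolve_left h2)
          linear_combination he - he' + h3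
        have hn := hgadd y (-y)
        rw [add_neg_cancel, hg0] at hn
        rw [hee, neg_one_mul, neg_one_mul]
        linear_combination -hn
      · have h1 := hlin (e - 1) he' y
        have h2' := hgadd ((e - 1) * y) y
        rw [show (e - 1) * y + y = e * y by ring] at h2'
        rw [h2', h1]; ring
    · exact hlin e he y
  set μ := g 1
  have hgμ : ∀ y, g y = μ * y := fun y => by
    have := hall y 1
    rw [mul_one] at this
    rw [this, mul_comm]
  have hval : ∀ x, b.T (S (b.T.symm (x, 0))) = (μ • x, 0) := by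
    intro x
    refine Prod.ext (funext fun t => ?_) ?_
    · show x₁ x t = μ * x t
      rw [hx₁sum, hf, hgμ]
    · let h : (Fin a → K) →+ W := AddMonoidHom.mk' (fun x => (b.T (S (b.T.symm (x, 0)))).2) fun x x' => by
        rw [show ((x + x', 0) : (Fin a → K) × W) = (x, 0) + (x', 0) by simp, map_add, hadd, map_add]; rfl
      show h x = 0
      rw [← Finset.univ_sum_single x, map_sum]
      exact Finset.sum_eq_zero fun i _ => hsecond i _
  refine ⟨RingEquiv.ext fun t => ?_, μ, hval, fun y => funext (hW y)⟩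
  have h1 : b.T (S (b.T.symm (Pi.single i₀ (algebraMap F K t), 0))) =
      τ t • b.T (S (b.T.symm (Pi.single i₀ 1, 0))) := by
    rw [← map_smul, ← hsmul, ← map_smul, Prod.smul_mk, smul_zero, ← Pi.single_smul, Algebra.smul_def, mul_one]
  rw [hval, hval] at h1
  have h3 := congrFun (congrArg Prod.fst h1) i₀
  simp [Algebra.smul_def] at h3
  have hμ : μ ≠ 0 := by
    intro e
    have h4 := hval (Pi.single i₀ 1)
    rw [e, zero_smul, show ((0 : Fin a → K), (0 : W)) = 0 from rfl, LinearEquiv.map_eq_zero_iff, ← hS0] at h4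
    have h5 := congrArg Prod.fst ((LinearEquiv.map_eq_zero_iff _).mp (hinj h4))
    simpa using congrFun h5 i₀
  rw [RingAut.one_apply]
  refine ((algebraMap F K).injective (mul_left_cancel₀ hμ ?_))
  linear_combination -h3

end Block

end Cfsg.Agent.Lib.Classical.AutPOmega
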