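import Cfsg.Agent.Lib.Classical.AutPOmega.InvolBlock
import Cfsg.Agent.Lib.Classical.AutPSL.GraphInvol

/-!
Automorphisms of `PΩ`, part 41: the centralizers of the involutory graph automorphisms of the even-dimensional
groups in odd characteristic have trivial odd core.
-/

set_option autoImplicit false

namespace Cfsg.Agent.Lib.Classical.AutPOmega

open QuadraticMap (polarBilin)
open Matrix

attribute [-simp] QuadraticMap.polarBilin_apply_apply

section NormalForm

variable {K : Type*} [Field K] [Finite K] {W : Type*} [AddCommGroup W] [Module K W] [FiniteDimensional K W]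

/-- An odd-dimensional form is a multiple of a sum of squares. -/
theorem exists_sum_squares (h2 : (2 : K) ≠ 0) (B : LinearMap.BilinForm K W) (hS : B.IsSymm) (hB : B.Nondegenerate)
    {a : ℕ} (ha : Module.finrank K W = a) (hodd : Odd a) :
    ∃ (k : K) (T : W ≃ₗ[K] (Fin a → K)), k ≠ 0 ∧ ∀ u, B u u = k * (T u ⬝ᵥ T u) := by
  classical
  let e := Module.finBasisOfFinrankEq K W ha
  set k := (LinearMap.BilinForm.toMatrix e B).det with hk
  have hk0 : k ≠ 0 := LinearMap.BilinForm.nondegenerate_iff_det_ne_zero e |>.mp hB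
  set B' := Matrix.toBilin e (Matrix.diagonal fun _ => k)
  have hB'm : LinearMap.BilinForm.toMatrix e B' = Matrix.diagonal fun _ => k :=
    LinearMap.BilinForm.toMatrix_toBilin _ _
  have happ : ∀ u v, B' u v = k * (e.equivFun u ⬝ᵥ e.equivFun v) := fun u v => by
    simp only [B', Matrix.toBilin_apply, Matrix.diagonal_apply, dotProduct, Finset.mul_sum, Module.Basis.equivFun_apply]
    refine Finset.sum_congr rfl fun i _ => ?_
    rw [Finset.sum_eq_single i (fun j _ hj => by simp [Ne.symm hj]) (by simp)]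
    simp; ring
  obtain ⟨g, hg⟩ := Geometry.exists_isometry_of_isSquare_det_mul h2 B B' hS
    ⟨fun u v => by simp [happ, dotProduct_comm]⟩ hB
    ((LinearMap.BilinForm.nondegenerate_iff_det_ne_zero e).mpr (by
      rw [hB'm, Matrix.det_diagonal]; exact Finset.prod_ne_zero_iff.mpr fun _ _ => hk0))
    e (by
      rw [hB'm, Matrix.det_diagonal, ← hk, Finset.prod_const, Finset.card_univ, Fintype.card_fin, ← pow_succ']
      exact hodd.add_one.isSquare_pow k)
  exact ⟨k, g.trans e.equivFun, hk0, fun u => (hg u u).symm.trans (happ _ _)⟩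

end NormalForm

theorem oddFree_OA {K : Type*} [Field K] [Fintype K] (hodd : Odd (Fintype.card K)) {a : ℕ} (ha : 3 ≤ a) :
    OddFree.OddFree (OA K a) :=
  OddFree.oddFree_diag hodd a ha _ fun _ => one_ne_zero

variable {F : Type*} [Field F] [Fintype F] {ι : Type} [Fintype ι] [DecidableEq ι] {R : QuadraticForm F (ι → F)}

/-- The matrix of an isometry. -/
abbrev isoMat (k : Cfsg.isometryGroup F ⇑R) : Matrix ι ι F := ((k.1 : GL ι F) : Matrix ι ι F)

/-- The isometries commuting with a matrix. -/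
def commA (R : QuadraticForm F (ι → F)) (A : Matrix ι ι F) : Subgroup (Cfsg.isometryGroup F ⇑R) where
  carrier := {k | Commute (isoMat k) A}
  one_mem' := Commute.one_left A
  mul_mem' := fun ha hb => Commute.mul_left ha hb
  inv_mem' := fun {k} h => Commute.units_inv_left (u := (k.1 : GL ι F)) h

theorem commA_neg (A : Matrix ι ι F) : commA R (-A) = commA R A := by
  ext k
  exact Commute.neg_right_iff

/-- Semilinear maps centralizing the derived group up to signs. -/
def CentSign (H : Subgroup (Cfsg.isometryGroup F ⇑R)) (h : GL ι F) (τ : F ≃+* F) : Prop :=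
  ∀ s ∈ commutator H, ∃ ε : F, (ε = 1 ∨ ε = -1) ∧
    (h : Matrix ι ι F) * (isoMat s.1).map τ = ε • (isoMat s.1 * (h : Matrix ι ι F))

theorem scalar_iso_pm [Nonempty ι] (hM : Model0 R) {k : Cfsg.isometryGroup F ⇑R} {u : Fˣ}
    (hk : k.1 = GeneralLinearGroup.scalar ι u) : u = 1 ∨ u = -1 := by
  obtain ⟨v, hv⟩ := hM.exists_one
  exact (scG_mem_iso_iff (by rw [hv]; exact one_ne_zero) u).mp (hk ▸ k.2)

theorem omega_eq_pm [Nonempty ι] (hM : Model0 R) {s t : Cfsg.Omega F ⇑R} (h : pr R s = pr R t) :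
    omat t = omat s ∨ omat t = -omat s := by
  have h1 : dia R (omG R (s⁻¹ * t)) = 1 := by rw [dia_omG, map_mul, map_inv, h, inv_mul_cancel, map_one]
  obtain ⟨u, hu⟩ := (dia_eq_one_iff hM _).mp h1
  have e : omat t = omat s * (Matrix.scalar ι (u : F)) := by
    have ht : t = s * (s⁻¹ * t) := by group
    conv_lhs => rw [ht]
    show omat s * omat (s⁻¹ * t) = _
    exact congrArg (omat s * ·) (congrArg Units.val hu)
  rcases scalar_iso_pm hM (k := (s⁻¹ * t).1) hu with rfl | rfl
  · exact Or.inl (by rw [e, Units.val_one, map_one, mul_one])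
  · exact Or.inr (by rw [e, Units.val_neg, Units.val_one, map_neg, map_one, mul_neg, mul_one])

/-- The facts about an involution, from its centralizer in the isometry group. -/
theorem invProps_of_rigid [Nonempty ι] (hM : Model R) (h2 : (2 : F) ≠ 0)
    {g : Cfsg.Geo.quadSimilarityGroup (F := F) ⇑R} (h1 : dia R g * dia R g = 1)
    (hfree : OddFree.OddFree (commA R (g.1 : Matrix ι ι F)))
    (hrig : ∀ (h : GL ι F) (τ : F ≃+* F), Cfsg.IsSemisimilarityPair (⇑R) h τ →
      CentSign (commA R (g.1 : Matrix ι ι F)) h τ →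
      τ = 1 ∧ ∃ u : Fˣ, h = GeneralLinearGroup.scalar ι u ∨ h = GeneralLinearGroup.scalar ι u * g.1) :
    CoreCriterion.InvProps (dia R g) := by
  classical
  set A := (g.1 : Matrix ι ι F)
  set Hc := commA R A
  have hM0 := hM.toModel0
  have hgc : ∀ k : Hc, g * isoG R k.1 = isoG R k.1 * g := fun k => Subtype.ext (Units.ext k.2.eq.symm)
  refine ⟨fun N hN hNn hodd => ?_, fun γ hc hoddγ hfix => ?_⟩
  · let ψ : Hc →* MulAut (Cfsg.POmega F ⇑R) := (dia R).comp ((isoG R).comp Hc.subtype)
    have hker : ∀ k ∈ ψ.ker, isoMat k.1 = 1 ∨ isoMat k.1 = -1 := by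
      intro k hk
      obtain ⟨u, hu⟩ := (dia_eq_one_iff hM0 _).mp hk
      have e : isoMat k.1 = Matrix.scalar ι (u : F) := congrArg Units.val hu
      rcases scalar_iso_pm hM0 (k := k.1) hu with rfl | rfl
      · exact Or.inl (by rw [e, Units.val_one, map_one])
      · exact Or.inr (by rw [e, Units.val_neg, Units.val_one, map_neg, map_one])
    have hext : ∀ k l : Hc, isoMat k.1 = isoMat l.1 → k = l := fun k l e =>
      Subtype.ext (Subtype.ext (Units.ext e))
    have hk2 : Nat.card ψ.ker ∣ 2 := by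
      let j : ψ.ker →* Fˣ ⧸ (⊥ : Subgroup Fˣ) := 1
      have hle : Nat.card ψ.ker ≤ 2 := by
        let f : ψ.ker → Bool := fun k => decide (isoMat k.1.1 = 1)
        have hf : Function.Injective f := fun k l e => by
          refine Subtype.ext (hext _ _ ?_)
          simp only [f, decide_eq_decide] at e
          rcases hker _ k.2 with h | h <;> rcases hker _ l.2 with h' | h'
          · rw [h, h']
          · rw [e.mp h, h]
          · rw [e.mpr h', h']
          · rw [h, h']
        simpa using Nat.card_le_card_of_injective f hf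
      have hpos : 0 < Nat.card ψ.ker := Nat.card_pos
      interval_cases h : Nat.card ψ.ker <;> norm_num
    have hkc : ψ.ker ≤ Subgroup.center Hc := fun k hk => Subgroup.mem_center_iff.mpr fun l => hext _ _ (by
      show isoMat l.1 * isoMat k.1 = isoMat k.1 * isoMat l.1
      rcases hker k hk with e | e <;> simp [e])
    set N' := N.map (MulAut.conj : Cfsg.POmega F ⇑R →* MulAut (Cfsg.POmega F ⇑R)) with hN'
    have hconj : ∀ (γ : MulAut (Cfsg.POmega F ⇑R)) (y : Cfsg.POmega F ⇑R),
        γ * MulAut.conj y * γ⁻¹ = MulAut.conj (γ y) := fun γ y => MulEquiv.ext fun z => by simp [MulAut.mul_apply]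
    have hbot : N' = ⊥ := by
      refine OddFree.eq_bot_of_hom hfree ψ hk2 hkc N' ?_ ?_ (hodd.of_dvd_nat (Subgroup.card_map_dvd _ _))
      · rintro _ ⟨y, hy, rfl⟩
        obtain ⟨s, rfl⟩ := QuotientGroup.mk'_surjective _ y
        have hfy : pr R (semOmega g.1 1 (pair_of_sim g.2) s) = pr R s := hN _ hy
        have hsgn : A * omat s = omat s * A ∨ A * omat s = -(omat s * A) := by
          have key : ∀ E : Matrix ι ι F, omat (semOmega g.1 1 (pair_of_sim g.2) s) = E → A * omat s = E * A := by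
            intro E hE
            rw [← hE, omat_semOmega, Matrix.mul_assoc, ← Units.val_mul, inv_mul_cancel, Units.val_one, Matrix.mul_one]
            exact congrArg (A * ·) (Matrix.ext fun _ _ => rfl)
          rcases omega_eq_pm hM0 hfy.symm with e | e
          · exact Or.inl (key _ e)
          · exact Or.inr ((key _ e).trans (neg_mul _ _))
        rcases hsgn with e | e
        · exact ⟨⟨s.1, e.symm⟩, (dia_omG s)⟩
        · exfalso
          set d := orderOf (pr R s) with hd
          have hdodd : Odd d := hodd.of_dvd_nat (by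
            rw [hd, ← Subgroup.orderOf_mk (pr R s) hy]; exact orderOf_dvd_natCard _)
          have hpow : ∀ n, A * omat s ^ n = (-1 : F) ^ n • (omat s ^ n * A) := by
            intro n
            induction n with
            | zero => simp
            | succ n ih =>
              rw [pow_succ, ← mul_assoc, ih, smul_mul_assoc, mul_assoc, e, mul_neg, ← mul_assoc, pow_succ, mul_smul,
                neg_one_smul]
          have h1d : pr R (s ^ d) = pr R 1 := by rw [map_pow, hd, pow_orderOf_eq_one, map_one]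
          have hcent : omat s ^ d * A = A * omat s ^ d := by
            have hw : omat (s ^ d) = omat s ^ d := by
              show ((((s ^ d : Cfsg.Omega F ⇑R) : Cfsg.isometryGroup F ⇑R) : GL ι F) : Matrix ι ι F) = _
              simp only [SubmonoidClass.coe_pow, Units.val_pow_eq_pow_val]; rfl
            rcases omega_eq_pm hM0 h1d.symm with e' | e' <;>
              rw [← hw, e', show omat (1 : Cfsg.Omega F ⇑R) = 1 from rfl] <;> simp
          have h0 := hpow d
          rw [hdodd.neg_one_pow, ← hcent, neg_one_smul, eq_neg_iff_add_eq_zero, ← two_smul F,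
            smul_eq_zero_iff_right h2] at h0
          have hU : IsUnit (omat s ^ d * A) := ((s.1 : GL ι F).isUnit.pow d).mul g.1.isUnit
          obtain ⟨v, hv⟩ := hM0.exists_one
          rw [h0] at hU
          have hz := Matrix.mulVec_injective_iff_isUnit.mpr hU (a₁ := v) (a₂ := 0) (by simp)
          rw [hz, map_zero] at hv
          exact zero_ne_one hv
      · rintro k _ ⟨y, hy, rfl⟩
        rw [hconj]
        refine ⟨_, hNn (ψ k) ?_ y hy, rfl⟩
        show dia R (isoG R k.1) * dia R g = dia R g * dia R (isoG R k.1)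
        rw [← map_mul, ← map_mul, hgc]
    refine (Subgroup.eq_bot_iff_forall N).mpr fun y hy => ?_
    have : MulAut.conj y ∈ N' := ⟨y, hy, rfl⟩
    rw [hbot, Subgroup.mem_bot] at this
    obtain ⟨s, rfl⟩ := QuotientGroup.mk'_surjective _ y
    obtain ⟨u, hu⟩ := (dia_eq_one_iff hM0 (omG R s)).mp ((dia_omG s).trans this)
    have h2' : omat s * omat s = 1 := by
      have e : omat s = Matrix.scalar ι (u : F) := congrArg Units.val hu
      rcases scalar_iso_pm hM0 (k := s.1) hu with rfl | rfl <;> simp [e]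
    exact OddFree.eq_one_of_sq hodd hy (by
      show pr R s * pr R s = 1
      rw [← map_mul, show s * s = 1 from omega_ext h2', map_one])
  · obtain ⟨h, τ, hp, rfl⟩ := pair_semisim hM γ
    obtain ⟨hτ, u, hu⟩ := hrig h τ hp fun s hs => by
      have hsΩ : s.1 ∈ Cfsg.Omega F ⇑R := by
        show s.1 ∈ commutator (Cfsg.isometryGroup F ⇑R)
        have : (commutator Hc).map Hc.subtype ≤ commutator _ := by
          rw [commutator_def, Subgroup.map_commutator, commutator_def]
          exact Subgroup.commutator_mono le_top le_top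
        exact this ⟨s, hs, rfl⟩
      set t : Cfsg.Omega F ⇑R := ⟨s.1, hsΩ⟩
      have hst : omat t = isoMat s.1 := rfl
      have hgfix : dia R g (pr R t) = pr R t := by
        refine congrArg (pr R) (omega_ext ?_)
        refine (omat_semOmega _ _ _ t).trans ?_
        rw [show (omat t).map (1 : F ≃+* F) = omat t from Matrix.ext fun _ _ => rfl, hst]
        show A * isoMat s.1 * _ = _
        rw [← (show Commute (isoMat s.1) A from s.2).eq, Matrix.mul_assoc]
        show isoMat s.1 * ((g.1 : Matrix ι ι F) * ((g.1⁻¹ : GL ι F) : Matrix ι ι F)) = _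
        rw [← Units.val_mul, mul_inv_cancel, Units.val_one, Matrix.mul_one]
      have hh := hfix _ hgfix
      have key : ∀ E : Matrix ι ι F, omat (semOmega h τ hp t) = E →
          (h : Matrix ι ι F) * (omat t).map τ = E * (h : Matrix ι ι F) := by
        intro E hE
        rw [← hE, omat_semOmega, Matrix.mul_assoc, ← Units.val_mul, inv_mul_cancel, Units.val_one, Matrix.mul_one]
      rcases omega_eq_pm hM0 hh.symm with e | e
      · exact ⟨1, Or.inl rfl, by rw [one_smul, ← hst, key _ e]⟩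
      · exact ⟨-1, Or.inr rfl, by rw [← hst, key _ e, neg_mul, neg_one_smul]⟩
    subst hτ
    have hd : semAut h 1 hp = 1 ∨ semAut h 1 hp = dia R g := by
      rcases hu with rfl | rfl
      · exact Or.inl (semAut_scalar u hp)
      · refine Or.inr ?_
        have h3 : semAut _ 1 hp = dia R (scG R u * g) := rfl
        rw [h3, map_mul, (dia_eq_one_iff hM0 (scG R u)).mpr ⟨u, rfl⟩, one_mul]
    rcases hd with e | e
    · exact e
    · rw [e] at hoddγ ⊢
      have h3 : orderOf (dia R g) ∣ 2 := orderOf_dvd_of_pow_eq_one (by rw [sq, h1])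
      rcases (Nat.dvd_prime Nat.prime_two).mp h3 with e' | e'
      · exact orderOf_eq_one_iff.mp e'
      · rw [e'] at hoddγ; exact absurd even_two (Nat.not_even_iff_odd.mpr hoddγ)

section Component

variable {K : Type*} [Field K] [Fintype K] [Algebra F K] {a : ℕ} {W : Type*} [AddCommGroup W] [Module F W]
  (b : Block R K a W) (hc : b.c ≠ 0) {A : Matrix ι ι F}

include hc in
/-- Odd normal subgroups of the commuting isometries act trivially on the block. -/
theorem component_trivial (hodd : Odd (Fintype.card K)) (ha : a = 1 ∨ 3 ≤ a) (hrest : b.rest 0 = 0)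
    (hA : ∀ k : OA K a, b.ext k ∈ commA R A)
    (hlin : ∀ k ∈ commA R A, ∃ L : (Fin a → K) →ₗ[K] (Fin a → K),
      ∀ v, (b.T (isoMat k *ᵥ v)).1 = L (b.T v).1)
    (hsnd : ∀ k ∈ commA R A, ∀ x, (b.T (isoMat k *ᵥ b.T.symm (x, 0))).2 = 0)
    {N : Subgroup (commA R A)} (hN : N.Normal) (hN2 : Odd (Nat.card N)) {n : commA R A} (hn : n ∈ N) (v : ι → F) :
    (b.T (isoMat n.1 *ᵥ v)).1 = (b.T v).1 := by
  classical
  have h2 : (2 : K) ≠ 0 := OddFree.two_ne_zero_of_odd hodd
  choose L hL using hlin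
  let M : commA R A → Matrix (Fin a) (Fin a) K := fun k => LinearMap.toMatrix' (L k.1 k.2)
  have hMx : ∀ k x, M k *ᵥ x = (b.T (isoMat k.1 *ᵥ b.T.symm (x, 0))).1 := fun k x => by
    rw [LinearMap.toMatrix'_mulVec, hL, LinearEquiv.apply_symm_apply]
  have hMv : ∀ k v, (b.T (isoMat k.1 *ᵥ v)).1 = M k *ᵥ (b.T v).1 := fun k v => by
    rw [LinearMap.toMatrix'_mulVec]; exact hL _ k.2 v
  have hmul : ∀ k l, M (k * l) = M k * M l := fun k l => Matrix.ext_of_mulVec_single fun i => by
    rw [← Matrix.mulVec_mulVec, hMx (k * l)]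
    show (b.T ((isoMat k.1 * isoMat l.1) *ᵥ _)).1 = _
    rw [← Matrix.mulVec_mulVec, hMv, hMx l]
  have hone : M 1 = 1 := Matrix.ext_of_mulVec_single fun i => by
    rw [hMx, Matrix.one_mulVec]
    show (b.T ((1 : Matrix ι ι F) *ᵥ _)).1 = _
    rw [Matrix.one_mulVec, LinearEquiv.apply_symm_apply]
  let ρ₀ : commA R A →* GL (Fin a) K :=
    MonoidHom.toHomUnits { toFun := M, map_one' := hone, map_mul' := hmul }
  have hiso : ∀ k, ρ₀ k ∈ OA K a := fun k => mem_OA.mpr fun x => by
    show (M k *ᵥ x) ⬝ᵥ (M k *ᵥ x) = x ⬝ᵥ x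
    have h : ∀ t : K, b.φ (b.c * (t * t) * ((M k *ᵥ x) ⬝ᵥ (M k *ᵥ x) - x ⬝ᵥ x)) = 0 := by
      intro t
      set v := b.T.symm (t • x, 0)
      have hq : R (isoMat k.1 *ᵥ v) = R v := k.1.2 v v
      rw [b.form, b.form v, hsnd _ k.2, hMv, LinearEquiv.apply_symm_apply, Matrix.mulVec_smul] at hq
      simp only [smul_dotProduct, dotProduct_smul, smul_eq_mul, hrest, add_zero] at hq
      rw [mul_sub, map_sub, sub_eq_zero]
      convert hq using 2 <;> ring
    exact sub_eq_zero.mp (b.nondeg _ h)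
  let ρ : commA R A →* OA K a := ρ₀.codRestrict _ hiso
  have hρ : Function.Surjective ρ := fun k => by
    refine ⟨⟨b.ext k, hA k⟩, oMat_ext fun x => ?_⟩
    show M _ *ᵥ x = oMat k *ᵥ x
    rw [hMx]
    show (b.T (((b.ext k : GL ι F) : Matrix ι ι F) *ᵥ _)).1 = _
    rw [b.ext_mulVec, LinearEquiv.apply_symm_apply, LinearEquiv.apply_symm_apply]
  have hbot : N.map ρ = ⊥ := by
    have hoddim : Odd (Nat.card (N.map ρ)) := hN2.of_dvd_nat (Subgroup.card_map_dvd _ _)
    rcases ha with rfl | ha
    · refine (Subgroup.eq_bot_iff_forall _).mpr fun z hz => OddFree.eq_one_of_sq hoddim hz (oMat_ext fun x => ?_)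
      have h := mem_OA.mp z.2 (fun _ => 1)
      simp [dotProduct, Matrix.mulVec] at h
      rw [oMat_mul_mulVec]
      funext i
      simp only [Matrix.mulVec, dotProduct, Fin.sum_univ_one, Fin.default_eq_zero, Fin.eq_zero i]
      rw [show oMat (1 : OA K 1) = 1 from rfl, Matrix.one_apply_eq]
      linear_combination (x 0) * h
    · exact oddFree_OA hodd ha _ (hN.map ρ hρ) hoddim
  have h1 : ρ n = 1 := by rw [← Subgroup.mem_bot, ← hbot]; exact ⟨n, hn, rfl⟩
  rw [hMv, show M n = 1 from congrArg oMat h1, Matrix.one_mulVec]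

omit [Fintype K] in
/-- Rigidity of a block for semilinear maps centralizing the derived group. -/
theorem rigid_of_centSign (h2 : (2 : F) ≠ 0) (ha : 3 ≤ a) (hA : ∀ k : OA K a, b.ext k ∈ commA R A) {h : GL ι F}
    {τ : F ≃+* F} (hC : CentSign (commA R A) h τ) :
    τ = 1 ∧ ∃ μ : K, (∀ x, b.T ((h : Matrix ι ι F) *ᵥ fun i => τ (b.T.symm (x, 0) i)) = (μ • x, 0)) ∧
      ∀ y, (b.T ((h : Matrix ι ι F) *ᵥ fun i => τ (b.T.symm (0, y) i))).1 = 0 := by
  refine b.rigid h2 ha (fun v => (h : Matrix ι ι F) *ᵥ fun i => τ (v i)) (fun u v => ?_) (fun t v => ?_) ?_ ?_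
  · rw [← Matrix.mulVec_add]; congr 1; funext i; simp
  · rw [← Matrix.mulVec_smul]; congr 1; funext i; simp
  · intro u v e
    have e' := Matrix.mulVec_injective_iff_isUnit.mpr h.isUnit e
    funext i
    exact τ.injective (congrFun e' i)
  · intro s hs
    let E : OA K a →* commA R A := b.ext.codRestrict _ hA
    have hE : E s ∈ commutator (commA R A) := by
      have : (commutator (OA K a)).map E ≤ commutator _ := by
        rw [commutator_def, Subgroup.map_commutator, commutator_def]
        exact Subgroup.commutator_mono le_top le_top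
      exact this ⟨s, hs, rfl⟩
    obtain ⟨ε, hε, he⟩ := hC _ hE
    refine ⟨ε, hε, fun v => ?_⟩
    have := congrArg (· *ᵥ fun i => τ (v i)) he
    simp only [← Matrix.mulVec_mulVec, Matrix.smul_mulVec] at this
    rw [semi_vec] at this
    exact this

end Component

/-! ### Eigenspaces of an involutory isometry -/

section Eigen

variable {A : Matrix ι ι F}

theorem mem_plus (p : LinearMap.ker (Matrix.toLin' A - LinearMap.id)) : A *ᵥ (p : ι → F) = p := by
  have h := LinearMap.mem_ker.mp p.2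
  rw [LinearMap.sub_apply, Matrix.toLin'_apply, LinearMap.id_apply, sub_eq_zero] at h
  exact h

theorem mem_minus (p : LinearMap.ker (Matrix.toLin' A + LinearMap.id)) : A *ᵥ (p : ι → F) = -(p : ι → F) := by
  have h := LinearMap.mem_ker.mp p.2
  rw [LinearMap.add_apply, Matrix.toLin'_apply, LinearMap.id_apply] at h
  exact eq_neg_of_add_eq_zero_left h

theorem eigen_split (h2 : (2 : F) ≠ 0) (hA : A * A = 1) :
    ∃ e : (ι → F) ≃ₗ[F] LinearMap.ker (Matrix.toLin' A - LinearMap.id) × LinearMap.ker (Matrix.toLin' A + LinearMap.id),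
      (∀ v, ((e v).1 : ι → F) = (2 : F)⁻¹ • (v + A *ᵥ v)) ∧ (∀ v, ((e v).2 : ι → F) = (2 : F)⁻¹ • (v - A *ᵥ v)) ∧
      (∀ p, e.symm p = (p.1 : ι → F) + (p.2 : ι → F)) := by
  have hAA : ∀ v, A *ᵥ (A *ᵥ v) = v := fun v => by rw [Matrix.mulVec_mulVec, hA, Matrix.one_mulVec]
  have h22 : (2 : F)⁻¹ + 2⁻¹ = 1 := by field_simp; norm_num
  refine ⟨{ toFun := fun v => (⟨(2 : F)⁻¹ • (v + A *ᵥ v), ?_⟩, ⟨(2 : F)⁻¹ • (v - A *ᵥ v), ?_⟩)
            invFun := fun p => (p.1 : ι → F) + (p.2 : ι → F)
            map_add' := fun u v => ?_, map_smul' := fun t v => ?_, left_inv := fun v => ?_, right_inv := fun p => ?_ },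
    fun _ => rfl, fun _ => rfl, fun _ => rfl⟩
  · rw [LinearMap.mem_ker, LinearMap.sub_apply, Matrix.toLin'_apply, LinearMap.id_apply, Matrix.mulVec_smul,
      Matrix.mulVec_add, hAA, add_comm (A *ᵥ v), sub_self]
  · rw [LinearMap.mem_ker, LinearMap.add_apply, Matrix.toLin'_apply, LinearMap.id_apply, Matrix.mulVec_smul,
      Matrix.mulVec_sub, hAA, ← smul_add, sub_add_sub_cancel, sub_self, smul_zero]
  · ext <;> simp [Matrix.mulVec_add] <;> ring
  · ext <;> simp [Matrix.mulVec_smul] <;> ring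
  · funext i
    simp only [Pi.add_apply, Pi.smul_apply, Pi.sub_apply, smul_eq_mul]
    linear_combination (v i) * h22
  · have h1 : A *ᵥ (p.1 : ι → F) = p.1 := mem_plus p.1
    have h3 : A *ᵥ (p.2 : ι → F) = -(p.2 : ι → F) :=
      mem_minus p.2
    refine Prod.ext (Subtype.ext ?_) (Subtype.ext ?_)
    · funext i
      simp only [Matrix.mulVec_add, h1, h3, Pi.add_apply, Pi.smul_apply, Pi.neg_apply, smul_eq_mul]
      linear_combination ((p.1 : ι → F) i) * h22
    · funext i
      simp only [Matrix.mulVec_add, h1, h3, Pi.add_apply, Pi.sub_apply, Pi.smul_apply, Pi.neg_apply, smul_eq_mul]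
      linear_combination ((p.2 : ι → F) i) * h22

/-- The multiplicities of the two eigenvalues. -/
theorem eigen_dims (h2 : (2 : F) ≠ 0) (hA : A * A = 1) (hd : A.det = -1) {M : ℕ} (hι : Fintype.card ι = 2 * M) :
    Odd (Module.finrank F (LinearMap.ker (Matrix.toLin' A - LinearMap.id))) ∧
      Odd (Module.finrank F (LinearMap.ker (Matrix.toLin' A + LinearMap.id))) ∧
      Module.finrank F (LinearMap.ker (Matrix.toLin' A - LinearMap.id)) +
        Module.finrank F (LinearMap.ker (Matrix.toLin' A + LinearMap.id)) = 2 * M := by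
  set P := LinearMap.ker (Matrix.toLin' A - LinearMap.id)
  set Q := LinearMap.ker (Matrix.toLin' A + LinearMap.id)
  obtain ⟨e, he1, he2, hes⟩ := eigen_split h2 hA
  have hsum : Module.finrank F P + Module.finrank F Q = 2 * M := by
    rw [← Module.finrank_prod, ← e.finrank_eq, Module.finrank_fintype_fun_eq_card, hι]
  let D : P × Q →ₗ[F] P × Q := (LinearMap.id).prodMap ((-1 : F) • LinearMap.id)
  have hconj : Matrix.toLin' A = e.symm.toLinearMap ∘ₗ D ∘ₗ e.toLinearMap := LinearMap.ext fun v => by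
    show A *ᵥ v = e.symm (D (e v))
    rw [hes]
    funext i
    simp only [D, LinearMap.prodMap_apply, LinearMap.id_apply, LinearMap.smul_apply, Submodule.coe_smul, he1, he2,
      Pi.add_apply, Pi.sub_apply, Pi.smul_apply, smul_eq_mul]
    field_simp
    ring
  have hdet : A.det = (-1) ^ Module.finrank F Q := by
    rw [← LinearMap.det_toLin' A, hconj]
    have := LinearMap.det_conj D e.symm
    rw [LinearEquiv.symm_symm] at this
    rw [this]
    simp only [D, LinearMap.det_prodMap, LinearMap.det_id, LinearMap.det_smul, one_mul, mul_one]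
  have hQ : Odd (Module.finrank F Q) := by
    rw [← Nat.not_even_iff_odd]
    intro he
    rw [he.neg_one_pow, hd] at hdet
    exact h2 (by linear_combination -hdet)
  refine ⟨?_, hQ, hsum⟩
  rw [Nat.odd_iff] at hQ ⊢
  omega

/-- The block of the eigenvalue one. -/
theorem plus_block (hnd : (polarBilin R).Nondegenerate) (h2 : (2 : F) ≠ 0) (hA : A * A = 1)
    (hsa : ∀ x y, polarBilin R (A *ᵥ x) y = polarBilin R x (A *ᵥ y))
    {a : ℕ} (ha : Module.finrank F (LinearMap.ker (Matrix.toLin' A - LinearMap.id)) = a) (hodd : Odd a) :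
    ∃ b : Block R F a (LinearMap.ker (Matrix.toLin' A + LinearMap.id)), b.c ≠ 0 ∧ b.rest 0 = 0 ∧
      (∀ v, (b.T v).1 = 0 ↔ A *ᵥ v = -v) ∧ (∀ v, (b.T v).2 = 0 ↔ A *ᵥ v = v) := by
  set P := LinearMap.ker (Matrix.toLin' A - LinearMap.id)
  set Q := LinearMap.ker (Matrix.toLin' A + LinearMap.id)
  obtain ⟨e, he1, he2, hes⟩ := eigen_split h2 hA
  have hP : ∀ p : P, A *ᵥ (p : ι → F) = p := fun p => mem_plus p
  have hQ : ∀ q : Q, A *ᵥ (q : ι → F) = -(q : ι → F) := fun q =>
    mem_minus q
  have hperp : ∀ (p : P) (q : Q), polarBilin R (p : ι → F) q = 0 := fun p q => by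
    have h := hsa p q
    rw [hP, hQ, map_neg] at h
    exact (mul_eq_zero.mp (show (2 : F) * polarBilin R (p : ι → F) q = 0 by linear_combination h)).resolve_left h2
  let B : LinearMap.BilinForm F P := (polarBilin R).compl₁₂ P.subtype P.subtype
  have hS : B.IsSymm := ⟨fun u v => Geometry.quad_polar_comm R _ _⟩
  have hB : B.Nondegenerate := by
    have hl : ∀ u : P, (∀ v, B u v = 0) → u = 0 := fun u hu => by
      refine Subtype.ext (hnd.1 _ fun w => ?_)
      rw [← e.symm_apply_apply w, hes, map_add, hperp, add_zero]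
      exact hu _
    exact ⟨hl, fun u hu => hl u fun v => (hS.eq u v).trans (hu v)⟩
  obtain ⟨k, T, hk, hT⟩ := exists_sum_squares h2 B hS hB ha hodd
  have hf : ∀ v, T (e v).1 = 0 ↔ A *ᵥ v = -v := fun v => by
    rw [LinearEquiv.map_eq_zero_iff, ← Submodule.coe_eq_zero, he1, smul_eq_zero_iff_right (inv_ne_zero h2)]
    exact ⟨fun h => eq_neg_of_add_eq_zero_right h, fun h => by rw [h, add_neg_cancel]⟩
  have hs : ∀ v, (e v).2 = 0 ↔ A *ᵥ v = v := fun v => by
    rw [← Submodule.coe_eq_zero, he2, smul_eq_zero_iff_right (inv_ne_zero h2), sub_eq_zero]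
    exact eq_comm
  refine ⟨{ T := e.trans (T.prodCongr (LinearEquiv.refl F Q))
            φ := LinearMap.id
            c := k / 2
            rest := fun q => R (q : ι → F)
            form := fun v => ?_
            nondeg := fun z hz => ?_ }, div_ne_zero hk h2, by simp, hf, hs⟩
  · show R v = k / 2 * (T (e v).1 ⬝ᵥ T (e v).1) + R ((e v).2 : ι → F)
    conv_lhs => rw [← e.symm_apply_apply v, hes]
    rw [Geometry.quad_add, hperp, add_zero, div_mul_eq_mul_div, ← hT]
    congr 1
    show R _ = polarBilin R ((e v).1 : ι → F) ((e v).1 : ι → F) / 2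
    rw [Geometry.quad_polar_self]
    field_simp
  · have := hz 1
    simpa [hk, h2] using this

theorem block_apply {a : ℕ} (b : Block R F a (LinearMap.ker (Matrix.toLin' A + LinearMap.id))) (hA : A * A = 1)
    (hf : ∀ v, (b.T v).1 = 0 ↔ A *ᵥ v = -v) (hs : ∀ v, (b.T v).2 = 0 ↔ A *ᵥ v = v) :
    (∀ x, A *ᵥ b.T.symm (x, 0) = b.T.symm (x, 0)) ∧ (∀ y, A *ᵥ b.T.symm (0, y) = -b.T.symm (0, y)) ∧
    (∀ v, b.T (A *ᵥ v) = ((b.T v).1, -(b.T v).2)) := by
  have h1 : ∀ x, A *ᵥ b.T.symm (x, 0) = b.T.symm (x, 0) := fun x => (hs _).mp (by rw [LinearEquiv.apply_symm_apply])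
  have h3 : ∀ y, A *ᵥ b.T.symm (0, y) = -b.T.symm (0, y) := fun y => (hf _).mp (by rw [LinearEquiv.apply_symm_apply])
  refine ⟨h1, h3, fun v => ?_⟩
  conv_lhs => rw [← b.T.symm_apply_apply v,
    show b.T v = ((b.T v).1, 0) + (0, (b.T v).2) by simp, map_add, Matrix.mulVec_add, h1, h3]
  rw [map_add, map_neg, LinearEquiv.apply_symm_apply, LinearEquiv.apply_symm_apply]
  simp

/-- The consequences on the eigenspace of the eigenvalue one. -/
theorem plus_facts (hnd : (polarBilin R).Nondegenerate) (hq : Odd (Fintype.card F)) (hA : A * A = 1)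
    (hsa : ∀ x y, polarBilin R (A *ᵥ x) y = polarBilin R x (A *ᵥ y))
    (hodd : Odd (Module.finrank F (LinearMap.ker (Matrix.toLin' A - LinearMap.id)))) :
    (∀ (N : Subgroup (commA R A)), N.Normal → Odd (Nat.card N) → ∀ n ∈ N, ∀ v, A *ᵥ v = v → isoMat n.1 *ᵥ v = v) ∧
    (3 ≤ Module.finrank F (LinearMap.ker (Matrix.toLin' A - LinearMap.id)) → ∀ (h : GL ι F) (τ : F ≃+* F),
      CentSign (commA R A) h τ → τ = 1 ∧ ∃ μ : F, (∀ v, A *ᵥ v = v → (h : Matrix ι ι F) *ᵥ v = μ • v) ∧
        ∀ v, A *ᵥ v = -v → A *ᵥ ((h : Matrix ι ι F) *ᵥ v) = -((h : Matrix ι ι F) *ᵥ v)) := by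
  classical
  have h2 : (2 : F) ≠ 0 := OddFree.two_ne_zero_of_odd hq
  obtain ⟨a, ha⟩ : ∃ a, Module.finrank F (LinearMap.ker (Matrix.toLin' A - LinearMap.id)) = a := ⟨_, rfl⟩
  rw [ha] at hodd ⊢
  obtain ⟨b, hc, hr, hf, hs⟩ := plus_block hnd h2 hA hsa ha hodd
  obtain ⟨h1, h3, hTA⟩ := block_apply b hA hf hs
  have hext : ∀ k : OA F a, b.ext k ∈ commA R A := fun k => Matrix.ext_of_mulVec_single fun i => by
    rw [← Matrix.mulVec_mulVec, ← Matrix.mulVec_mulVec]
    refine b.T.injective ?_
    show b.T (((b.ext k : GL ι F) : Matrix ι ι F) *ᵥ _) = b.T (A *ᵥ (((b.ext k : GL ι F) : Matrix ι ι F) *ᵥ _))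
    rw [b.ext_mulVec, LinearEquiv.apply_symm_apply, hTA, hTA, b.ext_mulVec, LinearEquiv.apply_symm_apply]
  have hdec : ∀ v, b.T.symm ((b.T v).1, 0) + b.T.symm (0, (b.T v).2) = v := fun v => by
    rw [← map_add]; simp
  constructor
  · intro N hN hN2 n hn v hv
    have hpres : ∀ k ∈ commA R A, ∀ w, A *ᵥ (isoMat k *ᵥ w) = isoMat k *ᵥ (A *ᵥ w) := fun k hk w => by
      rw [Matrix.mulVec_mulVec, Matrix.mulVec_mulVec, (show Commute (isoMat k) A from hk).eq]
    have hsnd : ∀ k ∈ commA R A, ∀ x, (b.T (isoMat k *ᵥ b.T.symm (x, 0))).2 = 0 := fun k hk x =>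
      (hs _).mpr (by rw [hpres k hk, h1])
    have key := component_trivial b hc hq (by rcases hodd with ⟨t, ht⟩; omega) hr hext
      (fun k hk => ⟨LinearMap.fst F _ _ ∘ₗ b.T.toLinearMap ∘ₗ Matrix.toLin' (isoMat k) ∘ₗ b.T.symm.toLinearMap ∘ₗ
        LinearMap.inl F _ _, fun w => by
          show _ = (b.T (isoMat k *ᵥ b.T.symm ((b.T w).1, 0))).1
          conv_lhs => rw [← hdec w, Matrix.mulVec_add, map_add]
          have h0 : (b.T (isoMat k *ᵥ b.T.symm (0, (b.T w).2))).1 = 0 :=
            (hf _).mpr (by rw [hpres k hk, h3, Matrix.mulVec_neg])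
          rw [Prod.fst_add, h0, add_zero]⟩) hsnd hN hN2 hn v
    refine b.T.injective (Prod.ext key ?_)
    rw [(hs v).mpr hv, (hs _).mpr (by rw [hpres _ n.2, hv])]
  · intro h3a h τ hC
    obtain ⟨rfl, μ, hμ, hW⟩ := rigid_of_centSign b h2 h3a hext hC
    simp only [RingAut.one_apply] at hμ hW
    refine ⟨rfl, μ, fun v hv => ?_, fun v hv => ?_⟩
    · have e := hμ (b.T v).1
      have hv' : b.T.symm ((b.T v).1, 0) = v := by
        rw [← (hs v).mpr hv]; exact b.T.symm_apply_apply v
      rw [hv'] at e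
      refine b.T.injective ?_
      rw [map_smul, e, ← b.T.symm.injective.eq_iff]
      show b.T.symm (μ • (b.T v).1, 0) = b.T.symm (μ • b.T v)
      rw [show μ • b.T v = (μ • (b.T v).1, μ • (b.T v).2) from rfl, (hs v).mpr hv, smul_zero]
    · have e := hW (b.T v).2
      have hv' : b.T.symm (0, (b.T v).2) = v := by
        rw [← (hf v).mpr hv]; exact b.T.symm_apply_apply v
      rw [hv'] at e
      exact (hf _).mp e

end Eigen

end Cfsg.Agent.Lib.Classical.AutPOmega
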