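import Cfsg.Agent.Lib.Classical.AutPOmega.InvolCore

/-!
Automorphisms of `PΩ`, part 42: the two kinds of involutory graph automorphisms.
-/

set_option autoImplicit false

namespace Cfsg.Agent.Lib.Classical.AutPOmega

open QuadraticMap (polarBilin)
open Matrix

attribute [-simp] QuadraticMap.polarBilin_apply_apply

variable {F : Type*} [Field F] [Fintype F] {ι : Type} [Fintype ι] [DecidableEq ι] {R : QuadraticForm F (ι → F)}
  {A : Matrix ι ι F}

omit [Fintype F] in
theorem ker_neg_sub : LinearMap.ker (Matrix.toLin' (-A) - LinearMap.id) = LinearMap.ker (Matrix.toLin' A + LinearMap.id) := by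
  ext v
  rw [LinearMap.mem_ker, LinearMap.mem_ker, LinearMap.sub_apply, LinearMap.add_apply, Matrix.toLin'_apply,
    Matrix.toLin'_apply, LinearMap.id_apply, Matrix.neg_mulVec, sub_eq_zero, neg_eq_iff_eq_neg, ← add_eq_zero_iff_eq_neg]

theorem exists_aniso_eigen (hnd : (polarBilin R).Nondegenerate) (h2 : (2 : F) ≠ 0) (hA : A * A = 1)
    (hsa : ∀ x y, polarBilin R (A *ᵥ x) y = polarBilin R x (A *ᵥ y))
    (hpos : 0 < Module.finrank F (LinearMap.ker (Matrix.toLin' A - LinearMap.id))) :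
    ∃ v, A *ᵥ v = v ∧ R v ≠ 0 := by
  by_contra hcon
  push Not at hcon
  haveI : Nontrivial (LinearMap.ker (Matrix.toLin' A - LinearMap.id)) := Module.nontrivial_of_finrank_pos hpos
  obtain ⟨p, hp⟩ := exists_ne (0 : LinearMap.ker (Matrix.toLin' A - LinearMap.id))
  refine hp (Subtype.ext (hnd.1 _ fun w => ?_))
  have hpp := mem_plus p
  have hAA : A *ᵥ (A *ᵥ w) = w := by rw [Matrix.mulVec_mulVec, hA, Matrix.one_mulVec]
  set x := w + A *ᵥ w with hx
  have hAx : A *ᵥ x = x := by rw [hx, Matrix.mulVec_add, hAA, add_comm]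
  have h0 : polarBilin R (p : ι → F) x = 0 := by
    have := Geometry.quad_add R (p : ι → F) x
    rw [hcon _ hpp, hcon _ hAx, hcon _ (by rw [Matrix.mulVec_add, hpp, hAx]), zero_add, zero_add] at this
    exact this.symm
  have hsame : polarBilin R (p : ι → F) (A *ᵥ w) = polarBilin R (p : ι → F) w := by rw [← hsa, hpp]
  rw [hx, map_add, hsame] at h0
  exact (mul_eq_zero.mp (show (2 : F) * polarBilin R (p : ι → F) w = 0 by linear_combination h0)).resolve_left h2

/-- The involutory isometries. -/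
theorem invProps_square [Nonempty ι] (hM : Model R) (hq : Odd (Fintype.card F)) {M : ℕ} (hι : Fintype.card ι = 2 * M)
    (hM4 : 4 ≤ M) {g : Cfsg.Geo.quadSimilarityGroup (F := F) ⇑R} (h1 : dia R g * dia R g = 1)
    (hμ : multS hM.toModel0 g = 1) (hdet : (g.1 : Matrix ι ι F).det = -1)
    (hA : (g.1 : Matrix ι ι F) * (g.1 : Matrix ι ι F) = 1)
    (hsa : ∀ x y, polarBilin R ((g.1 : Matrix ι ι F) *ᵥ x) y = polarBilin R x ((g.1 : Matrix ι ι F) *ᵥ y)) :
    CoreCriterion.InvProps (dia R g) := by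
  classical
  set A := (g.1 : Matrix ι ι F) with hAdef
  have h2 : (2 : F) ≠ 0 := OddFree.two_ne_zero_of_odd hq
  have hnd := hM.toModel0.nondeg
  have hA' : (-A) * (-A) = 1 := by rw [neg_mul_neg, hA]
  have hsa' : ∀ x y, polarBilin R ((-A) *ᵥ x) y = polarBilin R x ((-A) *ᵥ y) := fun x y => by
    rw [Matrix.neg_mulVec, Matrix.neg_mulVec, map_neg, LinearMap.neg_apply, map_neg, hsa]
  obtain ⟨hoP, hoQ, hsum⟩ := eigen_dims h2 hA hdet hι
  obtain ⟨hNp, hRp⟩ := plus_facts hnd hq hA hsa hoP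
  obtain ⟨hNm, hRm⟩ := plus_facts hnd hq hA' hsa' (by rw [ker_neg_sub]; exact hoQ)
  rw [commA_neg] at hNm hRm
  rw [ker_neg_sub] at hRm
  have hneg : ∀ v, (-A) *ᵥ v = v ↔ A *ᵥ v = -v := fun v => by rw [Matrix.neg_mulVec, neg_eq_iff_eq_neg]
  have hneg' : ∀ v, (-A) *ᵥ v = -v ↔ A *ᵥ v = v := fun v => by rw [Matrix.neg_mulVec, neg_inj]
  obtain ⟨e, he1, he2, hes⟩ := eigen_split h2 hA
  have hdec : ∀ v, ∃ p q : ι → F, A *ᵥ p = p ∧ A *ᵥ q = -q ∧ v = p + q := fun v =>
    ⟨(e v).1, (e v).2, mem_plus _, mem_minus _, (e.symm_apply_apply v).symm.trans (hes _)⟩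
  refine invProps_of_rigid hM h2 h1 ?_ ?_
  · intro N hN hN2
    refine (Subgroup.eq_bot_iff_forall N).mpr fun n hn => ?_
    refine Subtype.ext (Subtype.ext (Units.ext (Matrix.ext_of_mulVec_single fun i => ?_)))
    obtain ⟨p, q, hp, hq', hv⟩ := hdec (Pi.single i 1)
    show isoMat n.1 *ᵥ _ = (1 : Matrix ι ι F) *ᵥ _
    rw [Matrix.one_mulVec, hv, Matrix.mulVec_add, hNp N hN hN2 n hn p hp, hNm N hN hN2 n hn q ((hneg q).mpr hq')]
  · intro h τ hp hC
    -- one eigenspace has dimension at least three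
    have side : ∀ (B : Matrix ι ι F), B * B = 1 →
        (∀ x y, polarBilin R (B *ᵥ x) y = polarBilin R x (B *ᵥ y)) →
        (τ = 1 ∧ ∃ μ : F, (∀ v, B *ᵥ v = v → (h : Matrix ι ι F) *ᵥ v = μ • v) ∧
          ∀ v, B *ᵥ v = -v → B *ᵥ ((h : Matrix ι ι F) *ᵥ v) = -((h : Matrix ι ι F) *ᵥ v)) →
        Odd (Module.finrank F (LinearMap.ker (Matrix.toLin' (-B) - LinearMap.id))) →
        (3 ≤ Module.finrank F (LinearMap.ker (Matrix.toLin' (-B) - LinearMap.id)) → ∃ ν : F,
          ∀ v, (-B) *ᵥ v = v → (h : Matrix ι ι F) *ᵥ v = ν • v) →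
        τ = 1 ∧ ∃ μ ν : F, (∀ v, B *ᵥ v = v → (h : Matrix ι ι F) *ᵥ v = μ • v) ∧
          ∀ v, B *ᵥ v = -v → (h : Matrix ι ι F) *ᵥ v = ν • v := by
      intro B hB hBs ⟨hτ, μ, hμ', hpres⟩ hodd' hbig
      refine ⟨hτ, μ, ?_⟩
      obtain ⟨d, hd⟩ : ∃ d, Module.finrank F (LinearMap.ker (Matrix.toLin' (-B) - LinearMap.id)) = d := ⟨_, rfl⟩
      rw [hd] at hodd' hbig
      have hn : ∀ v, (-B) *ᵥ v = v ↔ B *ᵥ v = -v := fun v => by rw [Matrix.neg_mulVec, neg_eq_iff_eq_neg]
      rcases Nat.lt_or_ge d 3 with hlt | hge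
      · obtain rfl : d = 1 := by rcases hodd' with ⟨t, ht⟩; omega
        obtain ⟨w, hw, hspan⟩ := finrank_eq_one_iff'.mp hd
        obtain ⟨ν, hν⟩ := hspan ⟨(h : Matrix ι ι F) *ᵥ (w : ι → F), by
          rw [LinearMap.mem_ker, LinearMap.sub_apply, Matrix.toLin'_apply, LinearMap.id_apply, sub_eq_zero, hn]
          exact hpres _ ((hn _).mp (mem_plus w))⟩
        refine ⟨ν, hμ', fun v hv => ?_⟩
        obtain ⟨t, ht⟩ := hspan ⟨v, by
          rw [LinearMap.mem_ker, LinearMap.sub_apply, Matrix.toLin'_apply, LinearMap.id_apply, sub_eq_zero, hn]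
          exact hv⟩
        have ht' : t • (w : ι → F) = v := congrArg Subtype.val ht
        have hν' : ν • (w : ι → F) = (h : Matrix ι ι F) *ᵥ (w : ι → F) := congrArg Subtype.val hν
        rw [← ht', Matrix.mulVec_smul, ← hν', smul_comm]
      · obtain ⟨ν, hν⟩ := hbig hge
        exact ⟨ν, hμ', fun v hv => hν v ((hn v).mpr hv)⟩
    obtain ⟨hτ, μ, ν, hμ', hν⟩ : τ = 1 ∧ ∃ μ ν : F, (∀ v, A *ᵥ v = v → (h : Matrix ι ι F) *ᵥ v = μ • v) ∧
        ∀ v, A *ᵥ v = -v → (h : Matrix ι ι F) *ᵥ v = ν • v := by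
      rcases Nat.lt_or_ge (Module.finrank F (LinearMap.ker (Matrix.toLin' A - LinearMap.id))) 3 with hlt | hge
      · have h3 : 3 ≤ Module.finrank F (LinearMap.ker (Matrix.toLin' A + LinearMap.id)) := by omega
        obtain ⟨hτ, μ, ν, a1, a2⟩ := side (-A) hA' hsa' (hRm h3 h τ hC) (by rw [neg_neg]; exact hoP)
          (fun h' => by rw [neg_neg] at h' ⊢; omega)
        exact ⟨hτ, ν, μ, fun v hv => a2 v ((hneg' v).mpr hv), fun v hv => a1 v ((hneg v).mpr hv)⟩
      · exact side A hA hsa (hRp hge h τ hC) (by rw [ker_neg_sub]; exact hoQ)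
          (fun h' => by
            rw [ker_neg_sub] at h'
            obtain ⟨-, ν, hν, -⟩ := hRm h' h τ hC
            exact ⟨ν, hν⟩)
    subst hτ
    refine ⟨rfl, ?_⟩
    obtain ⟨m', hm'⟩ := hp
    simp only [RingAut.one_apply] at hm'
    obtain ⟨p₀, hp₀, hp₀R⟩ := exists_aniso_eigen hnd h2 hA hsa hoP.pos
    obtain ⟨q₀, hq₀, hq₀R⟩ := exists_aniso_eigen hnd h2 hA' hsa' (by rw [ker_neg_sub]; exact hoQ.pos)
    have e1 : μ * μ = (m' : F) := by
      have := hm' p₀
      rw [hμ' _ hp₀, Geometry.quad_smul] at this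
      exact mul_right_cancel₀ hp₀R this
    have e2 : ν * ν = (m' : F) := by
      have := hm' q₀
      rw [hν _ ((hneg _).mp hq₀), Geometry.quad_smul] at this
      exact mul_right_cancel₀ hq₀R this
    have hμ0 : μ ≠ 0 := fun e0 => m'.ne_zero (by rw [← e1, e0, zero_mul])
    refine ⟨Units.mk0 μ hμ0, ?_⟩
    rcases mul_self_eq_mul_self_iff.mp (e2.trans e1.symm) with hνμ | hνμ
    · refine Or.inl (Units.ext (Matrix.ext_of_mulVec_single fun i => ?_))
      obtain ⟨p, q, hp', hq', hv⟩ := hdec (Pi.single i 1)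
      show _ = Matrix.scalar ι μ *ᵥ _
      rw [Matrix.scalar_apply, ← Matrix.smul_one_eq_diagonal, Matrix.smul_mulVec, Matrix.one_mulVec, hv,
        Matrix.mulVec_add, hμ' p hp', hν q hq', hνμ, smul_add]
    · refine Or.inr (Units.ext (Matrix.ext_of_mulVec_single fun i => ?_))
      obtain ⟨p, q, hp', hq', hv⟩ := hdec (Pi.single i 1)
      show _ = (Matrix.scalar ι μ * A) *ᵥ _
      rw [← Matrix.mulVec_mulVec, Matrix.scalar_apply, ← Matrix.smul_one_eq_diagonal, Matrix.smul_mulVec,
        Matrix.one_mulVec, hv, Matrix.mulVec_add, Matrix.mulVec_add, hμ' p hp', hν q hq', hνμ, hp', hq', smul_add,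
        smul_neg, neg_smul]

/-- The quadratic extension by a square root of `c`. -/
abbrev QK {F : Type*} [Field F] (c : F) : Type _ := QuadraticAlgebra F c 0

/-- The similarities squaring to a nonsquare. -/
theorem invProps_nonsquare [Nonempty ι] (hM : Model R) (hq : Odd (Fintype.card F)) {M : ℕ} (hι : Fintype.card ι = 2 * M)
    (hM4 : 4 ≤ M) (hModd : Odd M) {g : Cfsg.Geo.quadSimilarityGroup (F := F) ⇑R} (h1 : dia R g * dia R g = 1)
    {c : Fˣ} (hns : ¬ IsSquare (c : F)) (hμ : multS hM.toModel0 g = c)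
    (hA : ∀ v, (g.1 : Matrix ι ι F) *ᵥ ((g.1 : Matrix ι ι F) *ᵥ v) = (c : F) • v)
    (hsa : ∀ x y, polarBilin R ((g.1 : Matrix ι ι F) *ᵥ x) y = polarBilin R x ((g.1 : Matrix ι ι F) *ᵥ y)) :
    CoreCriterion.InvProps (dia R g) := by
  classical
  set A := (g.1 : Matrix ι ι F) with hAdef
  have h2 : (2 : F) ≠ 0 := OddFree.two_ne_zero_of_odd hq
  have hnd := hM.toModel0.nondeg
  haveI : Fact (∀ r : F, r ^ 2 ≠ (c : F) + 0 * r) := ⟨fun r h => hns ⟨r, by linear_combination -h⟩⟩
  haveI : Finite (QK (c : F)) := Finite.of_equiv _ (QuadraticAlgebra.equivProd (c : F) (0 : F)).symm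
  letI : Fintype (QK (c : F)) := Fintype.ofFinite (QK (c : F))
  have hKodd : Odd (Fintype.card (QK (c : F))) := by
    rw [← Nat.card_eq_fintype_card, Nat.card_congr (QuadraticAlgebra.equivProd (c : F) (0 : F)), Nat.card_prod,
      Nat.card_eq_fintype_card]
    exact hq.mul hq
  let f : (QK (c : F)) →ₐ[F] Module.End F (ι → F) := QuadraticAlgebra.lift ⟨Matrix.toLin' A, LinearMap.ext fun v => by
    simp only [Module.End.mul_apply, Matrix.toLin'_apply, LinearMap.add_apply, LinearMap.smul_apply,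
      Module.End.one_apply, zero_smul, add_zero]
    exact hA v⟩
  letI : Module (QK (c : F)) (ι → F) := Module.compHom (ι → F) f.toRingHom
  have hz : ∀ (z : (QK (c : F))) (v : ι → F), z • v = z.re • v + z.im • (A *ᵥ v) := fun z v => by
    show (z.re • (1 : Module.End F (ι → F)) + z.im • Matrix.toLin' A) v = _
    simp [Matrix.toLin'_apply]
  haveI : IsScalarTower F (QK (c : F)) (ι → F) := ⟨fun t z v => by
    rw [hz, hz, smul_add, smul_smul, smul_smul]
    rfl⟩
  haveI : Module.Finite (QK (c : F)) (ι → F) := Module.Finite.of_finite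
  have hrank : Module.finrank (QK (c : F)) (ι → F) = M := by
    have h := Module.finrank_mul_finrank F (QK (c : F)) (ι → F)
    rw [Module.finrank_fintype_fun_eq_card, hι, QuadraticAlgebra.finrank_eq_two] at h
    omega
  let ω : (QK (c : F)) := ⟨0, 1⟩
  have hω : ∀ v : ι → F, ω • v = A *ᵥ v := fun v => by rw [hz]; simp [ω]
  have hAB : ∀ x y, polarBilin R (A *ᵥ x) (A *ᵥ y) = c * polarBilin R x y := fun x y => by
    rw [hsa, hA, map_smul, smul_eq_mul]
  have hre : ∀ z w : (QK (c : F)), (z * w).re = z.re * w.re + c * z.im * w.im := fun _ _ => rfl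
  have him : ∀ z w : (QK (c : F)), (z * w).im = z.re * w.im + z.im * w.re := fun z w => by
    show z.re * w.im + z.im * w.re + 0 * z.im * w.im = _
    ring
  have hadd : ∀ z w : (QK (c : F)), (z + w).re = z.re + w.re ∧ (z + w).im = z.im + w.im := fun _ _ => ⟨rfl, rfl⟩
  have hsm : ∀ (t : F) (z : (QK (c : F))), (t • z).re = t * z.re ∧ (t • z).im = t * z.im := fun _ _ => ⟨rfl, rfl⟩
  let bK : LinearMap.BilinForm (QK (c : F)) (ι → F) := LinearMap.mk₂ (QK (c : F))
    (fun u w => (⟨polarBilin R u w, polarBilin R u (A *ᵥ w) / c⟩ : (QK (c : F))))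
    (fun u u' w => by ext <;> simp [add_div])
    (fun z u w => by
      rw [hz, smul_eq_mul]
      ext <;> simp [hAB, hsa, hre, him, LinearMap.add_apply, LinearMap.smul_apply]
      all_goals field_simp
      all_goals ring)
    (fun u w w' => by ext <;> simp [Matrix.mulVec_add, add_div])
    (fun z u w => by
      rw [hz, smul_eq_mul]
      ext <;> simp [Matrix.mulVec_add, Matrix.mulVec_smul, hA, hsa, hre, him]
      all_goals field_simp
      all_goals ring)
  have hbre : ∀ u w, (bK u w).re = polarBilin R u w := fun _ _ => rfl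
  have hS : bK.IsSymm := ⟨fun u w => by
    show (⟨polarBilin R u w, polarBilin R u (A *ᵥ w) / c⟩ : (QK (c : F))) = ⟨polarBilin R w u, polarBilin R w (A *ᵥ u) / c⟩
    rw [Geometry.quad_polar_comm R u w, ← hsa, Geometry.quad_polar_comm R (A *ᵥ u) w]⟩
  have hB : bK.Nondegenerate := by
    have hl : ∀ u, (∀ v, bK u v = 0) → u = 0 := fun u hu => hnd.1 u fun v => by
      rw [← hbre, hu]; rfl
    exact ⟨hl, fun u hu => hl u fun v => (hS.eq u v).trans (hu v)⟩
  obtain ⟨k, T, hk, hT⟩ := exists_sum_squares (fun e => h2 ((algebraMap F (QK (c : F))).injective (by rw [map_ofNat, e, map_zero]))) bK hS hB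
    hrank hModd
  let φ : (QK (c : F)) →ₗ[F] F :=
    { toFun := fun z => z.re / 2, map_add' := fun _ _ => by simp [add_div], map_smul' := fun _ _ => by simp [hsm, mul_div_assoc] }
  let TF : (ι → F) ≃ₗ[F] (Fin M → (QK (c : F))) × PUnit.{1} :=
    { toFun := fun v => (T v, PUnit.unit)
      invFun := fun p => T.symm p.1
      left_inv := fun v => T.symm_apply_apply v
      right_inv := fun p => by simp
      map_add' := fun u v => by simp
      map_smul' := fun t v => by
        refine Prod.ext ?_ rfl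
        show T (t • v) = t • T v
        exact LinearMap.map_smul_of_tower T.toLinearMap t v }
  let b : Block R (QK (c : F)) M PUnit.{1} :=
    { T := TF, φ := φ, c := k, rest := fun _ => 0
      form := fun v => by
        show R v = (k * (T v ⬝ᵥ T v)).re / 2 + 0
        rw [← hT, hbre, Geometry.quad_polar_self, add_zero]
        field_simp
      nondeg := fun z hzz => by
        have e1 : (k * z).re = 0 := by
          have := hzz 1
          simpa [φ, h2] using this
        have e2 : ((k * z) * ω).re = 0 := by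
          have h : ((k * ((1 + ω) * (1 + ω)) * z).re) / 2 = 0 := hzz (1 + ω)
          have h' : (k * ((1 + ω) * (1 + ω)) * z) = ((1 + (c : F)) : F) • (k * z) + (2 : F) • (k * z * ω) := by
            ext <;> simp [ω, hre, him, hsm, hadd, show (1 : QK (c : F)).re = 1 from rfl, show (1 : QK (c : F)).im = 0 from rfl] <;> ring
          rw [h', div_eq_zero_iff, or_iff_left h2, (hadd _ _).1, (hsm _ _).1, (hsm _ _).1, e1, mul_zero, zero_add] at h
          exact (mul_eq_zero.mp h).resolve_left h2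
        have e3 : (k * z).im = 0 := by
          rw [hre] at e2
          simpa [ω, c.ne_zero] using e2
        exact (mul_eq_zero.mp (show k * z = 0 from QuadraticAlgebra.ext e1 e3)).resolve_left hk }
  have hlinA : ∀ v, T (A *ᵥ v) = ω • T v := fun v => by rw [← hω, map_smul]
  have hext : ∀ s : OA (QK (c : F)) M, b.ext s ∈ commA R A := fun s => Matrix.ext_of_mulVec_single fun i => by
    rw [← Matrix.mulVec_mulVec, ← Matrix.mulVec_mulVec, b.ext_mulVec, b.ext_mulVec]
    show T.symm (oMat s *ᵥ T (A *ᵥ _)) = A *ᵥ T.symm (oMat s *ᵥ T _)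
    rw [hlinA, Matrix.mulVec_smul, map_smul, hω]
  refine invProps_of_rigid hM h2 h1 ?_ ?_
  · intro N hN hN2
    refine (Subgroup.eq_bot_iff_forall N).mpr fun n hn => ?_
    refine Subtype.ext (Subtype.ext (Units.ext (Matrix.ext_of_mulVec_single fun i => ?_)))
    have key := component_trivial b hk hKodd (Or.inr (by rcases hModd with ⟨t, ht⟩; omega)) rfl hext
      (fun s hs => ⟨T.toLinearMap ∘ₗ
        ({ toFun := fun v => isoMat s *ᵥ v, map_add' := Matrix.mulVec_add _,
           map_smul' := fun z v => by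
            rw [RingHom.id_apply, hz, hz, Matrix.mulVec_add, Matrix.mulVec_smul, Matrix.mulVec_smul,
              Matrix.mulVec_mulVec, Matrix.mulVec_mulVec, (show Commute (isoMat s) A from hs).eq] } :
          (ι → F) →ₗ[(QK (c : F))] (ι → F)) ∘ₗ T.symm.toLinearMap, fun v => by
        show T (isoMat s *ᵥ v) = T (isoMat s *ᵥ T.symm (T v))
        rw [T.symm_apply_apply]⟩)
      (fun s _ x => rfl) hN hN2 hn (Pi.single i 1)
    show isoMat n.1 *ᵥ _ = (1 : Matrix ι ι F) *ᵥ _
    rw [Matrix.one_mulVec]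
    exact T.injective key
  · intro h τ hp hC
    obtain ⟨rfl, μ, hμ', -⟩ := rigid_of_centSign b h2 (by rcases hModd with ⟨t, ht⟩; omega) hext hC
    simp only [RingAut.one_apply] at hμ'
    refine ⟨rfl, ?_⟩
    obtain ⟨m', hm'⟩ := hp
    simp only [RingAut.one_apply] at hm'
    have hh : ∀ v, (h : Matrix ι ι F) *ᵥ v = μ.re • v + μ.im • (A *ᵥ v) := fun v => by
      refine T.injective ?_
      have e : T ((h : Matrix ι ι F) *ᵥ T.symm (T v)) = μ • T v := congrArg Prod.fst (hμ' (T v))
      rw [T.symm_apply_apply] at e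
      rw [e, ← hz, map_smul]
    have hxy : μ.re = 0 ∨ μ.im = 0 := by
      by_contra hcon
      push Not at hcon
      obtain ⟨hx, hy⟩ := hcon
      set l := ((m' : F) - μ.re * μ.re - μ.im * μ.im * c) / (μ.re * μ.im)
      have hl : ∀ v, polarBilin R v (A *ᵥ v) = l * R v := fun v => by
        have e := hm' v
        rw [hh, Geometry.quad_add, Geometry.quad_smul, Geometry.quad_smul, multS_spec hM.toModel0 g v, hμ, map_smul,
          map_smul, LinearMap.smul_apply, smul_eq_mul, smul_eq_mul] at e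
        simp only [l]
        field_simp
        linear_combination e
      have hpol : ∀ u w, 2 * polarBilin R u (A *ᵥ w) = l * polarBilin R u w := fun u w => by
        have e := hl (u + w)
        rw [Matrix.mulVec_add, map_add, map_add, LinearMap.add_apply, LinearMap.add_apply, hl u, hl w,
          Geometry.quad_add, ← hsa u w] at e
        rw [← hsa]
        have e2 : polarBilin R w (A *ᵥ u) = polarBilin R (A *ᵥ u) w := Geometry.quad_polar_comm R _ _
        rw [e2] at e
        linear_combination e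
      have hAl : ∀ w, A *ᵥ w = (l / 2) • w := fun w => by
        refine eq_of_sub_eq_zero (hnd.1 _ fun u => ?_)
        rw [Geometry.quad_polar_comm, map_sub, map_smul, smul_eq_mul]
        field_simp
        linear_combination hpol u w
      obtain ⟨v₀, hv₀⟩ := hM.toModel0.exists_one
      have e := hA v₀
      rw [hAl, hAl v₀, smul_smul] at e
      have hv0 : v₀ ≠ 0 := fun e' => by rw [e', map_zero] at hv₀; exact zero_ne_one hv₀
      exact hns ⟨l / 2, (smul_left_injective F hv0 e).symm⟩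
    have hμ0 : ¬ (μ.re = 0 ∧ μ.im = 0) := fun ⟨e1, e2⟩ => by
      obtain ⟨v₀, hv₀⟩ := hM.toModel0.exists_one
      have e := hm' v₀
      rw [hh, e1, e2, zero_smul, zero_smul, add_zero, map_zero, hv₀, mul_one] at e
      exact m'.ne_zero e.symm
    rcases hxy with e | e
    · refine ⟨Units.mk0 μ.im fun h0 => hμ0 ⟨e, h0⟩, Or.inr (Units.ext (Matrix.ext_of_mulVec_single fun i => ?_))⟩
      show _ = (Matrix.scalar ι μ.im * A) *ᵥ _
      rw [← Matrix.mulVec_mulVec, Matrix.scalar_apply, ← Matrix.smul_one_eq_diagonal, Matrix.smul_mulVec,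
        Matrix.one_mulVec, hh, e, zero_smul, zero_add]
    · refine ⟨Units.mk0 μ.re fun h0 => hμ0 ⟨h0, e⟩, Or.inl (Units.ext (Matrix.ext_of_mulVec_single fun i => ?_))⟩
      show _ = Matrix.scalar ι μ.re *ᵥ _
      rw [Matrix.scalar_apply, ← Matrix.smul_one_eq_diagonal, Matrix.smul_mulVec,
        Matrix.one_mulVec, hh, e, zero_smul, add_zero]

/-- Involutory graph automorphisms in odd characteristic. -/
theorem invProps_graph [Nonempty ι] (hM : Model R) (hq : Odd (Fintype.card F)) {M : ℕ} (hι : Fintype.card ι = 2 * M)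
    (hM4 : 4 ≤ M) {g : Cfsg.Geo.quadSimilarityGroup (F := F) ⇑R} (hg : deltaS hM.toModel0 M g = -1)
    (h1 : dia R g * dia R g = 1) : CoreCriterion.InvProps (dia R g) := by
  classical
  have h2 : (2 : F) ≠ 0 := OddFree.two_ne_zero_of_odd hq
  obtain ⟨c, hgg, hμ, hA, hsa, hodd⟩ := invol_shape hM.toModel0 h2 hι hg h1
  by_cases hsq : IsSquare (c : F)
  · obtain ⟨s, hs⟩ := hsq
    have hs0 : s ≠ 0 := fun e => c.ne_zero (by rw [hs, e, zero_mul])
    set u : Fˣ := (Units.mk0 s hs0)⁻¹
    set g' := scG R u * g with hg'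
    have hu : (u : F) * u * c = 1 := by
      show (Units.mk0 s hs0)⁻¹.1 * (Units.mk0 s hs0)⁻¹.1 * (c : F) = 1
      rw [hs]; simp; field_simp
    have hdia : dia R g' = dia R g := by
      rw [hg', map_mul, (dia_eq_one_iff hM.toModel0 (scG R u)).mpr ⟨u, rfl⟩, one_mul]
    rw [← hdia]
    have hA' : ∀ v, (g'.1 : Matrix ι ι F) *ᵥ v = (u : F) • ((g.1 : Matrix ι ι F) *ᵥ v) := fun v => by
      show ((scG R u).1 * g.1 : GL ι F).1 *ᵥ v = _
      rw [Units.val_mul, ← Matrix.mulVec_mulVec]
      exact scG_mulVec u _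
    have hμ' : multS hM.toModel0 g' = 1 := by
      rw [hg', map_mul, multS_scG, hμ]
      exact Units.ext (by rw [Units.val_mul, Units.val_mul, Units.val_one]; exact hu)
    refine invProps_square hM hq hι hM4 (by rw [hdia, h1]) hμ' ?_
      (Matrix.ext_of_mulVec_single fun i => ?_) fun x y => ?_
    · have hd : deltaS hM.toModel0 M g' = -1 := by rw [hg', map_mul, deltaS_scG hM.toModel0 hι, hg, one_mul]
      rw [deltaS_apply, hμ', one_pow, inv_one, mul_one] at hd
      exact (congrArg Units.val hd).trans (by simp)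
    · rw [← Matrix.mulVec_mulVec, hA', hA', Matrix.mulVec_smul, hA, smul_smul, smul_smul, hu, one_smul,
        Matrix.one_mulVec]
    · rw [hA', hA', map_smul, map_smul, LinearMap.smul_apply, hsa]
  · exact invProps_nonsquare hM hq hι hM4 (hodd hsq) h1 hsq hμ hA hsa

end Cfsg.Agent.Lib.Classical.AutPOmega
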