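import Cfsg.Agent.Lib.Classical.AutPOmega.PointMap

/-!
Automorphisms of `PΩ`, part 7: every automorphism comes from a semisimilarity.
-/

set_option autoImplicit false

namespace Cfsg.Agent.Lib.Classical.AutPOmega

open QuadraticMap (polarBilin)
open Cfsg.Agent.Lib.Geometry (quadIsometries mem_quadIsometries quad_add quad_smul quad_polar_self
  quad_polar_comm)

attribute [-simp] QuadraticMap.polarBilin_apply_apply

variable {F V : Type*} [Field F] [AddCommGroup V] [Module F V] {Q : QuadraticForm F V}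
  [FiniteDimensional F V] [Finite F] {e f e₂ f₂ e₃ f₃ : V}

/-- `φ` is induced by the semisimilarity `L`. -/
def InducedBy (Q : QuadraticForm F V) (φ : MulAut (KG Q)) (σ : F ≃+* F) (c : F) (L : V → V) : Prop :=
  c ≠ 0 ∧ Function.Bijective L ∧ (∀ u v, L (u + v) = L u + L v) ∧ (∀ (t : F) v, L (t • v) = σ t • L v) ∧
    (∀ v, Q (L v) = c * σ (Q v)) ∧
    ∀ k k' : EG Q, (∀ v, k'.1.1 (L v) = L (k.1.1 v)) → φ (pk Q k) = pk Q k'

theorem prW_add (x y : V) : prW Q e f (x + y) = prW Q e f x + prW Q e f y := by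
  simp only [prW, map_add, LinearMap.add_apply, add_smul]; abel

theorem prW_smul (t : F) (x : V) : prW Q e f (t • x) = t • prW Q e f x := by
  simp only [prW, map_smul, LinearMap.smul_apply, smul_eq_mul, mul_smul, smul_sub]

/-- Every automorphism fixing two opposite points is induced by a semisimilarity. -/
theorem induced_of_fix (p : ℕ) [Fact p.Prime] [CharP F p] (h : HypThree Q e f e₂ f₂ e₃ f₃)
    {φ : MulAut (KG Q)} {π : singPts Q → singPts Q} (hπ : Function.Bijective π)
    (hs : ∀ a, (stK a).map φ.toMonoidHom = stK (π a))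
    (hr : ∀ a, (rootK a).map φ.toMonoidHom = rootK (π a))
    (he0 : e ≠ 0) (hf0 : f ≠ 0)
    (hπe : π (pt e he0 h.two.qe) = pt e he0 h.two.qe)
    (hπf : π (pt f hf0 h.two.qf) = pt f hf0 h.two.qf) :
    ∃ (σ : F ≃+* F) (c : F) (L : V → V), InducedBy Q φ σ c L := by
  classical
  haveI := finite_V Q
  have qe := h.two.qe
  have qf := h.two.qf
  have ef := h.two.ef
  have hfe : polarBilin Q f e = 1 := by rw [quad_polar_comm, ef]
  have hee : polarBilin Q e e = 0 := by rw [quad_polar_self, qe, mul_zero]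
  have hff : polarBilin Q f f = 0 := by rw [quad_polar_self, qf, mul_zero]
  set W := perpPair Q e f
  -- equivariance
  have hequiv : ∀ (g g' : EG Q), φ (pk Q g) = pk Q g' → ∀ a, π (g • a) = g' • π a := by
    intro g g' hg a
    have h1 := hs (g • a)
    rw [stK_smul, Subgroup.map_map] at h1
    have h2 : stK (π (g • a)) = stK (g' • π a) := by
      rw [← h1, stK_smul, ← hs a, Subgroup.map_map]
      congr 1
      ext x
      simp [← hg]
    refine rootK_injective p h ?_
    refine normal_pgroup_le' p h _ (isPGroup_rootK p _) (h2 ▸ rootK_le_stK _) ?_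
    intro k hk r hr'
    rw [← h2] at hk
    obtain ⟨k, hk, rfl⟩ := hk
    have := rootK_conj k (π (g • a)) hr'
    rwa [show k • π (g • a) = π (g • a) from hk] at this
  -- the map on `W`
  have hW0 : ∀ w : W, ∃ w' : W, φ (pk Q (ee e w qe (perp_e w.2))) = pk Q (ee e w' qe (perp_e w'.2)) := by
    intro w
    have hm : φ (pk Q (ee e w qe (perp_e w.2))) ∈ rootK (pt e he0 qe) := by
      rw [← hπe, ← hr]
      exact ⟨_, ⟨_, ee_mem_root he0 qe (perp_e w.2), rfl⟩, rfl⟩
    obtain ⟨g, hg, hge⟩ := hm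
    obtain ⟨w', hw', rfl⟩ := root_param qe qf ef he0 hg
    exact ⟨⟨w', hw'⟩, hge.symm⟩
  choose χ0 hχ0 using hW0
  have hinjE : ∀ {w w' : W}, pk Q (ee e w qe (perp_e w.2)) = pk Q (ee e w' qe (perp_e w'.2)) → w = w' :=
    fun {w w'} he => Subtype.ext (ee_e_inj qe ef w.2 w'.2 (root_eq_of_pk h (p := p)
      (ee_mem_root he0 qe (perp_e w.2)) (ee_mem_root he0 qe (perp_e w'.2)) he))
  have hχ0inj : Function.Injective χ0 := fun w w' hw => hinjE (φ.injective (by rw [hχ0, hχ0, hw]))
  have hχ0add : ∀ w w', χ0 (w + w') = χ0 w + χ0 w' := fun w w' => hinjE (by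
    rw [← hχ0]
    rw [ee_congr qe (perp_e (w + w').2) qe (show polarBilin Q e ((w : V) + w') = 0 from perp_e (w + w').2)
      rfl (rfl : ((w + w' : W) : V) = (w : V) + w'), ← ee_mul qe (perp_e w.2) (perp_e w'.2), map_mul,
      map_mul, hχ0, hχ0, ← map_mul, ee_mul qe (perp_e (χ0 w).2) (perp_e (χ0 w').2)]
    rfl)
  have hχ00 : χ0 0 = 0 := by
    have := hχ0add 0 0
    rwa [add_zero, left_eq_add] at this
  have hχ0bij : Function.Bijective χ0 := ⟨hχ0inj, Finite.injective_iff_surjective.mp hχ0inj⟩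
  let χ : W →+ V :=
    { toFun := fun w => (χ0 w : V)
      map_zero' := by rw [hχ00]; rfl
      map_add' := fun w w' => by rw [hχ0add]; rfl }
  have hχmem : ∀ w, χ w ∈ W := fun w => (χ0 w).2
  -- points not collinear with `e`
  have hq : ∀ w ∈ W, Q (f + w - Q w • e) = 0 := by
    intro w hw
    rw [← ee_f qe ef hw, iso_q, qf]
  have hb : ∀ w ∈ W, polarBilin Q (f + w - Q w • e) e = 1 := by
    intro w hw
    simp [hfe, perp_e' hw, hee]
  have hn : ∀ w ∈ W, f + w - Q w • e ≠ 0 := fun w hw => pair_ne_zero (hb w hw)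
  have hpoint : ∀ w : W, π (pt _ (hn w w.2) (hq w w.2)) = pt _ (hn (χ w) (hχmem w)) (hq (χ w) (hχmem w)) := by
    intro w
    have h1 := hequiv _ _ (hχ0 w) (pt f hf0 qf)
    rw [hπf, smul_pt, smul_pt] at h1
    have e1 : pt _ (hn w w.2) (hq w w.2) = (ee e w qe (perp_e w.2)) • pt f hf0 qf := by
      rw [smul_pt]
      exact pt_eq_smul _ _ _ _ (t := 1) (by rw [one_smul, ee_f qe ef w.2])
    rw [e1, smul_pt, h1]
    exact pt_eq_smul _ _ _ _ (t := 1) (by rw [one_smul, ee_f qe ef (χ0 w).2]; rfl)
  -- the singular cone is preserved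
  have hcone : ∀ w : W, Q (χ w) = 0 ↔ Q w = 0 := by
    intro w
    have h1 := point_col p h hπ hr (a := pt _ (hn w w.2) (hq w w.2)) (b := pt f hf0 qf)
    rw [hpoint, hπf, col_pt, col_pt] at h1
    simpa [hff, perp_f' w.2, perp_f' (hχmem w), ef] using h1
  -- lines through `f`
  have hline : ∀ w : W, Q w = 0 → ∀ t : F, ∃ s : F, χ (t • w) = s • χ w := by
    intro w hw t
    rcases eq_or_ne w 0 with rfl | hw0
    · exact ⟨0, by simp⟩
    have hwV : (w : V) ≠ 0 := fun h0 => hw0 (Subtype.ext h0)
    have hne : pt f hf0 qf ≠ pt _ (hn w w.2) (hq w w.2) := by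
      intro he
      rw [eq_comm, pt_eq_iff] at he
      obtain ⟨r, hr'⟩ := he
      rw [hw, zero_smul, sub_zero] at hr'
      have := congrArg (fun x => polarBilin Q x e) hr'
      simp [hfe, perp_e' w.2] at this
      rw [this, one_smul, eq_comm, add_eq_left] at hr'
      exact hwV hr'
    obtain ⟨a, b, hab⟩ := point_line p h hπ hr (s := 1 - t) (t := t) hπf (hpoint w) (hpoint (t • w)) hne
      (by simp [hff, hw, perp_f w.2]) (by
        have : Q ((t • w : W) : V) = 0 := by rw [Submodule.coe_smul, quad_smul, hw, mul_zero]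
        rw [this, hw]
        simp only [zero_smul, sub_zero, Submodule.coe_smul]
        module)
    refine ⟨b, ?_⟩
    rw [(hcone _).2 hw, (hcone _).2 (by rw [Submodule.coe_smul, quad_smul, hw, mul_zero] : Q ((t • w : W) : V) = 0),
      zero_smul, sub_zero, sub_zero] at hab
    have h1 := congrArg (fun x => polarBilin Q x e) hab
    simp [hfe, perp_e' (hχmem w), perp_e' (hχmem (t • w))] at h1
    have h2 : χ (t • w) = (a + b - 1) • f + b • χ w := by linear_combination (norm := module) hab
    rw [h2, ← h1, sub_self, zero_smul, zero_add]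
  obtain ⟨σ, hσ⟩ := semilinear_of_sing_lines h.perp χ (fun w w' hw => hχ0inj (Subtype.ext hw)) hline
  -- the multiplier
  let Q' : QuadraticForm F W := QuadraticMap.ofPolar (fun y => σ.symm (Q (χ y)))
    (fun a y => by simp [hσ, quad_smul, mul_assoc])
    (fun x x' y => by
      simp only [QuadraticMap.polar, map_add, quad_add, LinearMap.add_apply]
      ring)
    (fun a x y => by
      simp only [QuadraticMap.polar, map_add, quad_add, quad_smul, hσ, map_smul, LinearMap.smul_apply,
        smul_eq_mul, map_mul, σ.symm_apply_apply]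
      ring)
  obtain ⟨c', hc'0, hc'⟩ := proportional_of_same_zeros h.perp Q' fun y => by
    show σ.symm (Q (χ y)) = 0 ↔ _
    rw [map_eq_zero_iff _ σ.symm.injective, hcone]
  have hQχ : ∀ y : W, Q (χ y) = σ c' * σ (Q y) := fun y => by
    have : σ.symm (Q (χ y)) = c' * Q y := hc' y
    rw [← map_mul, ← this, σ.apply_symm_apply]
  set c := σ c'
  have hc0 : c ≠ 0 := (map_ne_zero_iff _ σ.injective).mpr hc'0
  -- the semisimilarity
  let L : V → V := fun v =>
    (σ (polarBilin Q v f) * c) • e + σ (polarBilin Q v e) • f + χ ⟨prW Q e f v, prW_mem qe qf ef v⟩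
  have hLadd : ∀ u v, L (u + v) = L u + L v := by
    intro u v
    have : (⟨prW Q e f (u + v), prW_mem qe qf ef _⟩ : W) =
        ⟨prW Q e f u, prW_mem qe qf ef u⟩ + ⟨prW Q e f v, prW_mem qe qf ef v⟩ := Subtype.ext (prW_add u v)
    simp only [L, this, map_add, LinearMap.add_apply, add_mul]
    module
  have hLsmul : ∀ (t : F) v, L (t • v) = σ t • L v := by
    intro t v
    have : (⟨prW Q e f (t • v), prW_mem qe qf ef _⟩ : W) = t • ⟨prW Q e f v, prW_mem qe qf ef v⟩ :=
      Subtype.ext (prW_smul t v)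
    simp only [L, this, hσ, map_smul, LinearMap.smul_apply, smul_eq_mul, map_mul]
    module
  have hLe : L e = c • e := by
    have : (⟨prW Q e f e, prW_mem qe qf ef _⟩ : W) = 0 := Subtype.ext (by simp [prW, ef, hee])
    simp only [L, this, ef, hee, map_one, map_zero]
    simp
  have hLB1 : ∀ v, polarBilin Q (L v) e = σ (polarBilin Q v e) := by
    intro v
    simp [L, hee, hfe, perp_e' (hχmem _)]
  have hLB2 : ∀ v, polarBilin Q (L v) f = σ (polarBilin Q v f) * c := by
    intro v
    simp [L, hff, ef, perp_f' (hχmem _)]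
  have hLinj : Function.Injective L := by
    intro u v huv
    have h1 := congrArg (fun x => polarBilin Q x e) huv
    have h2 := congrArg (fun x => polarBilin Q x f) huv
    simp only [hLB1, hLB2] at h1 h2
    have h1' := σ.injective h1
    have h2' := σ.injective (mul_right_cancel₀ hc0 h2)
    have h3 : χ ⟨prW Q e f u, prW_mem qe qf ef u⟩ = χ ⟨prW Q e f v, prW_mem qe qf ef v⟩ := by
      have := huv
      simp only [L, h1', h2'] at this
      exact add_left_cancel this
    have h4 := congrArg Subtype.val (hχ0inj (Subtype.ext h3))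
    rw [decomp Q e f u, decomp Q e f v, h1', h2']
    exact congrArg _ h4
  have hLQ : ∀ v, Q (L v) = c * σ (Q v) := by
    intro v
    conv_rhs => rw [decomp Q e f v]
    simp only [L, quad_add, quad_smul, qe, qf, hQχ, map_add, map_smul, LinearMap.add_apply,
      LinearMap.smul_apply, smul_eq_mul, perp_e (hχmem _), perp_f (hχmem _),
      perp_e (prW_mem qe qf ef v), perp_f (prW_mem qe qf ef v), ef, map_mul, map_zero, mul_zero,
      mul_one, map_one, add_zero, zero_add]
    ring
  have hLne : ∀ v, v ≠ 0 → L v ≠ 0 := fun v hv hv' => hv (hLinj (by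
    rw [hv']
    have := hLsmul 0 v
    simpa using this.symm))
  have hLz : ∀ v, Q v = 0 → Q (L v) = 0 := fun v hv => by rw [hLQ, hv, map_zero, mul_zero]
  have hLw : ∀ w : W, L (f + w - Q w • e) = f + χ w - Q (χ w) • e := by
    intro w
    have : (⟨prW Q e f (f + w - Q w • e), prW_mem qe qf ef _⟩ : W) = w := Subtype.ext (by
      simp [prW, hff, hfe, hee, ef, perp_e' w.2, perp_f' w.2])
    simp only [L, this]
    simp [hff, hfe, hee, ef, perp_e' w.2, perp_f' w.2, hQχ]
    module
  -- the point map is induced by `L`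
  have hmain : ∀ v (hv0 : v ≠ 0) (hv : Q v = 0), π (pt v hv0 hv) = pt (L v) (hLne v hv0) (hLz v hv) := by
    have hA : ∀ v (hv0 : v ≠ 0) (hv : Q v = 0), polarBilin Q v e ≠ 0 →
        π (pt v hv0 hv) = pt (L v) (hLne v hv0) (hLz v hv) := by
      intro v hv0 hv hne
      set t := (polarBilin Q v e)⁻¹ with htdef
      have hq' : Q (t • v) = 0 := by rw [quad_smul, hv, mul_zero]
      have hb' : polarBilin Q (t • v) e = 1 := by
        rw [map_smul, LinearMap.smul_apply, smul_eq_mul, htdef, inv_mul_cancel₀ hne]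
      have h1 := affine_cover qe qf ef hq' hb'
      rw [ee_f qe ef (prW_mem qe qf ef _)] at h1
      set w : W := ⟨prW Q e f (t • v), prW_mem qe qf ef _⟩
      have e1 : pt v hv0 hv = pt _ (hn w w.2) (hq w w.2) := (pt_eq_smul hv0 hv _ _ (t := t) h1).symm
      rw [e1, hpoint]
      exact pt_eq_smul _ _ _ _ (t := σ t) (by rw [← hLw, h1, hLsmul])
    intro v hv0 hv
    by_cases hne : polarBilin Q v e = 0
    swap
    · exact hA v hv0 hv hne
    set t := polarBilin Q v f
    set w : W := ⟨prW Q e f v, prW_mem qe qf ef v⟩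
    have hd : v = t • e + w := by
      have := decomp Q e f v
      rwa [hne, zero_smul, add_zero] at this
    rcases eq_or_ne w 0 with hw | hw
    · have e1 : pt v hv0 hv = pt e he0 qe := pt_eq_smul he0 qe hv0 hv (t := t) (by rw [hd, hw]; simp)
      rw [e1, hπe]
      refine (pt_eq_smul he0 qe _ _ (t := σ t * c) ?_).symm
      show L v = _
      rw [hd, hw, Submodule.coe_zero, add_zero, hLsmul, hLe, smul_smul]
    have hwV : (w : V) ≠ 0 := fun h0 => hw (Subtype.ext h0)
    have hwq : Q w = 0 := by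
      have h1 := hv
      rw [hd, quad_add, quad_smul, qe, map_smul, LinearMap.smul_apply, perp_e w.2] at h1
      simpa using h1
    obtain ⟨y, hyW, hy⟩ := h.perp.sep w.1 w.2 hwV
    set x : W := (-t / polarBilin Q (w : V) y) • ⟨y, hyW⟩
    have hBx : polarBilin Q (x : V) w = -t := by
      rw [Submodule.coe_smul, map_smul, LinearMap.smul_apply, quad_polar_comm Q y, smul_eq_mul,
        div_mul_cancel₀ _ hy]
    set P := f + (x : V) - Q x • e with hP
    set P' := f + ((x + w : W) : V) - Q ((x + w : W) : V) • e with hP'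
    have hvPP : v = (-1 : F) • P + (1 : F) • P' := by
      rw [hP, hP', Submodule.coe_add, quad_add, hwq, hBx, hd]
      module
    have hcolPP : polarBilin Q P P' = 0 := by
      rw [hP, hP', Submodule.coe_add, quad_add, hwq, hBx]
      simp only [map_add, map_sub, map_smul, LinearMap.add_apply, LinearMap.sub_apply,
        LinearMap.smul_apply, smul_eq_mul, hff, hfe, ef, hee, perp_e x.2, perp_e w.2, perp_f x.2,
        perp_f w.2, perp_e' x.2, perp_f' x.2, quad_polar_self, hBx]
      ring
    have hPne : pt P (hn x x.2) (hq x x.2) ≠ pt P' (hn (x + w : W) (x + w).2) (hq (x + w : W) (x + w).2) := by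
      intro he
      rw [pt_eq_iff] at he
      obtain ⟨r, hr'⟩ := he
      have h1 := congrArg (fun z => polarBilin Q z e) hr'
      simp only [map_smul, LinearMap.smul_apply, hP, hP', hb _ x.2, hb _ (x + w).2, smul_eq_mul, mul_one] at h1
      rw [h1, one_smul] at hr'
      have h2 : (w : V) = (Q ((x + w : W) : V) - Q (x : V)) • e := by
        rw [hP, hP', Submodule.coe_add] at hr'
        rw [Submodule.coe_add]
        linear_combination (norm := module) hr'
      have h3 := congrArg (fun z => polarBilin Q z f) h2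
      simp [perp_f' w.2, ef] at h3
      rw [Submodule.coe_add, ← h3, zero_smul] at h2
      exact hwV h2
    obtain ⟨a, b, hab⟩ := point_line p h hπ hr (s := (-1 : F)) (t := 1)
      (hA P (hn x x.2) (hq x x.2) (by rw [hb _ x.2]; exact one_ne_zero))
      (hA P' (hn _ (x + w).2) (hq _ (x + w).2) (by rw [hb _ (x + w).2]; exact one_ne_zero))
      (show π (pt v hv0 hv) = pt _ (π (pt v hv0 hv)).1.rep_nonzero (sing _) from (pt_rep _).symm)
      hPne hcolPP hvPP
    have hce : polarBilin Q (π (pt v hv0 hv)).1.rep e = 0 := by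
      have h1 := (point_col p h hπ hr (a := pt v hv0 hv) (b := pt e he0 qe)).2 ((col_pt hv0 hv he0 qe).2 hne)
      rw [hπe, ← pt_rep (π (pt v hv0 hv)), col_pt] at h1
      exact h1
    rw [hab] at hce
    simp only [map_add, map_smul, LinearMap.add_apply, LinearMap.smul_apply, hLB1, hb _ x.2,
      hb _ (x + w).2, hP, hP', map_one, smul_eq_mul, mul_one] at hce
    rw [← pt_rep (π (pt v hv0 hv))]
    refine (pt_eq_smul (hLne v hv0) (hLz v hv) _ _ (t := b) ?_)
    rw [hab, hvPP, hLadd, hLsmul, hLsmul, map_neg, map_one, show a = -b by linear_combination hce]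
    module
  refine ⟨σ, c, L, hc0, ⟨hLinj, Finite.injective_iff_surjective.mp hLinj⟩, hLadd, hLsmul, hLQ, ?_⟩
  intro k k' hkk
  obtain ⟨k'', hk''⟩ := pk_surjective (φ (pk Q k))
  rw [← hk'', pk_eq_iff, mem_center_iff_fix h]
  intro a
  obtain ⟨y, hy0, hy, rfl⟩ := exists_pt a
  obtain ⟨v, rfl⟩ := Finite.injective_iff_surjective.mp hLinj y
  have hv0 : v ≠ 0 := fun h0 => hy0 (by
    rw [h0]; simpa using hLsmul 0 0)
  have hv : Q v = 0 := by
    rw [hLQ, mul_eq_zero] at hy
    exact (map_eq_zero_iff _ σ.injective).1 (hy.resolve_left hc0)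
  rw [mul_smul, inv_smul_eq_iff, ← hmain v hv0 hv, ← hequiv k k'' hk''.symm]
  rw [smul_pt, hmain, hmain, smul_pt]
  exact pt_eq_smul _ _ _ _ (t := 1) (by rw [one_smul, hkk])

/-- Every automorphism of `PΩ(V)` is induced by a semisimilarity. -/
theorem exists_semisimilarity (p : ℕ) [Fact p.Prime] [CharP F p] (h : HypThree Q e f e₂ f₂ e₃ f₃)
    (hN : NoTriality Q) (φ : MulAut (KG Q)) :
    ∃ (σ : F ≃+* F) (c : F) (L : V → V), InducedBy Q φ σ c L := by
  have he0 := pair_ne_zero h.two.ef
  have hf0 : f ≠ 0 := pair_ne_zero (show polarBilin Q f e = 1 by rw [quad_polar_comm, h.two.ef])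
  obtain ⟨π, hπ, hs, hr⟩ := exists_point_map p h hN φ
  have hncol : ¬ col (π (pt e he0 h.two.qe)) (π (pt f hf0 h.two.qf)) := by
    rw [point_col p h hπ hr, col_pt, h.two.ef]; exact one_ne_zero
  obtain ⟨g, hge, hgf⟩ := exists_pair_map h hncol he0 hf0
  set φ' : MulAut (KG Q) := MulAut.conj (pk Q g) * φ
  have hs' : ∀ a, (stK a).map φ'.toMonoidHom = stK (g • π a) := fun a => by
    rw [stK_smul, ← hs, Subgroup.map_map]; rfl
  have hr' : ∀ a, (rootK a).map φ'.toMonoidHom = rootK (g • π a) := by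
    intro a
    ext y
    constructor
    · rintro ⟨x, hx, rfl⟩
      exact rootK_conj g (π a) (hr a ▸ ⟨x, hx, rfl⟩)
    · intro hy
      have h1 := rootK_conj g⁻¹ _ hy
      rw [inv_smul_smul, ← hr] at h1
      obtain ⟨x, hx, hxe⟩ := h1
      refine ⟨x, hx, ?_⟩
      show pk Q g * φ x * (pk Q g)⁻¹ = y
      rw [show φ x = _ from hxe, map_inv]
      group
  obtain ⟨σ, c, L, hc, hbij, hadd, hsmul, hQ, hind⟩ := induced_of_fix p h
    ((MulAction.bijective g).comp hπ) hs' hr' he0 hf0 hge hgf
  refine ⟨σ, c, fun v => g.1.1.symm (L v), hc, g.1.1.symm.bijective.comp hbij, fun u v => ?_,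
    fun t v => ?_, fun v => ?_, fun k k' hkk => ?_⟩
  · simp [hadd]
  · simp [hsmul]
  · rw [← hQ, ← iso_q g, g.1.1.apply_symm_apply]
  · have h1 := hind k (g * k' * g⁻¹) fun v => by
      show g.1.1 (k'.1.1 (g.1.1.symm (L v))) = _
      rw [hkk, g.1.1.apply_symm_apply]
    change pk Q g * φ (pk Q k) * (pk Q g)⁻¹ = pk Q (g * k' * g⁻¹) at h1
    rw [map_mul, map_mul, map_inv] at h1
    exact mul_left_cancel (mul_right_cancel h1)

end Cfsg.Agent.Lib.Classical.AutPOmega
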