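import Cfsg.Agent.Lib.Classical.AutPOmega.Odd
import Mathlib.RingTheory.AdjoinRoot

/-!
Automorphisms of `PΩ`, part 13: the Frobenius map of the quadratic extension acting on an anisotropic
binary form.
-/

set_option autoImplicit false

namespace Cfsg.Agent.Lib.Classical.AutPOmega

open Polynomial

variable {F : Type*} [Field F] [Fintype F]

theorem exists_frob_binary {p f : ℕ} [Fact p.Prime] [CharP F p] (hF : Fintype.card F = p ^ f) (a b : F)
    (hab : ∀ z₁ z₂ : F, z₁ ^ 2 + a * z₁ * z₂ + b * z₂ ^ 2 = 0 → z₁ = 0 ∧ z₂ = 0) :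
    ∃ α β : F, β ≠ 0 ∧
      (∀ z : F × F, (z.1 ^ p + α * z.2 ^ p) ^ 2 + a * (z.1 ^ p + α * z.2 ^ p) * (β * z.2 ^ p) +
          b * (β * z.2 ^ p) ^ 2 = (z.1 ^ 2 + a * z.1 * z.2 + b * z.2 ^ 2) ^ p) ∧
      ∀ z : F × F, (fun z : F × F => (z.1 ^ p + α * z.2 ^ p, β * z.2 ^ p))^[f] z = (z.1 + a * z.2, -z.2) := by
  classical
  set P : F[X] := X ^ 2 + C a * X + C b with hP
  have hmonic : P.Monic := by rw [hP]; monicity!
  have hdeg : P.natDegree = 2 := by rw [hP]; compute_degree!
  haveI : Fact (Irreducible P) := ⟨by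
    rw [hmonic.irreducible_iff_roots_eq_zero_of_degree_le_three (by omega) (by omega)]
    refine Multiset.eq_zero_of_forall_notMem fun t ht => one_ne_zero (α := F) (hab t 1 ?_).2
    rw [mem_roots hmonic.ne_zero, IsRoot.def, hP] at ht
    simp only [eval_add, eval_pow, eval_X, eval_mul, eval_C] at ht
    linear_combination ht⟩
  set ι := AdjoinRoot.of P
  set ω := AdjoinRoot.root P
  have hω : ω ^ 2 + ι a * ω + ι b = 0 := by
    have h := AdjoinRoot.eval₂_root P
    rw [show P = X ^ 2 + C a * X + C b from hP, eval₂_add, eval₂_add, eval₂_pow, eval₂_X, eval₂_mul,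
      eval₂_C, eval₂_X, eval₂_C] at h
    exact h
  have hnot : ∀ t : F, ι t ≠ ω := fun t ht => by
    rw [← ht, ← map_pow, ← map_mul, ← map_add, ← map_add, map_eq_zero] at hω
    exact one_ne_zero (hab t 1 (by linear_combination hω)).2
  let φ : (F × F) →ₗ[F] AdjoinRoot P :=
    (Algebra.linearMap F (AdjoinRoot P)).comp (LinearMap.fst F F F) -
      (LinearMap.mulLeft F ω).comp ((Algebra.linearMap F (AdjoinRoot P)).comp (LinearMap.snd F F F))
  have hφ : ∀ z, φ z = ι z.1 - ω * ι z.2 := fun z => rfl
  have hinj : Function.Injective φ := by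
    rw [← LinearMap.ker_eq_bot, LinearMap.ker_eq_bot']
    intro z hz
    rw [hφ, sub_eq_zero] at hz
    by_cases h : z.2 = 0
    · rw [h, map_zero, mul_zero, map_eq_zero] at hz
      exact Prod.ext hz h
    · refine absurd ?_ (hnot (z.1 / z.2))
      rw [map_div₀, hz, mul_div_assoc, div_self ((map_ne_zero ι).mpr h), mul_one]
  haveI : FiniteDimensional F (AdjoinRoot P) := (AdjoinRoot.powerBasis hmonic.ne_zero).finite
  have hsurj : Function.Surjective φ := (LinearMap.injective_iff_surjective_of_finrank_eq_finrank (by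
    rw [(AdjoinRoot.powerBasis hmonic.ne_zero).finrank, AdjoinRoot.powerBasis_dim, hdeg, Module.finrank_prod,
      Module.finrank_self])).mp hinj
  haveI : CharP (AdjoinRoot P) p := (ι.charP_iff ι.injective p).mp inferInstance
  obtain ⟨c, hc⟩ := hsurj (ω ^ p)
  set α := -c.1
  set β := -c.2
  set L : F × F → F × F := fun z => (z.1 ^ p + α * z.2 ^ p, β * z.2 ^ p)
  have hL : ∀ z, φ (L z) = φ z ^ p := by
    intro z
    rw [hφ, hφ, sub_pow_char, mul_pow, ← map_pow, ← map_pow, ← hc, hφ]
    simp only [L, α, β, map_add, map_mul, map_neg]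
    ring
  have hit : ∀ k z, φ (L^[k] z) = φ z ^ p ^ k := by
    intro k
    induction k with
    | zero => intro z; simp
    | succ k ih => intro z; rw [Function.iterate_succ_apply', hL, ih, ← pow_mul, ← pow_succ]
  have hroot : ∀ x : AdjoinRoot P, x ^ 2 + ι a * x + ι b = 0 → x = ω ∨ x = -ι a - ω := by
    intro x hx
    have : (x - ω) * (x + ι a + ω) = 0 := by linear_combination hx - hω
    rcases mul_eq_zero.mp this with h | h
    · exact Or.inl (sub_eq_zero.mp h)
    · exact Or.inr (by linear_combination h)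
  have hq2 : 1 < Fintype.card F := Fintype.one_lt_card
  have hfix : ω ^ Fintype.card F ≠ ω := by
    intro hω'
    set Q : (AdjoinRoot P)[X] := X ^ Fintype.card F - X
    have hQ0 : Q ≠ 0 := FiniteField.X_pow_card_sub_X_ne_zero _ hq2
    have hsub : insert ω (Finset.univ.image ι) ⊆ Q.roots.toFinset := by
      intro x hx
      rw [Multiset.mem_toFinset, mem_roots hQ0, IsRoot.def]
      simp only [Q, eval_sub, eval_pow, eval_X]
      rcases Finset.mem_insert.mp hx with rfl | hx
      · rw [hω', sub_self]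
      · obtain ⟨t, -, rfl⟩ := Finset.mem_image.mp hx
        rw [← map_pow, FiniteField.pow_card, sub_self]
    have h1 := (Finset.card_le_card hsub).trans ((Multiset.toFinset_card_le _).trans (card_roots' Q))
    rw [Finset.card_insert_of_notMem (by simpa using hnot), Finset.card_image_of_injective _ ι.injective,
      Finset.card_univ, FiniteField.X_pow_card_sub_X_natDegree_eq _ hq2] at h1
    omega
  have hωq : ω ^ Fintype.card F = -ι a - ω := by
    refine (hroot _ ?_).resolve_left hfix
    have h := congrArg (iterateFrobenius (AdjoinRoot P) p f) hω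
    simp only [map_add, map_mul, map_pow, iterateFrobenius_def, map_zero, ← hF] at h
    rw [← map_pow ι, ← map_pow ι, FiniteField.pow_card, FiniteField.pow_card] at h
    exact h
  have hφq : ∀ z : F × F, φ z ^ Fintype.card F = φ (z.1 + a * z.2, -z.2) := by
    intro z
    rw [hφ, hφ, hF, sub_pow_char_pow, mul_pow, ← map_pow, ← map_pow, ← hF, FiniteField.pow_card,
      FiniteField.pow_card, hωq]
    simp only [map_add, map_mul, map_neg]
    ring
  have hN : ∀ z : F × F, φ z ^ (Fintype.card F + 1) = ι (z.1 ^ 2 + a * z.1 * z.2 + b * z.2 ^ 2) := by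
    intro z
    rw [pow_succ, hφq, hφ, hφ]
    simp only [map_add, map_mul, map_neg, map_pow]
    linear_combination (-ι z.2 ^ 2) * hω
  have hβ : β ≠ 0 := by
    intro h0
    have hLi : Function.Injective L := fun u v huv => by
      have h := congrArg φ huv
      rw [hL, hL, ← frobenius_def, ← frobenius_def] at h
      exact hinj (frobenius_inj _ p h)
    have hsur : Function.Surjective L := Finite.surjective_of_injective hLi
    obtain ⟨z, hz⟩ := hsur (0, 1)
    have := congrArg Prod.snd hz
    simp [L, h0] at this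
  refine ⟨α, β, hβ, fun z => ι.injective ?_, fun z => hinj ?_⟩
  · rw [map_pow, ← hN, ← hN (L z), hL, ← pow_mul, ← pow_mul, mul_comm]
  · rw [hit, ← hF, hφq]

end Cfsg.Agent.Lib.Classical.AutPOmega
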