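import Cfsg.Agent.Lib.Classical.AutPOmega.EvenDim
import Cfsg.Agent.Lib.Classical.AutPOmega.QuadExt
import Cfsg.Agent.Lib.Classical.AutPOmega.OutShape
import Cfsg.Agent.Lib.Geometry.OrthNegOne

/-!
Automorphisms of `PΩ`, part 16: the minus-type groups: order and outer automorphism group.
-/

set_option autoImplicit false

namespace Cfsg.Agent.Lib.Classical.AutPOmega

open QuadraticMap (polarBilin)
open Cfsg.Agent.Lib.Geometry (quad_smul exists_quad_class_vectors sqClass sqClass_eq_one_iff sqClass_eq_neg_one_iff)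
open Matrix

attribute [-simp] QuadraticMap.polarBilin_apply_apply

variable {F : Type*} [Field F]

/-- The minus-type form as a quadratic form. -/
noncomputable def minusR (m : ℕ) (a b : F) : QuadraticForm F ((Fin m ⊕ Fin m) ⊕ Fin 2 → F) :=
  (hyperForm m (binaryForm a b)).comp (minusEquiv m F).toLinearMap

theorem coe_minusR (m : ℕ) (a b : F) : Cfsg.quadFormMinus m F a b = ⇑(minusR m a b) :=
  funext fun v => quadFormMinus_eq_hyper m a b v

theorem minusR_apply (m : ℕ) (a b : F) (v : (Fin m ⊕ Fin m) ⊕ Fin 2 → F) :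
    minusR m a b v = (∑ i : Fin m, v (.inl (.inl i)) * v (.inl (.inr i))) +
      (v (.inr 0) ^ 2 + a * v (.inr 0) * v (.inr 1) + b * v (.inr 1) ^ 2) :=
  (congrFun (coe_minusR m a b) v).symm

theorem card_minus_index (m : ℕ) : Fintype.card ((Fin m ⊕ Fin m) ⊕ Fin 2) = 2 * (m + 1) := by
  simp; omega

variable [Fintype F] {m : ℕ} {a b : F}

theorem model_minus (hm : 3 ≤ m) (hab : ∀ z₁ z₂ : F, z₁ ^ 2 + a * z₁ * z₂ + b * z₂ ^ 2 = 0 → z₁ = 0 ∧ z₂ = 0) :
    Model (minusR m a b) :=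
  model_of_hyper _ (binaryForm_nondegenerate a b hab) hm (noTriality_minus a b hab) (minusEquiv m F)

theorem binary_universal (hab : ∀ z₁ z₂ : F, z₁ ^ 2 + a * z₁ * z₂ + b * z₂ ^ 2 = 0 → z₁ = 0 ∧ z₂ = 0) (c : F) :
    ∃ z : F × F, z.1 ^ 2 + a * z.1 * z.2 + b * z.2 ^ 2 = c := by
  by_cases h2 : (2 : F) = 0
  · haveI : CharP F 2 := CharTwo.of_one_ne_zero_of_two_eq_zero one_ne_zero h2
    obtain ⟨s, hs⟩ := FiniteField.isSquare_of_char_two (ringChar.eq F 2) c
    exact ⟨(s, 0), by rw [hs]; ring⟩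
  · obtain ⟨v, w, hv, hw, hw0⟩ := exists_quad_class_vectors (binaryForm a b) (binaryForm_nondegenerate a b hab) h2
      (by rw [Module.finrank_prod, Module.finrank_self])
    suffices ∃ z, binaryForm a b z = c by
      obtain ⟨z, hz⟩ := this
      exact ⟨z, by rwa [binaryForm_apply] at hz⟩
    by_cases hc : IsSquare c
    · obtain ⟨t, rfl⟩ := hc
      exact ⟨t • v, by rw [quad_smul, hv, mul_one]⟩
    · have hc0 : c ≠ 0 := fun e => hc (e ▸ IsSquare.zero)
      have hch : ringChar F ≠ 2 := fun e => h2 (by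
        haveI := (ringChar.eq_iff).mp e; exact CharTwo.two_eq_zero)
      have hp : ∀ x : F, x ≠ 0 → ¬ IsSquare x → x ^ (Fintype.card F / 2) = -1 := fun x hx hns =>
        ((FiniteField.pow_dichotomy hch hx).resolve_left fun e => hns ((FiniteField.isSquare_iff hch hx).mpr e))
      obtain ⟨t, ht⟩ : IsSquare (c / binaryForm a b w) := by
        rw [FiniteField.isSquare_iff hch (div_ne_zero hc0 hw0), div_pow, hp c hc0 hc, hp _ hw0 hw, div_self]
        exact neg_ne_zero.mpr one_ne_zero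
      exact ⟨t • w, by rw [quad_smul, ← ht, div_mul_cancel₀ _ hw0]⟩

theorem minus_multS_surjective (hm : 3 ≤ m)
    (hab : ∀ z₁ z₂ : F, z₁ ^ 2 + a * z₁ * z₂ + b * z₂ ^ 2 = 0 → z₁ = 0 ∧ z₂ = 0) :
    Function.Surjective (multS (model_minus (a := a) (b := b) hm hab).toModel0) := fun c => by
  obtain ⟨⟨α, β⟩, hN⟩ := binary_universal hab (c : F)
  simp only at hN
  let A : Matrix ((Fin m ⊕ Fin m) ⊕ Fin 2) ((Fin m ⊕ Fin m) ⊕ Fin 2) F :=
    Matrix.fromBlocks (Matrix.diagonal (Sum.elim (fun _ => (c : F)) fun _ => 1)) 0 0 !![α, -b * β; β, α + a * β]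
  have hA : ∀ v, minusR m a b (A *ᵥ v) = c * minusR m a b v := by
    intro v
    rw [minusR_apply, minusR_apply]
    simp [A, Matrix.fromBlocks_mulVec, Matrix.mulVec_diagonal, Matrix.mulVec, dotProduct, Fin.sum_univ_two,
      Matrix.diagonal_apply]
    rw [mul_add (c : F), Finset.mul_sum]
    congr 1
    · exact Finset.sum_congr rfl fun i _ => by ring
    · linear_combination (v (.inr 0) ^ 2 + a * v (.inr 0) * v (.inr 1) + b * v (.inr 1) ^ 2) * hN
  have hdet : A.det ≠ 0 := by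
    rw [Matrix.det_fromBlocks_zero₂₁, Matrix.det_diagonal, Matrix.det_fin_two]
    refine mul_ne_zero (Finset.prod_ne_zero_iff.mpr fun i _ => ?_) ?_
    · rcases i with i | i <;> simp
    · intro h
      apply c.ne_zero
      rw [← hN, ← h]
      simp; ring
  exact ⟨⟨GeneralLinearGroup.mkOfDetNeZero A hdet, c, hA⟩,
    Units.ext (multS_eq (model_minus hm hab) (g := ⟨GeneralLinearGroup.mkOfDetNeZero A hdet, c, hA⟩) hA)⟩

theorem exists_frobL {p f : ℕ} [Fact p.Prime] [CharP F p] (hF : Fintype.card F = p ^ f)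
    (hab : ∀ z₁ z₂ : F, z₁ ^ 2 + a * z₁ * z₂ + b * z₂ ^ 2 = 0 → z₁ = 0 ∧ z₂ = 0) :
    ∃ g : GL ((Fin m ⊕ Fin m) ⊕ Fin 2) F,
      (∀ v, minusR m a b ((g : Matrix _ _ F) *ᵥ fun i => frobeniusEquiv F p (v i)) =
        frobeniusEquiv F p (minusR m a b v)) ∧
      (minusR m a b (Sum.elim 0 ![a, -2]) ≠ 0) ∧
      ∀ v, (fun w : (Fin m ⊕ Fin m) ⊕ Fin 2 → F => (g : Matrix _ _ F) *ᵥ fun i => frobeniusEquiv F p (w i))^[f] v =
        ((reflI (minusR m a b) (Sum.elim 0 ![a, -2]) : GL ((Fin m ⊕ Fin m) ⊕ Fin 2) F) : Matrix _ _ F) *ᵥ v := by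
  obtain ⟨α, β, hβ, hN, hit⟩ := exists_frob_binary hF a b hab
  let A : Matrix ((Fin m ⊕ Fin m) ⊕ Fin 2) ((Fin m ⊕ Fin m) ⊕ Fin 2) F :=
    Matrix.fromBlocks 1 0 0 !![1, α; 0, β]
  have hdet : A.det ≠ 0 := by
    rw [Matrix.det_fromBlocks_zero₂₁, Matrix.det_one, one_mul, Matrix.det_fin_two]
    simpa using hβ
  set L : ((Fin m ⊕ Fin m) ⊕ Fin 2 → F) → ((Fin m ⊕ Fin m) ⊕ Fin 2 → F) :=
    fun w => A *ᵥ fun i => frobeniusEquiv F p (w i) with hL
  have hL1 : ∀ w i, L w (.inl i) = w (.inl i) ^ p := fun w i => by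
    simp [L, A, Matrix.fromBlocks_mulVec, frobenius_def]
  have hL2 : ∀ w, L w (.inr 0) = w (.inr 0) ^ p + α * w (.inr 1) ^ p ∧ L w (.inr 1) = β * w (.inr 1) ^ p :=
    fun w => by
    constructor <;>
      simp [L, A, Matrix.fromBlocks_mulVec, Matrix.mulVec, dotProduct, Fin.sum_univ_two, frobenius_def]
  have hk : ∀ k v, (∀ i, L^[k] v (.inl i) = v (.inl i) ^ p ^ k) ∧
      (L^[k] v (.inr 0), L^[k] v (.inr 1)) =
        (fun z : F × F => (z.1 ^ p + α * z.2 ^ p, β * z.2 ^ p))^[k] (v (.inr 0), v (.inr 1)) := by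
    intro k
    induction k with
    | zero => intro v; simp
    | succ k ih =>
      intro v
      refine ⟨fun i => ?_, ?_⟩
      · rw [Function.iterate_succ_apply', hL1, (ih v).1, ← pow_mul, ← pow_succ]
      · rw [Function.iterate_succ_apply', Function.iterate_succ_apply', ← (ih v).2, (hL2 _).1, (hL2 _).2]
  have hw : minusR m a b (Sum.elim 0 ![a, -2]) = 4 * b - a ^ 2 := by
    rw [minusR_apply]; simp; ring
  have hw0 : 4 * b - a ^ 2 ≠ 0 := by
    intro h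
    have h4 : a ^ 2 + a * a * (-2) + b * (-2) ^ 2 = 0 := by linear_combination h
    obtain ⟨ha, h2⟩ := hab a (-2) h4
    haveI : CharP F 2 := CharTwo.of_one_ne_zero_of_two_eq_zero one_ne_zero (neg_eq_zero.mp h2)
    obtain ⟨s, hs⟩ := FiniteField.isSquare_of_char_two (ringChar.eq F 2) (-b)
    exact one_ne_zero (hab s 1 (by rw [ha]; linear_combination -hs)).2
  refine ⟨GeneralLinearGroup.mkOfDetNeZero A hdet, fun v => ?_, hw ▸ hw0, fun v => ?_⟩
  · show minusR m a b (L v) = _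
    rw [minusR_apply, minusR_apply, (hL2 v).1, (hL2 v).2, hN (v (.inr 0), v (.inr 1))]
    rw [map_add (frobeniusEquiv F p), map_sum]
    congr 1
    exact Finset.sum_congr rfl fun i _ => by simp [hL1, frobenius_def, mul_pow]
  · show L^[f] v = _
    rw [reflI_mulVec, hw]
    have hB : polarBilin (minusR m a b) (Sum.elim 0 ![a, -2]) v = (a ^ 2 - 4 * b) * v (.inr 1) := by
      rw [QuadraticMap.polarBilin_apply_apply, QuadraticMap.polar, minusR_apply, minusR_apply, minusR_apply]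
      simp; ring
    rw [hB, show (4 * b - a ^ 2)⁻¹ * ((a ^ 2 - 4 * b) * v (.inr 1)) = -v (.inr 1) by
      rw [show a ^ 2 - 4 * b = -(4 * b - a ^ 2) by ring, neg_mul, mul_neg, inv_mul_cancel_left₀ hw0]]
    have h0 := (hk f v).2
    rw [hit] at h0
    simp only [Prod.mk.injEq] at h0
    funext i
    rcases i with i | i
    · rw [(hk f v).1, ← hF, FiniteField.pow_card]
      simp
    · fin_cases i
      · show L^[f] v (.inr 0) = _
        rw [h0.1]
        simp; ring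
      · show L^[f] v (.inr 1) = _
        rw [h0.2]
        simp; ring

theorem negOne_mem_iff (hm : 3 ≤ m) (hab : ∀ z₁ z₂ : F, z₁ ^ 2 + a * z₁ * z₂ + b * z₂ ^ 2 = 0 → z₁ = 0 ∧ z₂ = 0)
    (hodd : Odd (Fintype.card F)) :
    negOne (minusR m a b) ∈ Cfsg.Omega F ⇑(minusR m a b) ↔ (Fintype.card F % 4 = 3 ∧ Odd (m + 1)) := by
  have h2 := odd_two_ne_zero hodd
  have hM := model_minus hm hab
  have hcard := card_minus_index m
  have h := Geometry.neg_one_mem_Omega_iff (minusR m a b) hM.nondeg h2 (by omega)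
  have hne : ∀ g : Cfsg.isometryGroup F ⇑(minusR m a b),
      ((g : GL ((Fin m ⊕ Fin m) ⊕ Fin 2) F) : Matrix ((Fin m ⊕ Fin m) ⊕ Fin 2) ((Fin m ⊕ Fin m) ⊕ Fin 2) F) = -1 ↔ g = negOne (minusR m a b) := by
    have hz : Matrix.scalar ((Fin m ⊕ Fin m) ⊕ Fin 2) ((-1 : Fˣ) : F) = -1 := by
      rw [Units.val_neg, Units.val_one, map_neg, map_one]
    exact fun g => ⟨fun e => Subtype.ext (Units.ext (e.trans hz.symm)), fun e => by rw [e]; exact hz⟩
  have hiff : (∃ g : Cfsg.isometryGroup F ⇑(minusR m a b), g ∈ Cfsg.Omega F ⇑(minusR m a b) ∧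
      ((g : GL ((Fin m ⊕ Fin m) ⊕ Fin 2) F) : Matrix ((Fin m ⊕ Fin m) ⊕ Fin 2) ((Fin m ⊕ Fin m) ⊕ Fin 2) F) = -1) ↔
      negOne (minusR m a b) ∈ Cfsg.Omega F ⇑(minusR m a b) :=
    ⟨fun ⟨g, hg, e⟩ => ((hne g).mp e) ▸ hg, fun hg => ⟨_, hg, (hne _).mpr rfl⟩⟩
  rw [← hiff, h, hcard]
  have hdet : (Matrix.of fun i j => polarBilin (minusR m a b) (Pi.single i 1) (Pi.single j 1)).det =
      (-1) ^ m * (4 * b - a ^ 2) := by
    rw [← Geometry.det_minusGram m a b]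
    congr 1
    ext i j
    rw [Matrix.of_apply, ← Geometry.polarBilin_matQuad_single]
    have hq : ∀ v, minusR m a b v = Geometry.matQuad (Geometry.minusMatrix m a b) v := fun v => by
      rw [← coe_minusR, Geometry.quadFormMinus_eq]
    simp [QuadraticMap.polarBilin_apply_apply, QuadraticMap.polar, hq]
  rw [hdet, show ((-1 : ℤˣ)) ^ (2 * (m + 1)) = 1 by rw [pow_mul]; simp, eq_self_iff_true, true_and,
    show (2 : F) ^ (2 * (m + 1)) * ((-1) ^ m * (4 * b - a ^ 2)) =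
      2 ^ (m + 1) * 2 ^ (m + 1) * ((-1) ^ (m + 1) * (a ^ 2 - 4 * b)) by ring,
    Geometry.sqClass_sq_mul _ (pow_ne_zero _ h2)]
  have hns := Geometry.discr_not_isSquare h2 hab
  have hd0 : a ^ 2 - 4 * b ≠ 0 := fun e => hns (e ▸ IsSquare.zero)
  rw [Geometry.sqClass_mul (pow_ne_zero _ (neg_ne_zero.mpr one_ne_zero)) hd0, sqClass_eq_neg_one_iff.mpr hns,
    mul_neg_one, neg_eq_iff_eq_neg, sqClass_eq_neg_one_iff, ← sqClass_eq_one_iff,
    Geometry.sqClass_neg_one_pow hodd]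
  have h13 : Fintype.card F % 4 = 1 ∨ Fintype.card F % 4 = 3 := by
    obtain ⟨k, hk⟩ := hodd; omega
  rw [Nat.pow_mod]
  rcases h13 with h | h <;> rw [h]
  · simp
  · rcases Nat.even_or_odd (m + 1) with he | he
    · obtain ⟨k, hk⟩ := he
      rw [hk, ← two_mul, pow_mul, Nat.pow_mod]
      simp [Nat.not_odd_iff_even]
    · obtain ⟨k, hk⟩ := he
      rw [hk, pow_succ, pow_mul, Nat.mul_mod, Nat.pow_mod]
      simp [parity_simps]

theorem card_range_dia_minus {p f : ℕ} [Fact p.Prime] (hF : Fintype.card F = p ^ f) (hf : 1 ≤ f) (hm : 3 ≤ m)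
    (hab : ∀ z₁ z₂ : F, z₁ ^ 2 + a * z₁ * z₂ + b * z₂ ^ 2 = 0 → z₁ = 0 ∧ z₂ = 0) :
    Nat.card (dia (minusR m a b)).range =
      (if p = 2 then 2 else if p ^ f % 4 = 3 ∧ Odd (m + 1) then 8 else 4) *
        Nat.card (Cfsg.POmega F ⇑(minusR m a b)) := by
  haveI : CharP F p := charP_of_card_eq_prime_pow hF
  haveI : Nonempty ((Fin m ⊕ Fin m) ⊕ Fin 2) := ⟨.inr 0⟩
  have hM := model_minus hm hab
  rw [card_range_dia_of_mult hM (minus_multS_surjective hm hab)]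
  obtain ⟨h1, h2, h3⟩ := card_POmega_mul (binaryForm a b) (binaryForm_nondegenerate a b hab) m hm (minusEquiv m F)
    ⇑(minusR m a b) (fun v => rfl)
  by_cases hp : p = 2
  · subst hp
    rw [if_pos rfl, h1 CharTwo.two_eq_zero]
  · have hodd : Odd (Fintype.card F) := hF ▸ ((Fact.out : p.Prime).odd_of_ne_two hp).pow
    rw [if_neg hp]
    have hne : ∀ g : Cfsg.isometryGroup F ⇑(minusR m a b),
        ((g : GL ((Fin m ⊕ Fin m) ⊕ Fin 2) F) : Matrix ((Fin m ⊕ Fin m) ⊕ Fin 2) ((Fin m ⊕ Fin m) ⊕ Fin 2) F) = -1 → g = negOne (minusR m a b) := fun g e =>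
      Subtype.ext (Units.ext (e.trans (by
        show _ = Matrix.scalar _ ((-1 : Fˣ) : F)
        rw [Units.val_neg, Units.val_one, map_neg, map_one])))
    by_cases hA : p ^ f % 4 = 3 ∧ Odd (m + 1)
    · rw [if_pos hA, h2 (odd_two_ne_zero hodd) ⟨negOne _, (negOne_mem_iff hm hab hodd).mpr (hF ▸ hA), by
        show Matrix.scalar _ ((-1 : Fˣ) : F) = -1
        rw [Units.val_neg, Units.val_one, map_neg, map_one]⟩]
    · rw [if_neg hA, h3 (odd_two_ne_zero hodd) fun ⟨g, hg, e⟩ =>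
        hA (hF ▸ (negOne_mem_iff hm hab hodd).mp (hne g e ▸ hg))]

theorem minus_pair_all {p f : ℕ} [Fact p.Prime] (hF : Fintype.card F = p ^ f) (hf : 1 ≤ f) (hm : 3 ≤ m)
    (hab : ∀ z₁ z₂ : F, z₁ ^ 2 + a * z₁ * z₂ + b * z₂ ^ 2 = 0 → z₁ = 0 ∧ z₂ = 0) (σ : F ≃+* F) :
    ∃ g, Cfsg.IsSemisimilarityPair (⇑(minusR m a b)) g σ := by
  haveI : CharP F p := charP_of_card_eq_prime_pow hF
  obtain ⟨g, hg, -, -⟩ := exists_frobL (m := m) hF hab
  have hp : Cfsg.IsSemisimilarityPair (⇑(minusR m a b)) g (frobeniusEquiv F p) :=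
    ⟨1, fun v => by rw [Units.val_one, one_mul]; exact hg v⟩
  have hσ : σ ∈ Subgroup.zpowers (frobeniusEquiv F p) := by rw [frob_generates hF hf]; trivial
  haveI : Finite (F ≃+* F) := Finite.of_injective (fun e : F ≃+* F => (e : F → F)) DFunLike.coe_injective
  obtain ⟨k, rfl⟩ := mem_powers_iff_mem_zpowers.mpr hσ
  obtain ⟨gk, hk, -, -⟩ := semAut_pow hp k
  exact ⟨gk, hk⟩

theorem card_mulAut_minus {p f : ℕ} [Fact p.Prime] (hF : Fintype.card F = p ^ f) (hf : 1 ≤ f) (hm : 3 ≤ m)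
    (hab : ∀ z₁ z₂ : F, z₁ ^ 2 + a * z₁ * z₂ + b * z₂ ^ 2 = 0 → z₁ = 0 ∧ z₂ = 0) :
    Nat.card (MulAut (Cfsg.POmega F ⇑(minusR m a b))) =
      (if p = 2 then 2 else if p ^ f % 4 = 3 ∧ Odd (m + 1) then 8 else 4) * f *
        Nat.card (Cfsg.POmega F ⇑(minusR m a b)) := by
  rw [card_mulAut hF (model_minus hm hab) (minus_pair_all hF hf hm hab), card_range_dia_minus hF hf hm hab]
  ring

end Cfsg.Agent.Lib.Classical.AutPOmega
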