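import Cfsg.Agent.Lib.Classical.AutPOmega.Descent
import Cfsg.Agent.Lib.Classical.AutPOmega.MinusOut

/-!
Automorphisms of `PΩ`, part 25: field and graph-field automorphisms of the plus-type groups.
-/

set_option autoImplicit false

namespace Cfsg.Agent.Lib.Classical.AutPOmega

open QuadraticMap (polarBilin)
open Cfsg.Agent.Lib.Geometry (quad_add quad_smul isometryEquiv)
open Matrix
open Module (finrank)

attribute [-simp] QuadraticMap.polarBilin_apply_apply

/-- The image of the class-preserving similarities. -/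
noncomputable def clsN {F : Type*} [Field F] [Fintype F] {ι : Type} [Fintype ι] [DecidableEq ι]
    {R : QuadraticForm F (ι → F)} (hM : Model0 R) {M : ℕ} (hι : Fintype.card ι = 2 * M) :
    Subgroup (MulAut (Cfsg.POmega F ⇑R)) := (clsS hM hι).ker.map (dia R)

variable {F : Type*} [Field F] [Fintype F] {m : ℕ}

/-- The reflection in `e₁ + f₁`. -/
def plusVec (m : ℕ) (F : Type*) [Field F] (i : Fin m) : Fin m ⊕ Fin m → F :=
  Sum.elim (Pi.single i 1) (Pi.single i 1)

theorem plusR_plusVec (i : Fin m) : plusR m F (plusVec m F i) = 1 := by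
  simp [plusR_apply, plusVec, Pi.single_apply]

theorem plusVec_fixed (σ : F ≃+* F) (i : Fin m) : (fun l => σ (plusVec m F i l)) = plusVec m F i := by
  funext l
  rcases l with l | l <;> simp [plusVec, Pi.single_apply, apply_ite σ]

theorem plus_preserves_cls (hm : 3 ≤ m) (g : Cfsg.Geo.quadSimilarityGroup (F := F) ⇑(plusR m F)) :
    Cfsg.PreservesSingularClasses (⇑(plusR m F)) (g.1 : Matrix (Fin m ⊕ Fin m) (Fin m ⊕ Fin m) F) ↔
      clsS (model0_plus hm) (card_plus_index m) g = 1 := by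
  have hM := model0_plus (F := F) hm
  by_cases h2 : (2 : F) = 0
  · set u := sqrtU h2 (multS hM g)
    have hfix : Cfsg.imageSubmodule ((GeneralLinearGroup.scalar (Fin m ⊕ Fin m) u : GL _ F) :
        Matrix (Fin m ⊕ Fin m) (Fin m ⊕ Fin m) F) (plusU m F) = plusU m F :=
      imageSubmodule_eq_of_mapsTo _ fun v hv => by rw [scG_mulVec]; exact Submodule.smul_mem _ _ hv
    have hg : g.1 = GeneralLinearGroup.scalar (Fin m ⊕ Fin m) u * (isoPart hM h2 g).1 :=
      congrArg Subtype.val (isoPart_spec hM h2 g)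
    rw [clsS_two hM _ h2, hg]
    exact preserves_iff_dickson hM.nondeg (Or.inr hM.dim) (card_plus_index m) (plusU_spec m).1 (plusU_spec m).2
      (c := (u : F) * u) (fun v => by rw [scG_mulVec, quad_smul]) hfix _
  · have hodd : Odd (Fintype.card F) := by
      rcases Nat.even_or_odd (Fintype.card F) with he | ho
      · exfalso
        apply h2
        haveI : CharP F 2 := by
          have := FiniteField.even_card_iff_char_two.mpr (Nat.even_iff.mp he)
          exact (ringChar.eq_iff).mp this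
        exact CharTwo.two_eq_zero
      · exact ho
    rw [plus_preserves_iff hodd hm g, clsS_odd hM _ h2]

theorem inndiag_plus_cls (hm : 3 ≤ m) :
    Cfsg.autSubgroupOf (fun β => ∃ g : GL (Fin m ⊕ Fin m) F,
      g ∈ Cfsg.Geo.quadSimilarityGroup (F := F) ⇑(plusR m F) ∧
      Cfsg.PreservesSingularClasses (⇑(plusR m F)) (g : Matrix (Fin m ⊕ Fin m) (Fin m ⊕ Fin m) F) ∧
      Cfsg.IsInducedBySemilinearPOmega (⇑(plusR m F)) g (RingEquiv.refl F) β) =
      clsN (model0_plus hm) (card_plus_index m) := by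
  refine le_antisymm ((Subgroup.closure_le _).mpr ?_) ?_
  · rintro β ⟨g, hg, hpres, hind⟩
    exact ⟨⟨g, hg⟩, (plus_preserves_cls hm ⟨g, hg⟩).mp hpres, (eq_semAut (pair_of_sim hg) hind).symm⟩
  · rintro _ ⟨g, hg, rfl⟩
    exact Subgroup.subset_closure ⟨g.1, g.2, (plus_preserves_cls hm g).mpr hg, isInduced_semAut _ _ _⟩

/-- Transport of a property from the bundled form. -/
theorem inndiag_plus_transfer' (hm : 3 ≤ m)
    (P : ∀ Q : (Fin m ⊕ Fin m → F) → F, Subgroup (MulAut (Cfsg.POmega F Q)) → Prop)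
    (h : P ⇑(plusR m F) (clsN (model0_plus hm) (card_plus_index m))) :
    P (Cfsg.quadFormPlus m F) (Cfsg.inndiagPOmegaPlus m F) := by
  rw [← inndiag_plus_cls hm] at h
  have key : ∀ Q : (Fin m ⊕ Fin m → F) → F, ⇑(plusR m F) = Q → P Q (Cfsg.autSubgroupOf fun β => ∃ g : GL (Fin m ⊕ Fin m) F,
      g ∈ Cfsg.Geo.quadSimilarityGroup (F := F) Q ∧
      Cfsg.PreservesSingularClasses Q (g : Matrix (Fin m ⊕ Fin m) (Fin m ⊕ Fin m) F) ∧
      Cfsg.IsInducedBySemilinearPOmega Q g (RingEquiv.refl F) β) := by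
    rintro Q rfl; exact h
  exact key _ (coe_plusR m F).symm

section Twist

variable (hm : 3 ≤ m) {σ : F ≃+* F} {r : ℕ}

theorem clsS_galT (a : Cfsg.Geo.quadSimilarityGroup (F := F) ⇑(plusR m F)) :
    clsS (model0_plus hm) (card_plus_index m) (galT (plusR_map σ) a) =
      clsS (model0_plus hm) (card_plus_index m) a :=
  clsS_baseS (baseMap_gal (plusR_map σ)) _ _ _ _ a

include hm in
theorem cls_of_hyp {K : Subfield F} (hK : ∀ t, t ∈ K ↔ σ t = t)
    {a : Cfsg.Geo.quadSimilarityGroup (F := F) ⇑(plusR m F)} {Q : QuadraticForm K (Fin m ⊕ Fin m → K)}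
    (hd : Descends (σ := σ) a K Q) (hQ : IsHyp Q m) : clsS (model0_plus hm) (card_plus_index m) a = 1 := by
  haveI : Fintype K := Fintype.ofFinite K
  have hd₀ := descends_one (σ := σ) (R := plusR m F) (plusR_map σ) hK (Q := plusR m K) (model0_plus hm).nondeg
    (fun w => by simp [plusR_apply])
  obtain ⟨u, k, hk⟩ := twist_of_same_type (plusR_map σ) (card_plus_index m) (by omega) hK hd hd₀
    (iff_of_true hQ (isHyp_plusR m))
  rw [hk, map_mul, clsS_scG, map_mul, map_mul, map_one, map_inv, clsS_galT hm]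
  group

include hm in
theorem plus_type (hr : r.Prime) (hσr : σ ^ r = 1) (hne : σ ≠ 1) {K : Subfield F} (hK : ∀ t, t ∈ K ↔ σ t = t)
    {a : Cfsg.Geo.quadSimilarityGroup (F := F) ⇑(plusR m F)} {Q : QuadraticForm K (Fin m ⊕ Fin m → K)}
    (hd : Descends (σ := σ) a K Q) : IsHyp Q m ↔ clsS (model0_plus hm) (card_plus_index m) a = 1 := by
  haveI : Fintype K := Fintype.ofFinite K
  refine ⟨cls_of_hyp hm hK hd, fun hcls => ?_⟩
  by_contra hQ
  rcases hr.eq_two_or_odd' with rfl | hro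
  · have i₀ : Fin m := ⟨0, by omega⟩
    set v := plusVec m F i₀
    set r₀ := isoG (plusR m F) (reflI (plusR m F) v)
    have hv : plusR m F v ≠ 0 := by rw [plusR_plusVec]; exact one_ne_zero
    have hfix : galT (plusR_map σ) r₀ = r₀ := by
      show baseS _ _ = _
      rw [baseS_refl, Matrix.one_mulVec]
      congr 2
      exact plusVec_fixed σ i₀
    have hprod : prodT (plusR_map σ) r₀ 2 = scG (plusR m F) 1 := by
      simp only [prodT, map_one, mul_one, hfix]
      show isoG _ _ * isoG _ _ = 1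
      rw [← map_mul, reflI_mul_self, map_one]
    obtain ⟨Q₀, hd₀⟩ := exists_descends (plusR_map σ) ⟨Sum.inl i₀⟩ (model0_plus hm).nondeg hr hσr hne hK r₀ hprod
    have h0 : ¬ IsHyp Q₀ m := fun h => by
      have := cls_of_hyp hm hK hd₀ h
      rw [clsS_refl _ _ hv] at this
      exact absurd this (by decide)
    obtain ⟨u, k, hk⟩ := twist_of_same_type (plusR_map σ) (card_plus_index m) (by omega) hK hd hd₀ (iff_of_false hQ h0)
    rw [hk, map_mul, clsS_scG, map_mul, map_mul, map_inv, clsS_galT hm, clsS_refl _ _ hv] at hcls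
    rcases Int.units_eq_one_or (clsS (model0_plus hm) (card_plus_index m) k) with e | e <;> rw [e] at hcls <;>
      exact absurd hcls (by decide)
  · obtain ⟨j, hj⟩ : ∃ j, m = j + 1 := ⟨m - 1, by omega⟩
    subst hj
    have hf : finrank K (Fin (j + 1) ⊕ Fin (j + 1) → K) = 2 * (j + 1) := by
      rw [Module.finrank_fintype_fun_eq_card, card_plus_index]
    rcases QuadFin.exists_normal_basis Q hd.1 (by omega) hf with ⟨B, hB⟩ | ⟨B, ζ, hB⟩
    · exact hQ (isHyp_of_hypBasis hB)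
    · obtain ⟨L, c, hc, hL⟩ := descends_extend hd B.equivFun.symm
        (fun v => by rw [ell_eq hB, LinearEquiv.apply_symm_apply]) (Q'F := minusR (j + 1 - 1) 1 (ζ : F))
        (fun v => by simp [minusR_apply])
      have hroot : ∀ t : F, t ^ 2 + 1 * t + (ζ : F) ≠ 0 := by
        intro t ht
        have hfix := root_fixed_of_odd hro hσr (map_one σ) ((hK _).mp ζ.2) ht
        refine hB.1 ⟨t, (hK _).mpr hfix⟩ (Subtype.ext ?_)
        rw [one_mul] at ht
        exact ht
      exact not_isHyp_minusR j (anisotropic_of_no_root hroot)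
        ((isHyp_congr L hc hL (j + 1)).mpr (isHyp_plusR _))

include hm in
/-- Elements of one class in a coset over `σ` are conjugate. -/
theorem plus_conj (hr : r.Prime) (hσr : σ ^ r = 1) (hne : σ ≠ 1)
    {a a₀ c₁ : Cfsg.Geo.quadSimilarityGroup (F := F) ⇑(plusR m F)}
    (ha : (dia (plusR m F) a * phiT (plusR_map σ)) ^ r = 1)
    (ha₀ : (dia (plusR m F) a₀ * phiT (plusR_map σ)) ^ r = 1)
    (hcls : clsS (model0_plus hm) (card_plus_index m) a = clsS (model0_plus hm) (card_plus_index m) a₀)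
    (hc₁ : clsS (model0_plus hm) (card_plus_index m) c₁ = -1)
    (hfix : c₁ * a₀ * (galT (plusR_map σ) c₁)⁻¹ = a₀) :
    ∃ k ∈ clsN (model0_plus (F := F) hm) (card_plus_index m),
      dia (plusR m F) a * phiT (plusR_map σ) = k * (dia (plusR m F) a₀ * phiT (plusR_map σ)) * k⁻¹ := by
  have hM := model0_plus (F := F) hm
  obtain ⟨K, hK⟩ := exists_fixed_field σ
  obtain ⟨c, hc⟩ := (prodT_eq_scalar_iff (plusR_map σ) hM hσr a).mp ha
  obtain ⟨c₀, hc₀⟩ := (prodT_eq_scalar_iff (plusR_map σ) hM hσr a₀).mp ha₀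
  have hne' : Nonempty (Fin m ⊕ Fin m) := ⟨Sum.inl ⟨0, by omega⟩⟩
  obtain ⟨Q, hd⟩ := exists_descends (plusR_map σ) hne' hM.nondeg hr hσr hne hK a hc
  obtain ⟨Q₀, hd₀⟩ := exists_descends (plusR_map σ) hne' hM.nondeg hr hσr hne hK a₀ hc₀
  obtain ⟨u, k, hk⟩ := twist_of_same_type (plusR_map σ) (card_plus_index m) (by omega) hK hd hd₀
    (by rw [plus_type hm hr hσr hne hK hd, plus_type hm hr hσr hne hK hd₀, hcls])
  rcases Int.units_eq_one_or (clsS hM (card_plus_index m) k) with e | e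
  · exact ⟨_, ⟨k, e, rfl⟩, conj_phiT (plusR_map σ) hM hk⟩
  · have hk' : a = scG (plusR m F) u * (k * c₁ * a₀ * (galT (plusR_map σ) (k * c₁))⁻¹) := by
      rw [hk]
      congr 1
      conv_lhs => rw [← hfix]
      rw [map_mul, _root_.mul_inv_rev]
      simp only [mul_assoc]
    exact ⟨_, ⟨k * c₁, show clsS hM (card_plus_index m) (k * c₁) = 1 by rw [map_mul, e, hc₁]; decide, rfl⟩,
      conj_phiT (plusR_map σ) hM hk'⟩

end Twist

/-! ### The classes -/

theorem phiT_eq_fldHom (σ : F ≃+* F) :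
    phiT (R := plusR m F) (plusR_map σ) = fldHom (plusR m F) (fun τ => plusR_map τ) σ := rfl

/-- Conjugates of `dia a φ` keep the class of `a`. -/
theorem plus_conj_form (hm : 5 ≤ m) (α : MulAut (Cfsg.POmega F ⇑(plusR m F))) (σ : F ≃+* F)
    (a : Cfsg.Geo.quadSimilarityGroup (F := F) ⇑(plusR m F)) :
    ∃ a', α * (dia (plusR m F) a * phiT (plusR_map σ)) * α⁻¹ = dia (plusR m F) a' * phiT (plusR_map σ) ∧
      clsS (model0_plus (by omega)) (card_plus_index m) a' = clsS (model0_plus (by omega)) (card_plus_index m) a := by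
  have hM := model_plus (F := F) hm
  obtain ⟨g, τ, hp, rfl⟩ := pair_semisim hM α
  have hg : g ∈ Cfsg.Geo.quadSimilarityGroup (F := F) ⇑(plusR m F) := by
    obtain ⟨c, hc⟩ := hp
    refine ⟨c, fun v => ?_⟩
    have := hc fun i => τ.symm (v i)
    rw [show (fun i => τ (τ.symm (v i))) = v from funext fun i => τ.apply_symm_apply _] at this
    rw [this, ← plusR_map τ, show (fun i => τ (τ.symm (v i))) = v from funext fun i => τ.apply_symm_apply _]
  set gS : Cfsg.Geo.quadSimilarityGroup (F := F) ⇑(plusR m F) := ⟨g, hg⟩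
  have hα : semAut g τ hp = dia (plusR m F) gS * phiT (plusR_map τ) := by
    show semAut g τ hp = semAut _ _ _ * semAut _ _ _
    rw [semAut_mul]
    exact semAut_congr _ _ (by rw [map_one, mul_one]) (one_mul τ).symm
  refine ⟨gS * galT (plusR_map τ) a * (galT (plusR_map σ) gS)⁻¹, ?_, ?_⟩
  · have hcomm : phiT (R := plusR m F) (plusR_map τ) * phiT (plusR_map σ) = phiT (plusR_map σ) * phiT (plusR_map τ) := by
      haveI : Fact (ringChar F).Prime := ⟨CharP.char_is_prime F (ringChar F)⟩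
      obtain ⟨f, -, hF⟩ := FiniteField.card F (ringChar F)
      haveI := (AutPSL.gal_cyclic_card (F := F) hF).1
      rw [phiT_eq_fldHom, phiT_eq_fldHom, ← map_mul, ← map_mul]
      congr 1
      exact (IsCyclic.commutative (α := F ≃+* F)).is_comm.comm τ σ
    calc semAut g τ hp * (dia (plusR m F) a * phiT (plusR_map σ)) * (semAut g τ hp)⁻¹
        = dia (plusR m F) gS * (dia (plusR m F) (galT (plusR_map τ) a) * phiT (plusR_map σ)) * (dia (plusR m F) gS)⁻¹ := by
          rw [hα, mul_assoc (dia (plusR m F) gS) (phiT _), ← mul_assoc (phiT (plusR_map τ)) (dia (plusR m F) a), phiT_mul_dia,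
            mul_assoc (dia (plusR m F) (galT (plusR_map τ) a)), hcomm]
          group
      _ = _ := by
          rw [mul_assoc (dia (plusR m F) gS), mul_assoc (dia (plusR m F) (galT _ a)), ← map_inv (dia (plusR m F)) gS, phiT_mul_dia,
            map_inv (galT (plusR_map σ)) gS, ← mul_assoc (dia (plusR m F) (galT _ a)), ← mul_assoc (dia (plusR m F) gS), ← map_mul,
            ← map_mul, ← mul_assoc gS]
  · rw [map_mul, map_mul, map_inv, clsS_galT (by omega : 3 ≤ m), clsS_galT (by omega : 3 ≤ m)]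
    rw [mul_right_comm, mul_inv_cancel, one_mul]

theorem galPart_dia_phiT (hm : 5 ≤ m) (σ : F ≃+* F) (a : Cfsg.Geo.quadSimilarityGroup (F := F) ⇑(plusR m F)) :
    galPart (model_plus hm) (dia (plusR m F) a * phiT (plusR_map σ)) = σ := by
  rw [map_mul, galPart_dia, one_mul]
  exact galPart_semAut _ _

theorem reflI_fixed {v : Fin m ⊕ Fin m → F} {σ : F ≃+* F} (hv : ∀ i, σ (v i) = v i) :
    galT (plusR_map σ) (isoG (plusR m F) (reflI (plusR m F) v)) = isoG (plusR m F) (reflI (plusR m F) v) := by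
  show baseS _ _ = _
  rw [baseS_refl, Matrix.one_mulVec]
  congr 2
  exact funext hv

theorem prodT_of_fixed {σ : F ≃+* F} {g : Cfsg.Geo.quadSimilarityGroup (F := F) ⇑(plusR m F)}
    (hg : galT (plusR_map σ) g = g) (k : ℕ) : prodT (plusR_map σ) g k = g ^ k := by
  induction k with
  | zero => rfl
  | succ k ih => rw [prodT, ih, map_pow, hg, pow_succ']

/-- The shape of field and graph-field automorphisms of prime order. -/
theorem plus_class_shape (hm : 5 ≤ m) {x : MulAut (Cfsg.POmega F ⇑(plusR m F))}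
    (hx : Cfsg.IsFieldAutClassPOmega (⇑(plusR m F)) x ∨
      ∃ (α γ φ : MulAut (Cfsg.POmega F ⇑(plusR m F))) (σ : F ≃+* F) (v : Fin m ⊕ Fin m → F)
        (g : GL (Fin m ⊕ Fin m) F),
        σ ≠ RingEquiv.refl F ∧ plusR m F v ≠ 0 ∧ (∀ i, σ (v i) = v i) ∧
        (g : Matrix (Fin m ⊕ Fin m) (Fin m ⊕ Fin m) F) = Cfsg.reflectionMatrix (⇑(plusR m F)) v ∧
        Cfsg.IsInducedBySemilinearPOmega (⇑(plusR m F)) g (RingEquiv.refl F) γ ∧
        Cfsg.IsFieldAutPOmegaOf (⇑(plusR m F)) σ φ ∧ α * x * α⁻¹ = γ * φ)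
    {r : ℕ} (hr : r.Prime) (hxr : orderOf x = r) :
    ∃ (σ : F ≃+* F) (a a₀ c₁ : Cfsg.Geo.quadSimilarityGroup (F := F) ⇑(plusR m F)),
      σ ≠ 1 ∧ σ ^ r = 1 ∧ x = dia (plusR m F) a * phiT (plusR_map σ) ∧
      clsS (model0_plus (by omega)) (card_plus_index m) a = clsS (model0_plus (by omega)) (card_plus_index m) a₀ ∧
      (dia (plusR m F) a₀ * phiT (plusR_map σ)) ^ r = 1 ∧
      clsS (model0_plus (by omega)) (card_plus_index m) c₁ = -1 ∧ c₁ * a₀ * (galT (plusR_map σ) c₁)⁻¹ = a₀ ∧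
      (a₀ = 1 ∨
        (r = 2 ∧ clsS (model0_plus (by omega)) (card_plus_index m) a₀ = -1)) := by
  have hM := model_plus (F := F) hm
  have hσr : ∀ {σ : F ≃+* F} {a}, x = dia (plusR m F) a * phiT (plusR_map σ) → σ ^ r = 1 := fun {σ a} h => by
    rw [← galPart_dia_phiT hm σ a, ← h, ← map_pow, ← hxr, pow_orderOf_eq_one, map_one]
  rcases hx with hx | ⟨α, γ, φ, σ, v, g, hσ, hv, hfv, hg, hγ, hφ, hx⟩
  · obtain ⟨σ, α, hσ, hx⟩ := exists_standard (R := plusR m F) (fun τ => plusR_map τ) hx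
    obtain ⟨a', ha', hcls⟩ := plus_conj_form hm α σ 1
    rw [map_one, one_mul, phiT_eq_fldHom, ← hx] at ha'
    have i₀ : Fin m := ⟨0, by omega⟩
    refine ⟨σ, a', 1, isoG (plusR m F) (reflI (plusR m F) (plusVec m F i₀)), hσ, hσr ha', ha', hcls, ?_, ?_, ?_,
      Or.inl rfl⟩
    · rw [map_one, one_mul]; exact phiT_pow_eq_one _ (hσr ha')
    · exact clsS_refl _ _ (by rw [plusR_plusVec]; exact one_ne_zero)
    · rw [reflI_fixed (fun i => congrFun (plusVec_fixed σ i₀) i), mul_one, mul_inv_cancel]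
  · set r₀ := isoG (plusR m F) (reflI (plusR m F) v)
    have hγ' : γ = dia (plusR m F) r₀ := by
      have hgr : g = (reflI (plusR m F) v).1 := Units.ext (hg.trans (reflI_matrix v).symm)
      subst hgr
      exact eq_semAut (pair_of_sim r₀.2) hγ
    have hφ' : φ = phiT (plusR_map σ) := fldHom_eq (R := plusR m F) (fun τ => plusR_map τ) hφ
    obtain ⟨a', ha', hcls⟩ := plus_conj_form hm α⁻¹ σ r₀
    have hx' : x = α⁻¹ * (dia (plusR m F) r₀ * phiT (plusR_map σ)) * α⁻¹⁻¹ := by rw [← hγ', ← hφ', ← hx]; group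
    rw [← hx'] at ha'
    have hfix := reflI_fixed (m := m) (σ := σ) hfv
    have hcr : clsS hM.toModel0 (card_plus_index m) r₀ = -1 := clsS_refl _ _ hv
    have hpow : (dia (plusR m F) r₀ * phiT (plusR_map σ)) ^ r = 1 := by
      have : (α⁻¹ * (dia (plusR m F) r₀ * phiT (plusR_map σ)) * α⁻¹⁻¹) ^ r = 1 := by rw [← hx', ← hxr, pow_orderOf_eq_one]
      rwa [conj_pow, mul_inv_eq_one, mul_eq_left] at this
    refine ⟨σ, a', r₀, r₀, hσ, hσr ha', ha', hcls, hpow, hcr, ?_, Or.inr ⟨?_, hcr⟩⟩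
    · rw [hfix, mul_inv_cancel_right]
    · refine hr.eq_two_or_odd'.resolve_right fun hro => ?_
      obtain ⟨c, hc⟩ := (prodT_eq_scalar_iff (plusR_map σ) hM.toModel0 (hσr ha') r₀).mp hpow
      have h1 := congrArg (clsS hM.toModel0 (card_plus_index m)) hc
      rw [prodT_of_fixed hfix, map_pow, hcr, hro.neg_one_pow, clsS_scG] at h1
      exact absurd h1 (by decide)

/-- Elements of prime order in the coset of a field or graph-field automorphism. -/
theorem order_iff_conj_plus (hm : 5 ≤ m) {x δ : MulAut (Cfsg.POmega F ⇑(plusR m F))}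
    (hx : Cfsg.IsFieldAutClassPOmega (⇑(plusR m F)) x ∨
      ∃ (α γ φ : MulAut (Cfsg.POmega F ⇑(plusR m F))) (σ : F ≃+* F) (v : Fin m ⊕ Fin m → F)
        (g : GL (Fin m ⊕ Fin m) F),
        σ ≠ RingEquiv.refl F ∧ plusR m F v ≠ 0 ∧ (∀ i, σ (v i) = v i) ∧
        (g : Matrix (Fin m ⊕ Fin m) (Fin m ⊕ Fin m) F) = Cfsg.reflectionMatrix (⇑(plusR m F)) v ∧
        Cfsg.IsInducedBySemilinearPOmega (⇑(plusR m F)) g (RingEquiv.refl F) γ ∧
        Cfsg.IsFieldAutPOmegaOf (⇑(plusR m F)) σ φ ∧ α * x * α⁻¹ = γ * φ)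
    {r : ℕ} (hr : r.Prime) (hxr : orderOf x = r)
    (hδ : δ ∈ clsN (model0_plus (F := F) (by omega : 3 ≤ m)) (card_plus_index m)) :
    orderOf (δ * x) = r ↔ Cfsg.IsConjUnder (clsN (model0_plus (F := F) (by omega : 3 ≤ m)) (card_plus_index m)) x (δ * x) := by
  refine ⟨fun h => ?_, fun ⟨w, _, e⟩ => by rw [e, AutPSL.orderOf_conj_eq, hxr]⟩
  obtain ⟨σ, a, a₀, c₁, hσ, hσr, rfl, hcls, hpow, hc₁, hfix, -⟩ := plus_class_shape hm hx hr hxr
  obtain ⟨d, hd, rfl⟩ := hδ
  have hm3 : 3 ≤ m := by omega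
  have hpx := pow_orderOf_eq_one (dia (plusR m F) a * phiT (plusR_map σ))
  rw [hxr] at hpx
  have hpy := pow_orderOf_eq_one (dia (plusR m F) d * (dia (plusR m F) a * phiT (plusR_map σ)))
  rw [h, ← mul_assoc, ← map_mul] at hpy
  obtain ⟨k₀, hk₀, e₀⟩ := plus_conj hm3 hr hσr hσ hpx hpow hcls hc₁ hfix
  obtain ⟨k₁, hk₁, e₁⟩ := plus_conj hm3 hr hσr hσ hpy hpow (by
    rw [map_mul, show clsS _ _ d = 1 from hd, one_mul, hcls]) hc₁ hfix
  refine ⟨k₁ * k₀⁻¹, mul_mem hk₁ (inv_mem hk₀), ?_⟩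
  rw [← mul_assoc (dia (plusR m F) d), ← map_mul, e₁, e₀]
  group

end Cfsg.Agent.Lib.Classical.AutPOmega
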