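import Cfsg.Agent.Lib.Classical.AutPOmega.Transport
import Cfsg.Agent.Lib.Classical.AutPOmega.PlusField

/-!
Automorphisms of `PΩ`, part 27: field automorphisms of the minus-type groups.
-/

set_option autoImplicit false

namespace Cfsg.Agent.Lib.Classical.AutPOmega

open QuadraticMap (polarBilin)
open Cfsg.Agent.Lib.Geometry (quad_add quad_smul isometryEquiv)
open Matrix
open Module (finrank)

attribute [-simp] QuadraticMap.polarBilin_apply_apply

universe u

/-- Model for a minus-type form over a field where it may be hyperbolic, in characteristic two. -/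
theorem model0_minus_two {K : Type*} [Field K] [Fintype K] {m : ℕ} (hm : 3 ≤ m) {a b : K} (h2 : (2 : K) = 0)
    (ha : a ≠ 0) : Model0 (minusR m a b) := by
  refine model0_of_hyper (binaryForm a b) ?_ hm (minusEquiv m K)
  have key : ∀ x : K × K, (∀ y, polarBilin (binaryForm a b) x y = 0) → x = 0 := fun x hx => by
    have h1 := hx (1, 0)
    have h2' := hx (0, 1)
    simp only [QuadraticMap.polarBilin_apply_apply, QuadraticMap.polar, binaryForm_apply,
      Prod.fst_add, Prod.snd_add, mul_zero, add_zero, mul_one] at h1 h2'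
    have e1 : a * x.2 = 0 := by linear_combination h1 - x.1 * h2
    have e2 : a * x.1 = 0 := by linear_combination h2' - b * x.2 * h2
    exact Prod.ext ((mul_eq_zero.mp e2).resolve_left ha) ((mul_eq_zero.mp e1).resolve_left ha)
  exact ⟨key, fun x hx => key x fun y => by rw [Geometry.quad_polar_comm]; exact hx y⟩

variable {F : Type u} [Field F] [Fintype F] {m : ℕ} {a b : F}
  (hm : 3 ≤ m) (hab : ∀ z₁ z₂ : F, z₁ ^ 2 + a * z₁ * z₂ + b * z₂ ^ 2 = 0 → z₁ = 0 ∧ z₂ = 0)

include hab in
theorem coeff_ne_zero_two (h2 : (2 : F) = 0) : a ≠ 0 := by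
  intro ha
  haveI : CharP F 2 := CharTwo.of_one_ne_zero_of_two_eq_zero one_ne_zero h2
  obtain ⟨s, hs⟩ := FiniteField.isSquare_of_char_two (ringChar.eq F 2) b
  exact one_ne_zero (hab s 1 (by rw [ha]; linear_combination -hs + b * h2)).2

omit [Fintype F] in
theorem exists_quad_ext [Finite F] {a b : F}
    (hab : ∀ z₁ z₂ : F, z₁ ^ 2 + a * z₁ * z₂ + b * z₂ ^ 2 = 0 → z₁ = 0 ∧ z₂ = 0) :
    ∃ (K : Type u) (_ : Field K) (_ : Algebra F K), finrank F K = 2 := by
  let P : Polynomial F := Polynomial.X ^ 2 + Polynomial.C a * Polynomial.X + Polynomial.C b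
  have hPm : P.Monic := by simp only [P]; monicity!
  have hPd : P.natDegree = 2 := by simp only [P]; compute_degree!
  haveI : Fact (Irreducible P) := ⟨by
    rw [hPm.irreducible_iff_roots_eq_zero_of_degree_le_three (by omega) (by omega)]
    refine Multiset.eq_zero_of_forall_notMem fun t ht => no_root_of_anisotropic hab t ?_
    have ht' := (Polynomial.mem_roots'.mp ht).2
    simp only [P, Polynomial.IsRoot.def, Polynomial.eval_add, Polynomial.eval_pow, Polynomial.eval_X,
      Polynomial.eval_mul, Polynomial.eval_C] at ht'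
    exact ht'⟩
  exact ⟨AdjoinRoot P, inferInstance, inferInstance,
    by rw [(AdjoinRoot.powerBasis hPm.ne_zero).finrank, AdjoinRoot.powerBasis_dim, hPd]⟩

include hab in
theorem exists_root_ext {K : Type u} [Field K] [Algebra F K] (hK : finrank F K = 2) :
    ∃ ω : K, ω ^ 2 + algebraMap F K a * ω + algebraMap F K b = 0 := by
  haveI : FiniteDimensional F K := Module.finite_of_finrank_eq_succ hK
  haveI : Finite K := Module.finite_of_finite F
  let P : Polynomial F := Polynomial.X ^ 2 + Polynomial.C a * Polynomial.X + Polynomial.C b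
  have hPm : P.Monic := by simp only [P]; monicity!
  have hPd : P.natDegree = 2 := by simp only [P]; compute_degree!
  haveI : Fact (Irreducible P) := ⟨by
    rw [hPm.irreducible_iff_roots_eq_zero_of_degree_le_three (by omega) (by omega)]
    refine Multiset.eq_zero_of_forall_notMem fun t ht => no_root_of_anisotropic hab t ?_
    have ht' := (Polynomial.mem_roots'.mp ht).2
    simp only [P, Polynomial.IsRoot.def, Polynomial.eval_add, Polynomial.eval_pow, Polynomial.eval_X,
      Polynomial.eval_mul, Polynomial.eval_C] at ht'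
    exact ht'⟩
  haveI : FiniteDimensional F (AdjoinRoot P) := (AdjoinRoot.powerBasis hPm.ne_zero).finite
  obtain ⟨f⟩ := FiniteField.nonempty_algHom_of_finrank_dvd (F := F) (K := AdjoinRoot P) (L := K) (by
    rw [(AdjoinRoot.powerBasis hPm.ne_zero).finrank, AdjoinRoot.powerBasis_dim, hPd, hK])
  refine ⟨f (AdjoinRoot.root P), ?_⟩
  have h := congrArg f (AdjoinRoot.eval₂_root P)
  simp only [P, Polynomial.eval₂_add, Polynomial.eval₂_pow, Polynomial.eval₂_X, Polynomial.eval₂_mul,
    Polynomial.eval₂_C, map_add, map_pow, map_mul, map_zero] at h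
  rw [← AdjoinRoot.algebraMap_eq, f.commutes, f.commutes] at h
  exact h

theorem minus_preserves_cls (g : Cfsg.Geo.quadSimilarityGroup (F := F) ⇑(minusR m a b)) :
    Cfsg.PreservesSingularClassesMinus m a b (g.1 : Matrix ((Fin m ⊕ Fin m) ⊕ Fin 2) ((Fin m ⊕ Fin m) ⊕ Fin 2) F) ↔
      clsS (model_minus hm hab).toModel0 (card_minus_index m) g = 1 := by
  classical
  have hM := (model_minus hm hab).toModel0
  by_cases h2 : (2 : F) = 0
  · have key : ∀ (K : Type u) [Field K] [Algebra F K], finrank F K = 2 →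
        (Cfsg.PreservesSingularClasses (Cfsg.quadFormMinus m K (algebraMap F K a) (algebraMap F K b))
          ((g.1 : Matrix ((Fin m ⊕ Fin m) ⊕ Fin 2) ((Fin m ⊕ Fin m) ⊕ Fin 2) F).map (algebraMap F K)) ↔
          clsS hM (card_minus_index m) g = 1) := by
      intro K _ _ hK
      haveI : FiniteDimensional F K := Module.finite_of_finrank_eq_succ hK
      haveI : Finite K := Module.finite_of_finite F
      haveI : Fintype K := Fintype.ofFinite K
      set j := algebraMap F K with hj'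
      have h2K : (2 : K) = 0 := by rw [← map_ofNat j 2, h2, map_zero]
      obtain ⟨ω, hroot⟩ := exists_root_ext hab hK
      have hMK : Model0 (minusR m (j a) (j b)) :=
        model0_minus_two hm h2K ((map_ne_zero j).mpr (coeff_ne_zero_two hab h2))
      set RK := minusR m (j a) (j b)
      have hb : BaseMap (minusR m a b) RK j 1 1 := ⟨one_mul 1, one_mul 1, 1, fun v => by
        rw [Units.val_one, one_mul, Matrix.one_mulVec]
        simp [RK, minusR_apply, map_sum]⟩
      rw [show Cfsg.quadFormMinus m K (j a) (j b) = ⇑RK from coe_minusR m (j a) (j b),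
        ← clsS_baseS hb hM hMK (card_minus_index m) (card_minus_index m) g]
      have hcoe : (g.1 : Matrix ((Fin m ⊕ Fin m) ⊕ Fin 2) ((Fin m ⊕ Fin m) ⊕ Fin 2) F).map j =
          ((baseS hb g).1 : Matrix ((Fin m ⊕ Fin m) ⊕ Fin 2) ((Fin m ⊕ Fin m) ⊕ Fin 2) K) := by
        rw [baseS_coe, Matrix.one_mul, Matrix.mul_one]
      rw [hcoe]
      set gK := baseS hb g
      let f : (Fin m → K) × K →ₗ[K] ((Fin m ⊕ Fin m) ⊕ Fin 2 → K) :=
        { toFun := fun p => Sum.elim (Sum.elim p.1 0) ![ω * p.2, p.2]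
          map_add' := fun p q => by funext i; rcases i with (i | i) | i <;> (try fin_cases i) <;> simp [mul_add]
          map_smul' := fun s p => by funext i; rcases i with (i | i) | i <;> (try fin_cases i) <;> simp [mul_left_comm] }
      have hinj : Function.Injective f := fun p q h => Prod.ext
        (funext fun i => congrFun h (.inl (.inl i))) (congrFun h (.inr 1))
      have hU : finrank K (LinearMap.range f) = m + 1 := by
        rw [LinearMap.finrank_range_of_inj hinj, Module.finrank_prod, Module.finrank_fin_fun, Module.finrank_self]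
      have hU0 : ∀ u ∈ LinearMap.range f, RK u = 0 := by
        rintro _ ⟨p, rfl⟩
        rw [minusR_apply]
        simp [f]
        linear_combination p.2 ^ 2 * hroot
      set u := sqrtU h2K (multS hMK gK)
      have hfix : Cfsg.imageSubmodule ((GeneralLinearGroup.scalar ((Fin m ⊕ Fin m) ⊕ Fin 2) u : GL _ K) :
          Matrix ((Fin m ⊕ Fin m) ⊕ Fin 2) ((Fin m ⊕ Fin m) ⊕ Fin 2) K) (LinearMap.range f) = LinearMap.range f :=
        imageSubmodule_eq_of_mapsTo _ fun v hv => by rw [scG_mulVec]; exact Submodule.smul_mem _ _ hv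
      have hg : gK.1 = GeneralLinearGroup.scalar ((Fin m ⊕ Fin m) ⊕ Fin 2) u * (isoPart hMK h2K gK).1 :=
        congrArg Subtype.val (isoPart_spec hMK h2K gK)
      rw [clsS_two hMK _ h2K, hg]
      exact preserves_iff_dickson hMK.nondeg (Or.inr hMK.dim) (card_minus_index m) hU hU0
        (c := (u : K) * u) (fun v => by rw [scG_mulVec, quad_smul]) hfix _
    constructor
    · rintro ⟨K, _, _, hK, h⟩
      exact (key K hK).mp h
    · intro h
      obtain ⟨K, _, _, hK⟩ := exists_quad_ext hab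
      exact ⟨K, inferInstance, inferInstance, hK, (key K hK).mpr h⟩
  · have hodd : Odd (Fintype.card F) := by
      rcases Nat.even_or_odd (Fintype.card F) with he | ho
      · exfalso
        apply h2
        haveI : CharP F 2 := (ringChar.eq_iff).mp (FiniteField.even_card_iff_char_two.mpr (Nat.even_iff.mp he))
        exact CharTwo.two_eq_zero
      · exact ho
    rw [minus_preserves_iff hodd hm hab g, clsS_odd hM _ h2]

include hm hab in
/-- Transport of a property from the bundled form. -/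
theorem inndiag_minus_transfer'
    (P : ∀ Q : ((Fin m ⊕ Fin m) ⊕ Fin 2 → F) → F, Subgroup (MulAut (Cfsg.POmega F Q)) → Prop)
    (h : P ⇑(minusR m a b) (clsN (model_minus hm hab).toModel0 (card_minus_index m))) :
    P (Cfsg.quadFormMinus m F a b) (Cfsg.inndiagPOmegaMinus m F a b) := by
  have heq : Cfsg.autSubgroupOf (fun β => ∃ g : GL ((Fin m ⊕ Fin m) ⊕ Fin 2) F,
      g ∈ Cfsg.Geo.quadSimilarityGroup (F := F) ⇑(minusR m a b) ∧
      Cfsg.PreservesSingularClassesMinus m a b (g : Matrix ((Fin m ⊕ Fin m) ⊕ Fin 2) ((Fin m ⊕ Fin m) ⊕ Fin 2) F) ∧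
      Cfsg.IsInducedBySemilinearPOmega (⇑(minusR m a b)) g (RingEquiv.refl F) β) =
      clsN (model_minus hm hab).toModel0 (card_minus_index m) := by
    refine le_antisymm ((Subgroup.closure_le _).mpr ?_) ?_
    · rintro β ⟨g, hg, hpres, hind⟩
      exact ⟨⟨g, hg⟩, (minus_preserves_cls hm hab ⟨g, hg⟩).mp hpres, (eq_semAut (pair_of_sim hg) hind).symm⟩
    · rintro _ ⟨g, hg, rfl⟩
      exact Subgroup.subset_closure ⟨g.1, g.2, (minus_preserves_cls hm hab g).mpr hg, isInduced_semAut _ _ _⟩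
  rw [← heq] at h
  have key : ∀ Q : ((Fin m ⊕ Fin m) ⊕ Fin 2 → F) → F, ⇑(minusR m a b) = Q →
      P Q (Cfsg.autSubgroupOf fun β => ∃ g : GL ((Fin m ⊕ Fin m) ⊕ Fin 2) F,
        g ∈ Cfsg.Geo.quadSimilarityGroup (F := F) Q ∧
        Cfsg.PreservesSingularClassesMinus m a b (g : Matrix ((Fin m ⊕ Fin m) ⊕ Fin 2) ((Fin m ⊕ Fin m) ⊕ Fin 2) F) ∧
        Cfsg.IsInducedBySemilinearPOmega Q g (RingEquiv.refl F) β) := by
    rintro Q rfl; exact h
  exact key _ (coe_minusR m a b).symm

variable {a' b' : F} (hab' : ∀ z₁ z₂ : F, z₁ ^ 2 + a' * z₁ * z₂ + b' * z₂ ^ 2 = 0 → z₁ = 0 ∧ z₂ = 0)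

include hm hab hab' in
theorem exists_minus_isometry : ∃ T : ((Fin m ⊕ Fin m) ⊕ Fin 2 → F) ≃ₗ[F] ((Fin m ⊕ Fin m) ⊕ Fin 2 → F),
    ∀ v, minusR m a b (T v) = minusR m a' b' v :=
  quad_equiv_of_type (model_minus hm hab').toModel0.nondeg (model_minus hm hab).toModel0.nondeg (M := m + 1)
    (by omega) (by rw [Module.finrank_fintype_fun_eq_card, card_minus_index])
    (by rw [Module.finrank_fintype_fun_eq_card, card_minus_index])
    (iff_of_false (not_isHyp_minusR m hab') (not_isHyp_minusR m hab))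

include hab hab' in
/-- An isomorphism of the two groups carries class-preserving similarities to class-preserving ones. -/
theorem iso_maps_cls (ψ : Cfsg.POmega F ⇑(minusR m a b) ≃* Cfsg.POmega F ⇑(minusR m a' b'))
    {y : MulAut (Cfsg.POmega F ⇑(minusR m a b))}
    (hy : y ∈ clsN (model_minus hm hab).toModel0 (card_minus_index m)) :
    autMap ψ y ∈ clsN (model_minus hm hab').toModel0 (card_minus_index m) := by
  obtain ⟨d, hd, rfl⟩ := hy
  obtain ⟨T, hT⟩ := exists_minus_isometry hm hab hab'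
  obtain ⟨g, τ, hp, hα⟩ := pair_semisim (model_minus hm hab) (ψ.trans (pomegaT T hT).symm)
  obtain ⟨hb, hconj⟩ := semAut_mul_dia hp d
  refine ⟨baseS (baseMap_T T hT) (baseS hb d), ?_, ?_⟩
  · show clsS _ _ _ = 1
    rw [clsS_baseS (baseMap_T T hT) (model_minus hm hab).toModel0 (model_minus hm hab').toModel0
      (card_minus_index m) (card_minus_index m), clsS_baseS hb (model_minus hm hab).toModel0
      (model_minus hm hab).toModel0 (card_minus_index m) (card_minus_index m)]
    exact hd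
  · rw [← autMap_pomegaT_dia T hT, ← hconj, ← hα]
    refine MulEquiv.ext fun x => ?_
    simp [autMap, MulAut.mul_apply]

/-! ### The descent -/

theorem minusR_map (σ : F ≃+* F) (ha : σ a = a) (hb : σ b = b) (v : (Fin m ⊕ Fin m) ⊕ Fin 2 → F) :
    minusR m a b (fun i => σ (v i)) = σ (minusR m a b v) := by
  simp [minusR_apply, map_sum, ha, hb]

variable {σ : F ≃+* F} {r : ℕ} (hσa : σ a = a) (hσb : σ b = b)

include hab hσa hσb in
theorem minus_odd_order (hr : r.Prime) (hσr : σ ^ r = 1) (hne : σ ≠ 1) : Odd r := by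
  refine hr.eq_two_or_odd'.resolve_left fun h2 => ?_
  subst h2
  obtain ⟨t, ht⟩ := exists_root_of_two hσr hne hσa hσb
  exact no_root_of_anisotropic hab t ht

include hm hab hσa hσb in
theorem minus_not_hyp {K : Subfield F} {x : Cfsg.Geo.quadSimilarityGroup (F := F) ⇑(minusR m a b)}
    {Q : QuadraticForm K ((Fin m ⊕ Fin m) ⊕ Fin 2 → K)} (hd : Descends (σ := σ) x K Q) : ¬ IsHyp Q (m + 1) := by
  haveI : Fintype K := Fintype.ofFinite K
  intro hQ
  have hf : finrank K ((Fin m ⊕ Fin m) ⊕ Fin 2 → K) = 2 * (m + 1) := by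
    rw [Module.finrank_fintype_fun_eq_card, card_minus_index]
  obtain ⟨T, hT⟩ := quad_equiv_of_type (model0_plus (F := K) (m := m + 1) (by omega)).nondeg hd.1 (M := m + 1)
    (by omega) (by rw [Module.finrank_fintype_fun_eq_card, card_plus_index]) hf (iff_of_true (isHyp_plusR _) hQ)
  obtain ⟨L, c, hc, hL⟩ := descends_extend hd T hT (Q'F := plusR (m + 1) F) (fun v => by simp [plusR_apply])
  exact not_isHyp_minusR m hab ((isHyp_congr L hc hL (m + 1)).mp (isHyp_plusR _))

include hσa hσb in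
/-- Twists of prime order are conjugate to the standard one. -/
theorem minus_conj (hr : r.Prime) (hσr : σ ^ r = 1) (hne : σ ≠ 1)
    {x : Cfsg.Geo.quadSimilarityGroup (F := F) ⇑(minusR m a b)}
    (hx : (dia (minusR m a b) x * phiT (minusR_map σ hσa hσb)) ^ r = 1) :
    ∃ k ∈ clsN (model_minus hm hab).toModel0 (card_minus_index m),
      dia (minusR m a b) x * phiT (minusR_map σ hσa hσb) = k * phiT (minusR_map σ hσa hσb) * k⁻¹ := by
  have hM := (model_minus hm hab).toModel0
  obtain ⟨K, hK⟩ := exists_fixed_field σ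
  haveI : Fintype K := Fintype.ofFinite K
  have hne' : Nonempty ((Fin m ⊕ Fin m) ⊕ Fin 2) := ⟨Sum.inr 0⟩
  obtain ⟨c, hc⟩ := (prodT_eq_scalar_iff (minusR_map σ hσa hσb) hM hσr x).mp hx
  obtain ⟨Q, hd⟩ := exists_descends (minusR_map σ hσa hσb) hne' hM.nondeg hr hσr hne hK x hc
  obtain ⟨Q₀, hd₀⟩ := exists_descends (minusR_map σ hσa hσb) hne' hM.nondeg hr hσr hne hK 1 (c := 1) (by
    have : ∀ k, prodT (minusR_map σ hσa hσb) (1 : Cfsg.Geo.quadSimilarityGroup (F := F) ⇑(minusR m a b)) k = 1 := by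
      intro k
      induction k with
      | zero => rfl
      | succ k ih => rw [prodT, ih, map_one, one_mul]
    rw [this, map_one])
  obtain ⟨u, k, hk⟩ := twist_of_same_type (minusR_map σ hσa hσb) (card_minus_index m) (by omega) hK hd hd₀
    (iff_of_false (minus_not_hyp hm hab hσa hσb hd) (minus_not_hyp hm hab hσa hσb hd₀))
  have hφ : ∀ k', x = scG (minusR m a b) u * (k' * 1 * (galT (minusR_map σ hσa hσb) k')⁻¹) →
      dia (minusR m a b) x * phiT (minusR_map σ hσa hσb) =
        dia (minusR m a b) k' * phiT (minusR_map σ hσa hσb) * (dia (minusR m a b) k')⁻¹ := fun k' h => by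
    have := conj_phiT (minusR_map σ hσa hσb) hM h
    rwa [map_one, one_mul] at this
  rcases Int.units_eq_one_or (clsS hM (card_minus_index m) k) with e | e
  · exact ⟨_, ⟨k, e, rfl⟩, hφ k hk⟩
  · have i₀ : Fin m := ⟨0, by omega⟩
    set v : (Fin m ⊕ Fin m) ⊕ Fin 2 → F := Sum.elim (plusVec m F i₀) 0
    have hv : minusR m a b v = 1 := by
      rw [minusR_apply]
      simp [v, plusVec, Pi.single_apply]
    set r₀ := isoG (minusR m a b) (reflI (minusR m a b) v)
    have hfix : galT (minusR_map σ hσa hσb) r₀ = r₀ := by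
      show baseS _ _ = _
      rw [baseS_refl, Matrix.one_mulVec]
      congr 2
      funext i
      rcases i with i | i
      · exact congrFun (plusVec_fixed σ i₀) i
      · simp [v]
    refine ⟨_, ⟨k * r₀, show clsS hM (card_minus_index m) (k * r₀) = 1 by
      rw [map_mul, e, clsS_refl _ _ (by rw [hv]; exact one_ne_zero)]; decide, rfl⟩, hφ _ ?_⟩
    rw [hk, map_mul, _root_.mul_inv_rev, hfix]
    group

theorem eq_phiT {ι : Type} [Fintype ι] [DecidableEq ι] {R : QuadraticForm F (ι → F)} {τ : F ≃+* F}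
    (hτ : ∀ v, R (fun i => τ (v i)) = τ (R v)) {β : MulAut (Cfsg.POmega F ⇑R)}
    (h : Cfsg.IsFieldAutPOmegaOf (⇑R) τ β) : β = phiT hτ := by
  refine MulEquiv.ext fun x => ?_
  obtain ⟨s, rfl⟩ := QuotientGroup.mk'_surjective _ x
  refine h s (semOmega 1 τ (pair_fld τ hτ) s) ?_
  have := omat_semOmega 1 τ (pair_fld τ hτ) s
  simpa [omat] using this

theorem autMap_symm_apply {A B : Type*} [Mul A] [Mul B] (ψ : A ≃* B) (k : MulAut B) :
    autMap ψ (autMap ψ.symm k) = k :=
  MulEquiv.ext fun x => by simp [autMap]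

/-- The shape of a field automorphism of prime order. -/
theorem minus_class_shape {x : MulAut (Cfsg.POmega F ⇑(minusR m a b))}
    (hx : ∃ (a' b' : F) (ψ : Cfsg.POmega F ⇑(minusR m a b) ≃* Cfsg.POmega F (Cfsg.quadFormMinus m F a' b'))
        (σ : F ≃+* F), (∀ z₁ z₂ : F, z₁ ^ 2 + a' * z₁ * z₂ + b' * z₂ ^ 2 = 0 → z₁ = 0 ∧ z₂ = 0) ∧
      σ ≠ RingEquiv.refl F ∧ σ a' = a' ∧ σ b' = b' ∧
      Cfsg.IsFieldAutPOmegaOf (Cfsg.quadFormMinus m F a' b') σ ((ψ.symm.trans x).trans ψ)) :
    ∃ (a' b' : F) (σ : F ≃+* F) (ψ : Cfsg.POmega F ⇑(minusR m a b) ≃* Cfsg.POmega F ⇑(minusR m a' b'))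
      (_ : ∀ z₁ z₂ : F, z₁ ^ 2 + a' * z₁ * z₂ + b' * z₂ ^ 2 = 0 → z₁ = 0 ∧ z₂ = 0)
      (ha : σ a' = a') (hb : σ b' = b'), σ ≠ 1 ∧ autMap ψ x = phiT (minusR_map σ ha hb) := by
  obtain ⟨a', b', ψ, σ, hab', hσ, hσa', hσb', hφ⟩ := hx
  have key : ∀ Q, Q = ⇑(minusR m a' b') → ∀ ψ : Cfsg.POmega F ⇑(minusR m a b) ≃* Cfsg.POmega F Q,
      Cfsg.IsFieldAutPOmegaOf Q σ ((ψ.symm.trans x).trans ψ) →
      ∃ ψ' : Cfsg.POmega F ⇑(minusR m a b) ≃* Cfsg.POmega F ⇑(minusR m a' b'),
        autMap ψ' x = phiT (minusR_map σ hσa' hσb') := by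
    rintro Q rfl ψ h
    exact ⟨ψ, eq_phiT _ h⟩
  obtain ⟨ψ', h'⟩ := key _ (coe_minusR m a' b') ψ hφ
  exact ⟨a', b', σ, ψ', hab', hσa', hσb', hσ, h'⟩

include hm hab in
theorem galPart_phiT {τ : F ≃+* F} (hτ : ∀ v, minusR m a b (fun i => τ (v i)) = τ (minusR m a b v)) :
    galPart (model_minus hm hab) (phiT hτ) = τ := galPart_semAut _ _

include hab in
/-- Elements of prime order in the coset of a field automorphism. -/
theorem order_iff_conj_minus {x δ : MulAut (Cfsg.POmega F ⇑(minusR m a b))}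
    (hx : ∃ (a' b' : F) (ψ : Cfsg.POmega F ⇑(minusR m a b) ≃* Cfsg.POmega F (Cfsg.quadFormMinus m F a' b'))
        (σ : F ≃+* F), (∀ z₁ z₂ : F, z₁ ^ 2 + a' * z₁ * z₂ + b' * z₂ ^ 2 = 0 → z₁ = 0 ∧ z₂ = 0) ∧
      σ ≠ RingEquiv.refl F ∧ σ a' = a' ∧ σ b' = b' ∧
      Cfsg.IsFieldAutPOmegaOf (Cfsg.quadFormMinus m F a' b') σ ((ψ.symm.trans x).trans ψ))
    {r : ℕ} (hr : r.Prime) (hxr : orderOf x = r)
    (hδ : δ ∈ clsN (model_minus hm hab).toModel0 (card_minus_index m)) :
    orderOf (δ * x) = r ↔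
      Cfsg.IsConjUnder (clsN (model_minus hm hab).toModel0 (card_minus_index m)) x (δ * x) := by
  refine ⟨fun h => ?_, fun ⟨w, _, e⟩ => by rw [e, AutPSL.orderOf_conj_eq, hxr]⟩
  obtain ⟨a', b', σ, ψ, hab', hσa', hσb', hσ, hψx⟩ := minus_class_shape hx
  have hxr' : (phiT (minusR_map (m := m) σ hσa' hσb')) ^ r = 1 := by
    rw [← hψx, ← map_pow, ← hxr, pow_orderOf_eq_one, map_one]
  have hσr : σ ^ r = 1 := by
    rw [← galPart_phiT hm hab' (minusR_map σ hσa' hσb'), ← map_pow, hxr', map_one]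
  obtain ⟨d, hd, hd'⟩ := iso_maps_cls hm hab hab' ψ hδ
  have hy : (dia (minusR m a' b') d * phiT (minusR_map σ hσa' hσb')) ^ r = 1 := by
    rw [hd', ← hψx, ← map_mul, ← map_pow, ← h, pow_orderOf_eq_one, map_one]
  obtain ⟨k, hk, e⟩ := minus_conj hm hab' hσa' hσb' hr hσr hσ hy
  refine ⟨autMap ψ.symm k, iso_maps_cls hm hab' hab ψ.symm hk, (autMap ψ).injective ?_⟩
  rw [map_mul, map_mul, map_mul, map_inv, autMap_symm_apply, ← hd', hψx, e]

end Cfsg.Agent.Lib.Classical.AutPOmega
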