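import Cfsg.Agent.Lib.Classical.AutPOmega.Parity
import Cfsg.Agent.Lib.Classical.AutPOmega.MinusAut

/-!
Automorphisms of `PΩ`, part 20: the plus- and minus-type inner-diagonal groups in odd characteristic.
-/

set_option autoImplicit false

namespace Cfsg.Agent.Lib.Classical.AutPOmega

open QuadraticMap (polarBilin)
open Cfsg.Agent.Lib.Geometry (sqClass sqClass_eq_one_iff sqClass_eq_neg_one_iff sqClass_mul)
open Matrix
open Module (finrank)

attribute [-simp] QuadraticMap.polarBilin_apply_apply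

/-! ### Plus type -/

section Plus

variable {F : Type*} [Field F]

/-- The plus-type form as a quadratic form. -/
noncomputable def plusR (m : ℕ) (F : Type*) [Field F] : QuadraticForm F (Fin m ⊕ Fin m → F) :=
  (hyperForm m (0 : QuadraticForm F (Fin 0 → F))).comp (plusEquiv m F).toLinearMap

theorem coe_plusR (m : ℕ) (F : Type*) [Field F] : Cfsg.quadFormPlus m F = ⇑(plusR m F) :=
  funext fun v => quadFormPlus_eq_hyper m v

theorem plusR_apply (m : ℕ) (v : Fin m ⊕ Fin m → F) : plusR m F v = ∑ i : Fin m, v (.inl i) * v (.inr i) :=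
  (congrFun (coe_plusR m F) v).symm

theorem plusR_map {m : ℕ} (σ : F ≃+* F) (v : Fin m ⊕ Fin m → F) :
    plusR m F (fun i => σ (v i)) = σ (plusR m F v) := by
  simp [plusR_apply, map_sum]

theorem card_plus_index (m : ℕ) : Fintype.card (Fin m ⊕ Fin m) = 2 * m := by simp; omega

theorem model0_plus [Fintype F] {m : ℕ} (hm : 3 ≤ m) : Model0 (plusR m F) :=
  model0_of_hyper _ zero_nondegenerate hm (plusEquiv m F)

theorem model_plus [Fintype F] {m : ℕ} (hm : 5 ≤ m) : Model (plusR m F) :=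
  model_of_hyper _ zero_nondegenerate (by omega) (noTriality_plus hm) (plusEquiv m F)

theorem plus_diag_sim {m : ℕ} (c : F) (v : Fin m ⊕ Fin m → F) :
    plusR m F (Matrix.diagonal (Sum.elim (fun _ => c) fun _ => 1) *ᵥ v) = c * plusR m F v := by
  rw [plusR_apply, plusR_apply, Finset.mul_sum]
  simp [Matrix.mulVec_diagonal, mul_assoc]

/-- The scaling similarity of multiplier `c`. -/
noncomputable def plusSim (m : ℕ) (c : Fˣ) : Cfsg.Geo.quadSimilarityGroup (F := F) ⇑(plusR m F) :=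
  ⟨GeneralLinearGroup.mkOfDetNeZero (Matrix.diagonal (Sum.elim (fun _ : Fin m => (c : F)) fun _ : Fin m => 1)) (by
    rw [Matrix.det_diagonal, Finset.prod_ne_zero_iff]
    rintro (i | i) - <;> simp), c, fun v => plus_diag_sim (c : F) v⟩

/-- The first Lagrangian. -/
def plusU (m : ℕ) (F : Type*) [Field F] : Submodule F (Fin m ⊕ Fin m → F) :=
  LinearMap.range ((LinearEquiv.sumArrowLequivProdArrow (Fin m) (Fin m) F F).symm.toLinearMap.comp
    (LinearMap.inl F (Fin m → F) (Fin m → F)))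

theorem plusU_spec (m : ℕ) : finrank F (plusU m F) = m ∧ ∀ u ∈ plusU m F, plusR m F u = 0 := by
  refine ⟨?_, ?_⟩
  · rw [plusU]
    refine (LinearMap.finrank_range_of_inj ?_).trans (Module.finrank_fin_fun F)
    intro x y h
    funext i
    simpa [LinearEquiv.sumArrowLequivProdArrow] using congrFun h (.inl i)
  · rintro _ ⟨x, rfl⟩
    rw [plusR_apply]
    simp [LinearEquiv.sumArrowLequivProdArrow]

theorem imageSubmodule_eq_of_mapsTo {ι : Type} [Fintype ι] [DecidableEq ι] (g : GL ι F)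
    {U : Submodule F (ι → F)} (h : ∀ u ∈ U, (g : Matrix ι ι F) *ᵥ u ∈ U) :
    Cfsg.imageSubmodule (g : Matrix ι ι F) U = U := by
  refine Submodule.eq_of_le_of_finrank_eq ?_ (finrank_image g U)
  rintro _ ⟨u, hu, rfl⟩
  rw [Matrix.toLin'_apply]
  exact h u hu

theorem plusSim_fix (m : ℕ) (c : Fˣ) :
    Cfsg.imageSubmodule ((plusSim (F := F) m c).1 : Matrix (Fin m ⊕ Fin m) (Fin m ⊕ Fin m) F) (plusU m F) =
      plusU m F := by
  refine imageSubmodule_eq_of_mapsTo _ ?_
  rintro _ ⟨x, rfl⟩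
  refine ⟨fun i => (c : F) * x i, ?_⟩
  funext i
  rcases i with i | i <;>
    simp [plusSim, Matrix.mulVec_diagonal, LinearEquiv.sumArrowLequivProdArrow]

variable [Fintype F] {m : ℕ}

theorem plusSim_mult (hm : 3 ≤ m) (c : Fˣ) : multS (model0_plus hm) (plusSim m c) = c :=
  Units.ext (multS_eq (model0_plus hm) (g := plusSim m c) fun v => plus_diag_sim (c : F) v)

theorem plusSim_delta (hm : 3 ≤ m) (c : Fˣ) : deltaS (model0_plus hm) m (plusSim m c) = 1 := by
  rw [deltaS_apply, plusSim_mult hm c, mul_inv_eq_one]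
  refine Units.ext ?_
  show (Matrix.diagonal (Sum.elim (fun _ : Fin m => (c : F)) fun _ : Fin m => 1)).det = _
  rw [Matrix.det_diagonal, Fintype.prod_sum_type, Units.val_pow_eq_pow_val]
  simp

theorem plus_multS_surjective (hm : 3 ≤ m) : Function.Surjective (multS (model0_plus (F := F) hm)) :=
  fun c => ⟨plusSim m c, plusSim_mult hm c⟩

theorem gram_plusR (m : ℕ) : (gram (plusR m F)).det = (-1) ^ m := by
  rw [← Geometry.det_plusGram m]
  congr 1
  ext i j
  rw [gram_apply, ← Geometry.polarBilin_matQuad_single]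
  have hq : ∀ v, plusR m F v = Geometry.matQuad (Geometry.plusMatrix m F) v := fun v => by
    rw [← coe_plusR, Geometry.quadFormPlus_eq]
  simp [QuadraticMap.polarBilin_apply_apply, QuadraticMap.polar, hq]

theorem spin_negOne_plus (hodd : Odd (Fintype.card F)) (hm : 3 ≤ m) :
    spinH (model0_plus (F := F) hm).nondeg (odd_two_ne_zero hodd) (negOne (plusR m F)) = 1 ↔
      ¬ (Odd m ∧ Fintype.card F % 4 = 3) := by
  have h2 := odd_two_ne_zero hodd
  have hdet : (1 - ((negOne (plusR m F) : GL (Fin m ⊕ Fin m) F) : Matrix (Fin m ⊕ Fin m) (Fin m ⊕ Fin m) F)).det =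
      2 ^ m * 2 ^ m := by
    show (1 - Matrix.scalar (Fin m ⊕ Fin m) ((-1 : Fˣ) : F)).det = _
    rw [Units.val_neg, Units.val_one, ← Matrix.diagonal_one, Matrix.scalar_apply, Matrix.diagonal_sub,
      Matrix.det_diagonal, Finset.prod_const, Finset.card_univ, card_plus_index, two_mul, pow_add]
    ring
  rw [spinH_of_det_one_sub _ h2 _ (by rw [hdet]; exact mul_ne_zero (pow_ne_zero _ h2) (pow_ne_zero _ h2)), hdet,
    gram_plusR, Geometry.sqClass_sq_mul _ (pow_ne_zero _ h2), Geometry.sqClass_neg_one_pow hodd, Nat.pow_mod]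
  have h13 : Fintype.card F % 4 = 1 ∨ Fintype.card F % 4 = 3 := by
    obtain ⟨k, hk⟩ := hodd; omega
  rcases h13 with h | h <;> rw [h]
  · simp
  · rcases Nat.even_or_odd m with he | he
    · obtain ⟨k, hk⟩ := he
      rw [hk, ← two_mul, pow_mul, Nat.pow_mod]
      simp [Nat.not_odd_iff_even]
    · obtain ⟨k, hk⟩ := he
      rw [hk, pow_succ, pow_mul, Nat.mul_mod, Nat.pow_mod]
      simp

theorem plus_preserves_iff (hodd : Odd (Fintype.card F)) (hm : 3 ≤ m)
    (g : Cfsg.Geo.quadSimilarityGroup (F := F) ⇑(plusR m F)) :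
    Cfsg.PreservesSingularClasses (⇑(plusR m F)) (g.1 : Matrix (Fin m ⊕ Fin m) (Fin m ⊕ Fin m) F) ↔
      deltaS (model0_plus hm) m g = 1 := by
  have hid : (g.1 : Matrix (Fin m ⊕ Fin m) (Fin m ⊕ Fin m) F).map (RingHom.id F) = g.1 :=
    Matrix.ext fun _ _ => rfl
  conv_lhs => rw [← hid]
  exact preserves_iff_delta (RingHom.id F) (odd_two_ne_zero hodd) (fun _ => rfl) (model0_plus hm)
    (model0_plus hm).nondeg (card_plus_index m) (plusU_spec m).1 (plusU_spec m).2
    (fun c => ⟨plusSim m c, plusSim_mult hm c, plusSim_delta hm c, by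
      rw [show ((plusSim m c).1 : Matrix (Fin m ⊕ Fin m) (Fin m ⊕ Fin m) F).map (RingHom.id F) = _ from
        Matrix.ext fun _ _ => rfl]
      exact plusSim_fix m c⟩) g

theorem inndiag_plus_eq (hodd : Odd (Fintype.card F)) (hm : 3 ≤ m) :
    Cfsg.autSubgroupOf (fun β => ∃ g : GL (Fin m ⊕ Fin m) F,
      g ∈ Cfsg.Geo.quadSimilarityGroup (F := F) ⇑(plusR m F) ∧
      Cfsg.PreservesSingularClasses (⇑(plusR m F)) (g : Matrix (Fin m ⊕ Fin m) (Fin m ⊕ Fin m) F) ∧
      Cfsg.IsInducedBySemilinearPOmega (⇑(plusR m F)) g (RingEquiv.refl F) β) =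
      dia1 (model0_plus hm) (odd_two_ne_zero hodd) (card_plus_index m) := by
  refine le_antisymm ((Subgroup.closure_le _).mpr ?_) ?_
  · rintro β ⟨g, hg, hpres, hind⟩
    exact ⟨⟨g, hg⟩, (sgnS_eq_one _ _ _ _).mpr ((plus_preserves_iff hodd hm ⟨g, hg⟩).mp hpres),
      (eq_semAut (pair_of_sim hg) hind).symm⟩
  · rintro _ ⟨g, hg, rfl⟩
    exact Subgroup.subset_closure ⟨g.1, g.2, (plus_preserves_iff hodd hm g).mpr ((sgnS_eq_one _ _ _ _).mp hg),
      isInduced_semAut _ _ _⟩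

theorem spin_sq_plusSim (hodd : Odd (Fintype.card F)) (hm : 3 ≤ m) {α : Fˣ} (hα : ¬ IsSquare (α : F)) :
    ∃ k, plusSim m α * plusSim m α = scG (plusR m F) α * isoG (plusR m F) k ∧
      spinH (model0_plus (F := F) hm).nondeg (odd_two_ne_zero hodd) k = (-1) ^ m := by
  have h2 := odd_two_ne_zero hodd
  obtain ⟨k, hk⟩ := exists_iso_of_multS (model0_plus hm) (g := plusSim m α * plusSim m α) (u := α)
    (by rw [map_mul, plusSim_mult hm])
  refine ⟨k, hk, ?_⟩
  have hkd : ((k : GL (Fin m ⊕ Fin m) F) : Matrix (Fin m ⊕ Fin m) (Fin m ⊕ Fin m) F) =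
      Matrix.diagonal (Sum.elim (fun _ : Fin m => (α : F)) fun _ : Fin m => (α : F)⁻¹) := by
    have h := congrArg (fun x : Cfsg.Geo.quadSimilarityGroup (F := F) ⇑(plusR m F) =>
      (x.1 : Matrix (Fin m ⊕ Fin m) (Fin m ⊕ Fin m) F)) hk
    change Matrix.diagonal _ * Matrix.diagonal _ = Matrix.scalar _ (α : F) * _ at h
    rw [Matrix.diagonal_mul_diagonal] at h
    ext s t
    have := congrFun (congrFun h s) t
    rw [Matrix.scalar_apply, Matrix.diagonal_mul] at this
    rcases eq_or_ne s t with rfl | hst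
    · simp only [Matrix.diagonal_apply_eq] at this ⊢
      rcases s with i | i
      · simp only [Sum.elim_inl] at this ⊢
        exact (mul_left_cancel₀ α.ne_zero this).symm
      · simp only [Sum.elim_inr, one_mul] at this ⊢
        exact eq_inv_of_mul_eq_one_right this.symm
    · simp [Matrix.diagonal_apply_ne _ hst] at this ⊢
      exact this
  have hne : (1 : F) - α ≠ 0 := fun e => hα (by rw [← sub_eq_zero.mp e]; exact IsSquare.one)
  have hdet : (1 - ((k : GL (Fin m ⊕ Fin m) F) : Matrix (Fin m ⊕ Fin m) (Fin m ⊕ Fin m) F)).det =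
      ((1 - (α : F)) * (1 - (α : F)⁻¹)) ^ m := by
    rw [hkd, ← Matrix.diagonal_one, Matrix.diagonal_sub, Matrix.det_diagonal, Fintype.prod_sum_type]
    simp [mul_pow]
  have hne2 : (1 - (α : F)) * (1 - (α : F)⁻¹) ≠ 0 := by
    refine mul_ne_zero hne fun e => hne ?_
    rw [sub_eq_zero, eq_comm, inv_eq_one] at e
    rw [e, sub_self]
  rw [spinH_of_det_one_sub _ h2 k (by rw [hdet]; exact pow_ne_zero _ hne2), hdet, gram_plusR, ← mul_pow,
    show (1 - (α : F)) * (1 - (α : F)⁻¹) * -1 = (1 - (α : F)) * (1 - (α : F)) * (α : F)⁻¹ by field_simp; ring,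
    show sqClass (((1 - (α : F)) * (1 - (α : F)) * (α : F)⁻¹) ^ m) =
      (sqc (Units.mk0 _ (mul_ne_zero (mul_ne_zero hne hne) (inv_ne_zero α.ne_zero)))) ^ m by
      rw [← map_pow]; rfl]
  congr 1
  show sqClass ((1 - (α : F)) * (1 - (α : F)) * (α : F)⁻¹) = -1
  rw [Geometry.sqClass_sq_mul _ hne, Geometry.sqClass_inv, sqClass_eq_neg_one_iff]
  exact hα

/-- Transport of a property from the bundled form. -/
theorem inndiag_plus_transfer (hodd : Odd (Fintype.card F)) (hm : 3 ≤ m)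
    (P : ∀ Q : (Fin m ⊕ Fin m → F) → F, Subgroup (MulAut (Cfsg.POmega F Q)) → Prop)
    (h : P ⇑(plusR m F) (dia1 (model0_plus hm) (odd_two_ne_zero hodd) (card_plus_index m))) :
    P (Cfsg.quadFormPlus m F) (Cfsg.inndiagPOmegaPlus m F) := by
  rw [← inndiag_plus_eq hodd hm] at h
  have key : ∀ Q : (Fin m ⊕ Fin m → F) → F, ⇑(plusR m F) = Q → P Q (Cfsg.autSubgroupOf fun β => ∃ g : GL (Fin m ⊕ Fin m) F,
      g ∈ Cfsg.Geo.quadSimilarityGroup (F := F) Q ∧
      Cfsg.PreservesSingularClasses Q (g : Matrix (Fin m ⊕ Fin m) (Fin m ⊕ Fin m) F) ∧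
      Cfsg.IsInducedBySemilinearPOmega Q g (RingEquiv.refl F) β) := by
    rintro Q rfl; exact h
  exact key _ (coe_plusR m F).symm

end Plus

/-! ### Minus type -/

section Minus

universe u

variable {F : Type u} [Field F] [Fintype F] {m : ℕ} {a b : F}

/-- The binary multiplication matrix. -/
def binMat (a b x y : F) : Matrix (Fin 2) (Fin 2) F := !![x, -b * y; y, x + a * y]

theorem exists_minusSim (hm : 3 ≤ m) (hab : ∀ z₁ z₂ : F, z₁ ^ 2 + a * z₁ * z₂ + b * z₂ ^ 2 = 0 → z₁ = 0 ∧ z₂ = 0)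
    (c : Fˣ) :
    ∃ (x y : F) (d : Cfsg.Geo.quadSimilarityGroup (F := F) ⇑(minusR m a b)),
      x ^ 2 + a * x * y + b * y ^ 2 = c ∧
      (d.1 : Matrix ((Fin m ⊕ Fin m) ⊕ Fin 2) ((Fin m ⊕ Fin m) ⊕ Fin 2) F) =
        Matrix.fromBlocks (Matrix.diagonal (Sum.elim (fun _ => (c : F)) fun _ => 1)) 0 0 (binMat a b x y) ∧
      multS (model_minus hm hab).toModel0 d = c ∧ deltaS (model_minus hm hab).toModel0 (m + 1) d = 1 := by
  obtain ⟨⟨x, y⟩, hN⟩ := binary_universal hab (c : F)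
  simp only at hN
  set A : Matrix ((Fin m ⊕ Fin m) ⊕ Fin 2) ((Fin m ⊕ Fin m) ⊕ Fin 2) F :=
    Matrix.fromBlocks (Matrix.diagonal (Sum.elim (fun _ => (c : F)) fun _ => 1)) 0 0 (binMat a b x y) with hAdef
  have hA : ∀ v, minusR m a b (A *ᵥ v) = c * minusR m a b v := by
    intro v
    rw [minusR_apply, minusR_apply]
    simp [A, binMat, Matrix.fromBlocks_mulVec, Matrix.mulVec_diagonal, Matrix.mulVec, dotProduct, Fin.sum_univ_two,
      Matrix.diagonal_apply]
    rw [mul_add (c : F), Finset.mul_sum]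
    congr 1
    · exact Finset.sum_congr rfl fun i _ => by ring
    · linear_combination (v (.inr 0) ^ 2 + a * v (.inr 0) * v (.inr 1) + b * v (.inr 1) ^ 2) * hN
  have hdet : A.det = (c : F) ^ (m + 1) := by
    rw [Matrix.det_fromBlocks_zero₂₁, Matrix.det_diagonal, Fintype.prod_sum_type, binMat, Matrix.det_fin_two]
    simp
    linear_combination ((c : F) ^ m) * hN
  let d : Cfsg.Geo.quadSimilarityGroup (F := F) ⇑(minusR m a b) :=
    ⟨GeneralLinearGroup.mkOfDetNeZero A (by rw [hdet]; exact pow_ne_zero _ c.ne_zero), c, hA⟩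
  have hμ : multS (model_minus hm hab).toModel0 d = c := Units.ext (multS_eq _ (g := d) hA)
  refine ⟨x, y, d, hN, rfl, hμ, ?_⟩
  rw [deltaS_apply, hμ, mul_inv_eq_one]
  exact Units.ext (by rw [Units.val_pow_eq_pow_val]; exact hdet)

theorem minus_preserves_iff (hodd : Odd (Fintype.card F)) (hm : 3 ≤ m)
    (hab : ∀ z₁ z₂ : F, z₁ ^ 2 + a * z₁ * z₂ + b * z₂ ^ 2 = 0 → z₁ = 0 ∧ z₂ = 0)
    (g : Cfsg.Geo.quadSimilarityGroup (F := F) ⇑(minusR m a b)) :
    Cfsg.PreservesSingularClassesMinus m a b (g.1 : Matrix ((Fin m ⊕ Fin m) ⊕ Fin 2) ((Fin m ⊕ Fin m) ⊕ Fin 2) F) ↔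
      deltaS (model_minus hm hab).toModel0 (m + 1) g = 1 := by
  classical
  have h2 := odd_two_ne_zero hodd
  have key : ∀ (K : Type u) [Field K] [Algebra F K], finrank F K = 2 →
      (Cfsg.PreservesSingularClasses (Cfsg.quadFormMinus m K (algebraMap F K a) (algebraMap F K b))
        ((g.1 : Matrix ((Fin m ⊕ Fin m) ⊕ Fin 2) ((Fin m ⊕ Fin m) ⊕ Fin 2) F).map (algebraMap F K)) ↔
        deltaS (model_minus hm hab).toModel0 (m + 1) g = 1) := by
    intro K _ _ hK
    haveI : FiniteDimensional F K := Module.finite_of_finrank_eq_succ hK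
    haveI : Finite K := Module.finite_of_finite F
    haveI : Fintype K := Fintype.ofFinite K
    set j := algebraMap F K
    have hcard : Fintype.card K = Fintype.card F ^ 2 := by
      rw [Module.card_eq_pow_finrank (K := F) (V := K), hK]
    have h2K : (2 : K) ≠ 0 := fun e => h2 (j.injective (by rw [map_ofNat, map_zero]; exact e))
    have hD0 : a ^ 2 - 4 * b ≠ 0 := fun e => Geometry.discr_not_isSquare h2 hab (e ▸ IsSquare.zero)
    obtain ⟨t, ht⟩ := (isSquare_map_iff j hcard hodd Nat.prime_two hD0).mpr (Or.inl rfl)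
    set ω : K := (-j a + t) / 2 with hω
    have hroot : ω ^ 2 + j a * ω + j b = 0 := by
      rw [map_sub, map_pow, map_mul, map_ofNat] at ht
      rw [hω]; field_simp
      linear_combination -ht
    let RK := minusR m (j a) (j b)
    have hj : ∀ v, RK (fun i => j (v i)) = j (minusR m a b v) := fun v => by
      simp [RK, minusR_apply, map_sum]
    have hRK : (polarBilin RK).Nondegenerate := by
      refine LinearMap.BilinForm.nondegenerate_toMatrix'_iff.mp ?_
      refine Matrix.nondegenerate_of_det_ne_zero ?_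
      show (gram RK).det ≠ 0
      rw [← gram_map_hom j hj, ← RingHom.mapMatrix_apply, ← RingHom.map_det]
      exact fun e => gram_det_ne_zero (model_minus hm hab).nondeg (j.injective (e.trans (map_zero j).symm))
    let f : (Fin m → K) × K →ₗ[K] ((Fin m ⊕ Fin m) ⊕ Fin 2 → K) :=
      { toFun := fun p => Sum.elim (Sum.elim p.1 0) ![ω * p.2, p.2]
        map_add' := fun p q => by funext i; rcases i with (i | i) | i <;> (try fin_cases i) <;> simp [mul_add]
        map_smul' := fun s p => by funext i; rcases i with (i | i) | i <;> (try fin_cases i) <;> simp [mul_left_comm] }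
    have hinj : Function.Injective f := fun p q h => Prod.ext
      (funext fun i => congrFun h (.inl (.inl i))) (congrFun h (.inr 1))
    rw [show Cfsg.quadFormMinus m K (j a) (j b) = ⇑RK from coe_minusR m (j a) (j b)]
    refine preserves_iff_delta j h2K hj (model_minus hm hab).toModel0 hRK (card_minus_index m)
      (U₀ := LinearMap.range f) ?_ ?_ ?_ g
    · rw [LinearMap.finrank_range_of_inj hinj, Module.finrank_prod, Module.finrank_fin_fun, Module.finrank_self]
    · rintro _ ⟨p, rfl⟩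
      rw [minusR_apply]
      simp [f]
      linear_combination p.2 ^ 2 * hroot
    · intro c
      obtain ⟨x, y, d, hN, hdm, hμ, hδ⟩ := exists_minusSim hm hab c
      refine ⟨d, hμ, hδ, ?_⟩
      refine imageSubmodule_eq_of_mapsTo (F := K) (Units.map (RingHom.toMonoidHom
        (RingHom.mapMatrix (m := (Fin m ⊕ Fin m) ⊕ Fin 2) j)) d.1) ?_
      rintro _ ⟨p, rfl⟩
      refine ⟨(fun i => j c * p.1 i, (j y * ω + j x + j a * j y) * p.2), ?_⟩
      show _ = (d.1 : Matrix ((Fin m ⊕ Fin m) ⊕ Fin 2) ((Fin m ⊕ Fin m) ⊕ Fin 2) F).map j *ᵥ _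
      rw [hdm, Matrix.fromBlocks_map, Matrix.fromBlocks_mulVec]
      funext i
      rcases i with (i | i) | i
      · simp [f, Matrix.mulVec, dotProduct, Matrix.diagonal_apply, apply_ite j, map_zero]
      · simp [f, Matrix.mulVec, dotProduct, Matrix.diagonal_apply, apply_ite j, map_zero]
      · fin_cases i <;> simp [f, binMat, Matrix.mulVec, dotProduct, Fin.sum_univ_two]
        · linear_combination (j y * p.2) * hroot
        · ring
  constructor
  · rintro ⟨K, _, _, hK, h⟩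
    exact (key K hK).mp h
  · intro h
    obtain ⟨P, hPm, hPi, hPd⟩ : ∃ P : Polynomial F, P.Monic ∧ Irreducible P ∧ P.natDegree = 2 := by
      refine ⟨Polynomial.X ^ 2 + Polynomial.C a * Polynomial.X + Polynomial.C b, by monicity!, ?_, by compute_degree!⟩
      rw [(show (Polynomial.X ^ 2 + Polynomial.C a * Polynomial.X + Polynomial.C b : Polynomial F).Monic by
        monicity!).irreducible_iff_roots_eq_zero_of_degree_le_three
        (le_of_eq (by symm; compute_degree!)) (le_trans (le_of_eq (show _ = 2 by compute_degree!)) (by norm_num))]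
      refine Multiset.eq_zero_of_forall_notMem fun t ht => one_ne_zero (α := F) (hab t 1 ?_).2
      have ht' := (Polynomial.mem_roots'.mp ht).2
      rw [Polynomial.IsRoot.def] at ht'
      simp only [Polynomial.eval_add, Polynomial.eval_pow, Polynomial.eval_X, Polynomial.eval_mul,
        Polynomial.eval_C] at ht'
      linear_combination ht'
    haveI : Fact (Irreducible P) := ⟨hPi⟩
    have hK : finrank F (AdjoinRoot P) = 2 := by
      rw [(AdjoinRoot.powerBasis hPm.ne_zero).finrank, AdjoinRoot.powerBasis_dim, hPd]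
    exact ⟨AdjoinRoot P, inferInstance, inferInstance, hK, (key (AdjoinRoot P) hK).mpr h⟩

theorem inndiag_minus_eq (hodd : Odd (Fintype.card F)) (hm : 3 ≤ m)
    (hab : ∀ z₁ z₂ : F, z₁ ^ 2 + a * z₁ * z₂ + b * z₂ ^ 2 = 0 → z₁ = 0 ∧ z₂ = 0) :
    Cfsg.autSubgroupOf (fun β => ∃ g : GL ((Fin m ⊕ Fin m) ⊕ Fin 2) F,
      g ∈ Cfsg.Geo.quadSimilarityGroup (F := F) ⇑(minusR m a b) ∧
      Cfsg.PreservesSingularClassesMinus m a b (g : Matrix ((Fin m ⊕ Fin m) ⊕ Fin 2) ((Fin m ⊕ Fin m) ⊕ Fin 2) F) ∧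
      Cfsg.IsInducedBySemilinearPOmega (⇑(minusR m a b)) g (RingEquiv.refl F) β) =
      dia1 (model_minus hm hab).toModel0 (odd_two_ne_zero hodd) (card_minus_index m) := by
  refine le_antisymm ((Subgroup.closure_le _).mpr ?_) ?_
  · rintro β ⟨g, hg, hpres, hind⟩
    exact ⟨⟨g, hg⟩, (sgnS_eq_one _ _ _ _).mpr ((minus_preserves_iff hodd hm hab ⟨g, hg⟩).mp hpres),
      (eq_semAut (pair_of_sim hg) hind).symm⟩
  · rintro _ ⟨g, hg, rfl⟩
    exact Subgroup.subset_closure ⟨g.1, g.2, (minus_preserves_iff hodd hm hab g).mpr ((sgnS_eq_one _ _ _ _).mp hg),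
      isInduced_semAut _ _ _⟩

/-- Transport of a property from the bundled form. -/
theorem inndiag_minus_transfer (hodd : Odd (Fintype.card F)) (hm : 3 ≤ m)
    (hab : ∀ z₁ z₂ : F, z₁ ^ 2 + a * z₁ * z₂ + b * z₂ ^ 2 = 0 → z₁ = 0 ∧ z₂ = 0)
    (P : ∀ Q : ((Fin m ⊕ Fin m) ⊕ Fin 2 → F) → F, Subgroup (MulAut (Cfsg.POmega F Q)) → Prop)
    (h : P ⇑(minusR m a b) (dia1 (model_minus hm hab).toModel0 (odd_two_ne_zero hodd) (card_minus_index m))) :
    P (Cfsg.quadFormMinus m F a b) (Cfsg.inndiagPOmegaMinus m F a b) := by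
  rw [← inndiag_minus_eq hodd hm hab] at h
  have key : ∀ Q : ((Fin m ⊕ Fin m) ⊕ Fin 2 → F) → F, ⇑(minusR m a b) = Q →
      P Q (Cfsg.autSubgroupOf fun β => ∃ g : GL ((Fin m ⊕ Fin m) ⊕ Fin 2) F,
        g ∈ Cfsg.Geo.quadSimilarityGroup (F := F) Q ∧
        Cfsg.PreservesSingularClassesMinus m a b (g : Matrix ((Fin m ⊕ Fin m) ⊕ Fin 2) ((Fin m ⊕ Fin m) ⊕ Fin 2) F) ∧
        Cfsg.IsInducedBySemilinearPOmega Q g (RingEquiv.refl F) β) := by
    rintro Q rfl; exact h
  exact key _ (coe_minusR m a b).symm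

theorem spin_negOne_minus (hodd : Odd (Fintype.card F)) (hm : 3 ≤ m)
    (hab : ∀ z₁ z₂ : F, z₁ ^ 2 + a * z₁ * z₂ + b * z₂ ^ 2 = 0 → z₁ = 0 ∧ z₂ = 0) :
    spinH (model_minus hm hab).nondeg (odd_two_ne_zero hodd) (negOne (minusR m a b)) = 1 ↔
      (Even m ∧ Fintype.card F % 4 = 3) := by
  have hι := card_minus_index m
  have hn : 2 ≤ Fintype.card ((Fin m ⊕ Fin m) ⊕ Fin 2) := by omega
  rw [show spinH (model_minus hm hab).nondeg (odd_two_ne_zero hodd) (negOne (minusR m a b)) = 1 ↔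
      negOne (minusR m a b) ∈ Cfsg.Omega F ⇑(minusR m a b) from
    ⟨fun h => (mem_omega_det_iff (model_minus hm hab).nondeg (odd_two_ne_zero hodd) hn _).mpr ⟨det_negOne_even hι, h⟩,
      spinH_omega _ _ hn⟩, negOne_mem_iff hm hab hodd, Nat.odd_add_one, Nat.not_odd_iff_even]
  exact and_comm

theorem gram_minusR (m : ℕ) (a b : F) : (gram (minusR m a b)).det = (-1) ^ m * (4 * b - a ^ 2) := by
  rw [← Geometry.det_minusGram m a b]
  congr 1
  ext i j
  rw [gram_apply, ← Geometry.polarBilin_matQuad_single]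
  have hq : ∀ v, minusR m a b v = Geometry.matQuad (Geometry.minusMatrix m a b) v := fun v => by
    rw [← coe_minusR, Geometry.quadFormMinus_eq]
  simp [QuadraticMap.polarBilin_apply_apply, QuadraticMap.polar, hq]

theorem spin_sq_minusSim (hodd : Odd (Fintype.card F)) (hm : 3 ≤ m)
    (hab : ∀ z₁ z₂ : F, z₁ ^ 2 + a * z₁ * z₂ + b * z₂ ^ 2 = 0 → z₁ = 0 ∧ z₂ = 0)
    {α : Fˣ} (hα : ¬ IsSquare (α : F)) :
    ∃ d k, multS (model_minus hm hab).toModel0 d = α ∧ deltaS (model_minus hm hab).toModel0 (m + 1) d = 1 ∧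
      d * d = scG (minusR m a b) α * isoG (minusR m a b) k ∧
      spinH (model_minus hm hab).nondeg (odd_two_ne_zero hodd) k = (-1) ^ (m + 1) := by
  have h2 := odd_two_ne_zero hodd
  obtain ⟨x, y, d, hN, hdm, hμ, hδ⟩ := exists_minusSim hm hab α
  obtain ⟨k, hk⟩ := exists_iso_of_multS (model_minus hm hab).toModel0 (g := d * d) (u := α) (by rw [map_mul, hμ])
  refine ⟨d, k, hμ, hδ, hk, ?_⟩
  have hy : y ≠ 0 := fun e => hα ⟨x, by rw [← hN, e]; ring⟩
  have hne : (1 : F) - α ≠ 0 := fun e => hα (by rw [← sub_eq_zero.mp e]; exact IsSquare.one)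
  have hkd : ((k : GL ((Fin m ⊕ Fin m) ⊕ Fin 2) F) : Matrix ((Fin m ⊕ Fin m) ⊕ Fin 2) ((Fin m ⊕ Fin m) ⊕ Fin 2) F) =
      (α : F)⁻¹ • ((d.1 : Matrix ((Fin m ⊕ Fin m) ⊕ Fin 2) ((Fin m ⊕ Fin m) ⊕ Fin 2) F) *
        (d.1 : Matrix ((Fin m ⊕ Fin m) ⊕ Fin 2) ((Fin m ⊕ Fin m) ⊕ Fin 2) F)) := by
    have h := congrArg (fun x : Cfsg.Geo.quadSimilarityGroup (F := F) ⇑(minusR m a b) =>
      (x.1 : Matrix ((Fin m ⊕ Fin m) ⊕ Fin 2) ((Fin m ⊕ Fin m) ⊕ Fin 2) F)) hk
    change (d.1 : Matrix ((Fin m ⊕ Fin m) ⊕ Fin 2) ((Fin m ⊕ Fin m) ⊕ Fin 2) F) *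
        (d.1 : Matrix ((Fin m ⊕ Fin m) ⊕ Fin 2) ((Fin m ⊕ Fin m) ⊕ Fin 2) F) =
      Matrix.scalar _ (α : F) * _ at h
    rw [h, Matrix.scalar_apply, ← Matrix.smul_one_eq_diagonal, Matrix.smul_mul, Matrix.one_mul, smul_smul,
      inv_mul_cancel₀ α.ne_zero, one_smul]
    rfl
  have hdet : (1 - ((k : GL ((Fin m ⊕ Fin m) ⊕ Fin 2) F) :
      Matrix ((Fin m ⊕ Fin m) ⊕ Fin 2) ((Fin m ⊕ Fin m) ⊕ Fin 2) F)).det =
      ((1 - (α : F)) * (1 - (α : F)⁻¹)) ^ m * (y ^ 2 * (4 * b - a ^ 2) / α) := by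
    have hsub : ∀ (A A' : Matrix (Fin m ⊕ Fin m) (Fin m ⊕ Fin m) F) (B B' : Matrix (Fin m ⊕ Fin m) (Fin 2) F)
        (C C' : Matrix (Fin 2) (Fin m ⊕ Fin m) F) (D D' : Matrix (Fin 2) (Fin 2) F),
        Matrix.fromBlocks A B C D - Matrix.fromBlocks A' B' C' D' =
          Matrix.fromBlocks (A - A') (B - B') (C - C') (D - D') := fun A A' B B' C C' D D' => by
      ext (i | i) (j | j) <;> rfl
    rw [hkd, hdm, Matrix.fromBlocks_multiply, Matrix.fromBlocks_smul, ← Matrix.fromBlocks_one, hsub]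
    simp only [Matrix.mul_zero, Matrix.zero_mul, add_zero, zero_add, smul_zero, sub_zero]
    rw [Matrix.det_fromBlocks_zero₂₁]
    congr 1
    · rw [Matrix.diagonal_mul_diagonal, ← Matrix.diagonal_smul, ← Matrix.diagonal_one, Matrix.diagonal_sub,
        Matrix.det_diagonal, Fintype.prod_sum_type]
      simp [mul_pow]
    · rw [Matrix.det_fin_two]
      simp [binMat, Matrix.mul_apply, Fin.sum_univ_two]
      field_simp
      have hα' : (α : F) = x ^ 2 + a * x * y + b * y ^ 2 := hN.symm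
      rw [hα']; ring
  have hD : 4 * b - a ^ 2 ≠ 0 := fun e => Geometry.discr_not_isSquare h2 hab ⟨0, by linear_combination -e⟩
  have hne2 : (1 - (α : F)) * (1 - (α : F)⁻¹) ≠ 0 := by
    refine mul_ne_zero hne fun e => hne ?_
    rw [sub_eq_zero, eq_comm, inv_eq_one] at e
    rw [e, sub_self]
  rw [spinH_of_det_one_sub _ h2 k (by
      rw [hdet]; exact mul_ne_zero (pow_ne_zero _ hne2) (div_ne_zero (mul_ne_zero (pow_ne_zero _ hy) hD) α.ne_zero)),
    hdet, gram_minusR,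
    show ((1 - (α : F)) * (1 - (α : F)⁻¹)) ^ m * (y ^ 2 * (4 * b - a ^ 2) / α) * ((-1) ^ m * (4 * b - a ^ 2)) =
      ((1 - (α : F)) * (1 - (α : F)⁻¹) * -1) ^ m * ((y * (4 * b - a ^ 2)) * (y * (4 * b - a ^ 2)) * (α : F)⁻¹) by
      rw [mul_pow _ (-1 : F)]; ring,
    show (1 - (α : F)) * (1 - (α : F)⁻¹) * -1 = (1 - (α : F)) * (1 - (α : F)) * (α : F)⁻¹ by field_simp; ring]
  set u : Fˣ := Units.mk0 _ (mul_ne_zero (mul_ne_zero hne hne) (inv_ne_zero α.ne_zero))
  set w : Fˣ := Units.mk0 _ (mul_ne_zero (mul_ne_zero (mul_ne_zero hy hD) (mul_ne_zero hy hD))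
    (inv_ne_zero α.ne_zero))
  show sqc (u ^ m * w) = (-1) ^ (m + 1)
  rw [map_mul, map_pow, pow_succ]
  congr 1
  · congr 1
    show sqClass ((1 - (α : F)) * (1 - (α : F)) * (α : F)⁻¹) = -1
    rw [Geometry.sqClass_sq_mul _ hne, Geometry.sqClass_inv, sqClass_eq_neg_one_iff]
    exact hα
  · show sqClass ((y * (4 * b - a ^ 2)) * (y * (4 * b - a ^ 2)) * (α : F)⁻¹) = -1
    rw [Geometry.sqClass_sq_mul _ (mul_ne_zero hy hD), Geometry.sqClass_inv, sqClass_eq_neg_one_iff]
    exact hα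

end Minus

/-- `N / Inn ≅ X`. -/
def QuotInn (X : Type) [Group X] {F : Type*} [Field F] {ι : Type} [Fintype ι] [DecidableEq ι] (Q : (ι → F) → F)
    (N : Subgroup (MulAut (Cfsg.POmega F Q))) : Prop :=
  ∃ φ : N →* X, Function.Surjective φ ∧ φ.ker = (Cfsg.Inn (Cfsg.POmega F Q)).subgroupOf N

end Cfsg.Agent.Lib.Classical.AutPOmega
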