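import Cfsg.Agent.Lib.Classical.AutPOmega.FieldCount
import Cfsg.Agent.Lib.Classical.AutPOmega.GraphInv
import Cfsg.Agent.Lib.Classical.SocleCriterion
import Cfsg.Agent.Lib.Classical.AutPSL.Count

/-!
Automorphisms of `PΩ`, part 43: the fixed points of a standard field automorphism of prime order of an
even-dimensional group, through the group over the fixed field.
-/

set_option autoImplicit false

namespace Cfsg.Agent.Lib.Classical.AutPOmega

open QuadraticMap (polarBilin)
open Matrix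
open scoped commutatorElement

attribute [-simp] QuadraticMap.polarBilin_apply_apply

variable {F : Type*} [Field F] [Fintype F] {ι : Type} [Fintype ι] [DecidableEq ι] {R : QuadraticForm F (ι → F)}

theorem hZ_of_model (hM : Model0 R) (k : Cfsg.POmega F ⇑R) (hk : MulAut.conj k = 1) : k = 1 := by
  have hcard := card_inn hM
  haveI : Finite (MulAut (Cfsg.POmega F ⇑R)) := Finite.of_injective _ DFunLike.coe_injective
  let f : Cfsg.POmega F ⇑R → Cfsg.Inn (Cfsg.POmega F ⇑R) := fun y => ⟨MulAut.conj y, y, rfl⟩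
  have hf : Function.Surjective f := fun ⟨_, y, rfl⟩ => ⟨y, rfl⟩
  have hb : Function.Bijective f := (Nat.bijective_iff_surjective_and_card f).mpr ⟨hf, hcard.symm⟩
  exact hb.1 (Subtype.ext (hk.trans (map_one MulAut.conj).symm))

theorem semAut_eq_iff (hM : Model R) {g h : GL ι F} {σ τ : F ≃+* F} (hp : Cfsg.IsSemisimilarityPair (⇑R) g σ)
    (hq : Cfsg.IsSemisimilarityPair (⇑R) h τ) (he : semAut g σ hp = semAut h τ hq) :
    σ = τ ∧ ∃ u : Fˣ, g = GeneralLinearGroup.scalar ι u * h := by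
  have hστ := param_unique hM hp hq he
  subst hστ
  refine ⟨rfl, ?_⟩
  obtain ⟨μ, hμ⟩ := id hp
  obtain ⟨ν, hν⟩ := id hq
  have hsim : g * h⁻¹ ∈ Cfsg.Geo.quadSimilarityGroup (F := F) ⇑R := by
    refine ⟨μ * ν⁻¹, fun w => ?_⟩
    obtain ⟨v, rfl⟩ := semi_surjective h σ w
    rw [Matrix.mulVec_mulVec, ← Units.val_mul, inv_mul_cancel_right, hμ, hν, Units.val_mul, Units.val_inv_eq_inv_val]
    field_simp
  have h1 : dia R ⟨g * h⁻¹, hsim⟩ * semAut h σ hq = semAut g σ hp := by
    rw [dia_apply, semAut_mul]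
    refine semAut_congr _ _ (Units.ext ?_) (one_mul σ)
    show ((g * h⁻¹ : GL ι F) : Matrix ι ι F) * (h : Matrix ι ι F).map (1 : F ≃+* F) = _
    rw [show (h : Matrix ι ι F).map (1 : F ≃+* F) = (h : Matrix ι ι F) from Matrix.ext fun _ _ => rfl, ← Units.val_mul,
      inv_mul_cancel_right]
  rw [← he, mul_eq_right] at h1
  obtain ⟨u, hu⟩ := (dia_eq_one_iff hM.toModel0 _).mp h1
  exact ⟨u, by rw [← show g * h⁻¹ = GeneralLinearGroup.scalar ι u from hu, inv_mul_cancel_right]⟩

/-- Squares of isometries lie in the derived group. -/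
theorem sq_mem_omega (hM : Model0 R) (k : Cfsg.isometryGroup F ⇑R) : k * k ∈ Cfsg.Omega F ⇑R := by
  show k * k ∈ commutator _
  have hk : k ∈ Subgroup.closure {g : Cfsg.isometryGroup F ⇑R | ∃ v : ι → F, R v ≠ 0 ∧
      ((g : GL ι F) : Matrix ι ι F) = Cfsg.reflectionMatrix (⇑R) v} := by
    rw [closure_refl_iso hM]; exact Subgroup.mem_top _
  let q := QuotientGroup.mk' (commutator (Cfsg.isometryGroup F ⇑R))
  suffices q k * q k = 1 by
    rw [← map_mul] at this
    exact (QuotientGroup.eq_one_iff _).mp this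
  induction hk using Subgroup.closure_induction with
  | mem x hx =>
    obtain ⟨v, -, hv⟩ := hx
    obtain rfl : x = reflI R v := Subtype.ext (Units.ext (hv.trans (reflI_matrix v).symm))
    rw [← map_mul, reflI_mul_self, map_one]
  | one => rw [map_one, mul_one]
  | mul x y _ _ hx hy =>
    have hc : q x * q y = q y * q x := by
      rw [← map_mul, ← map_mul]
      refine (QuotientGroup.eq (s := commutator _)).mpr ?_
      rw [commutator_def]
      have : (x * y)⁻¹ * (y * x) = ⁅y⁻¹, x⁻¹⁆ := by rw [commutatorElement_def]; group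
      rw [this]
      exact Subgroup.commutator_mem_commutator (Subgroup.mem_top _) (Subgroup.mem_top _)
    rw [map_mul, mul_assoc, ← mul_assoc (q y), ← hc, mul_assoc (q x), hy, mul_one, hx]
  | inv x _ hx => rw [map_inv, ← _root_.mul_inv_rev, hx, inv_one]

variable {σ : F ≃+* F} {F₀ : Type*} [Field F₀] [Fintype F₀] {R₀ : QuadraticForm F₀ (ι → F₀)} {j : F₀ →+* F}
  (hσ : ∀ v, R (fun i => σ (v i)) = σ (R v)) (hb : BaseMap R₀ R j 1 1) (hj : ∀ t, σ t = t ↔ ∃ s, j s = t)

/-- Isometries over the subfield. -/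
noncomputable def jI : Cfsg.isometryGroup F₀ ⇑R₀ →* Cfsg.isometryGroup F ⇑R :=
  ((baseGL j hb.left hb.right).comp (Cfsg.isometryGroup F₀ ⇑R₀).subtype).codRestrict (Cfsg.isometryGroup F ⇑R)
    fun k v _ => by
      have := base_sim hb (g := k.1) (μ := 1) (fun w => by rw [one_mul]; exact k.2 w w) v
      rwa [map_one, one_mul] at this

omit [Fintype F] [Fintype F₀] in
theorem jI_coe (k : Cfsg.isometryGroup F₀ ⇑R₀) :
    ((jI hb k : GL ι F) : Matrix ι ι F) = ((k : GL ι F₀) : Matrix ι ι F₀).map j := by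
  show (1 : Matrix ι ι F) * ((k : GL ι F₀) : Matrix ι ι F₀).map j * 1 = _
  rw [Matrix.one_mul, Matrix.mul_one]

/-- The derived group over the subfield. -/
noncomputable def jOm : Cfsg.Omega F₀ ⇑R₀ →* Cfsg.Omega F ⇑R :=
  ((jI hb).comp (Cfsg.Omega F₀ ⇑R₀).subtype).codRestrict (Cfsg.Omega F ⇑R) fun k => by
    show jI hb k.1 ∈ commutator _
    have : (commutator (Cfsg.isometryGroup F₀ ⇑R₀)).map (jI hb) ≤ commutator _ := by
      rw [commutator_def, Subgroup.map_commutator, commutator_def]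
      exact Subgroup.commutator_mono le_top le_top
    exact this ⟨k.1, k.2, rfl⟩

omit [Fintype F] [Fintype F₀] in
theorem omat_jOm (t : Cfsg.Omega F₀ ⇑R₀) : omat (jOm hb t) = (omat t).map j := jI_coe hb t.1

include hσ hb hj in
/-- The fixed points of the standard automorphism. -/
theorem props_phiT [Nonempty ι] (hM : Model R) (hM₀ : Model0 R₀) (hsimple : IsSimpleGroup (Cfsg.POmega F₀ ⇑R₀))
    {p : ℕ} [Fact p.Prime] (hoσ : orderOf σ = p) (hcard : Fintype.card F = Fintype.card F₀ ^ p)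
    (hev : p = 2 → 2 ∣ Nat.card (Cfsg.POmega F₀ ⇑R₀)) : CoreCriterion.Props p (phiT hσ) := by
  classical
  haveI := hsimple
  have hp : p.Prime := Fact.out
  have hM0 := hM.toModel0
  have hσ1 : σ ≠ 1 := fun e => by rw [e, orderOf_one] at hoσ; exact hp.one_lt.ne hoσ
  set φ := phiT hσ
  have hgal : galPart hM φ = σ := galPart_semAut hM _
  let ι₁ : Cfsg.Omega F₀ ⇑R₀ →* Cfsg.POmega F ⇑R := (pr R).comp (jOm hb)
  have hker : ∀ t, ι₁ t = 1 ↔ pr R₀ t = 1 := by
    intro t
    constructor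
    · intro h
      obtain ⟨u, hu⟩ := (dia_eq_one_iff hM0 (omG R (jOm hb t))).mp ((dia_omG _).trans (by
        rw [show pr R (jOm hb t) = 1 from h, map_one]))
      have e : (omat t).map j = Matrix.scalar ι (u : F) := (omat_jOm hb t).symm.trans (congrArg Units.val hu)
      obtain ⟨i₀⟩ := ‹Nonempty ι›
      set w := omat t i₀ i₀
      have hw : j w = u := by have := congrFun (congrFun e i₀) i₀; simpa using this
      have hw0 : w ≠ 0 := fun e' => by rw [e', map_zero] at hw; exact u.ne_zero hw.symm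
      refine hZ_of_model hM₀ _ ?_
      rw [← dia_omG, dia_eq_one_iff hM₀]
      refine ⟨Units.mk0 w hw0, Units.ext (Matrix.ext fun a c => j.injective ?_)⟩
      show j (omat t a c) = j (Matrix.scalar ι w a c)
      have := congrFun (congrFun e a) c
      rw [Matrix.map_apply] at this
      rw [this]
      simp [Matrix.scalar_apply, Matrix.diagonal_apply, apply_ite j, hw]
    · intro h
      obtain ⟨u, hu⟩ := (dia_eq_one_iff hM₀ (omG R₀ t)).mp ((dia_omG _).trans (by rw [h, map_one]))
      refine hZ_of_model hM0 _ ?_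
      show MulAut.conj (pr R (jOm hb t)) = 1
      rw [← dia_omG, dia_eq_one_iff hM0]
      refine ⟨Units.map (j : F₀ →* F) u, Units.ext ?_⟩
      show omat (jOm hb t) = Matrix.scalar ι (j (u : F₀))
      rw [omat_jOm, show omat t = Matrix.scalar ι (u : F₀) from congrArg Units.val hu, Matrix.scalar_apply,
        Matrix.diagonal_map (map_zero j), Matrix.scalar_apply]
  have hιfix : ∀ t, φ (ι₁ t) = ι₁ t := fun t => by
    refine congrArg (pr R) (omega_ext ((omat_semOmega _ _ _ _).trans ?_))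
    rw [inv_one, Units.val_one, Matrix.one_mul, Matrix.mul_one, omat_jOm]
    exact Matrix.ext fun a c => (hj _).mpr ⟨_, rfl⟩
  have hYdia : ∀ y, φ y = y → ∃ k, MulAut.conj y = dia R (baseS hb k) := by
    intro y hy
    obtain ⟨s, rfl⟩ := QuotientGroup.mk'_surjective _ y
    have hc : dia R (omG R s) * φ = φ * dia R (omG R s) := by
      rw [dia_omG]
      exact MulEquiv.ext fun z => by
        show MulAut.conj (pr R s) (φ z) = φ (MulAut.conj (pr R s) z)
        simp [show φ (pr R s) = pr R s from hy]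
    rw [phiT_mul_dia, mul_left_inj] at hc
    obtain ⟨c, hc'⟩ := (dia_eq_one_iff hM0 (galT hσ (omG R s) * (omG R s)⁻¹)).mp (by
      rw [map_mul, map_inv, ← hc, mul_inv_cancel])
    have hc2 : (1 : Cfsg.Geo.quadSimilarityGroup (F := F) ⇑R) * galT hσ (omG R s) = scG R c * (omG R s * 1) := by
      rw [one_mul, mul_one, ← show galT hσ (omG R s) * (omG R s)⁻¹ = scG R c from Subtype.ext hc',
        inv_mul_cancel_right]
    obtain ⟨k, u, hk⟩ := exists_base_of_twist hσ hb hj (a₀ := 1) (c' := 1) (by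
      show (1 : Matrix ι ι F) * (1 : Matrix ι ι F).map σ = _
      rw [Matrix.map_one _ (map_zero σ) (map_one σ), Units.val_one, one_smul, Matrix.one_mul]) hM₀ hc2
    refine ⟨k, ?_⟩
    rw [show QuotientGroup.mk' _ s = pr R s from rfl, ← dia_omG, hk, map_mul,
      (dia_eq_one_iff hM0 (scG R u)).mpr ⟨u, rfl⟩, mul_one]
  have hconjT : ∀ k t, dia R (baseS hb k) (ι₁ t) = ι₁ (semOmega k.1 1 (pair_of_sim k.2) t) := fun k t => by
    refine congrArg (pr R) (omega_ext ((omat_semOmega _ _ _ _).trans ?_))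
    rw [omat_jOm, omat_jOm, omat_semOmega,
      show ((omat t).map j).map (1 : F ≃+* F) = (omat t).map j from Matrix.ext fun _ _ => rfl,
      show (omat t).map (1 : F₀ ≃+* F₀) = omat t from Matrix.ext fun _ _ => rfl, Matrix.map_mul, Matrix.map_mul,
      show ((baseS hb k).1⁻¹ : GL ι F) = (baseS hb k⁻¹).1 by rw [map_inv]; rfl, baseS_coe, baseS_coe]
    simp only [Matrix.one_mul, Matrix.mul_one]
    rfl
  have e₁ : Function.Surjective (ι₁.rangeRestrict) := MonoidHom.rangeRestrict_surjective _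
  let f : Cfsg.POmega F₀ ⇑R₀ →* ι₁.range := QuotientGroup.lift _ ι₁.rangeRestrict fun z hz =>
    Subtype.ext ((hker z).mpr ((QuotientGroup.eq_one_iff z).mpr hz))
  have hf : Function.Bijective f := by
    refine ⟨(injective_iff_map_eq_one f).mpr fun z hz => ?_, ?_⟩
    · obtain ⟨t, rfl⟩ := QuotientGroup.mk'_surjective _ z
      exact (hker t).mp (congrArg Subtype.val hz)
    · rintro ⟨_, t, rfl⟩
      exact ⟨pr R₀ t, rfl⟩
  let e := MulEquiv.ofBijective f hf
  haveI : Nontrivial ι₁.range := e.symm.toEquiv.nontrivial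
  refine CoreCriterion.props_of_socle (hZ_of_model hM0) ι₁.range (by rintro _ ⟨t, rfl⟩; exact hιfix t)
    (fun N hN hne hd => ?_) ?_ ?_ ?_ ?_
  · haveI : IsSimpleGroup ι₁.range := IsSimpleGroup.isSimpleGroup_of_surjective e.toMonoidHom e.surjective
    rcases hN.eq_bot_or_eq_top with h | h
    · exact absurd h hne
    · rwa [h, Subgroup.card_top]
  · rintro y hy _ ⟨t, rfl⟩
    obtain ⟨k, hk⟩ := hYdia y hy
    exact ⟨_, (hconjT k t).symm.trans (by rw [← hk, MulAut.conj_apply])⟩
  · intro hd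
    rcases hp.eq_two_or_odd' with h2 | hpodd
    · subst h2
      rw [← Nat.card_congr e.toEquiv]
      exact hev rfl
    obtain ⟨h, hh⟩ := exists_prime_orderOf_dvd_card' p hd
    have hy : φ h.1 = h.1 := h.2
    obtain ⟨k, hk⟩ := hYdia h.1 hy
    set μ := multS hM₀ k
    obtain ⟨k', hk'⟩ := exists_iso_of_multS hM₀ (g := k * k) (u := μ) (by rw [map_mul])
    have h4 : h.1 ^ 4 ∈ ι₁.range := by
      refine ⟨⟨k' * k', sq_mem_omega hM₀ k'⟩, eq_of_mul_inv_eq_one (hZ_of_model hM0 _ ?_)⟩
      rw [map_mul, map_inv, mul_inv_eq_one, map_pow, hk, ← map_pow, ← map_pow]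
      show MulAut.conj (pr R (jOm hb _)) = _
      rw [← dia_omG, pow_succ k, pow_succ k, pow_succ k, pow_one, mul_assoc (k * k), hk', map_mul]
      have hcomm : ∀ x : Cfsg.Geo.quadSimilarityGroup (F := F₀) ⇑R₀, scG R₀ μ * x = x * scG R₀ μ := scG_comm μ
      simp only [map_mul, baseS_scG, (dia_eq_one_iff hM0 (scG R (Units.map (j : F₀ →* F) μ))).mpr ⟨_, rfl⟩, one_mul,
        mul_one]
      rw [← map_mul, ← map_mul, ← map_mul]
      refine congrArg (dia R) (Subtype.ext (Units.ext ?_))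
      show omat (jOm hb ⟨k' * k', sq_mem_omega hM₀ k'⟩) = ((baseS hb (isoG R₀ (k' * k'))).1 : Matrix ι ι F)
      rw [omat_jOm, baseS_coe, Matrix.one_mul, Matrix.mul_one]
      rfl
    have hodd : Odd (orderOf h.1) := by rw [Subgroup.orderOf_coe, hh]; exact hpodd
    have hmem : h.1 ∈ ι₁.range := by
      have hcop : (orderOf h.1).Coprime 4 := by
        rw [show (4 : ℕ) = 2 ^ 2 from rfl]
        exact Nat.Coprime.pow_right 2 (Nat.coprime_two_right.mpr hodd)
      exact Subgroup.zpowers_le.mpr h4 (mem_zpowers_pow_iff.mpr hcop.symm)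
    have h1 := orderOf_dvd_natCard (⟨h.1, hmem⟩ : ι₁.range)
    rwa [Subgroup.orderOf_mk, Subgroup.orderOf_coe, hh] at h1
  · intro y hy
    obtain ⟨i, hi⟩ := hy
    change φ ^ i = MulAut.conj y at hi
    refine hZ_of_model hM0 _ ?_
    have hg : galPart hM (MulAut.conj y) = 1 := by
      rw [← MonoidHom.mem_ker, ker_galPart hM]; exact inn_le_range ⟨y, rfl⟩
    rw [← hi, map_zpow, hgal] at hg
    obtain ⟨n, rfl⟩ : (p : ℤ) ∣ i := hoσ ▸ orderOf_dvd_iff_zpow_eq_one.mpr hg
    rw [← hi, _root_.zpow_mul, zpow_natCast, phiT_pow_eq_one hσ (hoσ ▸ pow_orderOf_eq_one σ), _root_.one_zpow]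
  · intro γ hc hγ
    haveI : Finite (F ≃+* F) := Finite.of_injective (fun e : F ≃+* F => (e : F → F)) DFunLike.coe_injective
    haveI : Fact (ringChar F).Prime := ⟨CharP.char_is_prime F (ringChar F)⟩
    obtain ⟨f', -, hF⟩ := FiniteField.card F (ringChar F)
    haveI := (AutPSL.gal_cyclic_card (F := F) hF).1
    -- an element centralizing the subgroup is a field automorphism over the subfield
    have key : ∀ γ : MulAut (Cfsg.POmega F ⇑R), γ * φ = φ * γ → (∀ t ∈ ι₁.range, γ t = t) →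
        (∀ t, galPart hM γ (j t) = j t) ∧ (galPart hM γ = 1 → γ = 1) := by
      intro γ hc hγ
      obtain ⟨h, τ, hq, rfl⟩ := pair_semisim hM γ
      rw [galPart_semAut]
      have hτσ : τ * σ = σ * τ := (IsCyclic.commutative (α := F ≃+* F)).is_comm.comm τ σ
      obtain ⟨-, u, hu⟩ := semAut_eq_iff hM _ _ ((semAut_mul _ _).symm.trans (hc.trans (semAut_mul _ _)))
      have hu' : (h : Matrix ι ι F) = (u : F) • (h : Matrix ι ι F).map σ := by
        have e := congrArg Units.val hu
        change (h : Matrix ι ι F) * (1 : Matrix ι ι F).map τ =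
          Matrix.scalar ι (u : F) * ((1 : Matrix ι ι F) * (h : Matrix ι ι F).map σ) at e
        rwa [Matrix.map_one _ (map_zero τ) (map_one τ), Matrix.mul_one, Matrix.one_mul, Matrix.scalar_apply,
          ← Matrix.smul_one_eq_diagonal, Matrix.smul_mul, Matrix.one_mul] at e
      obtain ⟨a₁, c₁, he⟩ : ∃ a c, (h : Matrix ι ι F) a c ≠ 0 := by
        by_contra hcon
        push Not at hcon
        obtain ⟨i₀⟩ := ‹Nonempty ι›
        exact (GeneralLinearGroup.det h).ne_zero (Matrix.det_eq_zero_of_row_eq_zero i₀ (hcon i₀))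
      set e₀ := (h : Matrix ι ι F) a₁ c₁ with he₀
      have hent : ∀ a c, σ ((h : Matrix ι ι F) a c / e₀) = (h : Matrix ι ι F) a c / e₀ := fun a c => by
        have h1 := congrFun (congrFun hu' a) c
        have h2 := congrFun (congrFun hu' a₁) c₁
        simp only [Matrix.smul_apply, Matrix.map_apply, smul_eq_mul] at h1 h2
        rw [← he₀] at h2
        rw [map_div₀]
        conv_rhs => rw [h1, h2, mul_div_mul_left _ _ u.ne_zero]
      choose H hH using fun a c => (hj _).mp (hent a c)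
      have hHm : (h : Matrix ι ι F) = e₀ • (Matrix.of H).map j := Matrix.ext fun a c => by
        simp [hH, mul_div_cancel₀ _ he]
      have hdet : (Matrix.of H).det ≠ 0 := fun e => (GeneralLinearGroup.det h).ne_zero (by
        show (h : Matrix ι ι F).det = 0
        rw [hHm, Matrix.det_smul, ← RingHom.mapMatrix_apply, ← RingHom.map_det, e, map_zero, mul_zero])
      have hτj : ∀ t : F₀, ∃ t', j t' = τ (j t) := fun t => (hj _).mp (by
        rw [← RingAut.mul_apply, ← hτσ, RingAut.mul_apply, (hj _).mpr ⟨t, rfl⟩])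
      choose τ₁ hτ₁ using hτj
      have hinj : Function.Injective τ₁ := fun a b e => j.injective (τ.injective (by rw [← hτ₁, ← hτ₁, e]))
      let τ₀ : F₀ ≃+* F₀ :=
        { Equiv.ofBijective τ₁ (Finite.injective_iff_bijective.mp hinj) with
          map_mul' := fun a b => j.injective (by
            show j (τ₁ (a * b)) = j (τ₁ a * τ₁ b)
            rw [map_mul, hτ₁, hτ₁, hτ₁, map_mul, map_mul])
          map_add' := fun a b => j.injective (by
            show j (τ₁ (a + b)) = j (τ₁ a + τ₁ b)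
            rw [map_add, hτ₁, hτ₁, hτ₁, map_add, map_add]) }
      have hτ₀ : ∀ t, j (τ₀ t) = τ (j t) := hτ₁
      let h₀ : GL ι F₀ := GeneralLinearGroup.mkOfDetNeZero _ hdet
      have hp₀ : Cfsg.IsSemisimilarityPair (⇑R₀) h₀ τ₀ := by
        obtain ⟨μ, hμ⟩ := hq
        obtain ⟨c, hcs⟩ := hb.sim
        simp only [Matrix.one_mulVec] at hcs
        have hrel : ∀ v, e₀ * e₀ * (c * j (R₀ (Matrix.of H *ᵥ fun i => τ₀ (v i)))) = μ * (τ c * τ (j (R₀ v))) := by
          intro v
          have e1 := hμ (fun i => j (v i))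
          rw [hcs, map_mul, hHm, Matrix.smul_mulVec, Geometry.quad_smul,
            show (fun i => τ (j (v i))) = fun i => j (τ₀ (v i)) from funext fun i => (hτ₀ _).symm,
            map_mulVec_hom, hcs] at e1
          exact e1
        obtain ⟨v₁, hv₁⟩ := hM₀.exists_one
        set κ := R₀ (Matrix.of H *ᵥ fun i => τ₀ (v₁ i))
        have hκ : e₀ * e₀ * (c * j κ) = μ * τ c := by
          rw [hrel, hv₁, map_one, map_one, mul_one]
        have hκ0 : κ ≠ 0 := fun e => by
          rw [e, map_zero, mul_zero, mul_zero] at hκ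
          exact mul_ne_zero μ.ne_zero (τ.map_ne_zero_iff.mpr c.ne_zero) hκ.symm
        refine ⟨Units.mk0 κ hκ0, fun v => j.injective ?_⟩
        show j (R₀ (Matrix.of H *ᵥ fun i => τ₀ (v i))) = j (κ * τ₀ (R₀ v))
        rw [map_mul, hτ₀]
        refine mul_left_cancel₀ (mul_ne_zero he he) (mul_left_cancel₀ c.ne_zero ?_)
        linear_combination hrel v - τ (j (R₀ v)) * hκ
      have hone : semAut h₀ τ₀ hp₀ = 1 := by
        refine MulEquiv.ext fun z => ?_
        obtain ⟨t, rfl⟩ := QuotientGroup.mk'_surjective _ z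
        show pr R₀ (semOmega h₀ τ₀ hp₀ t) = pr R₀ t
        rw [← inv_mul_eq_one, ← map_inv, ← map_mul, ← hker, map_mul, map_inv, inv_mul_eq_one]
        refine (?_ : _ = _).trans (hγ (ι₁ t) ⟨t, rfl⟩)
        refine congrArg (pr R) (omega_ext ?_)
        rw [omat_jOm, omat_semOmega, Matrix.map_mul, Matrix.map_mul]
        refine (?_ : _ = (h : Matrix ι ι F) * (omat (jOm hb t)).map τ * ((h⁻¹ : GL ι F) : Matrix ι ι F)).trans
          (omat_semOmega _ _ _ _).symm
        have hmt : ((omat t).map τ₀).map j = (omat (jOm hb t)).map τ := by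
          rw [omat_jOm]; exact Matrix.ext fun _ _ => hτ₀ _
        have hinv : ((h⁻¹ : GL ι F) : Matrix ι ι F) = e₀⁻¹ • ((h₀⁻¹ : GL ι F₀) : Matrix ι ι F₀).map j := by
          refine left_inv_eq_right_inv (a := (h : Matrix ι ι F)) (by rw [← Units.val_mul, inv_mul_cancel]; rfl) ?_
          rw [hHm, Matrix.smul_mul, Matrix.mul_smul, smul_smul, mul_inv_cancel₀ he, one_smul, ← Matrix.map_mul]
          show (((h₀ : GL ι F₀) : Matrix ι ι F₀) * ((h₀⁻¹ : GL ι F₀) : Matrix ι ι F₀)).map j = 1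
          rw [← Units.val_mul, mul_inv_cancel, Units.val_one, Matrix.map_one j (map_zero j) (map_one j)]
        rw [hmt, hinv, hHm, Matrix.smul_mul, Matrix.smul_mul, Matrix.mul_smul, smul_smul, mul_inv_cancel₀ he, one_smul]
        rfl
      obtain ⟨hτ1, w, hw⟩ := eq_scalar_of_semAut_eq_one hM₀ hp₀ hone
      refine ⟨fun t => by rw [← hτ₀, hτ1]; rfl, fun h1 => ?_⟩
      subst h1
      have hsc : (h : Matrix ι ι F) = Matrix.scalar ι (e₀ * j w) := by
        rw [hHm, show Matrix.of H = Matrix.scalar ι (w : F₀) from congrArg Units.val hw, Matrix.scalar_apply,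
          Matrix.diagonal_map (map_zero j), Matrix.scalar_apply, ← Matrix.diagonal_smul]
        rfl
      have hh : h = GeneralLinearGroup.scalar ι
          (Units.mk0 (e₀ * j w) (mul_ne_zero he ((map_ne_zero j).mpr w.ne_zero))) := Units.ext hsc
      have hq' : Cfsg.IsSemisimilarityPair (⇑R)
          (GeneralLinearGroup.scalar ι (Units.mk0 (e₀ * j w) (mul_ne_zero he ((map_ne_zero j).mpr w.ne_zero)))) 1 :=
        hh ▸ hq
      exact (semAut_congr hq hq' hh rfl).trans (semAut_scalar _ hq')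
    obtain ⟨hfix, -⟩ := key γ hc hγ
    obtain ⟨i, hi⟩ := CoreCriterion.mem_zpowers_of_fix hcard hσ1 (fun t => (hj _).mpr ⟨t, rfl⟩) hfix
    change σ ^ i = galPart hM γ at hi
    refine ⟨i, ?_⟩
    show φ ^ i = γ
    have hcp : (φ ^ i)⁻¹ * φ = φ * (φ ^ i)⁻¹ := ((Commute.refl φ).zpow_left i).inv_left.eq
    refine (eq_of_mul_inv_eq_one ((key (γ * (φ ^ i)⁻¹) ?_ fun t ht => ?_).2 ?_)).symm
    · rw [mul_assoc, hcp, ← mul_assoc, hc, mul_assoc]
    · rw [MulAut.mul_apply]
      obtain ⟨t', rfl⟩ := ht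
      have hst : ∀ k : ℤ, (φ ^ k) (ι₁ t') = ι₁ t' := fun k =>
        Subgroup.zpowers_le.mpr (show φ ∈ MulAction.stabilizer (MulAut (Cfsg.POmega F ⇑R)) (ι₁ t') from hιfix t')
          ⟨k, rfl⟩
      rw [← _root_.zpow_neg, hst, hγ _ ⟨t', rfl⟩]
    · rw [map_mul, map_inv, map_zpow, hgal, hi, mul_inv_cancel]

end Cfsg.Agent.Lib.Classical.AutPOmega
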