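import Cfsg.Agent.Lib.Classical.AutPOmega.InvolGraph
import Cfsg.Agent.Lib.Classical.AutPOmega.PropsField
import Cfsg.Agent.Lib.Classical.AutPOmega.MinusField
import Cfsg.Agent.Lib.Classical.AutPOmega.MinusFieldClass
import Cfsg.Agent.Lib.Classical.AutPOmega.PlusMinusGroups

/-!
Automorphisms of `PΩ`, part 44: cores of centralizers in almost simple groups with socle of minus type.
-/

set_option autoImplicit false

namespace Cfsg.Agent.Lib.Classical.AutPOmega

open QuadraticMap (polarBilin)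
open Matrix
open Cfsg.Agent.Lib.Geometry (sqClass sqClass_eq_one_iff dicksonHom closure_refl_eq_top two_ne_zero_exc isometryEquiv mem_Omega_iff)

attribute [-simp] QuadraticMap.polarBilin_apply_apply

theorem props_map {K K' : Type*} [Group K] [Group K'] {p : ℕ} (ψ : K ≃* K') {φ : MulAut K}
    (h : CoreCriterion.Props p φ) : CoreCriterion.Props p (autMap ψ φ) := by
  have hfix : ∀ z, φ z = z → autMap ψ φ (ψ z) = ψ z := fun z hz => by simp [autMap, hz]
  have hback : ∀ y, autMap ψ φ y = y → φ (ψ.symm y) = ψ.symm y := fun y hy => ψ.injective (by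
    rw [MulEquiv.apply_symm_apply]; exact hy)
  refine ⟨?_, fun hp N hN hNn hco => ?_, fun γ hc hγ => ?_⟩
  · obtain ⟨y, hy1, hy⟩ := h.1
    exact ⟨ψ y, fun e => hy1 (ψ.injective (e.trans (map_one ψ).symm)), hfix y hy⟩
  · have hmap : (MonoidHom.eqLocus φ.toMonoidHom (MonoidHom.id K)).map ψ.toMonoidHom =
        MonoidHom.eqLocus (autMap ψ φ).toMonoidHom (MonoidHom.id K') := by
      ext y
      constructor
      · rintro ⟨z, hz, rfl⟩; exact hfix z hz
      · intro hy; exact ⟨ψ.symm y, hback y hy, ψ.apply_symm_apply y⟩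
    rw [← hmap, Subgroup.card_map_of_injective (f := ψ.toMonoidHom) ψ.injective] at hp
    have h0 := h.2.1 hp (N.comap ψ.toMonoidHom)
      (fun n hn => by simpa using hback (ψ n) (hN _ hn))
      (fun y hy n hn => by
        show ψ (y * n * y⁻¹) ∈ N
        rw [map_mul, map_mul, map_inv]
        exact hNn _ (hfix y hy) _ hn)
      (by
        rw [← Subgroup.card_map_of_injective (K := N.comap ψ.toMonoidHom) (f := ψ.toMonoidHom) ψ.injective,
          Subgroup.map_comap_eq_self_of_surjective ψ.surjective]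
        exact hco)
    rw [← Subgroup.map_comap_eq_self_of_surjective (f := ψ.toMonoidHom) ψ.surjective N, h0, Subgroup.map_bot]
  · obtain ⟨γ', rfl⟩ := (autMap ψ).surjective γ
    rw [← map_mul, ← map_mul] at hc
    have hm := h.2.2 γ' ((autMap ψ).injective hc) (fun z hz => ψ.injective (by
      simpa [autMap] using hγ _ (hfix z hz)))
    obtain ⟨i, hi⟩ := hm
    exact ⟨i, by show autMap ψ φ ^ i = _; rw [← map_zpow]; exact congrArg (autMap ψ) hi⟩

section TwoDvd

variable {F : Type*} [Field F] [Fintype F] {ι : Type} [Fintype ι] [DecidableEq ι] {R : QuadraticForm F (ι → F)}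

/-- A product of two commuting reflections gives an involution. -/
theorem two_dvd_card_POmega (hM : Model0 R) (h2 : (2 : F) ≠ 0) {v w z : ι → F} (hv : R v = 1) (hw : R w = 1)
    (hz0 : z ≠ 0) (hvw : polarBilin R v w = 0) (hvz : polarBilin R v z = 0) (hwz : polarBilin R w z = 0) :
    2 ∣ Nat.card (Cfsg.POmega F ⇑R) := by
  classical
  haveI : Fact (Nat.Prime 2) := ⟨Nat.prime_two⟩
  have hv0 : R v ≠ 0 := by rw [hv]; exact one_ne_zero
  have hw0 : R w ≠ 0 := by rw [hw]; exact one_ne_zero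
  set k := reflI R v * reflI R w
  have hn : 2 ≤ Fintype.card ι := by
    by_contra hlt
    have h1 := hM.dim
    rw [Module.finrank_fintype_fun_eq_card] at h1
    obtain ⟨e, f, e₂, f₂, e₃, f₃, h⟩ := hM.hyp
    haveI : Subsingleton ι := Fintype.card_le_one_iff_subsingleton.mp (by omega)
    have hl : ∀ a b : ι → F, ∀ i, polarBilin R a b = a i * b i * polarBilin R (Pi.single i 1) (Pi.single i 1) := by
      intro a b i
      have ha : a = a i • Pi.single i 1 := funext fun l => by simp [Subsingleton.elim l i]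
      have hb : b = b i • Pi.single i 1 := funext fun l => by simp [Subsingleton.elim l i]
      conv_lhs => rw [ha, hb]
      simp only [map_smul, LinearMap.smul_apply, smul_eq_mul]
      ring
    obtain ⟨i, hi⟩ := Function.ne_iff.mp hz0
    have e1 := hl v v i
    rw [Geometry.quad_polar_self, hv, mul_one] at e1
    have e2 := hl v z i
    rw [hvz] at e2
    rcases mul_eq_zero.mp e2.symm with h' | h'
    · rcases mul_eq_zero.mp h' with h'' | h''
      · exact h2 (by rw [e1, h'']; simp)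
      · exact hi h''
    · exact h2 (by rw [e1, h', mul_zero])
  have hk : k ∈ Cfsg.Omega F ⇑R := by
    refine (mem_Omega_iff R hM.nondeg h2 (by simpa [Module.finrank_fintype_fun_eq_card] using hn) _).mpr ⟨?_, ?_⟩
    · show dicksonHom R hM.nondeg (closure_refl_eq_top _ hM.nondeg (two_ne_zero_exc h2))
        (isometryEquiv _ (reflI _ v * reflI _ w)) = 1
      rw [map_mul, map_mul, (Geometry.isometryEquiv_eq_refl_iff _ _ v).mpr (reflI_matrix v),
        (Geometry.isometryEquiv_eq_refl_iff _ _ w).mpr (reflI_matrix w), Geometry.dicksonHom_refl _ _ _ hv0,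
        Geometry.dicksonHom_refl _ _ _ hw0]
      decide
    · show spinH hM.nondeg h2 (reflI _ v * reflI _ w) = 1
      rw [map_mul, spinH_reflection hM.nondeg h2 hv0 (reflI_matrix v),
        spinH_reflection hM.nondeg h2 hw0 (reflI_matrix w), hv, hw, sqClass_eq_one_iff.mpr IsSquare.one, one_mul]
  have ho : orderOf (pr R ⟨k, hk⟩) = 2 := by
    refine orderOf_eq_prime ?_ fun e => ?_
    · rw [← map_pow, show (⟨k, hk⟩ : Cfsg.Omega F ⇑R) ^ 2 = 1 from Subtype.ext (by
        show k ^ 2 = 1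
        simp only [k]
        rw [pow_two, mul_assoc, ← mul_assoc (reflI _ w), ← reflI_commute hvw, mul_assoc, reflI_mul_self, mul_one,
          reflI_mul_self]), map_one]
    · obtain ⟨u, hu⟩ := (dia_eq_one_iff hM (omG R ⟨k, hk⟩)).mp ((dia_omG _).trans (by rw [e, map_one]))
      have hmat : ∀ x, ((k : GL ι F) : Matrix ι ι F) *ᵥ x = (u : F) • x := fun x => by
        rw [show ((k : GL ι F) : Matrix ι ι F) = Matrix.scalar ι (u : F) from congrArg Units.val hu,
          Matrix.scalar_apply, ← Matrix.smul_one_eq_diagonal, Matrix.smul_mulVec, Matrix.one_mulVec]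
      have hkx : ∀ x, ((k : GL ι F) : Matrix ι ι F) *ᵥ x = ((reflI R v : GL ι F) : Matrix ι ι F) *ᵥ
          (((reflI R w : GL ι F) : Matrix ι ι F) *ᵥ x) := fun x => (Matrix.mulVec_mulVec _ _ _).symm
      have e1 := hmat v
      rw [hkx, reflI_mulVec w v, Geometry.quad_polar_comm, hvw, mul_zero, zero_smul, sub_zero, reflI_mulVec,
        Geometry.quad_polar_self, hv, inv_one, one_mul, mul_one] at e1
      have e2 := hmat z
      rw [hkx, reflI_mulVec w z, hwz, mul_zero, zero_smul, sub_zero, reflI_mulVec, hvz, mul_zero, zero_smul,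
        sub_zero] at e2
      have hu1 : (u : F) = 1 := smul_left_injective F hz0 (e2.symm.trans (one_smul F z).symm)
      rw [hu1, one_smul] at e1
      have hv1 : (2 : F) • v = 0 := by
        have := sub_eq_self.mp e1
        exact this
      exact hv0 (by rw [(smul_eq_zero.mp hv1).resolve_left h2, map_zero])
  exact ho ▸ orderOf_dvd_natCard _

end TwoDvd

variable {F : Type*} [Field F] [Fintype F] {m : ℕ}

theorem exists_no_root (K : Type*) [Field K] [Finite K] : ∃ b : K, ∀ t : K, t ^ 2 + 1 * t + b ≠ 0 := by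
  by_contra hcon
  push Not at hcon
  have hsurj : Function.Surjective fun t : K => t ^ 2 + t := fun y => by
    obtain ⟨t, ht⟩ := hcon (-y)
    exact ⟨t, by simp only; linear_combination ht⟩
  have h := Finite.injective_iff_surjective.mpr hsurj (a₁ := 0) (a₂ := -1) (by simp)
  exact one_ne_zero (neg_eq_zero.mp h.symm)

theorem isSimpleGroup_minusR (hm : 3 ≤ m) {a b : F}
    (hab : ∀ z₁ z₂ : F, z₁ ^ 2 + a * z₁ * z₂ + b * z₂ ^ 2 = 0 → z₁ = 0 ∧ z₂ = 0) :
    IsSimpleGroup (Cfsg.POmega F ⇑(minusR m a b)) :=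
  isSimpleGroup_POmega _ (binaryForm_nondegenerate a b hab) m hm (minusEquiv m F) _ fun _ => rfl

/-- The criterion for the bundled form. -/
theorem minus_balance (hm : 3 ≤ m) {a b : F}
    (hab : ∀ z₁ z₂ : F, z₁ ^ 2 + a * z₁ * z₂ + b * z₂ ^ 2 = 0 → z₁ = 0 ∧ z₂ = 0) {r : ℕ} [Fact r.Prime] [CharP F r]
    {Q : ((Fin m ⊕ Fin m) ⊕ Fin 2 → F) → F} (hQ : Q = ⇑(minusR m a b))
    (A : Subgroup (MulAut (Cfsg.POmega F Q))) (hinn : ∀ k, MulAut.conj k ∈ A) {p : ℕ} [Fact p.Prime] (hpr : p ≠ r)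
    (x : MulAut (Cfsg.POmega F Q)) (hord : orderOf x = p)
    (hnot : ¬ ∃ g : GL ((Fin m ⊕ Fin m) ⊕ Fin 2) F, g ∈ Cfsg.Geo.quadSimilarityGroup (F := F) Q ∧
      Cfsg.PreservesSingularClassesMinus m a b (g : Matrix ((Fin m ⊕ Fin m) ⊕ Fin 2) ((Fin m ⊕ Fin m) ⊕ Fin 2) F) ∧
      Cfsg.IsInducedBySemilinearPOmega Q g (RingEquiv.refl F) x) :
    Cfsg.pPrimeCore p ↥(A ⊓ Subgroup.centralizer {x}) ≠ ⊥ ↔
      ((∃ (a' b' : F) (ψ : Cfsg.POmega F Q ≃* Cfsg.POmega F (Cfsg.quadFormMinus m F a' b')) (σ : F ≃+* F),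
        (∀ z₁ z₂ : F, z₁ ^ 2 + a' * z₁ * z₂ + b' * z₂ ^ 2 = 0 → z₁ = 0 ∧ z₂ = 0) ∧
        σ ≠ RingEquiv.refl F ∧ σ a' = a' ∧ σ b' = b' ∧
        Cfsg.IsFieldAutPOmegaOf (Cfsg.quadFormMinus m F a' b') σ ((ψ.symm.trans x).trans ψ)) ∧
        Nat.Coprime p (Nat.card ↥(MonoidHom.eqLocus x.toMonoidHom (MonoidHom.id (Cfsg.POmega F Q))))) := by
  subst hQ
  classical
  have hp : p.Prime := Fact.out
  haveI : Nonempty ((Fin m ⊕ Fin m) ⊕ Fin 2) := ⟨Sum.inr 0⟩
  haveI : Finite (F ≃+* F) := Finite.of_injective (fun e : F ≃+* F => (e : F → F)) DFunLike.coe_injective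
  have hM := model_minus hm hab
  have hι := card_minus_index m
  set σ := galPart hM x
  have hσp : σ ^ p = 1 := by rw [← map_pow, ← hord, pow_orderOf_eq_one, map_one]
  have hdiaRange : σ = 1 → ∃ g, dia (minusR m a b) g = x ∧ clsS hM.toModel0 hι g ≠ 1 := fun e => by
    have h1 : x ∈ (dia (minusR m a b)).range := by rw [← ker_galPart hM]; exact e
    obtain ⟨g, hg⟩ := h1
    refine ⟨g, hg, fun hc => hnot ⟨g.1, g.2, (minus_preserves_cls hm hab g).mpr hc, ?_⟩⟩
    rw [← hg]
    exact isInduced_semAut _ _ _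
  by_cases hσ1 : σ = 1
  · -- graph involutions
    obtain ⟨g, hg, hcls⟩ := hdiaRange hσ1
    have hp2 : p = 2 := by
      refine hp.eq_two_or_odd'.resolve_right fun hpodd => hcls ?_
      have h1 : dia (minusR m a b) (g ^ p) = 1 := by rw [map_pow, hg, ← hord, pow_orderOf_eq_one]
      obtain ⟨u, hu⟩ := (dia_eq_one_iff hM.toModel0 _).mp h1
      have h3 := congrArg (clsS hM.toModel0 hι) (show g ^ p = scG _ u from Subtype.ext hu)
      rw [clsS_scG, map_pow] at h3
      rcases Int.units_eq_one_or (clsS hM.toModel0 hι g) with e | e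
      · exact e
      · rw [e, hpodd.neg_one_pow] at h3
        exact absurd h3 (by decide)
    subst hp2
    have hq : Odd (Fintype.card F) := by
      obtain ⟨f, -, hF⟩ := FiniteField.card F r
      rw [hF]
      exact ((Fact.out : r.Prime).odd_of_ne_two fun e => hpr e.symm).pow
    have h2 := odd_two_ne_zero hq
    have hdelta : deltaS hM.toModel0 (m + 1) g = -1 :=
      (deltaS_sq hM.toModel0 hι g).resolve_left fun e => hcls ((clsS_odd hM.toModel0 hι h2 g).mpr e)
    have h11 : dia (minusR m a b) g * dia (minusR m a b) g = 1 := by rw [hg, ← pow_two]; exact orderOf_dvd_iff_pow_eq_one.mp hord.dvd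
    have hinv := invProps_graph hM hq hι (by omega) hdelta h11
    rw [hg] at hinv
    let v : (Fin m ⊕ Fin m) ⊕ Fin 2 → F := Sum.elim (plusVec m F ⟨0, by omega⟩) 0
    let w : (Fin m ⊕ Fin m) ⊕ Fin 2 → F := Sum.elim (plusVec m F ⟨1, by omega⟩) 0
    let z : (Fin m ⊕ Fin m) ⊕ Fin 2 → F := Sum.elim (plusVec m F ⟨2, by omega⟩) 0
    have hval : ∀ i : Fin m, minusR m a b (Sum.elim (plusVec m F i) 0) = 1 := fun i => by
      rw [minusR_apply]; simp [plusVec, Pi.single_apply]
    have hpol : ∀ i l : Fin m, i ≠ l →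
        polarBilin (minusR m a b) (Sum.elim (plusVec m F i) 0) (Sum.elim (plusVec m F l) 0) = 0 := fun i l hil => by
      rw [QuadraticMap.polarBilin_apply_apply, QuadraticMap.polar, hval, hval, minusR_apply]
      simp [plusVec, Pi.single_apply, add_mul, mul_add, Finset.sum_add_distrib, hil, hil.symm]
    have hev : 2 ∣ Nat.card (Cfsg.POmega F ⇑(minusR m a b)) :=
      two_dvd_card_POmega hM.toModel0 h2 (v := v) (w := w) (z := z) (hval _) (hval _)
        (fun e => by
          have := hval ⟨2, by omega⟩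
          rw [show Sum.elim (plusVec m F ⟨2, by omega⟩) 0 = z from rfl, e, map_zero] at this
          exact zero_ne_one this)
        (hpol _ _ (by simp [Fin.ext_iff])) (hpol _ _ (by simp [Fin.ext_iff])) (hpol _ _ (by simp [Fin.ext_iff]))
    exact CoreCriterion.criterion_of_invProps hinn hord hev (hZ_of_model hM.toModel0) hinv _
  have hoσ : orderOf σ = p := orderOf_eq_prime hσp hσ1
  have hpodd : Odd p := by
    refine hp.eq_two_or_odd'.resolve_left fun hp2 => hσ1 ?_
    subst hp2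
    have hq : Odd (Fintype.card F) := by
      obtain ⟨f, -, hF⟩ := FiniteField.card F r
      rw [hF]
      exact ((Fact.out : r.Prime).odd_of_ne_two fun e => hpr e.symm).pow
    have h2 := odd_two_ne_zero hq
    obtain ⟨g, τ, hq', hx⟩ := pair_semisim hM x
    have hτ : σ = τ := (congrArg (galPart hM) hx).trans (galPart_semAut hM hq')
    have h11 : semAut g τ hq' * semAut g τ hq' = 1 := by rw [← hx, ← pow_two]; exact orderOf_dvd_iff_pow_eq_one.mp hord.dvd
    rw [semAut_mul] at h11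
    obtain ⟨hττ, u, hu⟩ := eq_scalar_of_semAut_eq_one hM.toModel0 _ h11
    rw [hτ]
    refine no_semilinear_invol hM.toModel0 h2 hι ?_ hq'
      (fun y => by rw [← RingAut.mul_apply, hττ]; rfl) (c := (u : F)) ?_
    · rw [gram_minusR, show ((-1 : F) ^ (m + 1) * ((-1) ^ m * (4 * b - a ^ 2))) =
        ((-1) ^ m * (-1) ^ m) * (a ^ 2 - 4 * b) by ring, ← mul_pow, neg_one_mul, neg_neg, one_pow, one_mul]
      exact Lib.Geometry.discr_not_isSquare h2 hab
    · have := congrArg Units.val hu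
      show (g : Matrix ((Fin m ⊕ Fin m) ⊕ Fin 2) ((Fin m ⊕ Fin m) ⊕ Fin 2) F) *
        (g : Matrix ((Fin m ⊕ Fin m) ⊕ Fin 2) ((Fin m ⊕ Fin m) ⊕ Fin 2) F).map τ = _
      refine this.trans ?_
      show Matrix.scalar _ (u : F) = _
      rw [Matrix.scalar_apply, ← Matrix.smul_one_eq_diagonal]
  -- a form over the fixed field
  obtain ⟨K₀, hK₀, hj, hcard⟩ := CoreCriterion.exists_fixed_subfield (F := F) hoσ
  obtain ⟨b₀, hb₀⟩ := exists_no_root K₀
  set j : K₀ →+* F := K₀.subtype
  have hfa : σ (j 1) = j 1 := (hj _).mpr ⟨1, rfl⟩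
  have hfb : σ (j b₀) = j b₀ := (hj _).mpr ⟨b₀, rfl⟩
  have hab₀ := anisotropic_of_no_root (a := (1 : K₀)) (b := b₀) hb₀
  have hab' : ∀ z₁ z₂ : F, z₁ ^ 2 + j 1 * z₁ * z₂ + j b₀ * z₂ ^ 2 = 0 → z₁ = 0 ∧ z₂ = 0 :=
    anisotropic_of_no_root fun t ht => by
      have hfix := root_fixed_of_odd hpodd hσp hfa hfb ht
      obtain ⟨t₀, rfl⟩ := (hj t).mp hfix
      refine hb₀ t₀ (j.injective ?_)
      rw [map_add, map_add, map_pow, map_mul, map_zero]
      exact ht
  have hM' := model_minus hm hab'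
  obtain ⟨T, hT⟩ := exists_minus_isometry hm hab hab'
  obtain ⟨T₂, hT₂⟩ := exists_minus_isometry hm hab' hab
  set ψ := pomegaT T hT
  set x' := autMap ψ x with hx'
  have hord' : orderOf x' = p := by rw [hx', MulEquiv.orderOf_eq, hord]
  set σ' := galPart hM' x'
  have hσ'1 : σ' ≠ 1 := by
    intro e
    have h1 : x' ∈ (dia (minusR m (j 1) (j b₀))).range := by rw [← ker_galPart hM']; exact e
    obtain ⟨g', hg'⟩ := h1
    set θ : MulAut (Cfsg.POmega F ⇑(minusR m a b)) := ψ.trans (pomegaT T₂ hT₂)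
    have h2' : θ * x * θ⁻¹ ∈ (dia (minusR m a b)).range := by
      refine ⟨baseS (baseMap_T T₂ hT₂) g', ?_⟩
      rw [← autMap_pomegaT_dia T₂ hT₂, hg', hx']
      exact MulEquiv.ext fun y => rfl
    have h3 := dia_range_normal hM θ⁻¹ h2'
    rw [show θ⁻¹ * (θ * x * θ⁻¹) * θ⁻¹⁻¹ = x by group] at h3
    refine hσ1 ?_
    rw [← ker_galPart hM] at h3
    exact h3
  have hσ'p : σ' ^ p = 1 := by rw [← map_pow, ← hord', pow_orderOf_eq_one, map_one]
  have hoσ' : orderOf σ' = p := orderOf_eq_prime hσ'p hσ'1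
  haveI : Fact r.Prime := ‹_›
  obtain ⟨f, -, hF⟩ := FiniteField.card F r
  haveI := (AutPSL.gal_cyclic_card (F := F) hF).1
  have hzp : Subgroup.zpowers σ' = Subgroup.zpowers σ := by
    haveI := Fintype.ofFinite (F ≃+* F)
    have hle := IsCyclic.card_pow_eq_one_le (α := F ≃+* F) hp.pos
    set S := Finset.univ.filter fun y : F ≃+* F => y ^ p = 1
    have hsub : ∀ τ : F ≃+* F, orderOf τ = p → ∀ y, y ∈ Subgroup.zpowers τ ↔ y ∈ S := by
      intro τ hτ
      have h1 : (Finset.univ.filter fun y => y ∈ Subgroup.zpowers τ) ⊆ S := fun y hy => by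
        obtain ⟨i, rfl⟩ := (Finset.mem_filter.mp hy).2
        refine Finset.mem_filter.mpr ⟨Finset.mem_univ _, ?_⟩
        show (τ ^ i) ^ p = 1
        rw [← zpow_natCast, ← _root_.zpow_mul, mul_comm, _root_.zpow_mul, zpow_natCast, ← hτ, pow_orderOf_eq_one,
          _root_.one_zpow]
      have h2 : (Finset.univ.filter fun y => y ∈ Subgroup.zpowers τ) = S := Finset.eq_of_subset_of_card_le h1 (by
        refine hle.trans (le_of_eq ?_)
        rw [← hτ, ← Nat.card_zpowers, Nat.card_eq_fintype_card, Fintype.card_subtype])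
      intro y
      rw [← h2, Finset.mem_filter]
      exact (and_iff_right (Finset.mem_univ y)).symm
    ext y
    rw [hsub σ' hoσ', hsub σ hoσ]
  have hfix_iff : ∀ t, σ' t = t ↔ σ t = t := fun t => by
    have hst : ∀ τ : F ≃+* F, (τ t = t ↔ Subgroup.zpowers τ ≤ MulAction.stabilizer (F ≃+* F) t) := fun τ => by
      rw [Subgroup.zpowers_le]; rfl
    rw [hst, hst, hzp]
  have ha' : σ' (j 1) = j 1 := (hfix_iff _).mpr hfa
  have hb' : σ' (j b₀) = j b₀ := (hfix_iff _).mpr hfb
  set φ := phiT (minusR_map (m := m) σ' ha' hb')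
  have hgal : galPart hM' φ = σ' := galPart_semAut hM' _
  obtain ⟨g, hg⟩ : x' * φ⁻¹ ∈ (dia (minusR m (j 1) (j b₀))).range := by
    rw [← ker_galPart hM', MonoidHom.mem_ker, map_mul, map_inv, hgal, mul_inv_cancel]
  have hxg : x' = dia (minusR m (j 1) (j b₀)) g * φ := by rw [hg, inv_mul_cancel_right]
  obtain ⟨k, -, hk⟩ := minus_conj hm hab' ha' hb' hp hσ'p hσ'1 (x := g) (by
    rw [← hxg, ← hord', pow_orderOf_eq_one])
  rw [← hxg] at hk
  have hxcls : ∃ (a' b' : F) (ψ : Cfsg.POmega F ⇑(minusR m a b) ≃* Cfsg.POmega F (Cfsg.quadFormMinus m F a' b'))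
      (σ : F ≃+* F), (∀ z₁ z₂ : F, z₁ ^ 2 + a' * z₁ * z₂ + b' * z₂ ^ 2 = 0 → z₁ = 0 ∧ z₂ = 0) ∧
        σ ≠ RingEquiv.refl F ∧ σ a' = a' ∧ σ b' = b' ∧
        Cfsg.IsFieldAutPOmegaOf (Cfsg.quadFormMinus m F a' b') σ ((ψ.symm.trans x).trans ψ) := by
    have key : ∀ Q : ((Fin m ⊕ Fin m) ⊕ Fin 2 → F) → F, Q = ⇑(minusR m (j 1) (j b₀)) →
        ∃ ψ₁ : Cfsg.POmega F ⇑(minusR m a b) ≃* Cfsg.POmega F Q,
          Cfsg.IsFieldAutPOmegaOf Q σ' ((ψ₁.symm.trans x).trans ψ₁) := by
      rintro Q rfl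
      refine ⟨ψ.trans (k⁻¹ : MulAut _), ?_⟩
      have he : (((ψ.trans (k⁻¹ : MulAut _)).symm.trans x).trans (ψ.trans (k⁻¹ : MulAut _))) = φ := by
        have e1 : φ = k⁻¹ * x' * k := by
          show phiT _ = _
          rw [hk]; group
        rw [e1, hx']
        exact MulEquiv.ext fun y => rfl
      rw [he]
      exact fun s s' hs => congrArg (pr _) (omega_ext (((omat_semOmega _ _ _ _).trans (by simp [omat])).trans hs.symm))
    obtain ⟨ψ₁, h₁⟩ := key _ (coe_minusR m (j 1) (j b₀))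
    exact ⟨j 1, j b₀, ψ₁, σ', hab', hσ'1, ha', hb', h₁⟩
  haveI hsimple := isSimpleGroup_minusR (F := K₀) hm hab₀
  have hprops := props_phiT (minusR_map (m := m) σ' ha' hb') (minusR_base (m := m) j 1 b₀)
    (fun t => (hfix_iff t).trans (hj t)) hM' (model_minus hm hab₀).toModel0 hsimple hoσ' hcard
    (fun e => absurd hpodd (by rw [e]; decide))
  have hprops' := props_map ψ.symm (CoreCriterion.props_conj k hprops)
  rw [← hk, hx', show autMap ψ.symm (autMap ψ x) = x from MulEquiv.ext fun y => by simp [autMap]] at hprops'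
  rw [CoreCriterion.core_criterion hinn hord (hZ_of_model hM.toModel0) hprops', and_iff_right hxcls]

end Cfsg.Agent.Lib.Classical.AutPOmega
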