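import Cfsg.Agent.Lib.Classical.AutPOmega.Semi

/-!
Automorphisms of `PΩ`, part 10: the odd-dimensional groups: orders and outer automorphisms.
-/

set_option autoImplicit false

namespace Cfsg.Agent.Lib.Classical.AutPOmega

open QuadraticMap (polarBilin)
open Cfsg.Agent.Lib.Geometry (quadIsometries mem_quadIsometries quad_add quad_smul quad_polar_self
  quad_polar_comm)
open Matrix

attribute [-simp] QuadraticMap.polarBilin_apply_apply

variable {F : Type*} [Field F] {ι : Type} [Fintype ι] [DecidableEq ι]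

/-- The odd-dimensional form as a quadratic form. -/
noncomputable def oddR (m : ℕ) (F : Type*) [Field F] : QuadraticForm F (Unit ⊕ (Fin m ⊕ Fin m) → F) :=
  (hyperForm m (QuadraticMap.sq : QuadraticForm F F)).comp (oddEquiv m F).toLinearMap

theorem coe_oddR (m : ℕ) (F : Type*) [Field F] : Cfsg.quadFormOdd m F = ⇑(oddR m F) :=
  funext fun v => quadFormOdd_eq_hyper m v

theorem model_odd [Fintype F] (hodd : Odd (Fintype.card F)) {m : ℕ} (hm : 3 ≤ m) : Model (oddR m F) :=
  model_of_hyper _ (sq_nondegenerate (odd_two_ne_zero hodd)) hm (noTriality_odd m) (oddEquiv m F)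

theorem oddR_map {m : ℕ} (σ : F ≃+* F) (v : Unit ⊕ (Fin m ⊕ Fin m) → F) :
    oddR m F (fun i => σ (v i)) = σ (oddR m F v) := by
  rw [← coe_oddR]
  simp [Cfsg.quadFormOdd, map_sum]

/-- Field automorphisms for a form with coefficients in the prime field. -/
theorem pair_fld {R : QuadraticForm F (ι → F)} (σ : F ≃+* F) (hσ : ∀ v, R (fun i => σ (v i)) = σ (R v)) :
    Cfsg.IsSemisimilarityPair (⇑R) 1 σ := ⟨1, fun v => by simp [hσ]⟩

/-- The standard field automorphisms. -/
noncomputable def fldHom (R : QuadraticForm F (ι → F))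
    (hR : ∀ (σ : F ≃+* F) v, R (fun i => σ (v i)) = σ (R v)) :
    (F ≃+* F) →* MulAut (Cfsg.POmega F ⇑R) :=
  MonoidHom.mk' (fun σ => semAut 1 σ (pair_fld σ (hR σ))) fun a b => by
    rw [semAut_mul]
    exact semAut_congr _ _ (by rw [map_one, mul_one]) rfl

theorem fldHom_eq {R : QuadraticForm F (ι → F)} (hR : ∀ (σ : F ≃+* F) v, R (fun i => σ (v i)) = σ (R v))
    {σ : F ≃+* F} {β : MulAut (Cfsg.POmega F ⇑R)} (h : Cfsg.IsFieldAutPOmegaOf (⇑R) σ β) :
    β = fldHom R hR σ := by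
  refine MulEquiv.ext fun x => ?_
  obtain ⟨s, rfl⟩ := QuotientGroup.mk'_surjective _ x
  refine h s (semOmega 1 σ (pair_fld σ (hR σ)) s) ?_
  have := omat_semOmega 1 σ (pair_fld σ (hR σ)) s
  simpa [omat] using this

/-- Isometries as similarities. -/
noncomputable def isoG (R : QuadraticForm F (ι → F)) :
    Cfsg.isometryGroup F ⇑R →* Cfsg.Geo.quadSimilarityGroup (F := F) ⇑R :=
  MonoidHom.mk' (fun g => ⟨g.1, ⟨1, fun v => by rw [Units.val_one, one_mul]; exact g.2 v v⟩⟩) fun _ _ => rfl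

/-- Scalars as similarities. -/
noncomputable def scG (R : QuadraticForm F (ι → F)) : Fˣ →* Cfsg.Geo.quadSimilarityGroup (F := F) ⇑R :=
  MonoidHom.mk' (fun u => ⟨GeneralLinearGroup.scalar ι u, ⟨u * u, fun v => by
    show R (Matrix.scalar ι (u : F) *ᵥ v) = _
    rw [show Matrix.scalar ι (u : F) *ᵥ v = (u : F) • v by
      simp [Matrix.scalar_apply, ← Matrix.smul_one_eq_diagonal, Matrix.smul_mulVec],
      quad_smul, Units.val_mul]⟩⟩) fun a b => Subtype.ext (map_mul _ a b)

theorem sim_polar {R : QuadraticForm F (ι → F)} {g : GL ι F} {c : F}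
    (hc : ∀ v, R ((g : Matrix ι ι F) *ᵥ v) = c * R v) (x y : ι → F) :
    polarBilin R ((g : Matrix ι ι F) *ᵥ x) ((g : Matrix ι ι F) *ᵥ y) = c * polarBilin R x y := by
  have h := quad_add R ((g : Matrix ι ι F) *ᵥ x) ((g : Matrix ι ι F) *ᵥ y)
  rw [← Matrix.mulVec_add, hc, hc, hc, quad_add R x y] at h
  linear_combination -h

theorem det_sq_eq {R : QuadraticForm F (ι → F)} (hR : (polarBilin R).Nondegenerate) {g : GL ι F} {c : F}
    (hc : ∀ v, R ((g : Matrix ι ι F) *ᵥ v) = c * R v) :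
    (g : Matrix ι ι F).det * (g : Matrix ι ι F).det = c ^ Fintype.card ι := by
  set B : LinearMap.BilinForm F (ι → F) := polarBilin R
  set M := LinearMap.BilinForm.toMatrix' B
  have hM : M.det ≠ 0 := LinearMap.BilinForm.nondegenerate_toMatrix'_iff.mpr hR |>.det_ne_zero
  have h1 : (g : Matrix ι ι F)ᵀ * M * (g : Matrix ι ι F) = c • M := by
    have hBe : B.comp (Matrix.toLin' (g : Matrix ι ι F)) (Matrix.toLin' (g : Matrix ι ι F)) = c • B :=
      LinearMap.BilinForm.ext fun x y => by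
        simp only [LinearMap.BilinForm.comp_apply, Matrix.toLin'_apply, LinearMap.smul_apply, smul_eq_mul]
        exact sim_polar hc x y
    have := congrArg LinearMap.BilinForm.toMatrix' hBe
    rw [LinearMap.BilinForm.toMatrix'_comp, map_smul, LinearMap.toMatrix'_toLin'] at this
    exact this
  have h2 := congrArg Matrix.det h1
  rw [Matrix.det_mul, Matrix.det_mul, Matrix.det_transpose, Matrix.det_smul] at h2
  exact mul_right_cancel₀ hM (by linear_combination h2)

/-- In odd dimension every similarity is a scalar times an isometry. -/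
theorem sim_split {R : QuadraticForm F (ι → F)} (hR : (polarBilin R).Nondegenerate) {m : ℕ}
    (hι : Fintype.card ι = 2 * m + 1) (g : Cfsg.Geo.quadSimilarityGroup (F := F) ⇑R) :
    ∃ (u : Fˣ) (k : Cfsg.isometryGroup F ⇑R), g = scG R u * isoG R k := by
  obtain ⟨g, c, hc⟩ := g
  have hd := det_sq_eq hR hc
  rw [hι] at hd
  set u : Fˣ := GeneralLinearGroup.det g * (c ^ m)⁻¹ with hu
  have hu2 : (u : F) * (u : F) = c := by
    have : u * u = c := by
      rw [hu]
      have hd' : GeneralLinearGroup.det g * GeneralLinearGroup.det g = c ^ (2 * m + 1) :=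
        Units.ext (by rw [Units.val_mul, Units.val_pow_eq_pow_val]; exact hd)
      rw [mul_mul_mul_comm, hd', ← _root_.mul_inv_rev, ← pow_add, ← two_mul, pow_succ, mul_right_comm,
        mul_inv_cancel, one_mul]
    rw [← Units.val_mul, this]
  refine ⟨u, ⟨(GeneralLinearGroup.scalar ι u)⁻¹ * g, fun v _ => ?_⟩, Subtype.ext ?_⟩
  · show R ((((GeneralLinearGroup.scalar ι u)⁻¹ * g : GL ι F) : Matrix ι ι F) *ᵥ v) = R v
    rw [← map_inv, Units.val_mul, ← Matrix.mulVec_mulVec]
    show R (Matrix.scalar ι ((u⁻¹ : Fˣ) : F) *ᵥ _) = _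
    rw [show ∀ w, Matrix.scalar ι ((u⁻¹ : Fˣ) : F) *ᵥ w = ((u⁻¹ : Fˣ) : F) • w from fun w => by
      simp [Matrix.scalar_apply, ← Matrix.smul_one_eq_diagonal, Matrix.smul_mulVec], quad_smul, hc,
      ← hu2, Units.val_inv_eq_inv_val]
    field_simp
  · show g = GeneralLinearGroup.scalar ι u * ((GeneralLinearGroup.scalar ι u)⁻¹ * g)
    rw [mul_inv_cancel_left]

theorem scG_mem_iso_iff {R : QuadraticForm F (ι → F)} {v : ι → F} (hv : R v ≠ 0) (u : Fˣ) :
    GeneralLinearGroup.scalar ι u ∈ Cfsg.isometryGroup F ⇑R ↔ u = 1 ∨ u = -1 := by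
  have hs : ∀ w, ((GeneralLinearGroup.scalar ι u : GL ι F) : Matrix ι ι F) *ᵥ w = (u : F) • w := fun w => by
    show Matrix.scalar ι (u : F) *ᵥ w = _
    simp [Matrix.scalar_apply, ← Matrix.smul_one_eq_diagonal, Matrix.smul_mulVec]
  constructor
  · intro h
    have h1 : R (((GeneralLinearGroup.scalar ι u : GL ι F) : Matrix ι ι F) *ᵥ v) = R v := h v v
    rw [hs, quad_smul, mul_eq_right₀ hv, mul_self_eq_one_iff] at h1
    rcases h1 with h1 | h1
    · exact Or.inl (Units.ext h1)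
    · exact Or.inr (Units.ext (by simpa using h1))
  · rintro (rfl | rfl) w - <;>
      · show R (((GeneralLinearGroup.scalar ι _ : GL ι F) : Matrix ι ι F) *ᵥ w) = R w
        simp [quad_smul, Matrix.scalar_apply]

theorem range_dia_eq {R : QuadraticForm F (ι → F)} [Finite F] (hM : Model0 R) {m : ℕ}
    (hι : Fintype.card ι = 2 * m + 1) : (dia R).range = ((dia R).comp (isoG R)).range := by
  refine le_antisymm ?_ ?_
  · rintro _ ⟨g, rfl⟩
    obtain ⟨u, k, rfl⟩ := sim_split hM.nondeg hι g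
    refine ⟨k, ?_⟩
    rw [MonoidHom.comp_apply, map_mul, (dia_eq_one_iff hM (scG R u)).mpr ⟨u, rfl⟩, one_mul]
  · rintro _ ⟨k, rfl⟩
    exact ⟨isoG R k, rfl⟩

theorem finrank_ι (m : ℕ) : Fintype.card (Unit ⊕ (Fin m ⊕ Fin m)) = 2 * m + 1 := by
  simp; omega

theorem card_range_dia_odd [Fintype F] (hodd : Odd (Fintype.card F)) {m : ℕ} (hm : 3 ≤ m) :
    Nat.card (dia (oddR m F)).range = 2 * Nat.card (Cfsg.POmega F ⇑(oddR m F)) := by
  classical
  have hM := model_odd hodd hm
  have h2 := odd_two_ne_zero hodd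
  have hι := finrank_ι m
  haveI : Finite (GL (Unit ⊕ (Fin m ⊕ Fin m)) F) := inferInstance
  have hcard := (card_POmega_mul (QuadraticMap.sq : QuadraticForm F F) (sq_nondegenerate h2) m hm
    (oddEquiv m F) ⇑(oddR m F) (fun v => rfl)).2.2 h2
  have hex : ¬ ∃ g : Cfsg.isometryGroup F ⇑(oddR m F), g ∈ Cfsg.Omega F ⇑(oddR m F) ∧
      ((g : GL (Unit ⊕ (Fin m ⊕ Fin m)) F) : Matrix (Unit ⊕ (Fin m ⊕ Fin m)) (Unit ⊕ (Fin m ⊕ Fin m)) F) = -1 := by
    rintro ⟨g, hg, hge⟩
    let D : Cfsg.isometryGroup F ⇑(oddR m F) →* Fˣ :=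
      GeneralLinearGroup.det.comp (Cfsg.isometryGroup F ⇑(oddR m F)).subtype
    have h1 : D g = 1 := Abelianization.commutator_subset_ker D hg
    have h3 := congrArg Units.val h1
    change ((g : GL (Unit ⊕ (Fin m ⊕ Fin m)) F) : Matrix (Unit ⊕ (Fin m ⊕ Fin m)) (Unit ⊕ (Fin m ⊕ Fin m)) F).det = 1 at h3
    rw [hge, Matrix.det_neg, Matrix.det_one, mul_one, hι, Odd.neg_one_pow ⟨m, rfl⟩] at h3
    exact h2 (by linear_combination -h3)
  specialize hcard hex
  obtain ⟨v, hv⟩ : ∃ v, oddR m F v ≠ 0 :=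
    ⟨Pi.single (Sum.inl ()) 1, by rw [← coe_oddR]; simp [Cfsg.quadFormOdd]⟩
  set ψ := (dia (oddR m F)).comp (isoG (oddR m F))
  have hker : Nat.card ψ.ker = 2 := by
    rw [Nat.card_eq_two_iff]
    have hone : (1 : Cfsg.isometryGroup F ⇑(oddR m F)) ∈ ψ.ker := one_mem _
    set s : Cfsg.isometryGroup F ⇑(oddR m F) := ⟨_, (scG_mem_iso_iff hv (-1)).mpr (Or.inr rfl)⟩
    have hs : s ∈ ψ.ker := (dia_eq_one_iff hM _).mpr ⟨-1, rfl⟩
    refine ⟨⟨1, hone⟩, ⟨s, hs⟩, fun he => ?_, ?_⟩
    · have := congrArg (fun g : Cfsg.isometryGroup F ⇑(oddR m F) =>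
        ((g : GL (Unit ⊕ (Fin m ⊕ Fin m)) F) : Matrix (Unit ⊕ (Fin m ⊕ Fin m)) (Unit ⊕ (Fin m ⊕ Fin m)) F) (Sum.inl ()) (Sum.inl ())) (congrArg Subtype.val he)
      simp [s, Matrix.scalar_apply] at this
      exact h2 (by linear_combination this)
    · refine Set.eq_univ_of_forall fun ⟨g, hg⟩ => ?_
      obtain ⟨u, hu⟩ := (dia_eq_one_iff hM _).mp hg
      change g.1 = _ at hu
      rcases (scG_mem_iso_iff hv u).mp (hu ▸ g.2) with rfl | rfl
      · left; exact Subtype.ext (Subtype.ext (hu.trans (map_one _)))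
      · right; exact Subtype.ext (Subtype.ext hu)
  rw [range_dia_eq hM hι, ← Subgroup.index_ker]
  have h1 := ψ.ker.index_mul_card
  rw [hker] at h1
  show ψ.ker.index = _
  omega

theorem card_mulAut_odd [Fintype F] {p f : ℕ} [Fact p.Prime] (hF : Fintype.card F = p ^ f)
    (hodd : Odd (Fintype.card F)) {m : ℕ} (hm : 3 ≤ m) :
    Nat.card (MulAut (Cfsg.POmega F (Cfsg.quadFormOdd m F))) =
      2 * f * Nat.card (Cfsg.POmega F (Cfsg.quadFormOdd m F)) := by
  rw [coe_oddR, card_mulAut hF (model_odd hodd hm)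
    (fun σ => ⟨1, pair_fld σ (oddR_map σ)⟩), card_range_dia_odd hodd hm]
  ring

/-- A normal subgroup of order two with a complementary image is a direct factor. -/
theorem prod_of_order_two {O G : Type*} [Group O] [Group G] [Finite O] (π : O →* G) (s : G →* O)
    (hs : ∀ g, π (s g) = g) (h2 : Nat.card π.ker = 2) :
    Nonempty (O ≃* Multiplicative (ZMod 2) × G) := by
  haveI : Fact (Nat.Prime 2) := ⟨Nat.prime_two⟩
  haveI : IsCyclic π.ker := isCyclic_of_prime_card h2
  have hcomm : ∀ (d : π.ker) (x : O), (d : O) * x = x * d := by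
    intro d x
    obtain ⟨a, b, hab, huniv⟩ := Nat.card_eq_two_iff.mp h2
    have hd : (⟨x * d.1 * x⁻¹, (MonoidHom.normal_ker π).conj_mem d.1 d.2 x⟩ : π.ker) = d := by
      by_cases h1 : d = 1
      · subst h1; exact Subtype.ext (by simp)
      · set d' : π.ker := ⟨x * d.1 * x⁻¹, (MonoidHom.normal_ker π).conj_mem d.1 d.2 x⟩
        have h1' : d' ≠ 1 := fun e => h1 (Subtype.ext (by
          have := congrArg Subtype.val e
          simpa [d'] using this))
        have hall : ∀ y : π.ker, y = a ∨ y = b := fun y => huniv.symm.le (Set.mem_univ y)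
        rcases hall d with r1 | r1 <;> rcases hall d' with r2 | r2 <;> rcases hall 1 with r3 | r3 <;>
          simp_all
    exact (mul_inv_eq_iff_eq_mul.mp (congrArg Subtype.val hd)).symm
  let e₂ : Multiplicative (ZMod 2) ≃* π.ker := mulEquivOfCyclicCardEq (by
    rw [h2, Nat.card_congr Multiplicative.toAdd, Nat.card_zmod])
  let Φ : Multiplicative (ZMod 2) × G →* O :=
    MonoidHom.noncommCoprod (π.ker.subtype.comp e₂.toMonoidHom) s fun d g => hcomm (e₂ d) (s g)
  refine ⟨(MulEquiv.ofBijective Φ ⟨?_, ?_⟩).symm⟩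
  · rw [injective_iff_map_eq_one]
    rintro ⟨d, g⟩ h
    change (e₂ d : O) * s g = 1 at h
    have h' := congrArg π h
    rw [map_mul, MonoidHom.mem_ker.mp (e₂ d).2, one_mul, hs, map_one] at h'
    subst h'
    rw [map_one, mul_one] at h
    exact Prod.ext (e₂.injective (Subtype.ext (h.trans (by simp)))) rfl
  · intro x
    refine ⟨(e₂.symm ⟨x * (s (π x))⁻¹, by rw [MonoidHom.mem_ker, map_mul, map_inv, hs, mul_inv_cancel]⟩, π x), ?_⟩
    show (e₂ (e₂.symm _) : O) * s (π x) = x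
    simp

theorem out_odd [Fintype F] {p f : ℕ} [Fact p.Prime] (hF : Fintype.card F = p ^ f)
    (hodd : Odd (Fintype.card F)) {m : ℕ} (hm : 3 ≤ m) :
    Nonempty (Cfsg.Out (Cfsg.POmega F (Cfsg.quadFormOdd m F)) ≃* Multiplicative (ZMod 2 × ZMod f)) := by
  classical
  haveI : CharP F p := charP_of_card_eq_prime_pow hF
  rw [coe_oddR]
  set R := oddR m F
  have hM := model_odd hodd hm
  haveI : Finite (MulAut (Cfsg.POmega F ⇑R)) := Finite.of_injective _ DFunLike.coe_injective
  let π : Cfsg.Out (Cfsg.POmega F ⇑R) →* (F ≃+* F) :=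
    QuotientGroup.lift _ (galPart hM) (fun x hx => by rw [ker_galPart]; exact inn_le_range hx)
  let s : (F ≃+* F) →* Cfsg.Out (Cfsg.POmega F ⇑R) :=
    (QuotientGroup.mk' _).comp (fldHom R oddR_map)
  have hs : ∀ σ, π (s σ) = σ := fun σ => galPart_semAut hM (pair_fld σ (oddR_map σ))
  have hker : Nat.card π.ker = 2 := by
    have h1 : Nat.card (Cfsg.Out (Cfsg.POmega F ⇑R)) * Nat.card (Cfsg.POmega F ⇑R) =
        2 * f * Nat.card (Cfsg.POmega F ⇑R) := by
      have := Subgroup.card_eq_card_quotient_mul_card_subgroup (Cfsg.Inn (Cfsg.POmega F ⇑R))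
      rw [card_inn hM, card_mulAut hF hM (fun σ => ⟨1, pair_fld σ (oddR_map σ)⟩),
        card_range_dia_odd hodd hm] at this
      rw [← this]; ring
    have h2 := π.ker.index_mul_card
    rw [Subgroup.index_ker, MonoidHom.range_eq_top.mpr (fun σ => ⟨s σ, hs σ⟩), Subgroup.card_top,
      (AutPSL.gal_cyclic_card hF).2, Nat.eq_of_mul_eq_mul_right Nat.card_pos h1] at h2
    have hf : 0 < f := by
      rcases Nat.eq_zero_or_pos f with hf0 | hf0
      · rw [hf0, pow_zero] at hF
        exact absurd (hF ▸ Fintype.one_lt_card (α := F)) (lt_irrefl 1)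
      · exact hf0
    exact Nat.eq_of_mul_eq_mul_left hf (h2.trans (by ring))
  obtain ⟨e⟩ := prod_of_order_two π s hs hker
  obtain ⟨hc, hn⟩ := AutPSL.gal_cyclic_card hF
  let g : (F ≃+* F) ≃* Multiplicative (ZMod f) := mulEquivOfCyclicCardEq (by
    rw [hn, Nat.card_congr Multiplicative.toAdd, Nat.card_zmod])
  exact ⟨e.trans (((MulEquiv.refl _).prodCongr g).trans (MulEquiv.prodMultiplicative (ZMod 2) (ZMod f)).symm)⟩

end Cfsg.Agent.Lib.Classical.AutPOmega
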