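import Cfsg.Agent.Lib.Classical.AutPOmega.GraphInv
import Cfsg.Agent.Lib.Classical.POmegaSimple
import Cfsg.Agent.Lib.Classical.CoreCriterion

/-!
Automorphisms of `PΩ`, part 32: field automorphisms of the odd-dimensional groups, their fixed points and
the cores of their centralizers.
-/

set_option autoImplicit false

namespace Cfsg.Agent.Lib.Classical.AutPOmega

open QuadraticMap (polarBilin)
open Cfsg.Agent.Lib.Geometry (two_ne_zero_exc sqClass sqClass_eq_one_iff isometryEquiv dicksonHom spinorHom closure_refl_eq_top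
  mem_Omega_iff)
open Matrix

attribute [-simp] QuadraticMap.polarBilin_apply_apply

variable {F : Type*} [Field F] [Fintype F] {m : ℕ}

theorem omega_scalar_eq_one (h2 : (2 : F) ≠ 0) {v : Unit ⊕ (Fin m ⊕ Fin m) → F} (hv : oddR m F v ≠ 0)
    {s : Cfsg.isometryGroup F ⇑(oddR m F)}
    (hd : ((s : GL (Unit ⊕ (Fin m ⊕ Fin m)) F) : Matrix (Unit ⊕ (Fin m ⊕ Fin m)) (Unit ⊕ (Fin m ⊕ Fin m)) F).det = 1)
    {u : Fˣ} (hu : s.1 = GeneralLinearGroup.scalar (Unit ⊕ (Fin m ⊕ Fin m)) u) : s = 1 := by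
  rcases (scG_mem_iso_iff hv u).mp (hu ▸ s.2) with rfl | rfl
  · exact Subtype.ext (hu.trans (map_one _))
  · exfalso
    rw [hu] at hd
    change (Matrix.scalar (Unit ⊕ (Fin m ⊕ Fin m)) ((-1 : Fˣ) : F)).det = 1 at hd
    rw [Matrix.scalar_apply, Matrix.det_diagonal, Finset.prod_const, Finset.card_univ, finrank_ι, Units.val_neg,
      Units.val_one, Odd.neg_one_pow ⟨m, rfl⟩] at hd
    exact h2 (by linear_combination -hd)

theorem pr_injective_odd (hodd : Odd (Fintype.card F)) (hm : 3 ≤ m) : Function.Injective (pr (oddR m F)) := by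
  refine (injective_iff_map_eq_one _).mpr fun s hs => ?_
  have hM := model_odd hodd hm
  obtain ⟨u, hu⟩ := (dia_eq_one_iff hM.toModel0 (omG _ s)).mp (by rw [dia_omG, hs, map_one])
  obtain ⟨v, hv⟩ := hM.toModel0.exists_one
  exact Subtype.ext (omega_scalar_eq_one (odd_two_ne_zero hodd) (by rw [hv]; exact one_ne_zero) (det_omega s.2) hu)

theorem odd_hZ (hodd : Odd (Fintype.card F)) (hm : 3 ≤ m) (k : Cfsg.POmega F ⇑(oddR m F))
    (hk : MulAut.conj k = 1) : k = 1 := by
  obtain ⟨s, rfl⟩ := QuotientGroup.mk'_surjective _ k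
  have hM := model_odd hodd hm
  obtain ⟨u, hu⟩ := (dia_eq_one_iff hM.toModel0 (omG _ s)).mp (by rw [dia_omG]; exact hk)
  obtain ⟨v, hv⟩ := hM.toModel0.exists_one
  rw [show s = 1 from Subtype.ext (omega_scalar_eq_one (odd_two_ne_zero hodd) (by rw [hv]; exact one_ne_zero)
    (det_omega s.2) hu), map_one]

theorem inner_diag_odd_iff {m : ℕ} (x : MulAut (Cfsg.POmega F ⇑(oddR m F))) :
    (∃ g : Cfsg.Geo.quadSimilarityGroup (F := F) ⇑(oddR m F), dia (oddR m F) g = x) →
      ∃ g : GL (Unit ⊕ (Fin m ⊕ Fin m)) F, g ∈ Cfsg.Geo.quadSimilarityGroup (F := F) ⇑(oddR m F) ∧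
        Cfsg.IsInducedBySemilinearPOmega (⇑(oddR m F)) g (RingEquiv.refl F) x := by
  rintro ⟨g, rfl⟩
  exact ⟨g.1, g.2, isInduced_semAut _ _ _⟩

/-- An element of order two in `Ω`. -/
theorem exists_omega_order_two (hodd : Odd (Fintype.card F)) (hm : 3 ≤ m) :
    ∃ s : Cfsg.isometryGroup F ⇑(oddR m F), s ∈ Cfsg.Omega F ⇑(oddR m F) ∧ orderOf s = 2 := by
  have hM := (model_odd hodd hm).toModel0
  have h2 := odd_two_ne_zero hodd
  set i₀ : Fin m := ⟨0, by omega⟩
  set i₁ : Fin m := ⟨1, by omega⟩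
  have h01 : i₀ ≠ i₁ := fun e => by simp [i₀, i₁] at e
  set v : Unit ⊕ (Fin m ⊕ Fin m) → F := Sum.elim 0 (Sum.elim (Pi.single i₀ 1) (Pi.single i₀ 1)) with hvd
  set w : Unit ⊕ (Fin m ⊕ Fin m) → F := Sum.elim 0 (Sum.elim (Pi.single i₁ 1) (Pi.single i₁ 1)) with hwd
  have hv : oddR m F v = 1 := by
    rw [← coe_oddR]; simp [Cfsg.quadFormOdd, v, Pi.single_apply]
  have hw : oddR m F w = 1 := by
    rw [← coe_oddR]; simp [Cfsg.quadFormOdd, w, Pi.single_apply]
  have hvw : polarBilin (oddR m F) v w = 0 := by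
    rw [QuadraticMap.polarBilin_apply_apply, QuadraticMap.polar, hv, hw, ← coe_oddR]
    simp [Cfsg.quadFormOdd, v, w, Pi.single_apply, add_mul, mul_add, Finset.sum_add_distrib, h01, h01.symm]
  have hv0 : oddR m F v ≠ 0 := by rw [hv]; exact one_ne_zero
  have hw0 : oddR m F w ≠ 0 := by rw [hw]; exact one_ne_zero
  refine ⟨reflI _ v * reflI _ w, ?_, ?_⟩
  · refine (mem_Omega_iff (oddR m F) hM.nondeg h2 (by rw [finrank_ι]; omega) _).mpr ⟨?_, ?_⟩
    · show dicksonHom (oddR m F) hM.nondeg (closure_refl_eq_top _ hM.nondeg (two_ne_zero_exc h2))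
        (isometryEquiv _ (reflI _ v * reflI _ w)) = 1
      rw [map_mul, map_mul, (Geometry.isometryEquiv_eq_refl_iff _ _ v).mpr (reflI_matrix v),
        (Geometry.isometryEquiv_eq_refl_iff _ _ w).mpr (reflI_matrix w), Geometry.dicksonHom_refl _ _ _ hv0,
        Geometry.dicksonHom_refl _ _ _ hw0]
      decide
    · show spinH hM.nondeg h2 (reflI _ v * reflI _ w) = 1
      rw [map_mul, spinH_reflection hM.nondeg h2 hv0 (reflI_matrix v),
        spinH_reflection hM.nondeg h2 hw0 (reflI_matrix w), hv, hw, sqClass_eq_one_iff.mpr IsSquare.one, one_mul]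
  · refine orderOf_eq_prime ?_ fun e => ?_
    · rw [pow_two, mul_assoc, ← mul_assoc (reflI _ w), ← reflI_commute hvw, mul_assoc, reflI_mul_self, mul_one,
        reflI_mul_self]
    · have := congrArg (fun g : Cfsg.isometryGroup F ⇑(oddR m F) =>
        ((g : GL (Unit ⊕ (Fin m ⊕ Fin m)) F) : Matrix (Unit ⊕ (Fin m ⊕ Fin m)) (Unit ⊕ (Fin m ⊕ Fin m)) F) *ᵥ v) e
      simp only [Subgroup.coe_mul, Units.val_mul, OneMemClass.coe_one, Units.val_one, Matrix.one_mulVec,
        ← Matrix.mulVec_mulVec] at this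
      rw [reflI_mulVec w v, Geometry.quad_polar_comm, hvw, mul_zero, zero_smul, sub_zero, reflI_mulVec,
        Geometry.quad_polar_self, hv, inv_one, one_mul, mul_one] at this
      have h1 := congrFun this (Sum.inr (Sum.inl i₀))
      simp [v] at h1
      exact h2 h1

/-- The fixed points of a standard field automorphism of prime order. -/
theorem props_fld (hodd : Odd (Fintype.card F)) (hm : 3 ≤ m) {p : ℕ} [Fact p.Prime] {σ : F ≃+* F}
    (hσ : orderOf σ = p) {F₀ : Type*} [Field F₀] [Fintype F₀] (hcard : Fintype.card F = Fintype.card F₀ ^ p)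
    {j : F₀ →+* F} (hj : ∀ t, σ t = t ↔ ∃ s, j s = t) :
    CoreCriterion.Props p (fldHom (oddR m F) oddR_map σ) := by
  classical
  set R := oddR m F
  set R₀ := oddR m F₀
  have hp : p.Prime := Fact.out
  have hM : Model R := model_odd hodd hm
  have hodd₀ : Odd (Fintype.card F₀) := (Nat.odd_pow_iff hp.ne_zero).mp (hcard ▸ hodd)
  have hM₀ : Model R₀ := model_odd hodd₀ hm
  have h2 := odd_two_ne_zero hodd
  have h2₀ := odd_two_ne_zero hodd₀
  have hjR : ∀ v, R (fun i => j (v i)) = j (R₀ v) := oddR_hom j m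
  set φ := fldHom R oddR_map σ
  -- the rational points
  set H : Subgroup (Cfsg.isometryGroup F₀ ⇑R₀) := (Cfsg.Omega F ⇑R).comap (jO j h2 hjR)
  set Ω₀ := Cfsg.Omega F₀ ⇑R₀
  have hΩH : Ω₀ ≤ H := by
    rw [← Subgroup.map_le_iff_le_comap]
    show (commutator _).map _ ≤ commutator _
    rw [commutator_def, Subgroup.map_commutator, commutator_def]
    exact Subgroup.commutator_mono le_top le_top
  let ι₀ : H →* Cfsg.POmega F ⇑R := (pr R).comp ((jO j h2 hjR).subgroupComap (Cfsg.Omega F ⇑R))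
  have hι₀ : Function.Injective ι₀ := fun a b h => by
    have h1 := congrArg omat (pr_injective_odd hodd hm h)
    exact Subtype.ext (Subtype.ext (Units.ext (Matrix.ext fun s t =>
      j.injective (congrFun (congrFun h1 s) t))))
  have hιfix : ∀ s : H, φ (ι₀ s) = ι₀ s := fun s => by
    refine congrArg (pr R) (omega_ext ((omat_semOmega _ _ _ _).trans ?_))
    rw [inv_one, Units.val_one, Matrix.one_mul, Matrix.mul_one]
    exact Matrix.ext fun a b => (hj _).mpr ⟨_, rfl⟩
  have hιsurj : ∀ y, φ y = y → ∃ s, ι₀ s = y := fun y hy => by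
    obtain ⟨s, rfl⟩ := QuotientGroup.mk'_surjective _ y
    have h1 := congrArg omat (pr_injective_odd hodd hm (show pr R (semOmega _ _ _ s) = pr R s from hy))
    rw [omat_semOmega, inv_one, Units.val_one, Matrix.one_mul, Matrix.mul_one] at h1
    choose M hM' using fun a b => (hj _).mp (congrFun (congrFun h1 a) b)
    have hMs : (Matrix.of M).map j = omat s := Matrix.ext hM'
    have hdet : (Matrix.of M).det ≠ 0 := fun e => by
      have : (omat s).det = 0 := by rw [← hMs, ← RingHom.mapMatrix_apply, ← RingHom.map_det, e, map_zero]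
      exact (GeneralLinearGroup.det s.1.1).ne_zero this
    have hiso : ∀ w, R (omat s *ᵥ w) = R w := fun w => s.1.2 w w
    let k : Cfsg.isometryGroup F₀ ⇑R₀ := ⟨GeneralLinearGroup.mkOfDetNeZero _ hdet, fun v _ => j.injective (by
      show j (R₀ (Matrix.of M *ᵥ v)) = j (R₀ v)
      rw [← hjR, ← hjR, ← hiso (fun i => j (v i))]
      refine congrArg R ?_
      show _ = omat s *ᵥ _
      rw [← hMs]
      funext i
      simp [Matrix.mulVec, dotProduct, map_sum])⟩
    have hk : jO j h2 hjR k = s.1 := Subtype.ext (Units.ext hMs)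
    exact ⟨⟨k, show jO j h2 hjR k ∈ Cfsg.Omega F ⇑R by rw [hk]; exact s.2⟩, congrArg (pr R) (Subtype.ext hk)⟩
  obtain ⟨s₂, hs₂, hs₂o⟩ := exists_omega_order_two hodd₀ hm
  refine ⟨⟨ι₀ ⟨s₂, hΩH hs₂⟩, fun e => ?_, hιfix _⟩, fun hpY N hNfix hNn hco => ?_, fun γ hc hγ => ?_⟩
  · have h1 : (⟨s₂, hΩH hs₂⟩ : H) = 1 := hι₀ (e.trans (map_one ι₀).symm)
    rw [show s₂ = 1 from congrArg Subtype.val h1, orderOf_one] at hs₂o
    omega
  · -- normal subgroups of order prime to `p`
    set N₀ := (N.comap ι₀).map H.subtype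
    have hNinj : Nat.card N₀ = Nat.card N := by
      rw [Subgroup.card_map_of_injective Subtype.val_injective,
        ← Subgroup.card_map_of_injective (K := N.comap ι₀) hι₀, Subgroup.map_comap_eq,
        inf_eq_right.mpr fun n hn => hιsurj n (hNfix n hn)]
    have hN₀H : ∀ h ∈ H, ∀ n ∈ N₀, h * n * h⁻¹ ∈ N₀ := by
      rintro h hh _ ⟨n, hn, rfl⟩
      refine ⟨⟨h, hh⟩ * n * ⟨h, hh⟩⁻¹, ?_, rfl⟩
      show ι₀ _ ∈ N
      rw [map_mul, map_mul, map_inv]
      exact hNn _ (hιfix _) _ hn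
    haveI : (N₀.subgroupOf Ω₀).Normal := ⟨fun n hn g => hN₀H g.1 (hΩH g.2) n.1 hn⟩
    haveI hsimple : IsSimpleGroup Ω₀ := by
      haveI : IsSimpleGroup (Cfsg.POmega F₀ ⇑R₀) := by
        rw [show ⇑R₀ = Cfsg.quadFormOdd m F₀ from (coe_oddR m F₀).symm]
        exact isSimpleGroup_POmega _ (sq_nondegenerate h2₀) m hm (oddEquiv m F₀) _ (quadFormOdd_eq_hyper m)
      haveI : Nontrivial Ω₀ := ⟨⟨s₂, hs₂⟩, 1, fun e => by
        rw [show s₂ = 1 from congrArg Subtype.val e, orderOf_one] at hs₂o; omega⟩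
      exact IsSimpleGroup.isSimpleGroup_of_surjective (G := Cfsg.POmega F₀ ⇑R₀)
        ((MulEquiv.ofBijective (pr R₀) ⟨pr_injective_odd hodd₀ hm, QuotientGroup.mk'_surjective _⟩).symm.toMonoidHom)
        (MulEquiv.surjective _)
    rcases Subgroup.Normal.eq_bot_or_eq_top (H := N₀.subgroupOf Ω₀) inferInstance with hbot | htop
    · rw [eq_bot_iff]
      intro n hn
      obtain ⟨s, rfl⟩ := hιsurj n (hNfix n hn)
      have hs : s.1 ∈ N₀ := ⟨s, hn, rfl⟩
      have hcomm : ∀ t : Ω₀, s.1 * t.1 * s.1⁻¹ = t.1 := fun t => by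
        have hΩn : s.1 * t.1 * s.1⁻¹ ∈ Ω₀ := (inferInstance : (commutator _).Normal).conj_mem _ t.2 _
        have h1 : s.1 * t.1 * s.1⁻¹ * t.1⁻¹ ∈ N₀ := by
          rw [show s.1 * t.1 * s.1⁻¹ * t.1⁻¹ = s.1 * (t.1 * s.1⁻¹ * t.1⁻¹) by group]
          exact N₀.mul_mem hs (hN₀H _ (hΩH t.2) _ (N₀.inv_mem hs))
        have h3 : (⟨_, Ω₀.mul_mem hΩn (Ω₀.inv_mem t.2)⟩ : Ω₀) ∈ N₀.subgroupOf Ω₀ := h1
        rw [hbot, Subgroup.mem_bot] at h3
        exact mul_inv_eq_one.mp (congrArg Subtype.val h3)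
      have hd : dia R₀ (isoG R₀ s.1) = 1 := by
        refine MulEquiv.ext fun z => ?_
        obtain ⟨t, rfl⟩ := QuotientGroup.mk'_surjective _ z
        show pr R₀ (semOmega _ _ _ t) = pr R₀ t
        refine congrArg (pr R₀) (omega_ext ((omat_semOmega _ _ _ _).trans ?_))
        have := congrArg (fun g : Cfsg.isometryGroup F₀ ⇑R₀ =>
          ((g : GL (Unit ⊕ (Fin m ⊕ Fin m)) F₀) : Matrix (Unit ⊕ (Fin m ⊕ Fin m)) (Unit ⊕ (Fin m ⊕ Fin m)) F₀)) (hcomm t)
        exact this
      obtain ⟨u, hu⟩ := (dia_eq_one_iff hM₀.toModel0 _).mp hd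
      obtain ⟨v, hv⟩ := hM₀.toModel0.exists_one
      have hdet : ((s.1 : GL (Unit ⊕ (Fin m ⊕ Fin m)) F₀) :
          Matrix (Unit ⊕ (Fin m ⊕ Fin m)) (Unit ⊕ (Fin m ⊕ Fin m)) F₀).det = 1 := j.injective (by
        rw [RingHom.map_det, map_one]
        exact det_omega (show jO j h2 hjR s.1 ∈ Cfsg.Omega F ⇑R from s.2))
      rw [Subgroup.mem_bot, show s = 1 from Subtype.ext
        (omega_scalar_eq_one h2₀ (by rw [hv]; exact one_ne_zero) hdet hu), map_one]
    · exfalso
      have hle : Ω₀ ≤ N₀ := fun z hz => by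
        have : (⟨z, hz⟩ : Ω₀) ∈ N₀.subgroupOf Ω₀ := by rw [htop]; exact Subgroup.mem_top _
        exact this
      have hco' : (Nat.card Ω₀).Coprime p :=
        Nat.Coprime.coprime_dvd_left ((Subgroup.card_dvd_of_le hle).trans hNinj.dvd) hco
      suffices hd : p ∣ Nat.card Ω₀ by exact hp.one_lt.ne' (Nat.eq_one_of_dvd_coprimes hco' hd dvd_rfl)
      rcases hp.eq_two_or_odd' with rfl | hodd'
      · have := orderOf_dvd_natCard (⟨s₂, hs₂⟩ : Ω₀)
        rwa [← Subgroup.orderOf_coe, hs₂o] at this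
      · have hY : Nat.card ↥(MonoidHom.eqLocus φ.toMonoidHom (MonoidHom.id _)) = Nat.card H := by
          rw [show MonoidHom.eqLocus φ.toMonoidHom (MonoidHom.id _) = ι₀.range from le_antisymm
            (fun y hy => hιsurj y hy) (by rintro _ ⟨s, rfl⟩; exact hιfix s)]
          exact (Nat.card_congr (MonoidHom.ofInjective hι₀).toEquiv).symm
        rw [hY] at hpY
        obtain ⟨h, hh⟩ := exists_prime_orderOf_dvd_card' p hpY
        obtain ⟨t, ht⟩ := hodd'
        have hsq : ∀ g : Cfsg.isometryGroup F₀ ⇑R₀, g * g ∈ Ω₀ := fun g => by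
          refine (mem_Omega_iff R₀ hM₀.toModel0.nondeg h2₀ (by rw [finrank_ι]; omega) _).mpr ⟨?_, ?_⟩
          · show dicksonHom R₀ hM₀.toModel0.nondeg (closure_refl_eq_top _ hM₀.toModel0.nondeg (two_ne_zero_exc h2₀))
              (isometryEquiv _ (g * g)) = 1
            rw [map_mul, map_mul]; exact Int.units_mul_self _
          · show spinH hM₀.toModel0.nondeg h2₀ (g * g) = 1
            rw [map_mul]; exact Int.units_mul_self _
        have hh1 : h.1 ∈ Ω₀ := by
          have hhp : h.1 ^ p = 1 := by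
            rw [← SubmonoidClass.coe_pow, ← hh, pow_orderOf_eq_one]; rfl
          have : h.1 = h.1 ^ (t + 1) * h.1 ^ (t + 1) := by
            rw [← pow_add, show t + 1 + (t + 1) = p + 1 by omega, pow_succ, hhp, one_mul]
          rw [this]
          exact hsq _
        have h1 := orderOf_dvd_natCard (⟨h.1, hh1⟩ : Ω₀)
        rwa [Subgroup.orderOf_mk, Subgroup.orderOf_coe, hh] at h1
  · -- automorphisms fixing the fixed points
    haveI : Finite (F ≃+* F) := Finite.of_injective (fun e : F ≃+* F => (e : F → F)) DFunLike.coe_injective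
    haveI : Fact (ringChar F).Prime := ⟨CharP.char_is_prime F (ringChar F)⟩
    obtain ⟨f, -, hF⟩ := FiniteField.card F (ringChar F)
    haveI := (AutPSL.gal_cyclic_card (F := F) hF).1
    set τ := galPart hM γ
    have hτσ : τ * σ = σ * τ := (IsCyclic.commutative (α := F ≃+* F)).is_comm.comm τ σ
    have hmem : γ * (fldHom R oddR_map τ)⁻¹ ∈ (dia R).range := by
      rw [← ker_galPart hM, MonoidHom.mem_ker, map_mul, map_inv,
        show galPart hM (fldHom R oddR_map τ) = τ from galPart_semAut hM _, mul_inv_cancel]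
    have hcφ : γ * (fldHom R oddR_map τ)⁻¹ * φ = φ * (γ * (fldHom R oddR_map τ)⁻¹) := by
      have h1 : (fldHom R oddR_map τ)⁻¹ * φ = φ * (fldHom R oddR_map τ)⁻¹ := by
        have : Commute (fldHom R oddR_map τ) φ :=
          show fldHom R oddR_map τ * fldHom R oddR_map σ = _ by rw [← map_mul, hτσ, map_mul]
        exact this.inv_left.eq
      rw [mul_assoc, h1, ← mul_assoc, hc, mul_assoc]
    obtain ⟨v₀, hv₀⟩ := hM₀.toModel0.exists_one
    have hC := centralizer_eq (σ := σ) oddR_map j hM.toModel0 h2 hjR hj hp (hσ ▸ pow_orderOf_eq_one σ)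
      (fun e => by rw [e, orderOf_one] at hσ; exact hp.one_lt.ne hσ) (v₀ := v₀) (by rw [hv₀]; exact one_ne_zero)
      (Sum.inl ())
    obtain ⟨k, hk⟩ : γ * (fldHom R oddR_map τ)⁻¹ ∈ ((dia R).comp (jS j h2 hjR)).range := by
      rw [← hC]; exact ⟨hmem, Subgroup.mem_centralizer_singleton_iff.mpr hcφ⟩
    have hγ' : γ = dia R (jS j h2 hjR k) * fldHom R oddR_map τ := by
      rw [MonoidHom.comp_apply] at hk; rw [hk, inv_mul_cancel_right]
    have hτj : ∀ t : F₀, ∃ t', j t' = τ (j t) := fun t => (hj _).mp (by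
      rw [← RingAut.mul_apply, ← hτσ, RingAut.mul_apply, (hj _).mpr ⟨t, rfl⟩])
    choose τ₁ hτ₁ using hτj
    have hinj : Function.Injective τ₁ := fun a b e => j.injective (τ.injective (by rw [← hτ₁, ← hτ₁, e]))
    let τ₀ : F₀ ≃+* F₀ :=
      { Equiv.ofBijective τ₁ (Finite.injective_iff_bijective.mp hinj) with
        map_mul' := fun a b => j.injective (by
          show j (τ₁ (a * b)) = j (τ₁ a * τ₁ b)
          rw [map_mul, hτ₁, hτ₁, hτ₁, map_mul, map_mul])
        map_add' := fun a b => j.injective (by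
          show j (τ₁ (a + b)) = j (τ₁ a + τ₁ b)
          rw [map_add, hτ₁, hτ₁, hτ₁, map_add, map_add]) }
    have hτ₀ : ∀ t, j (τ₀ t) = τ (j t) := hτ₁
    have hδ : dia R₀ k * fldHom R₀ oddR_map τ₀ = 1 := by
      refine MulEquiv.ext fun z => ?_
      obtain ⟨t, rfl⟩ := QuotientGroup.mk'_surjective _ z
      show dia R₀ k (fldHom R₀ oddR_map τ₀ (pr R₀ t)) = pr R₀ t
      refine congrArg (pr R₀) ?_
      have h1 := hγ (ι₀ ⟨t.1, hΩH t.2⟩) (hιfix _)
      rw [hγ'] at h1
      have h3 := congrArg omat (pr_injective_odd hodd hm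
        (show pr R (semOmega _ _ _ (semOmega _ _ _ ((jO j h2 hjR).subgroupComap (Cfsg.Omega F ⇑R) ⟨t.1, hΩH t.2⟩))) =
          pr R ((jO j h2 hjR).subgroupComap (Cfsg.Omega F ⇑R) ⟨t.1, hΩH t.2⟩) from h1))
      refine omega_ext ?_
      refine Matrix.map_injective j.injective ?_
      refine (?_ : _ = _).trans h3
      erw [omat_semOmega, omat_semOmega, omat_semOmega, omat_semOmega]
      simp only [inv_one, Units.val_one, Matrix.one_mul, Matrix.mul_one, Matrix.map_mul, Matrix.map_map]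
      refine congrArg₂ (· * ·) (congrArg₂ (· * ·) rfl ?_) ?_
      · exact Matrix.ext fun a b => hτ₀ _
      · show _ = (((jS j h2 hjR k)⁻¹).1 : Matrix (Unit ⊕ (Fin m ⊕ Fin m)) (Unit ⊕ (Fin m ⊕ Fin m)) F)
        rw [← map_inv]; rfl
    have hg := congrArg (galPart hM₀) hδ
    rw [map_mul, map_one, show galPart hM₀ (dia R₀ k) = 1 by rw [dia_apply, galPart_semAut],
      show galPart hM₀ (fldHom R₀ oddR_map τ₀) = τ₀ from galPart_semAut hM₀ _, one_mul] at hg
    rw [hg, map_one, mul_one] at hδ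
    have hk1 : dia R (jS j h2 hjR k) = 1 := by
      have : k ∈ ((dia R).comp (jS j h2 hjR)).ker := by
        rw [ker_dia_jS j hM.toModel0 hM₀.toModel0 h2 hjR (Sum.inl ())]; exact hδ
      exact this
    have hτfix : ∀ t, τ (j t) = j t := fun t => by rw [← hτ₀, hg]; rfl
    rw [hγ', hk1, one_mul]
    -- the Galois group
    letI := j.toAlgebra
    let toA : ∀ e : F ≃+* F, (∀ t, e (j t) = j t) → (F ≃ₐ[F₀] F) := fun e he => AlgEquiv.ofRingEquiv (f := e) he
    have hfr : Module.finrank F₀ F = p := by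
      have h := Module.natCard_eq_pow_finrank (K := F₀) (V := F)
      rw [Nat.card_eq_fintype_card, Nat.card_eq_fintype_card, hcard] at h
      exact (Nat.pow_right_injective Fintype.one_lt_card h).symm
    have hgc : Nat.card (F ≃ₐ[F₀] F) = p := by rw [IsGalois.card_aut_eq_finrank, hfr]
    have hσfix : ∀ t, σ (j t) = j t := fun t => (hj _).mpr ⟨t, rfl⟩
    set s := toA σ hσfix
    have hs1 : s ≠ 1 := fun e => by
      have : σ = 1 := RingEquiv.ext fun t => AlgEquiv.congr_fun e t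
      rw [this, orderOf_one] at hσ
      exact hp.one_lt.ne hσ
    have htop := zpowers_eq_top_of_prime_card hgc hs1
    obtain ⟨i, hi⟩ : toA τ hτfix ∈ Subgroup.zpowers s := by rw [htop]; exact Subgroup.mem_top _
    refine ⟨i, ?_⟩
    show φ ^ i = _
    rw [← map_zpow]
    congr 1
    let back : (F ≃ₐ[F₀] F) →* (F ≃+* F) :=
      MonoidHom.mk' (fun e => e.toRingEquiv) fun a b => RingEquiv.ext fun _ => rfl
    have := congrArg back hi
    rw [map_zpow, show back s = σ from RingEquiv.ext fun _ => rfl,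
      show back (toA τ hτfix) = τ from RingEquiv.ext fun _ => rfl] at this
    exact this

/-- Cores of centralizers in almost simple groups with odd-dimensional orthogonal socle. -/
theorem odd_balance (hodd : Odd (Fintype.card F)) (hm : 3 ≤ m) {Q : (Unit ⊕ (Fin m ⊕ Fin m) → F) → F}
    (hQ : Q = (⇑(oddR m F))) (A : Subgroup (MulAut (Cfsg.POmega F Q))) (hinn : ∀ k, MulAut.conj k ∈ A)
    {p : ℕ} [Fact p.Prime] (x : MulAut (Cfsg.POmega F Q)) (hord : orderOf x = p)
    (hnot : ¬ Cfsg.IsSimilarityInducedAutPOmega Q x) :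
    Cfsg.pPrimeCore p ↥(A ⊓ Subgroup.centralizer {x}) ≠ ⊥ ↔
      (Cfsg.IsFieldAutClassPOmega Q x ∧
        Nat.Coprime p (Nat.card ↥(MonoidHom.eqLocus x.toMonoidHom (MonoidHom.id (Cfsg.POmega F Q))))) := by
  subst hQ
  classical
  have hp : p.Prime := Fact.out
  have hM : Model (oddR m F) := model_odd hodd hm
  haveI : Finite (F ≃+* F) := Finite.of_injective (fun e : F ≃+* F => (e : F → F)) DFunLike.coe_injective
  set σ := galPart hM x
  have hσ1 : σ ≠ 1 := fun e => by
    have h1 : x ∈ (dia (oddR m F)).range := by rw [← ker_galPart hM]; exact e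
    exact hnot (by obtain ⟨g, hg⟩ := h1; exact inner_diag_odd_iff x ⟨g, hg⟩)
  have hσp : σ ^ p = 1 := by rw [← map_pow, ← hord, pow_orderOf_eq_one, map_one]
  have hoσ : orderOf σ = p := orderOf_eq_prime hσp hσ1
  set φ := fldHom (oddR m F) oddR_map σ
  have hφcls : Cfsg.IsFieldAutClassPOmega (⇑(oddR m F)) φ := by
    refine ⟨1, φ, σ, hσ1, fun s s' hs => ?_, by group⟩
    exact congrArg (pr (oddR m F)) (omega_ext (((omat_semOmega _ _ _ _).trans (by simp [omat])).trans hs.symm))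
  have hφo : orderOf φ = p := by rw [orderOf_injective _ (fldHom_injective oddR_map hM), hoσ]
  have hδ : x * φ⁻¹ ∈ Cfsg.pgoAut F (⇑(oddR m F)) := by
    rw [pgoAut_eq, ← ker_galPart hM, MonoidHom.mem_ker, map_mul, map_inv,
      show galPart hM φ = σ from galPart_semAut hM _, mul_inv_cancel]
  obtain ⟨h, -, hh⟩ := (order_iff_conj_odd hodd hm rfl φ (x * φ⁻¹) hφcls hp hφo hδ).mp
    (by rw [inv_mul_cancel_right, hord])
  rw [inv_mul_cancel_right] at hh
  have hxcls : Cfsg.IsFieldAutClassPOmega (⇑(oddR m F)) x := by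
    obtain ⟨a, ψ, τ, hτ, hψ, he⟩ := hφcls
    refine ⟨a * h⁻¹, ψ, τ, hτ, hψ, ?_⟩
    rw [← he, hh]; group
  obtain ⟨q, hq⟩ : ∃ q, q = ringChar F := ⟨_, rfl⟩
  haveI : Fact q.Prime := ⟨hq ▸ CharP.char_is_prime F (ringChar F)⟩
  obtain ⟨f, -, hF⟩ := FiniteField.card F (ringChar F)
  rw [← hq] at hF
  haveI : CharP F q := hq ▸ ringChar.charP F
  have hpf : p ∣ (f : ℕ) := by
    rw [← (AutPSL.gal_cyclic_card (F := F) hF).2, ← hoσ]
    exact orderOf_dvd_natCard σ
  obtain ⟨K, hK⟩ : ∃ K : Subfield F, ∀ t, t ∈ K ↔ σ t = t := by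
    refine ⟨FixedPoints.subfield (Subgroup.zpowers σ) F, fun c => ⟨fun h => h ⟨σ, Subgroup.mem_zpowers σ⟩,
      fun h τ => ?_⟩⟩
    exact (Subgroup.zpowers_le.mpr (show σ ∈ MulAction.stabilizer (F ≃+* F) c from h)) τ.2
  haveI : Fintype K := Fintype.ofFinite K
  have hj : ∀ t, σ t = t ↔ ∃ s : K, K.subtype s = t := fun t =>
    ⟨fun h => ⟨⟨t, (hK t).mpr h⟩, rfl⟩, by rintro ⟨s, rfl⟩; exact (hK _).mp s.2⟩
  have hcard : Fintype.card F = Fintype.card K ^ p := by
    letI : MulSemiringAction (Subgroup.zpowers σ) F := inferInstance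
    have hKeq : K = FixedPoints.subfield (Subgroup.zpowers σ) F := SetLike.ext fun c => by
      rw [hK]
      exact ⟨fun h τ => (Subgroup.zpowers_le.mpr (show σ ∈ MulAction.stabilizer (F ≃+* F) c from h)) τ.2,
        fun h => h ⟨σ, Subgroup.mem_zpowers σ⟩⟩
    haveI : Fintype (Subgroup.zpowers σ) := Fintype.ofFinite _
    have hrank : Module.finrank (FixedPoints.subfield (Subgroup.zpowers σ) F) F = p := by
      rw [FixedPoints.finrank_eq_card (Subgroup.zpowers σ) F, ← Nat.card_eq_fintype_card, Nat.card_zpowers, hoσ]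
    have hc := Module.natCard_eq_pow_finrank (K := FixedPoints.subfield (Subgroup.zpowers σ) F) (V := F)
    rw [hrank, Nat.card_eq_fintype_card, ← hKeq] at hc
    rw [hc, Nat.card_eq_fintype_card]
  have hprops := CoreCriterion.props_conj h (props_fld hodd hm hoσ hcard hj (m := m))
  rw [← hh] at hprops
  rw [CoreCriterion.core_criterion hinn hord (odd_hZ hodd hm) hprops, and_iff_right hxcls]

end Cfsg.Agent.Lib.Classical.AutPOmega
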