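import Cfsg.Agent.Lib.Classical.AutPOmega.Field

/-!
Automorphisms of `PΩ`, part 12: field automorphisms of the odd-dimensional groups.
-/

set_option autoImplicit false

namespace Cfsg.Agent.Lib.Classical.AutPOmega

open QuadraticMap (polarBilin)
open Cfsg.Agent.Lib.Geometry (quad_smul sqClass sqClass_eq_one_iff sqClass_eq_neg_one_iff refl spinorHom
  spinorHom_refl closure_refl_eq_top two_ne_zero_exc isometryEquiv isometryEquiv_eq_refl_iff
  closure_reflectionMatrix_eq_top det_reflectionMatrix exists_quad_class_vectors mem_Omega_iff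
  exists_isometry_of_isSquare_det_mul)
open Matrix

attribute [-simp] QuadraticMap.polarBilin_apply_apply

variable {F : Type*} [Field F]

theorem oddR_hom {F₀ : Type*} [Field F₀] (j : F₀ →+* F) (m : ℕ) (v : Unit ⊕ (Fin m ⊕ Fin m) → F₀) :
    oddR m F (fun i => j (v i)) = j (oddR m F₀ v) := by
  rw [← coe_oddR, ← coe_oddR]
  simp [Cfsg.quadFormOdd, map_sum]

theorem toBilin'_isSymm {K ι : Type*} [Field K] [Fintype ι] [DecidableEq ι] {X : Matrix ι ι K} (hX : Xᵀ = X) :
    (Matrix.toBilin' X).IsSymm :=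
  ⟨fun x y => by
    show Matrix.toBilin' X x y = Matrix.toBilin' X y x
    rw [Matrix.toBilin'_apply', Matrix.toBilin'_apply', Matrix.dotProduct_mulVec, ← Matrix.mulVec_transpose, hX,
      dotProduct_comm]⟩

section Descent

variable [Fintype F] {m : ℕ}

theorem exists_descent_odd (hodd : Odd (Fintype.card F)) (hm : 3 ≤ m) {σ : F ≃+* F} {r : ℕ} (hr : r.Prime)
    (hσ : σ ^ r = 1) (hne : σ ≠ 1) (a : Cfsg.Geo.quadSimilarityGroup (F := F) ⇑(oddR m F)) {c : Fˣ}
    (hc : prodS (R := oddR m F) oddR_map σ a r = scG (oddR m F) c) :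
    ∃ (u : Fˣ) (k : Cfsg.Geo.quadSimilarityGroup (F := F) ⇑(oddR m F)),
      a = scG (oddR m F) u * (k * (galS (R := oddR m F) oddR_map σ k)⁻¹) := by
  classical
  have h2 := odd_two_ne_zero hodd
  have hM := model_odd hodd hm
  obtain ⟨K, u, h, b, M, hK, ha, hh, hMs, hM0⟩ :=
    exists_descent_form oddR_map ⟨Sum.inl ()⟩ hM.nondeg hr hσ hne a hc
  have h2K : (2 : K) ≠ 0 := fun e => h2 (by rw [← map_ofNat K.subtype 2, e, map_zero])
  let S : Matrix (Unit ⊕ (Fin m ⊕ Fin m)) (Unit ⊕ (Fin m ⊕ Fin m)) K := Matrix.of fun i j =>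
    ⟨gram (oddR m F) i j, (hK _).mpr (congrFun (congrFun (gram_map oddR_map σ) i) j)⟩
  have hSg : S.map Subtype.val = gram (oddR m F) := Matrix.ext fun _ _ => rfl
  have hSs : Sᵀ = S := Matrix.ext fun i j => Subtype.ext (congrFun (congrFun (gram_comm (oddR m F)) i) j)
  have hS0 : S.det ≠ 0 := fun e => gram_det_ne_zero hM.nondeg (by
    rw [← hSg, show S.map Subtype.val = K.subtype.mapMatrix S from rfl, ← RingHom.map_det, e, map_zero])
  set lam := S.det * M.det with hlam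
  have hlam0 : lam ≠ 0 := mul_ne_zero hS0 hM0
  have hlS0 : (lam • S).det ≠ 0 := by rw [Matrix.det_smul]; exact mul_ne_zero (pow_ne_zero _ hlam0) hS0
  obtain ⟨g, hg⟩ := exists_isometry_of_isSquare_det_mul h2K (Matrix.toBilin' (lam • S)) (Matrix.toBilin' M)
    (toBilin'_isSymm (by rw [Matrix.transpose_smul, hSs])) (toBilin'_isSymm hMs)
    (LinearMap.BilinForm.nondegenerate_toBilin'_of_det_ne_zero' _ hlS0)
    (LinearMap.BilinForm.nondegenerate_toBilin'_of_det_ne_zero' _ hM0) (Pi.basisFun K _) (by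
      simp only [LinearMap.BilinForm.toMatrix_basisFun, LinearMap.BilinForm.toMatrix'_toBilin']
      rw [Matrix.det_smul, finrank_ι]
      exact ⟨lam ^ (m + 1), by rw [mul_assoc, ← hlam]; ring⟩)
  have hP : (LinearMap.toMatrix' g.toLinearMap)ᵀ * M * LinearMap.toMatrix' g.toLinearMap = lam • S := by
    have hB : LinearMap.BilinForm.comp (Matrix.toBilin' M) g.toLinearMap g.toLinearMap =
        Matrix.toBilin' (lam • S) := LinearMap.BilinForm.ext fun x y => hg x y
    have := congrArg LinearMap.BilinForm.toMatrix' hB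
    rwa [LinearMap.BilinForm.toMatrix'_comp, LinearMap.BilinForm.toMatrix'_toBilin',
      LinearMap.BilinForm.toMatrix'_toBilin'] at this
  have hP0 : (LinearMap.toMatrix' g.toLinearMap).det ≠ 0 := by
    intro e
    apply hlS0
    rw [← hP, Matrix.det_mul, e, mul_zero]
  obtain ⟨k, hk⟩ := descent_of_isometry oddR_map h2 (fun t ht => (hK t).mp ht) ha hh hlam0 hP0 (by
    rw [hP, ← hSg]; exact Matrix.ext fun _ _ => rfl)
  exact ⟨u, k, hk⟩

theorem order_iff_conj_odd (hodd : Odd (Fintype.card F)) (hm : 3 ≤ m) {Q : (Unit ⊕ (Fin m ⊕ Fin m) → F) → F}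
    (hQ : Q = ⇑(oddR m F)) (x δ : MulAut (Cfsg.POmega F Q)) (hx : Cfsg.IsFieldAutClassPOmega Q x) {r : ℕ}
    (hr : r.Prime) (hxr : orderOf x = r) (hδ : δ ∈ Cfsg.pgoAut F Q) :
    orderOf (δ * x) = r ↔ Cfsg.IsConjUnder (Cfsg.pgoAut F Q) x (δ * x) := by
  subst hQ
  have hM := model_odd hodd hm
  rw [pgoAut_eq] at hδ ⊢
  refine order_iff_conj_of_descent oddR_map hM le_rfl (fun a y hy => dia_range_normal hM a hy)
    (fun σ r hr hσ hne g c _ hc => ?_) hx hr hxr hδ
  obtain ⟨u, k, hk⟩ := exists_descent_odd hodd hm hr hσ hne g hc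
  exact ⟨u, k, ⟨k, rfl⟩, hk⟩

end Descent

/-! ### The class of a field automorphism -/

section Count

variable {ι : Type} [Fintype ι] [DecidableEq ι] {R : QuadraticForm F (ι → F)}

theorem det_omega {g : Cfsg.isometryGroup F ⇑R} (hg : g ∈ Cfsg.Omega F ⇑R) :
    ((g : GL ι F) : Matrix ι ι F).det = 1 :=
  congrArg Units.val (show (GeneralLinearGroup.det.comp (Cfsg.isometryGroup F ⇑R).subtype) g = 1 from
    Abelianization.commutator_subset_ker _ hg)

/-- An isometry over a subfield. -/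
noncomputable def jO {F₀ : Type*} [Field F₀] {R₀ : QuadraticForm F₀ (ι → F₀)} (j : F₀ →+* F)
    (h2 : (2 : F) ≠ 0) (hj : ∀ v, R (fun i => j (v i)) = j (R₀ v)) :
    Cfsg.isometryGroup F₀ ⇑R₀ →* Cfsg.isometryGroup F ⇑R :=
  MonoidHom.mk' (fun k => ⟨Units.map (RingHom.toMonoidHom j.mapMatrix) k.1, fun v _ => by
    have h := congrArg j.mapMatrix
      (sim_gram (R := R₀) (g := k.1) (c := 1) (fun w => by rw [one_mul]; exact k.2 w w))
    rw [one_smul] at h
    simp only [map_mul, RingHom.mapMatrix_apply, gram_map_hom j hj] at h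
    show R (((k.1 : GL ι F₀) : Matrix ι ι F₀).map j *ᵥ v) = R v
    rw [sim_of_gram h2 (c := 1) (by rw [one_smul, ← Matrix.transpose_map, h]) v, one_mul]⟩)
    fun _ _ => Subtype.ext (map_mul _ _ _)

theorem jS_isoG {F₀ : Type*} [Field F₀] {R₀ : QuadraticForm F₀ (ι → F₀)} (j : F₀ →+* F)
    (h2 : (2 : F) ≠ 0) (hj : ∀ v, R (fun i => j (v i)) = j (R₀ v)) (k : Cfsg.isometryGroup F₀ ⇑R₀) :
    jS j h2 hj (isoG R₀ k) = isoG R (jO j h2 hj k) := rfl

theorem jO_reflection {F₀ : Type*} [Field F₀] {R₀ : QuadraticForm F₀ (ι → F₀)} (j : F₀ →+* F)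
    (h2 : (2 : F) ≠ 0) (hj : ∀ v, R (fun i => j (v i)) = j (R₀ v)) {k : Cfsg.isometryGroup F₀ ⇑R₀}
    {v : ι → F₀} (hk : ((k : GL ι F₀) : Matrix ι ι F₀) = Cfsg.reflectionMatrix (⇑R₀) v) :
    ((jO j h2 hj k : GL ι F) : Matrix ι ι F) = Cfsg.reflectionMatrix (⇑R) (fun i => j (v i)) := by
  refine Matrix.ext fun s t => ?_
  show j (((k : GL ι F₀) : Matrix ι ι F₀) s t) = _
  rw [hk]
  have hsum : R ((fun i => j (v i)) + Pi.single t 1) = j (R₀ (v + Pi.single t 1)) := by
    rw [← hj]; exact congrArg R (funext fun l => by simp [Pi.single_apply, apply_ite j])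
  have hsin : R (Pi.single t 1) = j (R₀ (Pi.single t 1)) := by
    rw [← hj]; exact congrArg R (funext fun l => by simp [Pi.single_apply, apply_ite j])
  simp [Cfsg.reflectionMatrix, Cfsg.polarVec, Matrix.vecMulVec_apply, QuadraticMap.polar, hsum, hsin, hj,
    Matrix.one_apply, apply_ite j]

variable [Finite F]

/-- The spinor norm on the isometry group. -/
noncomputable def spinH (hR : (polarBilin R).Nondegenerate) (h2 : (2 : F) ≠ 0) :
    Cfsg.isometryGroup F ⇑R →* ℤˣ :=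
  (spinorHom R hR (closure_refl_eq_top R hR (two_ne_zero_exc h2))).comp (isometryEquiv R).toMonoidHom

theorem spinH_reflection (hR : (polarBilin R).Nondegenerate) (h2 : (2 : F) ≠ 0)
    {g : Cfsg.isometryGroup F ⇑R} {v : ι → F} (hv : R v ≠ 0)
    (hg : ((g : GL ι F) : Matrix ι ι F) = Cfsg.reflectionMatrix (⇑R) v) :
    spinH hR h2 g = sqClass (R v) := by
  show spinorHom R hR (closure_refl_eq_top R hR (two_ne_zero_exc h2)) (isometryEquiv R g) = _
  rw [(isometryEquiv_eq_refl_iff R g v).mpr hg, spinorHom_refl R hR (closure_refl_eq_top R hR (two_ne_zero_exc h2)) hv]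

theorem spinH_omega (hR : (polarBilin R).Nondegenerate) (h2 : (2 : F) ≠ 0) (hn : 2 ≤ Fintype.card ι)
    {g : Cfsg.isometryGroup F ⇑R} (hg : g ∈ Cfsg.Omega F ⇑R) : spinH hR h2 g = 1 :=
  ((mem_Omega_iff R hR h2 hn g).mp hg).2

/-- Minus the identity. -/
noncomputable def negOne (R : QuadraticForm F (ι → F)) : Cfsg.isometryGroup F ⇑R :=
  ⟨GeneralLinearGroup.scalar ι (-1), fun v _ => by
    show R (((GeneralLinearGroup.scalar ι (-1) : GL ι F) : Matrix ι ι F) *ᵥ v) = R v
    rw [scG_mulVec, quad_smul, Units.val_neg, Units.val_one, neg_mul_neg, one_mul, one_mul]⟩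

theorem negOne_det {m : ℕ} (hι : Fintype.card ι = 2 * m + 1) (g : Cfsg.isometryGroup F ⇑R) :
    (((g * negOne R : Cfsg.isometryGroup F ⇑R) : GL ι F) : Matrix ι ι F).det =
      -((g : GL ι F) : Matrix ι ι F).det := by
  show (((g : GL ι F) : Matrix ι ι F) * Matrix.scalar ι ((-1 : Fˣ) : F)).det = _
  rw [Matrix.det_mul, Matrix.scalar_apply, Matrix.det_diagonal, Finset.prod_const, Finset.card_univ, hι,
    Units.val_neg, Units.val_one, Odd.neg_one_pow ⟨m, rfl⟩, mul_neg_one]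

theorem mem_omega_or (hR : (polarBilin R).Nondegenerate) (h2 : (2 : F) ≠ 0) {m : ℕ}
    (hι : Fintype.card ι = 2 * m + 1) (hm : 1 ≤ m) {g : Cfsg.isometryGroup F ⇑R}
    (hg : spinH hR h2 g = 1) (hz : spinH hR h2 (negOne R) = 1) :
    g ∈ Cfsg.Omega F ⇑R ∨ g * negOne R ∈ Cfsg.Omega F ⇑R := by
  have hn : 2 ≤ Fintype.card ι := by omega
  let D : Cfsg.isometryGroup F ⇑R →* ℤˣ :=
    (Geometry.dicksonHom R hR (closure_refl_eq_top R hR (two_ne_zero_exc h2))).comp (isometryEquiv R).toMonoidHom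
  have hmem : ∀ x, D x = 1 → spinH hR h2 x = 1 → x ∈ Cfsg.Omega F ⇑R := fun x h1 h3 =>
    (mem_Omega_iff R hR h2 hn x).mpr ⟨h1, h3⟩
  rcases Int.units_eq_one_or (D g) with h1 | h1
  · exact Or.inl (hmem g h1 hg)
  · refine Or.inr (hmem _ ?_ (by rw [map_mul, hg, hz, one_mul]))
    rcases Int.units_eq_one_or (D (negOne R)) with h3 | h3
    · exfalso
      have := det_omega (hmem _ h3 hz)
      have hd := negOne_det hι (1 : Cfsg.isometryGroup F ⇑R)
      rw [one_mul, this] at hd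
      simp at hd
      exact h2 (by linear_combination hd)
    · rw [map_mul, h1, h3]; decide

theorem dia_iso_mem_inn_iff (hM : Model0 R) {v : ι → F} (hv : R v ≠ 0) (g : Cfsg.isometryGroup F ⇑R) :
    dia R (isoG R g) ∈ Cfsg.Inn (Cfsg.POmega F ⇑R) ↔
      g ∈ Cfsg.Omega F ⇑R ∨ g * negOne R ∈ Cfsg.Omega F ⇑R := by
  have hz : dia R (isoG R (negOne R)) = 1 := (dia_eq_one_iff hM _).mpr ⟨-1, rfl⟩
  have key : ∀ s : Cfsg.Omega F ⇑R, dia R (isoG R s.1) ∈ Cfsg.Inn (Cfsg.POmega F ⇑R) := fun s =>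
    ⟨pr R s, (dia_omG s).symm⟩
  constructor
  · rintro ⟨y, hy⟩
    obtain ⟨s, rfl⟩ := QuotientGroup.mk'_surjective _ y
    obtain ⟨u, hu⟩ := (dia_eq_one_iff hM (isoG R (s.1⁻¹ * g))).mp (by
      rw [map_mul, map_inv, map_mul, map_inv, ← hy, ← show dia R (isoG R s.1) = MulAut.conj (QuotientGroup.mk' (Subgroup.center _) s) from dia_omG s]
      exact inv_mul_cancel _)
    change (s.1⁻¹ * g).1 = _ at hu
    rcases (scG_mem_iso_iff hv u).mp (hu ▸ (s.1⁻¹ * g).2) with rfl | rfl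
    · left
      rw [show g = s.1 from (inv_mul_eq_one.mp (Subtype.ext (hu.trans (map_one _)))).symm]
      exact s.2
    · right
      have hg : g = s.1 * negOne R := eq_mul_of_inv_mul_eq (Subtype.ext hu)
      have hzz : negOne R * negOne R = 1 := Subtype.ext (by
        show GeneralLinearGroup.scalar ι (-1) * GeneralLinearGroup.scalar ι (-1) = (1 : GL ι F)
        rw [← map_mul, neg_mul_neg, one_mul, map_one])
      rw [hg, mul_assoc, hzz, mul_one]
      exact s.2
  · rintro (h | h)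
    · exact key ⟨g, h⟩
    · have := key ⟨g * negOne R, h⟩
      rwa [show dia R (isoG R (g * negOne R)) = dia R (isoG R g) by rw [map_mul, map_mul, hz, mul_one]] at this

end Count

theorem sq_pow_half (k n : ℕ) :
    (2 * k + 1) ^ n / 2 = k * ∑ i ∈ Finset.range n, (2 * k + 1) ^ i := by
  have := geom_sum_mul_add (2 * k) n
  rw [← this, show (∑ i ∈ Finset.range n, (2 * k + 1) ^ i) * (2 * k) =
    (k * ∑ i ∈ Finset.range n, (2 * k + 1) ^ i) * 2 by ring]
  omega

/-- Squares in a field and in a field of prime relative degree. -/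
theorem isSquare_map_iff [Fintype F] {F₀ : Type*} [Field F₀] [Fintype F₀] (j : F₀ →+* F) {r : ℕ}
    (hq : Fintype.card F = Fintype.card F₀ ^ r) (hodd₀ : Odd (Fintype.card F₀)) (hr : r.Prime)
    {b : F₀} (hb : b ≠ 0) : IsSquare (j b) ↔ (r = 2 ∨ IsSquare b) := by
  obtain ⟨k, hk⟩ := hodd₀
  have hjb : j b ≠ 0 := fun e => hb (j.injective (e.trans (map_zero j).symm))
  have hch₀ : ringChar F₀ ≠ 2 := fun e => by
    haveI := (ringChar.eq_iff).mp e
    have h := FiniteField.even_card_of_char_two e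
    omega
  have hch : ringChar F ≠ 2 := fun e => by
    haveI := (ringChar.eq_iff).mp e
    haveI := j.charP_iff j.injective 2 |>.mpr this
    exact hch₀ (ringChar.eq F₀ 2)
  rw [FiniteField.isSquare_iff hch hjb, FiniteField.isSquare_iff hch₀ hb, hq, hk, sq_pow_half, pow_mul,
    ← map_pow, ← map_pow, show (2 * k + 1) / 2 = k by omega]
  rw [← map_one j, j.injective.eq_iff]
  rcases hr.eq_two_or_odd' with rfl | hro
  · simp only [true_or, iff_true]
    rw [Finset.sum_range_succ, Finset.sum_range_one, ← pow_mul,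
      show k * ((2 * k + 1) ^ 0 + (2 * k + 1) ^ 1) = 2 * k * (k + 1) by ring, pow_mul,
      show 2 * k = Fintype.card F₀ - 1 by omega, FiniteField.pow_card_sub_one_eq_one b hb, one_pow]
  · have h2r : r ≠ 2 := by rintro rfl; exact Nat.not_odd_iff_even.mpr even_two hro
    simp only [h2r, false_or]
    have hS : Odd (∑ i ∈ Finset.range r, (2 * k + 1) ^ i) := by
      rw [Finset.odd_sum_iff_odd_card_odd, Finset.filter_true_of_mem (fun i _ => (odd_two_mul_add_one k).pow),
        Finset.card_range]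
      exact hro
    have hpm : b ^ k = 1 ∨ b ^ k = -1 := by
      rw [← mul_self_eq_one_iff, ← pow_add, show k + k = Fintype.card F₀ - 1 by omega,
        FiniteField.pow_card_sub_one_eq_one b hb]
    rcases hpm with h | h <;> simp [h, hS.neg_one_pow]

theorem field_class_odd [Fintype F] {p f : ℕ} [Fact p.Prime] (hF : Fintype.card F = p ^ f) (hf : 1 ≤ f)
    (hodd : Odd (Fintype.card F)) {m : ℕ} (hm : 3 ≤ m) {Q : (Unit ⊕ (Fin m ⊕ Fin m) → F) → F}
    (hQ : Q = ⇑(oddR m F)) (x : MulAut (Cfsg.POmega F Q)) (hx : Cfsg.IsFieldAutClassPOmega Q x) {r : ℕ}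
    (hr : r.Prime) (hxr : orderOf x = r) (F₀ : Type*) [Field F₀] [Fintype F₀]
    (hF₀ : Fintype.card F₀ = p ^ (f / r)) {Q₀ : (Unit ⊕ (Fin m ⊕ Fin m) → F₀) → F₀} (hQ₀ : Q₀ = ⇑(oddR m F₀)) :
    r ∣ f ∧ Nonempty (↥(Cfsg.pgoAut F Q ⊓ Subgroup.centralizer {x}) ≃* ↥(Cfsg.pgoAut F₀ Q₀)) ∧
      (Odd r → Cfsg.splitClassCount (Cfsg.pgoAut F Q) (Cfsg.Inn (Cfsg.POmega F Q)) x = 1) ∧
      (r = 2 → Cfsg.splitClassCount (Cfsg.pgoAut F Q) (Cfsg.Inn (Cfsg.POmega F Q)) x = 2) := by
  subst hQ hQ₀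
  classical
  haveI : CharP F p := charP_of_card_eq_prime_pow hF
  set R := oddR m F
  set R₀ := oddR m F₀
  have hM : Model R := model_odd hodd hm
  have hp : Odd p := by
    rw [hF] at hodd
    exact (Nat.odd_pow_iff (by omega)).mp hodd
  have hodd₀ : Odd (Fintype.card F₀) := by rw [hF₀]; exact hp.pow
  have hM₀ : Model R₀ := model_odd hodd₀ hm
  have h2 := odd_two_ne_zero hodd
  have hι := finrank_ι m
  obtain ⟨σ, a, hσ, rfl⟩ := exists_standard (R := R) oddR_map hx
  rw [AutPSL.orderOf_conj_eq, orderOf_injective _ (fldHom_injective oddR_map hM)] at hxr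
  have hrf : r ∣ f := by
    rw [← (AutPSL.gal_cyclic_card (F := F) hF).2, ← hxr]
    exact orderOf_dvd_natCard σ
  have hσr : σ ^ r = 1 := hxr ▸ pow_orderOf_eq_one σ
  obtain ⟨j, hj⟩ := AutPSL.exists_fixedField_hom hF hxr hrf hF₀
  have hjR : ∀ v, R (fun i => j (v i)) = j (R₀ v) := oddR_hom j m
  set e₀ : Unit ⊕ (Fin m ⊕ Fin m) → F₀ := Pi.single (Sum.inl ()) 1 with he₀
  have hv₀1 : R₀ e₀ = 1 := by
    show oddR m F₀ e₀ = 1
    rw [← coe_oddR]; simp [he₀, Cfsg.quadFormOdd]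
  have hv₀ : R₀ e₀ ≠ 0 := by rw [hv₀1]; exact one_ne_zero
  rw [pgoAut_eq, pgoAut_eq]
  have hC := centralizer_eq (σ := σ) oddR_map j hM h2 hjR hj hr hσr hσ hv₀ (Sum.inl ())
  set N := (dia R).range with hN
  set Φ := (dia R).comp (jS j h2 hjR)
  have hnorm : ∀ b : MulAut (Cfsg.POmega F ⇑R), ∀ y, b * y * b⁻¹ ∈ N ↔ y ∈ N := fun b y => by
    refine ⟨fun h => ?_, fun h => dia_range_normal hM b h⟩
    have := dia_range_normal hM b⁻¹ h
    rwa [show b⁻¹ * (b * y * b⁻¹) * b⁻¹⁻¹ = y by group] at this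
  have hInn : ∀ b : MulAut (Cfsg.POmega F ⇑R), ∀ y, b * y * b⁻¹ ∈ Cfsg.Inn (Cfsg.POmega F ⇑R) ↔
      y ∈ Cfsg.Inn (Cfsg.POmega F ⇑R) := fun b y => by
    have key : ∀ (b : MulAut (Cfsg.POmega F ⇑R)) y, y ∈ Cfsg.Inn (Cfsg.POmega F ⇑R) →
        b * y * b⁻¹ ∈ Cfsg.Inn (Cfsg.POmega F ⇑R) := by
      rintro b _ ⟨z, rfl⟩
      exact ⟨b z, MulEquiv.ext fun w => by simp [MulAut.conj_apply]⟩
    refine ⟨fun h => ?_, key b y⟩
    have := key b⁻¹ _ h
    simpa [mul_assoc] using this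
  -- the count
  have hcount : ∀ n, (r = 2 → n = 2) → (Odd r → n = 1) →
      Cfsg.splitClassCount N (Cfsg.Inn (Cfsg.POmega F ⇑R)) (a * fldHom R oddR_map σ * a⁻¹) = n := by
    intro n hn2 hn1
    rw [AutPSp.splitClassCount_normalised _ _ a _ (hnorm a) (hInn a),
      AutPSL.card_quot_conj _ _ inn_le_range (fun b _ k hk => (hInn b k).mpr hk), hC]
    have hidx : (Cfsg.Inn (Cfsg.POmega F ⇑R)).relIndex N = 2 := by
      have h := (Cfsg.Inn (Cfsg.POmega F ⇑R)).subgroupOf N |>.card_mul_index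
      rw [Nat.card_congr (Subgroup.subgroupOfEquivOfLe inn_le_range).toEquiv, card_inn hM, hN,
        card_range_dia_odd hodd hm, mul_comm 2] at h
      exact Nat.eq_of_mul_eq_mul_left Nat.card_pos h
    have hcard : Fintype.card F = Fintype.card F₀ ^ r := by
      rw [hF, hF₀, ← pow_mul, Nat.div_mul_cancel hrf]
    have hz : negOne R = jO j h2 hjR (negOne R₀) := Subtype.ext (Units.ext (Matrix.ext fun s t => by
      show Matrix.scalar _ ((-1 : Fˣ) : F) s t = j (Matrix.scalar _ ((-1 : F₀ˣ) : F₀) s t)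
      simp [Matrix.scalar_apply, Matrix.diagonal_apply, apply_ite j]))
    rcases hr.eq_two_or_odd' with rfl | hro
    · rw [hn2 rfl]
      suffices hle : Φ.range ≤ Cfsg.Inn (Cfsg.POmega F ⇑R) by rw [sup_eq_right.mpr hle, hidx]
      have htriv : (spinH hM.nondeg h2).comp (jO j h2 hjR) = 1 := by
        refine MonoidHom.eq_of_eqOn_dense (closure_reflectionMatrix_eq_top R₀ hM₀.nondeg (Or.inr (by omega))) ?_
        rintro k ⟨v, hv, hk⟩
        have hjv : R (fun i => j (v i)) ≠ 0 := by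
          rw [hjR]; exact fun e => hv (j.injective (e.trans (map_zero j).symm))
        rw [MonoidHom.comp_apply, spinH_reflection hM.nondeg h2 hjv (jO_reflection j h2 hjR hk),
          MonoidHom.one_apply, sqClass_eq_one_iff, hjR]
        exact (isSquare_map_iff j hcard hodd₀ hr hv).mpr (Or.inl rfl)
      rintro _ ⟨g, rfl⟩
      obtain ⟨u, k, rfl⟩ := sim_split hM₀.nondeg hι g
      have hu : Φ (scG R₀ u) = 1 := by
        rw [← MonoidHom.mem_ker, ker_dia_jS j hM hM₀ h2 hjR (Sum.inl ()), MonoidHom.mem_ker]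
        exact (dia_eq_one_iff hM₀ _).mpr ⟨u, rfl⟩
      rw [map_mul, hu, one_mul]
      show dia R (jS j h2 hjR (isoG R₀ k)) ∈ _
      rw [jS_isoG]
      refine (dia_iso_mem_inn_iff hM (v := fun i => j (e₀ i)) (by rw [hjR, hv₀1, map_one]; exact one_ne_zero) _).mpr ?_
      exact mem_omega_or hM.nondeg h2 hι (by omega) (DFunLike.congr_fun htriv k)
        (by rw [hz]; exact DFunLike.congr_fun htriv _)
    · rw [hn1 hro]
      set M₁ := Φ.range ⊔ Cfsg.Inn (Cfsg.POmega F ⇑R)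
      have hMN : M₁ ≤ N := sup_le (by rintro _ ⟨g, rfl⟩; exact ⟨_, rfl⟩) inn_le_range
      have hmul := Subgroup.relIndex_mul_relIndex (Cfsg.Inn (Cfsg.POmega F ⇑R)) M₁ N le_sup_right hMN
      rw [hidx] at hmul
      have h1 : (Cfsg.Inn (Cfsg.POmega F ⇑R)).relIndex M₁ ≠ 1 := by
        rw [Ne, Subgroup.relIndex_eq_one]
        intro hle
        obtain ⟨v, w, hv, hw, hw0⟩ := exists_quad_class_vectors R₀ hM₀.nondeg (odd_two_ne_zero hodd₀)
          (by rw [Module.finrank_fintype_fun_eq_card]; omega)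
        have href : ∀ v, ∃ k : Cfsg.isometryGroup F₀ ⇑R₀,
            ((k : GL (Unit ⊕ (Fin m ⊕ Fin m)) F₀) : Matrix (Unit ⊕ (Fin m ⊕ Fin m)) (Unit ⊕ (Fin m ⊕ Fin m)) F₀) =
              Cfsg.reflectionMatrix (⇑R₀) v := fun v =>
          ⟨(isometryEquiv R₀).symm (refl R₀ v),
            (isometryEquiv_eq_refl_iff R₀ _ v).mp (MulEquiv.apply_symm_apply _ _)⟩
        obtain ⟨kv, hkv⟩ := href v
        obtain ⟨kw, hkw⟩ := href w
        have hjv : R (fun i => j (v i)) ≠ 0 := by rw [hjR, hv, map_one]; exact one_ne_zero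
        have hjw : R (fun i => j (w i)) ≠ 0 := by
          rw [hjR]; exact fun e => hw0 (j.injective (e.trans (map_zero j).symm))
        set g := jO j h2 hjR (kv * kw) with hgdef
        have hsp : spinH hM.nondeg h2 g = -1 := by
          rw [hgdef, map_mul, map_mul, spinH_reflection hM.nondeg h2 hjv (jO_reflection j h2 hjR hkv),
            spinH_reflection hM.nondeg h2 hjw (jO_reflection j h2 hjR hkw), hjR, hjR, hv, map_one,
            sqClass_eq_one_iff.mpr IsSquare.one, one_mul, sqClass_eq_neg_one_iff]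
          intro hsq
          rcases (isSquare_map_iff j hcard hodd₀ hr hw0).mp hsq with e | e
          · subst e; exact Nat.not_odd_iff_even.mpr even_two hro
          · exact hw e
        have hdet : ((g : GL (Unit ⊕ (Fin m ⊕ Fin m)) F) :
            Matrix (Unit ⊕ (Fin m ⊕ Fin m)) (Unit ⊕ (Fin m ⊕ Fin m)) F).det = 1 := by
          rw [hgdef, map_mul, Subgroup.coe_mul, Units.val_mul, Matrix.det_mul, jO_reflection j h2 hjR hkv,
            jO_reflection j h2 hjR hkw, det_reflectionMatrix R hjv, det_reflectionMatrix R hjw, neg_mul_neg, one_mul]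
        have hmem : dia R (isoG R g) ∈ Cfsg.Inn (Cfsg.POmega F ⇑R) := hle (Subgroup.mem_sup_left ⟨isoG R₀ (kv * kw), rfl⟩)
        rcases (dia_iso_mem_inn_iff hM hjv g).mp hmem with h | h
        · have := spinH_omega hM.nondeg h2 (by omega) h
          rw [hsp] at this
          exact absurd this (by decide)
        · have := det_omega h
          rw [negOne_det hι, hdet] at this
          exact h2 (by linear_combination -this)
      rcases (Nat.dvd_prime Nat.prime_two).mp (Dvd.intro _ hmul) with h | h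
      · exact absurd h h1
      · rw [h] at hmul; exact Nat.eq_of_mul_eq_mul_left two_pos (hmul.trans (mul_one 2).symm)
  refine ⟨hrf, ?_, fun h => hcount 1 (fun e => absurd (e ▸ h) (Nat.not_odd_iff_even.mpr even_two)) (fun _ => rfl),
    fun h => hcount 2 (fun _ => rfl) (fun e => absurd (h ▸ e) (Nat.not_odd_iff_even.mpr even_two))⟩
  let C := N ⊓ Subgroup.centralizer {fldHom R oddR_map σ}
  refine ⟨(MulEquiv.subgroupCongr ?_).trans (((MulAut.conj a).subgroupMap C).symm.trans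
    ((MulEquiv.subgroupCongr hC).trans ((QuotientGroup.quotientKerEquivRange Φ).symm.trans
      ((QuotientGroup.quotientMulEquivOfEq (ker_dia_jS j hM hM₀ h2 hjR (Sum.inl ()))).trans
        (QuotientGroup.quotientKerEquivRange (dia R₀))))))⟩
  ext y
  rw [Subgroup.mem_map, Subgroup.mem_inf, Subgroup.mem_centralizer_singleton_iff]
  constructor
  · rintro ⟨hy, hc⟩
    refine ⟨a⁻¹ * y * a, ⟨?_, ?_⟩, by show a * (a⁻¹ * y * a) * a⁻¹ = y; group⟩
    · have := (hnorm a⁻¹ y).mpr hy; rwa [inv_inv] at this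
    · show _ ∈ Subgroup.centralizer _
      rw [Subgroup.mem_centralizer_singleton_iff]
      calc a⁻¹ * y * a * fldHom R oddR_map σ = a⁻¹ * (y * (a * fldHom R oddR_map σ * a⁻¹)) * a := by group
        _ = a⁻¹ * (a * fldHom R oddR_map σ * a⁻¹ * y) * a := by rw [hc]
        _ = _ := by group
  · rintro ⟨z, ⟨hz, hzc⟩, rfl⟩
    replace hzc : z * fldHom R oddR_map σ = fldHom R oddR_map σ * z := Subgroup.mem_centralizer_singleton_iff.mp hzc
    refine ⟨(hnorm a z).mpr hz, ?_⟩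
    show a * z * a⁻¹ * (a * fldHom R oddR_map σ * a⁻¹) = a * fldHom R oddR_map σ * a⁻¹ * (a * z * a⁻¹)
    calc a * z * a⁻¹ * (a * fldHom R oddR_map σ * a⁻¹) = a * (z * fldHom R oddR_map σ) * a⁻¹ := by group
      _ = a * (fldHom R oddR_map σ * z) * a⁻¹ := by rw [hzc]
      _ = _ := by group

end Cfsg.Agent.Lib.Classical.AutPOmega
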