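import Cfsg.Agent.Lib.Classical.AutPOmega.Stab

/-!
Automorphisms of `PΩ`, part 5: the image of a point stabiliser is a point stabiliser.
-/

set_option autoImplicit false

namespace Cfsg.Agent.Lib.Classical.AutPOmega

open QuadraticMap (polarBilin)
open Cfsg.Agent.Lib.Geometry (quadIsometries mem_quadIsometries quad_add quad_smul quad_polar_self
  quad_polar_comm)

attribute [-simp] QuadraticMap.polarBilin_apply_apply

variable {F V : Type*} [Field F] [AddCommGroup V] [Module F V] {Q : QuadraticForm F V}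

/-- Elements trivial on a subspace `S` and on `S^⊥` modulo `S`. -/
def radS (Q : QuadraticForm F V) (S : Submodule F V) : Subgroup (EG Q) where
  carrier := {g | (∀ s ∈ S, g.1.1 s = s) ∧ ∀ x, (∀ s ∈ S, polarBilin Q x s = 0) → g.1.1 x - x ∈ S}
  one_mem' := ⟨fun _ _ => rfl, fun x _ => by
    show x - x ∈ S
    rw [sub_self]; exact S.zero_mem⟩
  mul_mem' := by
    rintro a b ⟨ha, ha'⟩ ⟨hb, hb'⟩
    refine ⟨fun s hs => ?_, fun x hx => ?_⟩
    · show a.1.1 (b.1.1 s) = s
      rw [hb s hs, ha s hs]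
    · show a.1.1 (b.1.1 x) - x ∈ S
      have h2 := hb' x hx
      have h1 := ha' x hx
      have : a.1.1 (b.1.1 x) - x = (a.1.1 x - x) + (b.1.1 x - x) := by
        have := ha _ h2
        rw [map_sub] at this
        linear_combination (norm := module) this
      rw [this]
      exact S.add_mem h1 h2
  inv_mem' := by
    rintro a ⟨ha, ha'⟩
    refine ⟨fun s hs => ?_, fun x hx => ?_⟩
    · show a.1.1.symm s = s
      rw [LinearEquiv.symm_apply_eq, ha s hs]
    · show a.1.1.symm x - x ∈ S
      have h1 := ha' x hx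
      have : a.1.1.symm x - x = -(a.1.1 x - x) := by
        rw [sub_eq_iff_eq_add, LinearEquiv.symm_apply_eq, map_add, map_neg, ha _ h1]
        abel
      rw [this]
      exact S.neg_mem h1

theorem ee_mem_radS {S : Submodule F V} (hS : ∀ s ∈ S, ∀ t ∈ S, polarBilin Q s t = 0) {u x : V}
    (hu : Q u = 0) (hx : polarBilin Q u x = 0) (huS : u ∈ S)
    (hxS : ∀ s ∈ S, polarBilin Q x s = 0) : ee u x hu hx ∈ radS Q S := by
  refine ⟨fun s hs => ?_, fun y hy => ?_⟩
  · rw [ee_apply, hS s hs u huS, quad_polar_comm Q s x, hxS s hs]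
    simp
  · rw [ee_apply, hy u huS]
    simp only [zero_smul, add_zero, mul_zero, sub_sub_cancel_left]
    exact S.neg_mem (S.smul_mem _ huS)

theorem isPGroup_radS (p : ℕ) [Fact p.Prime] [CharP F p] [Nontrivial V] (S : Submodule F V) :
    IsPGroup p (radS Q S) := by
  rintro ⟨g, hg, hg'⟩
  refine ⟨2, Subtype.ext ?_⟩
  show g ^ p ^ 2 = 1
  set T : Module.End F V := g.1.1.toLinearMap
  haveI : CharP (Module.End F V) p := charP_of_injective_algebraMap (algebraMap F (Module.End F V)).injective p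
  have h3 : (T - 1) ^ 3 = 0 := by
    refine LinearMap.ext fun x => ?_
    have hperp : ∀ s ∈ S, polarBilin Q (g.1.1 x - x) s = 0 := fun s hs => by
      conv_lhs => rw [← hg s hs]
      rw [map_sub, LinearMap.sub_apply, iso_b, hg s hs, sub_self]
    have h1 := hg' _ hperp
    show (T - 1) ((T - 1) ((T - 1) x)) = 0
    have e1 : (T - 1) x = g.1.1 x - x := rfl
    have e2 : (T - 1) ((T - 1) x) = g.1.1 (g.1.1 x - x) - (g.1.1 x - x) := rfl
    rw [e2]
    show g.1.1 (g.1.1 (g.1.1 x - x) - (g.1.1 x - x)) - (g.1.1 (g.1.1 x - x) - (g.1.1 x - x)) = (0 : V)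
    rw [hg _ h1, sub_self]
  have hpow : T ^ p ^ 2 = 1 := by
    have hle : 3 ≤ p ^ 2 := by
      have := (Fact.out : p.Prime).two_le
      nlinarith
    have h := sub_pow_char_pow_of_commute (n := 2) p (Commute.one_right T)
    rw [pow_eq_zero_of_le hle h3, one_pow, eq_comm, sub_eq_zero] at h
    exact h
  have hcoe : ∀ k : ℕ, ∀ x, (g ^ k).1.1 x = (T ^ k) x := by
    intro k
    induction k with
    | zero => intro x; rfl
    | succ k ih =>
      intro x
      show (g ^ k).1.1 (g.1.1 x) = _
      rw [ih, pow_succ]; rfl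
  exact Subtype.ext (Subtype.ext (LinearEquiv.ext fun x => by rw [hcoe, hpow]; rfl))

/-- A strictly upper triangular array. -/
def Upper (F : Type*) [Zero F] (m : ℕ) : Type _ := {c : Fin m → Fin m → F // ∀ i j, j ≤ i → c i j = 0}

theorem card_upper_ge [Finite F] {m : ℕ} (hm : 5 ≤ m) :
    Nat.card F ^ (2 * m - 1) ≤ Nat.card (Upper F m) := by
  classical
  haveI : Finite (Upper F m) := Subtype.finite
  let E : Fin (2 * m - 1) → Fin m × Fin m := fun k =>
    if h1 : k.1 < m - 1 then (⟨0, by omega⟩, ⟨k.1 + 1, by omega⟩)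
    else if h2 : k.1 < 2 * m - 3 then (⟨1, by omega⟩, ⟨k.1 - (m - 1) + 2, by omega⟩)
    else (⟨2, by omega⟩, ⟨k.1 - (2 * m - 3) + 3, by omega⟩)
  have hE : ∀ k, (E k).1 < (E k).2 := by
    intro k
    simp only [E]
    split_ifs <;> simp only [Fin.lt_def] <;> omega
  have hEinj : Function.Injective E := by
    intro k l hkl
    simp only [E] at hkl
    split_ifs at hkl <;> simp only [Prod.ext_iff, Fin.ext_iff] at hkl <;>
      exact Fin.ext (by omega)
  let Φ : (Fin (2 * m - 1) → F) → Upper F m := fun v =>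
    ⟨fun i j => if h : ∃ k, E k = (i, j) then v h.choose else 0, fun i j hji => by
      show (if h : ∃ k, E k = (i, j) then v h.choose else 0) = 0
      rw [dif_neg]
      rintro ⟨k, hk⟩
      have := hE k
      rw [hk] at this
      exact absurd this (not_lt.mpr hji)⟩
  have hΦ : Function.Injective Φ := fun v w hvw => funext fun k => by
    have := congrFun (congrFun (congrArg Subtype.val hvw) (E k).1) (E k).2
    simp only [Φ] at this
    have hex : ∃ l, E l = ((E k).1, (E k).2) := ⟨k, rfl⟩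
    rw [dif_pos hex, dif_pos hex] at this
    rwa [hEinj hex.choose_spec] at this
  have := Nat.card_le_card_of_injective Φ hΦ
  rwa [Nat.card_fun, Nat.card_eq_fintype_card (α := Fin _), Fintype.card_fin] at this

variable [FiniteDimensional F V] [Finite F] {e f e₂ f₂ e₃ f₃ : V}

theorem index_stK (h : HypThree Q e f e₂ f₂ e₃ f₃) (a : singPts Q) :
    (stK a).index = Nat.card (singPts Q) := by
  haveI := singPts_pretransitive h
  rw [stK, Subgroup.index_map_eq _ pk_surjective]
  · exact MulAction.index_stabilizer_of_transitive (EG Q) a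
  · intro g hg
    exact center_fix h ((pk_eq_one).1 hg) a

/-- `#e^⊥/e` is the order of the root group. -/
theorem card_rootK (p : ℕ) [Fact p.Prime] [CharP F p] (h : HypThree Q e f e₂ f₂ e₃ f₃) (he0 : e ≠ 0) :
    Nat.card (rootK (pt e he0 h.two.qe)) = Nat.card (perpPair Q e f) := by
  let P : perpPair Q e f → rootK (pt e he0 h.two.qe) := fun w =>
    ⟨pk Q (ee e w h.two.qe (perp_e w.2)), _, ee_mem_root he0 _ _, rfl⟩
  refine (Nat.card_eq_of_bijective P ⟨?_, ?_⟩).symm
  · intro w w' hww
    exact Subtype.ext (ee_e_inj h.two.qe h.two.ef w.2 w'.2 (root_eq_of_pk h (p := p)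
      (ee_mem_root he0 h.two.qe (perp_e w.2)) (ee_mem_root he0 h.two.qe (perp_e w'.2))
      (congrArg Subtype.val hww)))
  · rintro ⟨_, g, hg, rfl⟩
    obtain ⟨w, hw, rfl⟩ := root_param h.two.qe h.two.qf h.two.ef he0 hg
    exact ⟨⟨w, hw⟩, rfl⟩

theorem card_perpPair_mul (h : HypThree Q e f e₂ f₂ e₃ f₃) :
    Nat.card (perpPair Q e f) * Nat.card F ^ 2 = Nat.card F ^ Module.finrank F V := by
  haveI := finite_V Q
  have hee : polarBilin Q e e = 0 := by rw [quad_polar_self, h.two.qe, mul_zero]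
  have hff : polarBilin Q f f = 0 := by rw [quad_polar_self, h.two.qf, mul_zero]
  have hfe : polarBilin Q f e = 1 := by rw [quad_polar_comm, h.two.ef]
  let T : perpPair Q e f × (Fin 2 → F) → V := fun a => a.2 0 • e + a.2 1 • f + a.1.1
  have hT : Function.Bijective T := by
    refine ⟨?_, fun v => ⟨(⟨_, prW_mem h.two.qe h.two.qf h.two.ef v⟩,
      ![polarBilin Q v f, polarBilin Q v e]), ?_⟩⟩
    · rintro ⟨⟨w, hw⟩, c⟩ ⟨⟨w', hw'⟩, c'⟩ he
      have h1 := congrArg (fun v => polarBilin Q v f) he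
      have h2 := congrArg (fun v => polarBilin Q v e) he
      simp [T, h.two.ef, hff, hee, hfe, perp_e' hw, perp_e' hw', perp_f' hw, perp_f' hw'] at h1 h2
      have h3 : c = c' := by funext i; fin_cases i <;> assumption
      subst h3
      simp only [T, add_left_cancel_iff] at he
      subst he
      rfl
    · simp [T, (decomp Q e f v).symm]
  rw [← Module.natCard_eq_pow_finrank (K := F) (V := V), ← Nat.card_eq_of_bijective T hT, Nat.card_prod,
    Nat.card_fun, Nat.card_eq_fintype_card (α := Fin 2), Fintype.card_fin]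

/-- Rigidity hypothesis: no triality. -/
def NoTriality (Q : QuadraticForm F V) : Prop :=
  ∀ S : Submodule F V, (∀ s ∈ S, Q s = 0) → 2 * Module.finrank F S = Module.finrank F V →
    10 ≤ Module.finrank F V

theorem exists_image (p : ℕ) [Fact p.Prime] [CharP F p] (h : HypThree Q e f e₂ f₂ e₃ f₃) (hN : NoTriality Q) (he0 : e ≠ 0)
    (φ : MulAut (KG Q)) : ∃ a : singPts Q, (stK (pt e he0 h.two.qe)).map φ.toMonoidHom = stK a := by
  classical
  haveI := finite_V Q
  haveI := finite_EG (Q := Q)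
  haveI : Finite (KG Q) := Finite.of_surjective _ (pk_surjective (Q := Q))
  haveI := finite_singPts (Q := Q)
  haveI : Nontrivial V := ⟨⟨e, 0, he0⟩⟩
  have hf0 : f ≠ 0 := pair_ne_zero (show polarBilin Q f e = 1 by rw [quad_polar_comm, h.two.ef])
  set H := (stK (pt e he0 h.two.qe)).map φ.toMonoidHom with hH
  have hidx : H.index = Nat.card (singPts Q) := by
    rw [hH, Subgroup.index_map_eq _ φ.surjective (fun x hx => by
      rw [φ.injective ((MonoidHom.mem_ker.mp hx).trans (map_one φ).symm)]; exact one_mem _), index_stK h]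
  have hnd := not_dvd_card_pts (p := p) h
  -- a Sylow subgroup of `K` inside `H`
  obtain ⟨P0⟩ : Nonempty (Sylow p H) := inferInstance
  set P : Subgroup (KG Q) := (P0 : Subgroup H).map H.subtype with hP
  have hPle : P ≤ H := Subgroup.map_subtype_le _
  have hPp : IsPGroup p P := P0.isPGroup'.map _
  have hPidx : ¬ p ∣ P.index := by
    rw [hP, Subgroup.index_map_subtype]
    intro hd
    rcases (Fact.out : p.Prime).dvd_mul.1 hd with h1 | h1
    · exact P0.not_dvd_index h1
    · exact hnd (hidx ▸ h1)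
  -- it fixes a point
  letI : MulAction (KG Q) (singPts Q) := MulAction.compHom _
    (QuotientGroup.lift (Subgroup.center (EG Q)) (MulAction.toPermHom (EG Q) (singPts Q))
      (fun z hz => Equiv.ext fun a => center_fix h hz a))
  have hact : ∀ (g : EG Q) (a : singPts Q), pk Q g • a = g • a := fun g a => rfl
  obtain ⟨a0, ha0⟩ := hPp.nonempty_fixed_point_of_prime_not_dvd_card (singPts Q) hnd
  have hPst : P ≤ stK a0 := fun x hx => by
    obtain ⟨g, rfl⟩ := pk_surjective x
    rw [mem_stK h, ← hact]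
    exact ha0 ⟨_, hx⟩
  have hconj : ∀ x ∈ stK a0, ∀ y ∈ rootK a0, x * y * x⁻¹ ∈ rootK a0 := by
    intro x hx y hy
    obtain ⟨g, rfl⟩ := pk_surjective x
    rw [mem_stK h] at hx
    have := rootK_conj g a0 hy
    rwa [hx] at this
  have hroot : rootK a0 ≤ P := by
    have hle : P ≤ Subgroup.normalizer (rootK a0 : Set (KG Q)) := by
      refine fun x hx => Subgroup.mem_normalizer_iff.mpr fun y => ⟨fun hy => hconj x (hPst hx) y hy,
        fun hy => ?_⟩
      have := hconj x⁻¹ (hPst (inv_mem hx)) _ hy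
      simpa [mul_assoc] using this
    have hsup : IsPGroup p (P ⊔ rootK a0 : Subgroup (KG Q)) :=
      IsPGroup.to_sup_of_normal_right' hPp (isPGroup_rootK p a0) hle
    have hrel : (P.relIndex (P ⊔ rootK a0)) = 1 := by
      obtain ⟨k, hk⟩ := hsup.index (P.subgroupOf (P ⊔ rootK a0))
      have hd : P.relIndex (P ⊔ rootK a0) ∣ P.index :=
        ⟨_, (Subgroup.relIndex_mul_index le_sup_left).symm⟩
      rw [Subgroup.relIndex] at hd ⊢
      rw [hk] at hd ⊢
      rcases Nat.eq_zero_or_pos k with rfl | hk0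
      · rw [pow_zero]
      · exact absurd (Dvd.dvd.trans (dvd_pow_self p hk0.ne') hd) hPidx
    exact le_trans le_sup_right (Subgroup.relIndex_eq_one.mp hrel)
  have hrootH : rootK a0 ≤ H := hroot.trans hPle
  by_cases hfix : ∀ x ∈ H, x • a0 = a0
  · refine ⟨a0, ?_⟩
    have hle : H ≤ stK a0 := fun x hx => by
      obtain ⟨g, rfl⟩ := pk_surjective x
      rw [mem_stK h, ← hact]
      exact hfix _ hx
    have hmul := Subgroup.relIndex_mul_index hle
    rw [hidx, index_stK h] at hmul
    have hone : H.relIndex (stK a0) = 1 := by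
      have hpos : 0 < Nat.card (singPts Q) := Nat.card_pos_iff.mpr ⟨⟨a0⟩, inferInstance⟩
      exact Nat.eq_of_mul_eq_mul_right hpos (hmul.trans (one_mul _).symm)
    exact le_antisymm hle (Subgroup.relIndex_eq_one.mp hone)
  exfalso
  push Not at hfix
  obtain ⟨x1, hx1, hx1'⟩ := hfix
  -- all root groups of the orbit lie in `H`
  set O : Set (singPts Q) := {a | ∃ x ∈ H, x • a0 = a}
  have hO : ∀ a ∈ O, rootK a ≤ H := by
    rintro a ⟨x, hx, rfl⟩ y hy
    obtain ⟨g, rfl⟩ := pk_surjective x
    rw [hact] at hy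
    have := rootK_conj g⁻¹ (g • a0) hy
    rw [inv_smul_smul] at this
    have := mul_mem (mul_mem hx (hrootH this)) (inv_mem hx)
    simpa [mul_assoc] using this
  have hOH : ∀ a ∈ O, ∀ x ∈ H, x • a ∈ O := by
    rintro a ⟨y, hy, rfl⟩ x hx
    exact ⟨x * y, mul_mem hx hy, mul_smul x y a0⟩
  have hcol : ∀ a ∈ O, ∀ b ∈ O, col a b := by
    intro a ha b hb
    by_contra hab
    obtain ⟨g, hga, hgb⟩ := exists_pair_map h hab he0 hf0
    set M := (H.comap (pk Q)).map (MulAut.conj g).toMonoidHom
    have hM : ∀ c ∈ O, rootSub (g • c) ≤ M := by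
      intro c hc x hx
      refine ⟨g⁻¹ * x * g, ?_, show g * (g⁻¹ * x * g) * g⁻¹ = x by group⟩
      show pk Q (g⁻¹ * x * g) ∈ H
      refine hO c hc ⟨g⁻¹ * x * g, ?_, rfl⟩
      have := root_conj (g := g⁻¹) hx
      rw [inv_smul_smul, inv_inv] at this
      exact this
    have hMtop := gen_two h he0 hf0 (M := M) (hga ▸ hM a ha) (hgb ▸ hM b hb)
    have hHtop : H = ⊤ := by
      rw [eq_top_iff]
      intro y _
      obtain ⟨k, rfl⟩ := pk_surjective y
      obtain ⟨x, hx, hxe⟩ : g * k * g⁻¹ ∈ M := hMtop ▸ Subgroup.mem_top _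
      obtain rfl : x = k := (MulAut.conj g).injective hxe
      exact hx
    rw [hHtop, Subgroup.index_top] at hidx
    haveI := (Nat.card_eq_one_iff_unique.mp hidx.symm).1
    exact hx1' (Subsingleton.elim _ _)
  -- their span is a totally singular subspace
  set S : Submodule F V := Submodule.span F {v | ∃ a ∈ O, v = a.1.rep}
  have hSB : ∀ s ∈ S, ∀ t ∈ S, polarBilin Q s t = 0 := by
    intro s hs t ht
    induction hs using Submodule.span_induction with
    | mem v hv =>
      obtain ⟨a, ha, rfl⟩ := hv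
      induction ht using Submodule.span_induction with
      | mem w hw =>
        obtain ⟨b, hb, rfl⟩ := hw
        exact hcol a ha b hb
      | zero => simp
      | add w w' _ _ h1 h2 => rw [map_add, h1, h2, add_zero]
      | smul c w _ h1 => rw [map_smul, h1, smul_zero]
    | zero => simp
    | add v v' _ _ h1 h2 => rw [map_add, LinearMap.add_apply, h1, h2, add_zero]
    | smul c v _ h1 => rw [map_smul, LinearMap.smul_apply, h1, smul_zero]
  have hSQ : ∀ s ∈ S, Q s = 0 := by
    intro s hs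
    induction hs using Submodule.span_induction with
    | mem v hv =>
      obtain ⟨a, ha, rfl⟩ := hv
      exact sing a
    | zero => exact map_zero Q
    | add v w hv hw h1 h2 => rw [quad_add, h1, h2, hSB v hv w hw]; simp
    | smul c v _ h1 => rw [quad_smul, h1, mul_zero]
  have hrep : ∀ a ∈ O, a.1.rep ∈ S := fun a ha => Submodule.subset_span ⟨a, ha, rfl⟩
  have hpta : ∀ a : singPts Q, pt a.1.rep a.1.rep_nonzero (sing a) = a := fun a =>
    Subtype.ext (Projectivization.mk_rep _)
  have hHS : ∀ g : EG Q, pk Q g ∈ H → ∀ s ∈ S, g.1.1 s ∈ S := by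
    intro g hg s hs
    induction hs using Submodule.span_induction with
    | mem v hv =>
      obtain ⟨a, ha, rfl⟩ := hv
      have h1 := hOH a ha _ hg
      rw [hact, ← hpta a, smul_pt] at h1
      have h2 := hrep _ h1
      obtain ⟨c, hc⟩ := Projectivization.exists_smul_eq_mk_rep F (g.1.1 a.1.rep)
        (fun h0 => a.1.rep_nonzero ((map_eq_zero_iff _ g.1.1.injective).mp h0))
      change (Projectivization.mk F (g.1.1 a.1.rep) _).rep ∈ S at h2
      rw [← hc, Units.smul_def] at h2
      have h3 := S.smul_mem (c⁻¹ : Fˣ).1 h2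
      rwa [smul_smul, ← Units.val_mul, inv_mul_cancel, Units.val_one, one_smul] at h3
    | zero => simp
    | add v w _ _ h1 h2 => rw [map_add]; exact S.add_mem h1 h2
    | smul c v _ h1 => rw [map_smul]; exact S.smul_mem c h1
  -- a normal `p`-subgroup of `H`
  set N := (radS Q S).map (pk Q) ⊓ H
  have hNn : ∀ k ∈ H, ∀ n ∈ N, k * n * k⁻¹ ∈ N := by
    rintro k hk n ⟨⟨r, ⟨hr1, hr2⟩, rfl⟩, hnH⟩
    refine ⟨?_, H.mul_mem (H.mul_mem hk hnH) (H.inv_mem hk)⟩
    obtain ⟨g, rfl⟩ := pk_surjective k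
    refine ⟨g * r * g⁻¹, ⟨fun s hs => ?_, fun x hx => ?_⟩, by rw [map_mul, map_mul, map_inv]⟩
    · show g.1.1 (r.1.1 (g.1.1.symm s)) = s
      have h1 : g.1.1.symm s ∈ S := hHS g⁻¹ (by rw [map_inv]; exact inv_mem hk) s hs
      rw [hr1 _ h1, g.1.1.apply_symm_apply]
    · show g.1.1 (r.1.1 (g.1.1.symm x)) - x ∈ S
      have h1 := hr2 (g.1.1.symm x) fun s hs => by
        rw [← iso_b g, g.1.1.apply_symm_apply]
        exact hx _ (hHS g hk s hs)
      have h2 := hHS g hk _ h1
      rwa [map_sub, g.1.1.apply_symm_apply] at h2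
  have hNle : N.map φ.symm.toMonoidHom ≤ rootK (pt e he0 h.two.qe) := by
    refine normal_pgroup_le (p := p) h he0 ?_ ?_ ?_
    · exact (((isPGroup_radS p S).map (pk Q)).to_le (inf_le_left : N ≤ (radS Q S).map (pk Q))).map _
    · rintro _ ⟨n, ⟨-, hnH⟩, rfl⟩
      obtain ⟨y, hy, rfl⟩ := hnH
      simpa using hy
    · rintro k hk _ ⟨n, hn, rfl⟩
      refine ⟨φ k * n * (φ k)⁻¹, hNn (φ k) ⟨k, hk, rfl⟩ n hn, ?_⟩
      simp
  have hNab : ∀ x ∈ N, ∀ y ∈ N, x * y = y * x := by
    intro x hx y hy
    obtain ⟨a, ha, hax⟩ := hNle ⟨x, hx, rfl⟩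
    obtain ⟨b, hb, hby⟩ := hNle ⟨y, hy, rfl⟩
    obtain ⟨w, hw, rfl⟩ := root_param h.two.qe h.two.qf h.two.ef he0 ha
    obtain ⟨w', hw', rfl⟩ := root_param h.two.qe h.two.qf h.two.ef he0 hb
    apply φ.symm.injective
    rw [map_mul, map_mul]
    change φ.symm.toMonoidHom x * φ.symm.toMonoidHom y = φ.symm.toMonoidHom y * φ.symm.toMonoidHom x
    rw [← hax, ← hby, ← map_mul, ← map_mul, ee_mul _ _ (perp_e hw'), ee_mul _ _ (perp_e hw)]
    exact congrArg (pk Q) (ee_congr _ _ _ _ rfl (add_comm _ _))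
  have hNmem : ∀ a ∈ O, ∀ (x : V) (hx : polarBilin Q a.1.rep x = 0),
      (∀ s ∈ S, polarBilin Q x s = 0) → pk Q (ee a.1.rep x (sing a) hx) ∈ N := by
    intro a ha x hx hxS
    exact ⟨⟨_, ee_mem_radS hSB _ _ (hrep a ha) hxS, rfl⟩, hO a ha
      ⟨_, by have := ee_mem_root a.1.rep_nonzero (sing a) hx; rwa [hpta a] at this, rfl⟩⟩
  -- two independent vectors
  set b0 := x1 • a0
  have hb0 : b0 ∈ O := ⟨x1, hx1, rfl⟩
  have ha0O : a0 ∈ O := ⟨1, one_mem _, one_smul _ _⟩
  have hind : ∀ t : F, t • b0.1.rep ≠ a0.1.rep := fun t ht => hx1' <| by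
    show b0 = a0
    rw [← hpta b0, ← hpta a0]
    exact ((pt_eq_iff a0.1.rep_nonzero (sing a0) b0.1.rep_nonzero (sing b0)).2 ⟨t, ht⟩).symm
  -- `S^⊥ = S`
  have hperp : ∀ x, (∀ s ∈ S, polarBilin Q x s = 0) → ∀ y, (∀ s ∈ S, polarBilin Q y s = 0) →
      polarBilin Q x y = 0 := by
    intro x hx y hy
    have hxa : polarBilin Q a0.1.rep x = 0 := by rw [quad_polar_comm]; exact hx _ (hrep a0 ha0O)
    have hyb : polarBilin Q b0.1.rep y = 0 := by rw [quad_polar_comm]; exact hy _ (hrep b0 hb0)
    have hc := hNab _ (hNmem a0 ha0O x hxa hx) _ (hNmem b0 hb0 y hyb hy)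
    rw [← map_mul, ← map_mul, pk_eq_iff] at hc
    obtain ⟨c, hc'⟩ := scalar_of_fix h ((mem_center_iff_fix h).1 hc)
    have hm1 : ee a0.1.rep x (sing a0) hxa ∈ radS Q S := ee_mem_radS hSB _ _ (hrep a0 ha0O) hx
    have hm2 : ee b0.1.rep y (sing b0) hyb ∈ radS Q S := ee_mem_radS hSB _ _ (hrep b0 hb0) hy
    set A := ee a0.1.rep x (sing a0) hxa with hA
    set B := ee b0.1.rep y (sing b0) hyb with hB
    have hfixa := (mul_mem (inv_mem (mul_mem hm1 hm2)) (mul_mem hm2 hm1)).1 _ (hrep a0 ha0O)
    rw [hc'] at hfixa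
    have hc1 : c = 1 := smul_left_injective F a0.1.rep_nonzero (hfixa.trans (one_smul F _).symm)
    obtain ⟨z, hzb, hza⟩ := exists_pair_fun h hind
    have hz : ((A * B)⁻¹ * (B * A)).1.1 z = z := by rw [hc', hc1, one_smul]
    change (A * B).1.1.symm ((B * A).1.1 z) = z at hz
    rw [LinearEquiv.symm_apply_eq] at hz
    change B.1.1 (A.1.1 z) = A.1.1 (B.1.1 z) at hz
    rw [hA, hB] at hz
    simp only [ee_apply, map_add, map_sub, map_smul, LinearMap.add_apply, LinearMap.sub_apply,
      LinearMap.smul_apply, smul_eq_mul, hzb, hxa, hyb, quad_polar_comm Q x a0.1.rep,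
      quad_polar_comm Q y b0.1.rep, hx _ (hrep b0 hb0), hy _ (hrep a0 ha0O),
      hSB _ (hrep a0 ha0O) _ (hrep b0 hb0), hSB _ (hrep b0 hb0) _ (hrep a0 ha0O),
      quad_polar_comm Q a0.1.rep y, quad_polar_comm Q b0.1.rep x, quad_polar_comm Q y x,
      mul_zero, zero_mul, zero_smul, add_zero, sub_zero] at hz
    have : (polarBilin Q z a0.1.rep * polarBilin Q x y) • b0.1.rep = 0 := by
      linear_combination (norm := module) -hz
    rw [smul_eq_zero, mul_eq_zero] at this
    exact (this.resolve_right b0.1.rep_nonzero).resolve_left hza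
  -- dimension of `S`
  have hnd' : (polarBilin Q).Nondegenerate := by
    refine ⟨fun z hz => ?_, fun z hz => ?_⟩ <;> by_contra hz0 <;>
      obtain ⟨y, -, hy⟩ := h.two.sep z trivial hz0
    · exact hy (hz y)
    · exact hy (by rw [quad_polar_comm]; exact hz y)
  set B' : LinearMap.BilinForm F V := polarBilin Q
  have hrefl : B'.IsRefl := fun x y hxy => (quad_polar_comm Q y x).trans hxy
  have hSperp : B'.orthogonal S = S := by
    refine le_antisymm (fun x hx => ?_) fun x hx y hy => hSB y hy x hx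
    have hx' : x ∈ B'.orthogonal (B'.orthogonal S) := fun y hy => by
      show polarBilin Q y x = 0
      exact hperp y (fun s hs => (quad_polar_comm Q y s).trans (hy s hs)) x
        (fun s hs => (quad_polar_comm Q x s).trans (hx s hs))
    rwa [LinearMap.BilinForm.orthogonal_orthogonal hnd' hrefl] at hx'
  have hdim := LinearMap.BilinForm.finrank_orthogonal hnd' S
  rw [hSperp] at hdim
  have hSle := Submodule.finrank_le S
  set m := Module.finrank F S with hmdef
  have h2m : 2 * m = Module.finrank F V := by omega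
  have hm5 : 5 ≤ m := by have := hN S hSQ h2m; omega
  -- a basis of `S` from the orbit
  obtain ⟨bset, hbsub, hbspan, hbind⟩ := exists_linearIndependent F {v | ∃ a ∈ O, v = a.1.rep}
  haveI : Fintype bset := Fintype.ofFinite bset
  have hcard : Fintype.card bset = m := by
    rw [← finrank_span_eq_card hbind, Subtype.range_coe_subtype, Set.setOf_mem_eq, hbspan]
  let idx : Fin m ≃ bset := (Fintype.equivFinOfCardEq hcard).symm
  let b : Fin m → V := fun i => (idx i).1
  have hbind' : LinearIndependent F b := hbind.comp idx idx.injective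
  choose ba hba hbav using fun i => hbsub (idx i).2
  have hbS : ∀ i, b i ∈ S := fun i => Submodule.subset_span (hbsub (idx i).2)
  have hb0' : ∀ i, Q (b i) = 0 := fun i => hSQ _ (hbS i)
  let xs : Upper F m → Fin m → V := fun c i => ∑ j, c.1 i j • b j
  have hxs : ∀ c i, xs c i ∈ S := fun c i => S.sum_mem fun j _ => S.smul_mem _ (hbS j)
  have hbx : ∀ c i, polarBilin Q (b i) (xs c i) = 0 := fun c i => hSB _ (hbS i) _ (hxs c i)
  let G : Upper F m → EG Q := fun c =>
    ((List.finRange m).map fun i => ee (b i) (xs c i) (hb0' i) (hbx c i)).prod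
  have hGmem : ∀ (c : Upper F m), G c ∈ radS Q S ∧ pk Q (G c) ∈ H := by
    intro c
    refine ⟨Subgroup.list_prod_mem _ fun g hg => ?_, ?_⟩
    · obtain ⟨i, -, rfl⟩ := List.mem_map.1 hg
      exact ee_mem_radS hSB _ _ (hbS i) fun s hs => hSB _ (hxs c i) s hs
    · show G c ∈ H.comap (pk Q)
      refine Subgroup.list_prod_mem _ fun g hg => ?_
      obtain ⟨i, -, rfl⟩ := List.mem_map.1 hg
      have hv : b i = (ba i).1.rep := hbav i
      refine hO _ (hba i) ⟨_, ?_, rfl⟩
      rw [ee_congr (hb0' i) (hbx c i) (sing (ba i)) (hv ▸ hbx c i) hv rfl]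
      have := ee_mem_root (x := xs c i) (ba i).1.rep_nonzero (sing (ba i)) (hv ▸ hbx c i)
      rwa [hpta (ba i)] at this
  have hdisp : ∀ (c : Upper F m) (L : List (Fin m)) (z : V),
      (L.map fun i => ee (b i) (xs c i) (hb0' i) (hbx c i)).prod.1.1 z =
        z + (L.map fun i => polarBilin Q z (b i) • xs c i - polarBilin Q z (xs c i) • b i).sum := by
    intro c L z
    induction L with
    | nil => simp
    | cons i L ih =>
      rw [List.map_cons, List.prod_cons, List.map_cons, List.sum_cons]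
      show (ee (b i) (xs c i) (hb0' i) (hbx c i)).1.1 ((L.map fun i => ee (b i) (xs c i) (hb0' i) (hbx c i)).prod.1.1 z) = _
      rw [ih, map_add]
      have hfixS : ∀ s ∈ S, (ee (b i) (xs c i) (hb0' i) (hbx c i)).1.1 s = s :=
        (ee_mem_radS hSB _ _ (hbS i) fun s hs => hSB _ (hxs c i) s hs).1
      have hsum : (L.map fun i => polarBilin Q z (b i) • xs c i - polarBilin Q z (xs c i) • b i).sum ∈ S := by
        refine list_sum_mem fun s hs => ?_
        obtain ⟨j, -, rfl⟩ := List.mem_map.1 hs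
        exact S.sub_mem (S.smul_mem _ (hxs c j)) (S.smul_mem _ (hbS j))
      rw [hfixS _ hsum, ee_apply, hSQ _ (hxs c i)]
      simp only [zero_mul, add_zero]
      abel
  have hGinj : Function.Injective fun c => pk Q (G c) := by
    intro c c' hcc
    obtain ⟨k, hk⟩ := scalar_of_fix h ((mem_center_iff_fix h).1 (pk_eq_iff.1 hcc))
    have hfix := (mul_mem (inv_mem (hGmem c).1) (hGmem c').1).1 _ (hrep a0 ha0O)
    rw [hk] at hfix
    have hk1 : k = 1 := smul_left_injective F a0.1.rep_nonzero (hfix.trans (one_smul F _).symm)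
    have heq : G c = G c' := inv_mul_eq_one.1 (Subtype.ext (Subtype.ext (LinearEquiv.ext fun v => by
      show ((G c)⁻¹ * G c').1.1 v = v
      rw [hk, hk1, one_smul])))
    refine Subtype.ext (funext fun i => funext fun j => ?_)
    rcases le_or_gt j i with hji | hij
    · rw [c.2 i j hji, c'.2 i j hji]
    -- pair with the dual vector of `b i`
    obtain ⟨ψ, hψ⟩ := LinearMap.exists_extend
      ((Module.Basis.span hbind').constr F (fun l => if l = i then (1 : F) else 0))
    obtain ⟨z, hz⟩ := (LinearMap.BilinForm.toDual B' hnd').surjective ψ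
    have hzb : ∀ l, polarBilin Q z (b l) = if l = i then 1 else 0 := by
      intro l
      have h1 : B' z (b l) = ψ (b l) := by rw [← hz]; exact (LinearMap.BilinForm.toDual_def hnd').symm
      rw [show polarBilin Q z (b l) = B' z (b l) from rfl, h1]
      have h2 := LinearMap.congr_fun hψ (Module.Basis.span hbind' l)
      rw [LinearMap.comp_apply, Module.Basis.constr_basis, Submodule.subtype_apply, Module.Basis.span_apply] at h2
      exact h2
    have key : ∀ d : Upper F m, (G d).1.1 z - z =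
        ∑ l, (d.1 i l - d.1 l i) • b l := by
      intro d
      rw [hdisp, add_sub_cancel_left, ← Fin.sum_univ_def, Finset.sum_sub_distrib]
      simp only [xs, hzb, ite_smul, one_smul, zero_smul, Finset.sum_ite_eq', Finset.mem_univ, if_true,
        map_sum, map_smul, smul_eq_mul, mul_ite, mul_one, mul_zero, sub_smul, Finset.sum_sub_distrib]
    have h1 := key c
    rw [heq, key c'] at h1
    rw [← sub_eq_zero, ← Finset.sum_sub_distrib] at h1
    simp only [← sub_smul] at h1
    have h2 := Fintype.linearIndependent_iff.1 hbind' _ h1 j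
    rw [c.2 j i hij.le, c'.2 j i hij.le, sub_zero, sub_zero, sub_eq_zero] at h2
    exact h2.symm
  have hcount : Nat.card (Upper F m) ≤ Nat.card (perpPair Q e f) := by
    rw [← card_rootK p h he0]
    refine Nat.card_le_card_of_injective
      (fun c => ⟨φ.symm.toMonoidHom (pk Q (G c)), hNle ⟨_, ⟨⟨_, (hGmem c).1, rfl⟩, (hGmem c).2⟩, rfl⟩⟩)
      fun c c' hcc => hGinj (φ.symm.injective (congrArg Subtype.val hcc))
  have hW := card_perpPair_mul h
  have hq : 2 ≤ Nat.card F := by
    letI := Fintype.ofFinite F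
    rw [Nat.card_eq_fintype_card]; exact Fintype.one_lt_card
  have hge := (card_upper_ge (F := F) hm5).trans hcount
  have hbad : Nat.card F ^ (2 * m - 1) * Nat.card F ^ 2 ≤ Nat.card F ^ Module.finrank F V := by
    rw [← hW]; exact Nat.mul_le_mul_right _ hge
  rw [← pow_add, Nat.pow_le_pow_iff_right (by omega)] at hbad
  omega

end Cfsg.Agent.Lib.Classical.AutPOmega
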