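import Cfsg.Agent.Lib.Classical.AutPOmega.EvenGroups
import Cfsg.Agent.Lib.QuadFin.OmegaCriterion

/-!
Automorphisms of `PΩ`, part 19: which similarities preserve the classes of maximal totally singular
subspaces; spinor norms of isometries without fixed vectors.
-/

set_option autoImplicit false

namespace Cfsg.Agent.Lib.Classical.AutPOmega

open QuadraticMap (polarBilin)
open Cfsg.Agent.Lib.Geometry (quad_smul quad_add polarPerp mem_polarPerp polarPerp_eq_self finrank_polarPerp
  polarPerp_sup polar_eq_zero_of_singular even_codim_sum isometryEquiv isometryEquiv_apply sqClass quadIsometries)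
open Matrix
open Module (finrank)

attribute [-simp] QuadraticMap.polarBilin_apply_apply

variable {F : Type*} [Field F] {ι : Type} [Fintype ι] [DecidableEq ι] {R : QuadraticForm F (ι → F)}

theorem finrank_of_maximal (hR : (polarBilin R).Nondegenerate) {m : ℕ} (hι : Fintype.card ι = 2 * m)
    {U₀ : Submodule F (ι → F)} (hU₀ : finrank F U₀ = m) (hU₀0 : ∀ u ∈ U₀, R u = 0)
    {U : Submodule F (ι → F)} (hU : Cfsg.IsMaxTotallySingular (⇑R) U) : finrank F U = m := by
  have hn : finrank F (ι → F) = 2 * m := by rw [Module.finrank_fintype_fun_eq_card, hι]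
  obtain ⟨hU0, hmax⟩ := hU
  set P := U₀ ⊓ polarPerp R U with hP
  have hle : P ≤ U := by
    have h : U ⊔ P = U := hmax _ (fun x hx => by
      obtain ⟨u, hu, p, hp, rfl⟩ := Submodule.mem_sup.mp hx
      rw [quad_add, hU0 u hu, hU₀0 p hp.1, (mem_polarPerp R).mp hp.2 u hu, add_zero, add_zero]) le_sup_left
    exact h ▸ le_sup_right
  have hPe : P = U₀ ⊓ U := le_antisymm (le_inf inf_le_left hle) (inf_le_inf_left _ fun u hu =>
    (mem_polarPerp R).mpr fun w hw => polar_eq_zero_of_singular R hU0 w hw u hu)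
  have e1 : finrank F P = 2 * m - finrank F ↥(U₀ ⊔ U) := by
    rw [← hn, ← finrank_polarPerp R hR (U₀ ⊔ U), polarPerp_sup, polarPerp_eq_self R hR hn hU₀ hU₀0]
  have e2 : finrank F ↥(U₀ ⊔ U) + finrank F ↥(U₀ ⊓ U) = finrank F U₀ + finrank F U :=
    Submodule.finrank_sup_add_finrank_inf_eq _ _
  have e3 := Submodule.finrank_le (U₀ ⊔ U)
  rw [hn] at e3
  rw [hPe] at e1
  have e4 : finrank F ↥(U₀ ⊓ U) ≤ finrank F U := Submodule.finrank_mono inf_le_right
  omega

theorem isMax_of_finrank (hR : (polarBilin R).Nondegenerate) {m : ℕ} (hι : Fintype.card ι = 2 * m)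
    {U : Submodule F (ι → F)} (hU : finrank F U = m) (hU0 : ∀ u ∈ U, R u = 0) :
    Cfsg.IsMaxTotallySingular (⇑R) U := by
  have hn : finrank F (ι → F) = 2 * m := by rw [Module.finrank_fintype_fun_eq_card, hι]
  refine ⟨hU0, fun W hW hle => le_antisymm ?_ hle⟩
  intro w hw
  rw [← polarPerp_eq_self R hR hn hU hU0]
  exact (mem_polarPerp R).mpr fun u hu => polar_eq_zero_of_singular R hW u (hle hu) w hw

theorem toLin'_injective (g : GL ι F) : Function.Injective (Matrix.toLin' (g : Matrix ι ι F)) := fun u v h => by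
  have := congrArg (((g⁻¹ : GL ι F) : Matrix ι ι F) *ᵥ ·) h
  simpa [Matrix.mulVec_mulVec, ← Units.val_mul] using this

theorem finrank_image (g : GL ι F) (U : Submodule F (ι → F)) :
    finrank F ↥(Cfsg.imageSubmodule (g : Matrix ι ι F) U) = finrank F U :=
  (Submodule.equivMapOfInjective _ (toLin'_injective g) U).finrank_eq.symm

theorem image_singular {g : GL ι F} {c : F} (hg : ∀ v, R ((g : Matrix ι ι F) *ᵥ v) = c * R v)
    {U : Submodule F (ι → F)} (hU : ∀ u ∈ U, R u = 0) :
    ∀ u ∈ Cfsg.imageSubmodule (g : Matrix ι ι F) U, R u = 0 := by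
  rintro _ ⟨u, hu, rfl⟩
  rw [Matrix.toLin'_apply, hg, hU u hu, mul_zero]

theorem image_mul (g h : GL ι F) (U : Submodule F (ι → F)) :
    Cfsg.imageSubmodule ((g * h : GL ι F) : Matrix ι ι F) U =
      Cfsg.imageSubmodule (g : Matrix ι ι F) (Cfsg.imageSubmodule (h : Matrix ι ι F) U) := by
  simp only [Cfsg.imageSubmodule, Units.val_mul, Matrix.toLin'_mul, Submodule.map_comp]

theorem image_inf (g : GL ι F) (U W : Submodule F (ι → F)) :
    Cfsg.imageSubmodule (g : Matrix ι ι F) (U ⊓ W) =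
      Cfsg.imageSubmodule (g : Matrix ι ι F) U ⊓ Cfsg.imageSubmodule (g : Matrix ι ι F) W :=
  Submodule.map_inf _ (toLin'_injective g)

/-- A similarity preserves the classes iff it moves one subspace within its class. -/
theorem preserves_iff_even (hR : (polarBilin R).Nondegenerate) {m : ℕ} (hι : Fintype.card ι = 2 * m)
    {U₀ : Submodule F (ι → F)} (hU₀ : finrank F U₀ = m) (hU₀0 : ∀ u ∈ U₀, R u = 0) {g : GL ι F} {c : F}
    (hg : ∀ v, R ((g : Matrix ι ι F) *ᵥ v) = c * R v) :
    Cfsg.PreservesSingularClasses (⇑R) (g : Matrix ι ι F) ↔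
      Even (m - finrank F ↥(U₀ ⊓ Cfsg.imageSubmodule (g : Matrix ι ι F) U₀)) := by
  constructor
  · intro h
    have := h U₀ (isMax_of_finrank hR hι hU₀ hU₀0)
    rwa [Cfsg.SameParityClass, hU₀] at this
  · intro h U hU
    have hd := finrank_of_maximal hR hι hU₀ hU₀0 hU
    have hn : finrank F (ι → F) = 2 * m := by rw [Module.finrank_fintype_fun_eq_card, hι]
    rw [Cfsg.SameParityClass, hd]
    set gU := Cfsg.imageSubmodule (g : Matrix ι ι F) U
    set gU₀ := Cfsg.imageSubmodule (g : Matrix ι ι F) U₀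
    have h1 := even_codim_sum R hR hn (U := U) (W := U₀) (X := gU) hd hU.1 hU₀ hU₀0
      ((finrank_image g U).trans hd) (image_singular hg hU.1)
    have h2 := even_codim_sum R hR hn (U := U₀) (W := gU₀) (X := gU) hU₀ hU₀0
      ((finrank_image g U₀).trans hU₀) (image_singular hg hU₀0) ((finrank_image g U).trans hd) (image_singular hg hU.1)
    have e : finrank F ↥(gU₀ ⊓ gU) = finrank F ↥(U ⊓ U₀) := by
      rw [show gU₀ ⊓ gU = Cfsg.imageSubmodule (g : Matrix ι ι F) (U₀ ⊓ U) from (image_inf g U₀ U).symm,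
        finrank_image, inf_comm]
    rw [e] at h2
    rw [Nat.even_iff] at h h1 h2 ⊢
    omega

/-- If `d` fixes `U₀` and `k` is an isometry, `d k` preserves the classes iff `k` has Dickson invariant `1`. -/
theorem preserves_iff_dickson (hR : (polarBilin R).Nondegenerate)
    (hexc : (∃ a : F, a ≠ 0 ∧ a ≠ 1) ∨ finrank F (ι → F) ≠ 4) {m : ℕ} (hι : Fintype.card ι = 2 * m)
    {U₀ : Submodule F (ι → F)} (hU₀ : finrank F U₀ = m) (hU₀0 : ∀ u ∈ U₀, R u = 0) {d : GL ι F} {c : F}
    (hd : ∀ v, R ((d : Matrix ι ι F) *ᵥ v) = c * R v) (hfix : Cfsg.imageSubmodule (d : Matrix ι ι F) U₀ = U₀)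
    (k : Cfsg.isometryGroup F ⇑R) :
    Cfsg.PreservesSingularClasses (⇑R) ((d * k.1 : GL ι F) : Matrix ι ι F) ↔
      Geometry.dickson R (isometryEquiv R k) = 1 := by
  have hn : finrank F (ι → F) = 2 * m := by rw [Module.finrank_fintype_fun_eq_card, hι]
  rw [preserves_iff_even hR hι hU₀ hU₀0 (g := d * k.1) (c := c) fun v => by
    rw [Units.val_mul, ← Matrix.mulVec_mulVec, hd]; exact congrArg _ (k.2 v v)]
  have hmap : U₀.map ((isometryEquiv R k : quadIsometries R) : (ι → F) ≃ₗ[F] (ι → F)).toLinearMap =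
      Cfsg.imageSubmodule ((k : GL ι F) : Matrix ι ι F) U₀ := rfl
  rw [QuadFin.dickson_eq_codim R hR hexc hn U₀ hU₀ hU₀0 (isometryEquiv R k), hmap]
  have e : finrank F ↥(U₀ ⊓ Cfsg.imageSubmodule ((d * k.1 : GL ι F) : Matrix ι ι F) U₀) =
      finrank F ↥(U₀ ⊓ Cfsg.imageSubmodule ((k : GL ι F) : Matrix ι ι F) U₀) := by
    conv_lhs => rw [image_mul, ← hfix]
    rw [← image_inf, finrank_image, hfix]
  rw [e, neg_one_pow_eq_one_iff_even (by decide)]

/-- Base change of a matrix. -/
theorem map_sim {K : Type*} [Field K] {RK : QuadraticForm K (ι → K)} (j : F →+* K) (h2 : (2 : K) ≠ 0)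
    (hj : ∀ v, RK (fun i => j (v i)) = j (R v)) {g : GL ι F} {c : F}
    (hg : ∀ v, R ((g : Matrix ι ι F) *ᵥ v) = c * R v) (v : ι → K) :
    RK ((g : Matrix ι ι F).map j *ᵥ v) = j c * RK v := by
  refine sim_of_gram h2 ?_ v
  have h := congrArg j.mapMatrix (sim_gram hg)
  simp only [map_mul, RingHom.mapMatrix_apply, gram_map_hom j hj] at h
  rw [← Matrix.transpose_map, h, ← gram_map_hom j hj]
  refine Matrix.ext fun s t => ?_
  simp [Matrix.map_apply]

/-- In odd characteristic, read over an extension where the form is hyperbolic, a similarity preserves the classes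
iff `det g = μ^m`. -/
theorem preserves_iff_delta [Fintype F] {K : Type*} [Field K] [Finite K] {RK : QuadraticForm K (ι → K)}
    (j : F →+* K) (h2 : (2 : K) ≠ 0) (hj : ∀ v, RK (fun i => j (v i)) = j (R v))
    (hM : Model0 R) (hRK : (polarBilin RK).Nondegenerate) {m : ℕ} (hι : Fintype.card ι = 2 * m)
    {U₀ : Submodule K (ι → K)} (hU₀ : finrank K U₀ = m) (hU₀0 : ∀ u ∈ U₀, RK u = 0)
    (hd : ∀ c : Fˣ, ∃ d : Cfsg.Geo.quadSimilarityGroup (F := F) ⇑R, multS hM d = c ∧ deltaS hM m d = 1 ∧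
      Cfsg.imageSubmodule ((d.1 : Matrix ι ι F).map j) U₀ = U₀)
    (g : Cfsg.Geo.quadSimilarityGroup (F := F) ⇑R) :
    Cfsg.PreservesSingularClasses (⇑RK) ((g.1 : Matrix ι ι F).map j) ↔ deltaS hM m g = 1 := by
  obtain ⟨d, hdm, hdd, hdfix⟩ := hd (multS hM g)
  obtain ⟨k, hk⟩ := exists_iso_of_multS hM (g := d⁻¹ * g) (u := 1) (by
    rw [map_mul, map_inv, hdm, inv_mul_cancel, one_mul])
  rw [map_one, one_mul, inv_mul_eq_iff_eq_mul] at hk
  subst hk
  let kK : Cfsg.isometryGroup K ⇑RK := ⟨Units.map (RingHom.toMonoidHom j.mapMatrix) k.1, fun v _ => by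
    show RK (((k : GL ι F) : Matrix ι ι F).map j *ᵥ v) = RK v
    rw [map_sim j h2 hj (c := 1) (fun w => by rw [one_mul]; exact k.2 w w), map_one, one_mul]⟩
  let dK : GL ι K := Units.map (RingHom.toMonoidHom j.mapMatrix) d.1
  have hprod : ((d * isoG R k).1 : Matrix ι ι F).map j = ((dK * kK.1 : GL ι K) : Matrix ι ι K) := by
    show ((d.1 : Matrix ι ι F) * ((k : GL ι F) : Matrix ι ι F)).map j = _
    rw [Matrix.map_mul]; rfl
  rw [hprod, preserves_iff_dickson hRK (Or.inl ⟨-1, neg_ne_zero.mpr one_ne_zero, fun h => h2 (by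
      linear_combination -h)⟩) hι hU₀ hU₀0 (d := dK) (c := j (multS hM d : F))
      (fun v => map_sim j h2 hj (multS_spec hM d) v) hdfix kK,
    dickson_det hRK h2 kK, map_mul, hdd, one_mul, deltaS_isoG]
  show (((k : GL ι F) : Matrix ι ι F).map j).det = 1 ↔ _
  rw [show (((k : GL ι F) : Matrix ι ι F).map j).det = j ((k : GL ι F) : Matrix ι ι F).det from
    (RingHom.map_det j _).symm, map_eq_one_iff j j.injective]
  exact ⟨fun h => Units.ext h, fun h => congrArg Units.val h⟩

variable [Finite F]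

/-- Spinor norm of an isometry without fixed vectors. -/
theorem spinH_of_det_one_sub (hR : (polarBilin R).Nondegenerate) (h2 : (2 : F) ≠ 0)
    (k : Cfsg.isometryGroup F ⇑R) (h : (1 - ((k : GL ι F) : Matrix ι ι F)).det ≠ 0) :
    spinH hR h2 k = sqClass ((1 - ((k : GL ι F) : Matrix ι ι F)).det * (gram R).det) := by
  set A := 1 - ((k : GL ι F) : Matrix ι ι F) with hA
  have hone : ∀ x, Geometry.oneSub R (isometryEquiv R k) x = A *ᵥ x := fun x => by
    rw [Geometry.oneSub_apply, isometryEquiv_apply, hA, Matrix.sub_mulVec, Matrix.one_mulVec]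
  have hinj : Function.Injective (Matrix.toLin' A) := fun u v huv => by
    by_contra hne
    exact h (Matrix.exists_mulVec_eq_zero_iff.mp ⟨u - v, sub_ne_zero.mpr hne, by
      rw [Matrix.mulVec_sub, sub_eq_zero]; simpa using huv⟩)
  have hli : LinearIndependent F fun i : ι => Geometry.oneSub R (isometryEquiv R k) (Pi.single i 1) := by
    have : (fun i : ι => Geometry.oneSub R (isometryEquiv R k) (Pi.single i 1)) =
        Matrix.toLin' A ∘ ⇑(Pi.basisFun F ι) := funext fun i => by
      rw [hone, Function.comp_apply, Pi.basisFun_apply, Matrix.toLin'_apply]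
    rw [this]
    exact (Pi.basisFun F ι).linearIndependent.map' _ (LinearMap.ker_eq_bot.mpr hinj)
  have hspan : ∀ x, Geometry.oneSub R (isometryEquiv R k) x ∈
      Submodule.span F (Set.range fun i : ι => Geometry.oneSub R (isometryEquiv R k) (Pi.single i 1)) := fun x => by
    rw [hli.span_eq_top_of_card_eq_finrank' (by rw [Module.finrank_fintype_fun_eq_card])]
    trivial
  show Geometry.spinor R (isometryEquiv R k) = _
  rw [(QuadFin.invariants_of_frame R hR _ (fun i => Pi.single i 1) hli hspan).2]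
  congr 1
  rw [show (Matrix.of fun i j => polarBilin R (Geometry.oneSub R (isometryEquiv R k) (Pi.single i 1)) (Pi.single j 1)) =
      Aᵀ * gram R from ?_, Matrix.det_mul, Matrix.det_transpose]
  refine Matrix.ext fun i j => ?_
  rw [Matrix.of_apply, hone]
  have := congrFun (congrFun (toMatrix'_comp_mat R A) i) j
  show _ = (Aᵀ * gram R) i j
  rw [Matrix.mul_apply]
  conv_lhs => rw [pi_eq_sum_univ' (A *ᵥ Pi.single i 1)]
  simp [gram_apply, map_sum, map_smul, Matrix.mulVec_single_one, Matrix.transpose_apply]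

end Cfsg.Agent.Lib.Classical.AutPOmega
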