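import Cfsg.Agent.Lib.Classical.AutPOmega.Basic

/-!
Automorphisms of `PΩ`, part 3: hyperbolic pairs, collinearity, generation by two opposite root
groups, counting singular vectors modulo the characteristic.
-/

set_option autoImplicit false

namespace Cfsg.Agent.Lib.Classical.AutPOmega

open QuadraticMap (polarBilin)
open Cfsg.Agent.Lib.Geometry (quadIsometries mem_quadIsometries quad_add quad_smul quad_polar_self
  quad_polar_comm)

attribute [-simp] QuadraticMap.polarBilin_apply_apply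

variable {F V : Type*} [Field F] [AddCommGroup V] [Module F V] {Q : QuadraticForm F V}
  {e f e₂ f₂ e₃ f₃ : V}

/-- The component orthogonal to a hyperbolic pair. -/
def prW (Q : QuadraticForm F V) (e f v : V) : V :=
  v - polarBilin Q v f • e - polarBilin Q v e • f

theorem prW_mem (qe : Q e = 0) (qf : Q f = 0) (ef : polarBilin Q e f = 1) (v : V) :
    prW Q e f v ∈ perpPair Q e f := by
  refine mem_perpPair.mpr ⟨?_, ?_⟩
  · simp [prW, quad_polar_self, qe, ef, quad_polar_comm Q e v]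
  · simp [prW, quad_polar_self, qf, quad_polar_comm Q f e, ef, quad_polar_comm Q f v]

theorem decomp (Q : QuadraticForm F V) (e f v : V) :
    v = polarBilin Q v f • e + polarBilin Q v e • f + prW Q e f v := by
  rw [prW]; abel

theorem perp_e {w : V} (hw : w ∈ perpPair Q e f) : polarBilin Q e w = 0 := (mem_perpPair.mp hw).1

theorem perp_f {w : V} (hw : w ∈ perpPair Q e f) : polarBilin Q f w = 0 := (mem_perpPair.mp hw).2

theorem perp_e' {w : V} (hw : w ∈ perpPair Q e f) : polarBilin Q w e = 0 := by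
  rw [quad_polar_comm, perp_e hw]

theorem perp_f' {w : V} (hw : w ∈ perpPair Q e f) : polarBilin Q w f = 0 := by
  rw [quad_polar_comm, perp_f hw]

/-- The image of `f` under a root element of `e`. -/
theorem ee_f (qe : Q e = 0) (ef : polarBilin Q e f = 1) {w : V} (hw : w ∈ perpPair Q e f) :
    (ee e w qe (perp_e hw)).1.1 f = f + w - Q w • e := by
  rw [ee_apply, quad_polar_comm Q f e, ef, perp_f hw]
  simp

/-- Singular vectors pairing to one with `e` are images of `f`. -/
theorem affine_cover (qe : Q e = 0) (qf : Q f = 0) (ef : polarBilin Q e f = 1) {z : V} (hz : Q z = 0)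
    (hze : polarBilin Q z e = 1) :
    (ee e (prW Q e f z) qe (perp_e (prW_mem qe qf ef z))).1.1 f = z := by
  have hw := prW_mem qe qf ef z
  rw [ee_f qe ef hw]
  have hd := decomp Q e f z
  rw [hze, one_smul] at hd
  have hq := hz
  rw [hd, quad_add, quad_add, quad_smul, qe, qf] at hq
  simp only [map_add, map_smul, LinearMap.add_apply, LinearMap.smul_apply, smul_eq_mul, ef,
    perp_e hw, perp_f hw, mul_zero, mul_one, add_zero, zero_add] at hq
  conv_rhs => rw [hd]
  rw [show polarBilin Q z f = -Q (prW Q e f z) by linear_combination hq]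
  module

theorem ee_e_inj (qe : Q e = 0) (ef : polarBilin Q e f = 1) {w w' : V} (hw : w ∈ perpPair Q e f)
    (hw' : w' ∈ perpPair Q e f) (h : ee e w qe (perp_e hw) = ee e w' qe (perp_e hw')) : w = w' := by
  have h1 := congrArg (fun g : EG Q => g.1.1 f) h
  simp only [ee_f qe ef hw, ee_f qe ef hw'] at h1
  have h2 := congrArg (fun v => polarBilin Q v f) h1
  simp [ef, perp_f' hw, perp_f' hw'] at h2
  rw [h2] at h1
  simpa using h1

/-! ### Collinearity -/

/-- Orthogonal points. -/
def col (a b : singPts Q) : Prop := polarBilin Q a.1.rep b.1.rep = 0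

variable [FiniteDimensional F V]

theorem root_param (qe : Q e = 0) (qf : Q f = 0) (ef : polarBilin Q e f = 1) (he0 : e ≠ 0) {g : EG Q}
    (hg : g ∈ rootSub (sp e he0 qe)) :
    ∃ (w : V) (hw : w ∈ perpPair Q e f), g = ee e w qe (perp_e hw) := by
  obtain ⟨x, hx, rfl⟩ := mem_root.1 hg
  refine ⟨prW Q e f x, prW_mem qe qf ef x, Subtype.ext ?_⟩
  have hx' : x = prW Q e f x + polarBilin Q x f • e := by
    rw [prW, quad_polar_comm Q x e, hx]; simp
  show eich Q e x qe hx = eich Q e (prW Q e f x) qe (perp_e (prW_mem qe qf ef x))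
  rw [← eich_shift qe (perp_e (prW_mem qe qf ef x)) (polarBilin Q x f) (by rw [← hx']; exact hx)]
  exact eich_congr Q qe hx qe (by rw [← hx']; exact hx) fun y => by rw [← hx']


theorem col_pt {u v : V} (hu0 : u ≠ 0) (hu : Q u = 0) (hv0 : v ≠ 0) (hv : Q v = 0) :
    col (pt u hu0 hu) (pt v hv0 hv) ↔ polarBilin Q u v = 0 := by
  obtain ⟨c, hc⟩ := Projectivization.exists_smul_eq_mk_rep F u hu0
  obtain ⟨d, hd⟩ := Projectivization.exists_smul_eq_mk_rep F v hv0
  show polarBilin Q (Projectivization.mk F u hu0).rep (Projectivization.mk F v hv0).rep = 0 ↔ _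
  rw [← hc, ← hd, Units.smul_def, Units.smul_def, map_smul, map_smul, LinearMap.smul_apply, smul_eq_mul,
    smul_eq_mul, mul_eq_zero, mul_eq_zero]
  simp

theorem col_smul (g : EG Q) (a b : singPts Q) : col (g • a) (g • b) ↔ col a b := by
  obtain ⟨u, hu0, hu, rfl⟩ := exists_pt a
  obtain ⟨v, hv0, hv, rfl⟩ := exists_pt b
  rw [smul_pt, smul_pt, col_pt, col_pt, iso_b]

/-- The Eichler group is transitive on pairs of non-collinear points. -/
theorem exists_pair_map (h : HypThree Q e f e₂ f₂ e₃ f₃) {a b : singPts Q} (hab : ¬ col a b)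
    (he0 : e ≠ 0) (hf0 : f ≠ 0) :
    ∃ g : EG Q, g • a = pt e he0 h.two.qe ∧ g • b = pt f hf0 h.two.qf := by
  haveI := singPts_pretransitive h
  obtain ⟨g, hg⟩ := MulAction.exists_smul_eq (EG Q) a (pt e he0 h.two.qe)
  obtain ⟨v, hv0, hv, hgb⟩ := exists_pt (g • b)
  have hne : polarBilin Q v e ≠ 0 := fun h0 => hab <| by
    rw [← col_smul g, hg, hgb, col_pt, quad_polar_comm, h0]
  set t := (polarBilin Q v e)⁻¹ with htdef
  have hq : Q (t • v) = 0 := by rw [quad_smul, hv, mul_zero]
  have hb : polarBilin Q (t • v) e = 1 := by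
    rw [map_smul, LinearMap.smul_apply, smul_eq_mul, htdef, inv_mul_cancel₀ hne]
  set w := prW Q e f (t • v)
  have hk := affine_cover h.two.qe h.two.qf h.two.ef hq hb
  set k := ee e w h.two.qe (perp_e (prW_mem h.two.qe h.two.qf h.two.ef _))
  refine ⟨k⁻¹ * g, ?_, ?_⟩
  · rw [mul_smul, hg]
    exact MulAction.mem_stabilizer_iff.mp (inv_mem (root_le_stab _ (ee_mem_root he0 _ _)))
  · rw [mul_smul, hgb, inv_smul_eq_iff, smul_pt]
    refine (pt_eq_smul hv0 hv _ _ (t := t) ?_).symm
    exact hk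

theorem inter_of_not_col {a b : singPts Q} (hab : ¬ col a b) {x : EG Q}
    (hxa : x ∈ rootSub a) (hxb : x ∈ rootSub b) : x = 1 := by
  obtain ⟨u, hu0, hu, rfl⟩ := exists_pt a
  obtain ⟨v, hv0, hv, rfl⟩ := exists_pt b
  rw [col_pt] at hab
  obtain ⟨y, hy, rfl⟩ := mem_root.1 hxa
  have hfix := root_fix hxb
  rw [ee_apply] at hfix
  have hvu : polarBilin Q v u ≠ 0 := by rwa [quad_polar_comm]
  have hy' : y = ((polarBilin Q v y + Q y * polarBilin Q v u) / polarBilin Q v u) • u := by
    have h1 : polarBilin Q v u • y = (polarBilin Q v y + Q y * polarBilin Q v u) • u := by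
      linear_combination (norm := module) hfix
    rw [div_eq_inv_mul, mul_smul, ← h1, smul_smul, inv_mul_cancel₀ hvu, one_smul]
  generalize (polarBilin Q v y + Q y * polarBilin Q v u) / polarBilin Q v u = c at hy'
  subst hy'
  refine Subtype.ext ?_
  show eich Q u (c • u) hu hy = 1
  refine Subtype.ext (LinearEquiv.ext fun z => ?_)
  show eichLin Q u (c • u) z = z
  rw [eichLin_apply, quad_smul, hu, map_smul, smul_eq_mul]
  module

/-- Non-zero pairing functional. -/
theorem exists_pair_fun (h : HypThree Q e f e₂ f₂ e₃ f₃) {u v : V} (hne : ∀ t : F, t • v ≠ u) :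
    ∃ z, polarBilin Q z v = 0 ∧ polarBilin Q z u ≠ 0 := by
  have sep := h.two.sep
  by_contra hall
  push Not at hall
  rcases eq_or_ne v 0 with rfl | hv0
  · have hu0 : u ≠ 0 := fun hu => hne 0 (by simp [hu])
    obtain ⟨y, -, hy⟩ := sep u trivial hu0
    exact hy (by rw [quad_polar_comm]; exact hall y (map_zero _))
  obtain ⟨y0, -, hy0⟩ := sep v trivial hv0
  rw [quad_polar_comm] at hy0
  set t := polarBilin Q y0 u / polarBilin Q y0 v
  have hzero : ∀ y, polarBilin Q y (u - t • v) = 0 := by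
    intro y
    have h1 := hall (y - (polarBilin Q y v / polarBilin Q y0 v) • y0) (by
      rw [map_sub, map_smul, LinearMap.sub_apply, LinearMap.smul_apply, smul_eq_mul,
        div_mul_cancel₀ _ hy0, sub_self])
    rw [map_sub, map_smul, LinearMap.sub_apply, LinearMap.smul_apply, smul_eq_mul] at h1
    rw [map_sub, map_smul, smul_eq_mul]
    linear_combination h1
  by_cases hd : u - t • v = 0
  · exact hne t (sub_eq_zero.mp hd).symm
  · obtain ⟨y, -, hy⟩ := sep _ trivial hd
    exact hy (by rw [quad_polar_comm]; exact hzero y)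

theorem ee_ne_one (h : HypThree Q e f e₂ f₂ e₃ f₃) {u v : V} (hu0 : u ≠ 0) (hu : Q u = 0)
    (huv : polarBilin Q u v = 0) (hne : ∀ t : F, t • u ≠ v) : ee u v hu huv ≠ 1 := by
  intro h1
  obtain ⟨z, -, hz⟩ := exists_pair_fun h (u := u) (v := (0 : V))
    (fun t => by rw [smul_zero]; exact hu0.symm)
  have h2 : (ee u v hu huv).1.1 z = z := by rw [h1]; rfl
  rw [ee_apply] at h2
  apply hne ((polarBilin Q z u)⁻¹ * (polarBilin Q z v + Q v * polarBilin Q z u))
  have h3 : polarBilin Q z u • v = (polarBilin Q z v + Q v * polarBilin Q z u) • u := by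
    linear_combination (norm := module) h2
  rw [mul_smul, ← h3, smul_smul, inv_mul_cancel₀ hz, one_smul]

/-- The only points sharing the long root group of a line lie on that line. -/
theorem on_line (h : HypThree Q e f e₂ f₂ e₃ f₃) {u v w : V} (hu : Q u = 0) (hv : Q v = 0)
    (huv : polarBilin Q u v = 0) (hne : ∀ t : F, t • u ≠ v) (hne' : ∀ t : F, t • v ≠ u)
    (hw0 : w ≠ 0) (hw : Q w = 0) (hmem : ee u v hu huv ∈ rootSub (pt w hw0 hw)) :
    ∃ a b : F, w = a • u + b • v := by
  obtain ⟨x, hx, hE⟩ := mem_root.1 hmem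
  have hd : ∀ z, polarBilin Q z u • v - polarBilin Q z v • u =
      polarBilin Q z w • x - (polarBilin Q z x + Q x * polarBilin Q z w) • w := by
    intro z
    have h1 := congrArg (fun g : EG Q => g.1.1 z) hE
    simp only [ee_apply, hv, zero_mul, add_zero] at h1
    linear_combination (norm := module) h1
  obtain ⟨z1, h11, h12⟩ := exists_pair_fun h hne'
  obtain ⟨z2, h21, h22⟩ := exists_pair_fun h hne
  have e1 := hd z1
  have e2 := hd z2
  rw [h11, zero_smul, sub_zero] at e1
  rw [h21, zero_smul, zero_sub] at e2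
  set a1 := (polarBilin Q z1 u)⁻¹ * polarBilin Q z1 w
  set b1 := (polarBilin Q z1 u)⁻¹ * -(polarBilin Q z1 x + Q x * polarBilin Q z1 w)
  set a2 := -((polarBilin Q z2 v)⁻¹ * polarBilin Q z2 w)
  set b2 := (polarBilin Q z2 v)⁻¹ * (polarBilin Q z2 x + Q x * polarBilin Q z2 w)
  have hv' : v = a1 • x + b1 • w := by
    have := congrArg ((polarBilin Q z1 u)⁻¹ • ·) e1
    simp only [smul_smul, inv_mul_cancel₀ h12, one_smul] at this
    rw [this]; module
  have hu' : u = a2 • x + b2 • w := by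
    have := congrArg (fun t : V => (polarBilin Q z2 v)⁻¹ • (-t)) e2
    simp only [neg_neg, smul_smul, inv_mul_cancel₀ h22, one_smul] at this
    rw [this]; module
  have hrel : (a2 * b1 - a1 * b2) • w = a2 • v - a1 • u := by rw [hv', hu']; module
  rcases eq_or_ne (a2 * b1 - a1 * b2) 0 with hdet | hdet
  · exfalso
    rw [hdet, zero_smul, eq_comm, sub_eq_zero] at hrel
    rcases eq_or_ne a2 0 with ha2 | ha2
    · rcases eq_or_ne a1 0 with ha1 | ha1
      · rw [ha1, zero_smul, zero_add] at hv'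
        rw [ha2, zero_smul, zero_add] at hu'
        rcases eq_or_ne b1 0 with hb1 | hb1
        · exact hne 0 (by rw [zero_smul, hv', hb1, zero_smul])
        · exact hne' (b2 / b1) (by rw [hv', smul_smul, div_mul_cancel₀ _ hb1, ← hu'])
      · exact hne' 0 (by
          rw [ha2, zero_smul, eq_comm, smul_eq_zero] at hrel
          rw [zero_smul, hrel.resolve_left ha1])
    · exact hne (a1 / a2) (by
        rw [div_eq_inv_mul, mul_smul, ← hrel, smul_smul, inv_mul_cancel₀ ha2, one_smul])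
  · refine ⟨-(a1 / (a2 * b1 - a1 * b2)), a2 / (a2 * b1 - a1 * b2), ?_⟩
    have := congrArg ((a2 * b1 - a1 * b2)⁻¹ • ·) hrel
    simp only [smul_smul, inv_mul_cancel₀ hdet, one_smul, smul_sub] at this
    rw [this, div_eq_inv_mul, div_eq_inv_mul]; module

/-! ### Generation -/

theorem reach (qe : Q e = 0) (qf : Q f = 0) (ef : polarBilin Q e f = 1) (he0 : e ≠ 0) (hf0 : f ≠ 0)
    {M : Subgroup (EG Q)} (hM : rootSub (pt e he0 qe) ≤ M) {z : V} (hz0 : z ≠ 0) (hz : Q z = 0)
    (hne : polarBilin Q z e ≠ 0) : ∃ m ∈ M, m • pt f hf0 qf = pt z hz0 hz := by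
  set t := (polarBilin Q z e)⁻¹ with htdef
  have hq : Q (t • z) = 0 := by rw [quad_smul, hz, mul_zero]
  have hb : polarBilin Q (t • z) e = 1 := by
    rw [map_smul, LinearMap.smul_apply, smul_eq_mul, htdef, inv_mul_cancel₀ hne]
  refine ⟨_, hM (ee_mem_root he0 qe (perp_e (prW_mem qe qf ef (t • z)))), ?_⟩
  rw [smul_pt]
  exact pt_eq_smul hz0 hz _ _ (t := t) (affine_cover qe qf ef hq hb)

/-- Two opposite root groups generate. -/
theorem gen_two (h : HypThree Q e f e₂ f₂ e₃ f₃) (he0 : e ≠ 0) (hf0 : f ≠ 0) {M : Subgroup (EG Q)}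
    (h1 : rootSub (pt e he0 h.two.qe) ≤ M) (h2 : rootSub (pt f hf0 h.two.qf) ≤ M) : M = ⊤ := by
  have fe : polarBilin Q f e = 1 := by rw [quad_polar_comm, h.two.ef]
  -- `e` and `f` lie in one orbit
  set w := e₂ - f₂
  have hwe : polarBilin Q w e = 0 := by
    simp [w, quad_polar_comm Q e₂ e, quad_polar_comm Q f₂ e, h.two.ee₂, h.two.ef']
  have hwf : polarBilin Q w f = 0 := by
    simp [w, quad_polar_comm Q e₂ f, quad_polar_comm Q f₂ f, h.two.fe₂, h.two.ff₂]
  have hQw : Q w = -1 := by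
    show Q (e₂ - f₂) = -1
    rw [sub_eq_add_neg, quad_add, h.two.qe₂, ← neg_one_smul F f₂, quad_smul, h.two.qf₂, map_smul,
      h.two.ef₂]
    simp
  set z := e + f + w
  have hz : Q z = 0 := by
    rw [quad_add, quad_add, h.two.qe, h.two.qf, hQw, h.two.ef, map_add, LinearMap.add_apply,
      quad_polar_comm Q e w, hwe, quad_polar_comm Q f w, hwf]
    ring
  have hze : polarBilin Q z e = 1 := by simp [z, quad_polar_self, h.two.qe, fe, hwe]
  have hzf : polarBilin Q z f = 1 := by simp [z, quad_polar_self, h.two.qf, h.two.ef, hwf]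
  have hz0 : z ≠ 0 := pair_ne_zero hze
  obtain ⟨m1, hm1, hm1'⟩ := reach h.two.qe h.two.qf h.two.ef he0 hf0 h1 hz0 hz (by rw [hze]; exact one_ne_zero)
  obtain ⟨m2, hm2, hm2'⟩ := reach h.two.qf h.two.qe fe hf0 he0 h2 hz0 hz (by rw [hzf]; exact one_ne_zero)
  have orbE : ∃ m ∈ M, m • pt f hf0 h.two.qf = pt e he0 h.two.qe :=
    ⟨m2⁻¹ * m1, mul_mem (inv_mem hm2) hm1, by rw [mul_smul, hm1', inv_smul_eq_iff, hm2']⟩
  have orb1 : ∀ (v : V) (hv0 : v ≠ 0) (hv : Q v = 0),
      polarBilin Q v e ≠ 0 ∨ polarBilin Q v f ≠ 0 → ∃ m ∈ M, m • pt f hf0 h.two.qf = pt v hv0 hv := by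
    rintro v hv0 hv (hb | hb)
    · exact reach h.two.qe h.two.qf h.two.ef he0 hf0 h1 hv0 hv hb
    · obtain ⟨m, hm, hm'⟩ := reach h.two.qf h.two.qe fe hf0 he0 h2 hv0 hv hb
      obtain ⟨k, hk, hk'⟩ := orbE
      exact ⟨m * k, mul_mem hm hk, by rw [mul_smul, hk', hm']⟩
  have all : ∀ a : singPts Q, ∃ m ∈ M, m • pt f hf0 h.two.qf = a := by
    intro a
    obtain ⟨v, hv0, hv, rfl⟩ := exists_pt a
    by_cases hb : polarBilin Q v e = 0 ∧ polarBilin Q v f = 0
    swap
    · exact orb1 v hv0 hv (not_and_or.mp hb)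
    obtain ⟨y, -, hy⟩ := h.two.sep v trivial hv0
    have hy' := prW_mem h.two.qe h.two.qf h.two.ef y
    set k := ee e (prW Q e f y) h.two.qe (perp_e hy')
    have hkM : k ∈ M := h1 (ee_mem_root he0 _ _)
    have hkv : polarBilin Q (k.1.1 v) f ≠ 0 := by
      rw [ee_apply, hb.1]
      simp [prW, hb.1, hb.2, h.two.ef, hy]
    obtain ⟨m, hm, hm'⟩ := orb1 (k.1.1 v) (fun h0 => hv0 ((map_eq_zero_iff _ k.1.1.injective).mp h0))
      (by rw [iso_q, hv]) (Or.inr hkv)
    exact ⟨k⁻¹ * m, mul_mem (inv_mem hkM) hm, by rw [mul_smul, hm', inv_smul_eq_iff, smul_pt]⟩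
  have allRoot : ∀ a : singPts Q, rootSub a ≤ M := by
    intro a x hx
    obtain ⟨m, hm, hm'⟩ := all a
    have := root_conj (g := m⁻¹) hx
    rw [show m⁻¹ • a = pt f hf0 h.two.qf by rw [inv_smul_eq_iff, hm'], inv_inv] at this
    have := mul_mem (mul_mem hm (h2 this)) (inv_mem hm)
    simpa [mul_assoc] using this
  rw [eq_top_iff]
  rintro ⟨g, hg⟩ -
  have key : g ∈ M.map (EG Q).subtype := by
    refine (Subgroup.closure_le _).mpr ?_ hg
    rintro _ ⟨u, x, hu, hx, -, -, rfl⟩
    rcases eq_or_ne u 0 with rfl | hu0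
    · exact ⟨1, one_mem _, Subtype.ext (LinearEquiv.ext fun y => by simp [eich_apply])⟩
    exact ⟨ee u x hu hx, allRoot _ (ee_mem_root hu0 hu hx), rfl⟩
  obtain ⟨a, ha, hag⟩ := key
  obtain rfl : a = ⟨g, hg⟩ := Subtype.ext hag
  exact ha

/-! ### Counting -/

/-- The root group of `e` inside a subspace. -/
def rootIn (U : Submodule F V) (qe : Q e = 0) : Subgroup (EG Q) where
  carrier := {g | ∃ (x : V) (hx : polarBilin Q e x = 0), x ∈ U ∧ g = ee e x qe hx}
  one_mem' := ⟨0, map_zero _, U.zero_mem, (ee_zero qe _).symm⟩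
  mul_mem' := by
    rintro _ _ ⟨x, hx, hxU, rfl⟩ ⟨y, hy, hyU, rfl⟩
    exact ⟨x + y, by rw [map_add, hx, hy, add_zero], U.add_mem hxU hyU, ee_mul _ hx hy⟩
  inv_mem' := by
    rintro _ ⟨x, hx, hxU, rfl⟩
    exact ⟨-x, by rw [map_neg, hx, neg_zero], U.neg_mem hxU, ee_inv _ hx⟩

/-- The singular vectors of a space with two hyperbolic pairs number a multiple of `p`. -/
theorem dvd_card_zero [Finite F] {p : ℕ} [Fact p.Prime] [CharP F p] {U : Submodule F V}
    (h : HypTwo Q U e f e₂ f₂) : p ∣ Nat.card {v : U // Q v = 0} := by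
  classical
  haveI : Finite V := Module.finite_of_finite F
  haveI : Finite U := Subtype.finite
  set G := rootIn (Q := Q) U h.qe
  have hU : ∀ (g : G) (v : U), g.1.1.1 v ∈ U := by
    rintro ⟨g, x, hx, hxU, rfl⟩ v
    show (ee e x h.qe hx).1.1 v ∈ U
    rw [ee_apply]
    exact U.sub_mem (U.add_mem v.2 (U.smul_mem _ hxU)) (U.smul_mem _ h.he)
  letI : MulAction G {v : U // Q v = 0} :=
    { smul := fun g v => ⟨⟨g.1.1.1 v.1, hU g v.1⟩, by
        show Q (g.1.1.1 v.1) = 0
        rw [iso_q]; exact v.2⟩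
      one_smul := fun v => Subtype.ext (Subtype.ext rfl)
      mul_smul := fun g k v => Subtype.ext (Subtype.ext rfl) }
  have hG : IsPGroup p G := by
    rintro ⟨g, x, hx, hxU, rfl⟩
    exact ⟨1, Subtype.ext (by rw [pow_one, SubmonoidClass.coe_pow, ee_pow_char]; rfl)⟩
  refine (Nat.modEq_zero_iff_dvd).1 ((hG.card_modEq_card_fixedPoints _).trans ?_)
  -- the fixed vectors form the line of `e`
  let L : F → MulAction.fixedPoints G {v : U // Q v = 0} := fun t =>
    ⟨⟨⟨t • e, U.smul_mem t h.he⟩, by show Q (t • e) = 0; rw [quad_smul, h.qe, mul_zero]⟩, by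
      rintro ⟨g, x, hx, hxU, rfl⟩
      refine Subtype.ext (Subtype.ext ?_)
      show (ee e x h.qe hx).1.1 (t • e) = t • e
      rw [map_smul, ee_apply, quad_polar_self, h.qe, hx]
      simp⟩
  have hL : Function.Bijective L := by
    refine ⟨fun s t hst => ?_, ?_⟩
    · have := congrArg (fun z => (z.1.1 : V)) hst
      exact smul_left_injective F (pair_ne_zero h.ef) this
    rintro ⟨⟨⟨v, hvU⟩, hv⟩, hfix⟩
    refine ⟨polarBilin Q v f, Subtype.ext (Subtype.ext (Subtype.ext ?_))⟩
    show polarBilin Q v f • e = v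
    have hall : ∀ (x : V) (hx : polarBilin Q e x = 0), x ∈ U →
        polarBilin Q v e • x - (polarBilin Q v x + Q x * polarBilin Q v e) • e = 0 := by
      intro x hx hxU
      have h1 := congrArg (fun z => (z.1 : V)) (hfix ⟨_, x, hx, hxU, rfl⟩)
      change (ee e x h.qe hx).1.1 v = v at h1
      rw [ee_apply] at h1
      linear_combination (norm := module) h1
    have hve : polarBilin Q v e = 0 := by
      have h1 := congrArg (fun z => polarBilin Q z f₂) (hall e₂ h.ee₂ h.he₂)
      simpa [h.ef₂, h.ef'] using h1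
    by_contra hne
    set d := v - polarBilin Q v f • e
    obtain ⟨y, hyU, hy⟩ := h.sep d (U.sub_mem hvU (U.smul_mem _ h.he)) (sub_ne_zero.mpr (Ne.symm hne))
    set x := y - polarBilin Q e y • f with hxdef
    have hx : polarBilin Q e x = 0 := by simp [hxdef, h.ef]
    have h2 := hall x hx (U.sub_mem hyU (U.smul_mem _ h.hf))
    rw [hve, zero_smul, mul_zero, add_zero, zero_sub, neg_eq_zero, smul_eq_zero] at h2
    have h3 := h2.resolve_right (pair_ne_zero h.ef)
    rw [hxdef, map_sub, map_smul, smul_eq_mul] at h3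
    apply hy
    show polarBilin Q (v - polarBilin Q v f • e) y = 0
    rw [map_sub, LinearMap.sub_apply, map_smul, LinearMap.smul_apply, smul_eq_mul]
    linear_combination h3
  rw [← Nat.card_eq_of_bijective L hL, Nat.modEq_zero_iff_dvd]
  letI := Fintype.ofFinite F
  obtain ⟨k, -, hk⟩ := FiniteField.card F p
  rw [Nat.card_eq_fintype_card, hk]
  exact dvd_pow_self p k.pos.ne'

end Cfsg.Agent.Lib.Classical.AutPOmega
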