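import Cfsg.Agent.Lib.Classical.AutPOmega.PlusNormal
import Cfsg.Agent.Lib.Classical.AutPOmega.OddField

/-!
Automorphisms of `PΩ`, part 32: field automorphisms of prime order of the plus-type groups, their centralizers in
the inner-diagonal group and the splitting of their classes.
-/

set_option autoImplicit false

namespace Cfsg.Agent.Lib.Classical.AutPOmega

open QuadraticMap (polarBilin)
open Cfsg.Agent.Lib.Geometry (sqClass sqClass_eq_one_iff sqClass_eq_neg_one_iff)
open Matrix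

attribute [-simp] QuadraticMap.polarBilin_apply_apply

section Injective

variable {F : Type*} [Field F] [Finite F] {ι : Type} [Fintype ι] [DecidableEq ι] {R : QuadraticForm F (ι → F)}

theorem fldHom_injective_of_model0 (hR : ∀ (σ : F ≃+* F) v, R (fun i => σ (v i)) = σ (R v)) (hM : Model0 R) :
    Function.Injective (fldHom R hR) :=
  (injective_iff_map_eq_one _).mpr fun σ h => (eq_scalar_of_semAut_eq_one hM (pair_fld σ (hR σ)) h).1

end Injective

variable {F : Type*} [Field F] [Fintype F] {F₀ : Type*} [Field F₀] [Fintype F₀] {m : ℕ}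

omit [Fintype F] [Fintype F₀] in
theorem plusR_hom (j : F₀ →+* F) (v : Fin m ⊕ Fin m → F₀) :
    plusR m F (fun i => j (v i)) = j (plusR m F₀ v) := by
  simp [plusR_apply, map_sum]

omit [Fintype F] [Fintype F₀] in
theorem plusR_base (j : F₀ →+* F) : BaseMap (plusR m F₀) (plusR m F) j 1 1 :=
  ⟨one_mul 1, one_mul 1, 1, fun v => by rw [Units.val_one, one_mul, Matrix.one_mulVec, plusR_hom]⟩

section Count

variable {σ : F ≃+* F} {j : F₀ →+* F} (hj : ∀ t, σ t = t ↔ ∃ s, j s = t) (hm : 3 ≤ m)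

include hj in
theorem plus_centralizer [Nonempty (Fin m ⊕ Fin m)] :
    clsN (model0_plus (F := F) hm) (card_plus_index m) ⊓
        Subgroup.centralizer {phiT (R := plusR m F) (plusR_map (m := m) σ)} =
      ((dia (plusR m F)).comp ((baseS (plusR_base j)).comp
        (clsS (model0_plus (F := F₀) hm) (card_plus_index m)).ker.subtype)).range := by
  have := centralizer_base (R := plusR m F) (plusR_map (m := m) σ) (plusR_base j) hj (a₀ := 1) (c' := 1) (by
    show (1 : Matrix (Fin m ⊕ Fin m) (Fin m ⊕ Fin m) F) * (1 : Matrix (Fin m ⊕ Fin m) (Fin m ⊕ Fin m) F).map σ = _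
    rw [Matrix.map_one _ (map_zero σ) (map_one σ), Units.val_one, one_smul, Matrix.one_mul])
    (model0_plus (F := F₀) hm) (model0_plus (F := F) hm) (card_plus_index m) (card_plus_index m)
  rwa [map_one, one_mul] at this

include hj in
/-- For odd order, the centralizer covers the inner-diagonal group modulo inner automorphisms. -/
theorem plus_clsN_le {r : ℕ} (hr : Odd r) (hσr : σ ^ r = 1) :
    clsN (model0_plus (F := F) hm) (card_plus_index m) ≤
      (clsN (model0_plus (F := F) hm) (card_plus_index m) ⊓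
        Subgroup.centralizer {phiT (R := plusR m F) (plusR_map (m := m) σ)}) ⊔
        Cfsg.Inn (Cfsg.POmega F ⇑(plusR m F)) := by
  have hM := model0_plus (F := F) hm
  have hM₀ := model0_plus (F := F₀) hm
  by_cases h2 : (2 : F) = 0
  · exact (clsN_le_inn_two hM _ h2).trans le_sup_right
  have i₀ : Fin m := ⟨0, by omega⟩
  haveI : Nonempty (Fin m ⊕ Fin m) := ⟨Sum.inl i₀⟩
  have h2₀ : (2 : F₀) ≠ 0 := fun e => h2 (by rw [← map_ofNat j 2, e, map_zero])
  have hb := plusR_base (m := m) j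
  have hmem : ∀ k, clsS hM₀ (card_plus_index m) k = 1 →
      dia (plusR m F) (baseS hb k) ∈
        (clsN hM (card_plus_index m) ⊓ Subgroup.centralizer {phiT (R := plusR m F) (plusR_map (m := m) σ)}) ⊔
          Cfsg.Inn (Cfsg.POmega F ⇑(plusR m F)) :=
    fun k hk => Subgroup.mem_sup_left (by rw [plus_centralizer hj hm]; exact ⟨⟨k, hk⟩, rfl⟩)
  obtain ⟨α, hα⟩ := exists_nonsquare_unit (F := F₀) h2₀
  have hjα : ¬ IsSquare (j (α : F₀)) := not_isSquare_map_of_odd h2 hr hσr hj hα
  set v : Fin m ⊕ Fin m → F₀ := plusVec m F₀ i₀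
  set w : Fin m ⊕ Fin m → F₀ := Sum.elim (Pi.single i₀ 1) (Pi.single i₀ (α : F₀))
  have hv : plusR m F₀ v = 1 := plusR_plusVec i₀
  have hw : plusR m F₀ w = α := by simp [w, plusR_apply, Pi.single_apply]
  obtain ⟨hdet, hspin⟩ := det_spin_two_refl hM h2 (v := fun i => j (v i)) (w := fun i => j (w i))
    (by rw [plusR_hom, hv, map_one]; exact one_ne_zero)
    (by rw [plusR_hom, hw]; exact (map_ne_zero j).mpr α.ne_zero)
  refine clsN_le_of_gens hM _ h2 (by rw [card_plus_index]; omega) le_sup_right hdet ?_ ?_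
    (d := baseS hb (plusSim m α)) ?_ ?_ (hmem _ ((clsS_odd hM₀ _ h2₀ _).mpr (plusSim_delta hm α)))
  · rw [hspin, plusR_hom, plusR_hom, hv, hw, map_one, sqClass_eq_one_iff.mpr ⟨1, (one_mul 1).symm⟩, one_mul]
    exact sqClass_eq_neg_one_iff.mpr hjα
  · have : isoG (plusR m F) (reflI _ (fun i => j (v i)) * reflI _ (fun i => j (w i))) =
        baseS hb (isoG (plusR m F₀) (reflI _ v) * isoG (plusR m F₀) (reflI _ w)) := by
      rw [map_mul, map_mul, baseS_refl, baseS_refl, Matrix.one_mulVec, Matrix.one_mulVec]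
    rw [this]
    exact hmem _ (by
      rw [map_mul, clsS_refl _ _ (by rw [hv]; exact one_ne_zero), clsS_refl _ _ (by rw [hw]; exact α.ne_zero)]
      decide)
  · rw [deltaS_baseS hb hM₀ hM, plusSim_delta hm, map_one]
  · rw [multS_baseS hb hM₀ hM, plusSim_mult hm]
    exact hjα

include hm in
/-- The inner-diagonal group contains the special part with index two. -/
theorem relIndex_pso_clsN (h2 : (2 : F) ≠ 0) :
    (psoImage (plusR m F)).relIndex (clsN (model0_plus (F := F) hm) (card_plus_index m)) = 2 := by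
  have hM := model0_plus (F := F) hm
  obtain ⟨β, hβ⟩ := exists_nonsquare_unit (F := F) h2
  have hcl : ∀ g, clsS hM (card_plus_index m) g = 1 →
      (dia (plusR m F) g ∈ psoImage (plusR m F) ↔ IsSquare ((multS hM g : Fˣ) : F)) := by
    intro g hg
    rw [← ker_psiS_map hM h2 (card_plus_index m)]
    constructor
    · rintro ⟨g', hg', e⟩
      have h1 : psiS hM h2 (card_plus_index m) (g'⁻¹ * g) = 1 :=
        psiS_ker_dia hM h2 _ (by rw [map_mul, map_inv, e, inv_mul_cancel])
      rw [map_mul, map_inv, MonoidHom.mem_ker.mp hg', inv_one, one_mul] at h1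
      exact sqClass_eq_one_iff.mp (congrArg Prod.fst h1)
    · intro hsq
      exact ⟨g, Prod.ext (sqClass_eq_one_iff.mpr hsq)
        ((sgnS_eq_one _ _ _ _).mpr ((clsS_odd hM _ h2 g).mp hg)), rfl⟩
  have hd : clsS hM (card_plus_index m) (plusSim m β) = 1 := (clsS_odd hM _ h2 _).mpr (plusSim_delta hm β)
  rw [Subgroup.relIndex, Subgroup.index_eq_two_iff]
  refine ⟨⟨_, plusSim m β, hd, rfl⟩, ?_⟩
  rintro ⟨_, g, hg, rfl⟩
  simp only [Subgroup.mem_subgroupOf, Subgroup.coe_mul, ← map_mul]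
  rw [hcl g hg, hcl _ (by rw [map_mul, MonoidHom.mem_ker.mp hg, hd, one_mul]), map_mul, plusSim_mult hm,
    Units.val_mul]
  by_cases hs : IsSquare ((multS hM g : Fˣ) : F)
  · refine Or.inr ⟨hs, fun h => hβ ?_⟩
    obtain ⟨a, ha⟩ := hs
    obtain ⟨b, hb⟩ := h
    have ha0 : a ≠ 0 := fun e => (multS hM g).ne_zero (by rw [ha, e, mul_zero])
    refine ⟨b / a, ?_⟩
    field_simp
    linear_combination hb - (β : F) * ha
  · exact Or.inl ⟨square_or_nonsquare_mul (Units.ne_zero _) β.ne_zero hs hβ, hs⟩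

include hj in
/-- The number of classes for a field automorphism of order two in odd characteristic. -/
theorem plus_count_two (h2 : (2 : F) ≠ 0) (hcard : Fintype.card F = Fintype.card F₀ ^ 2) :
    ((clsN (model0_plus (F := F) hm) (card_plus_index m) ⊓
        Subgroup.centralizer {phiT (R := plusR m F) (plusR_map (m := m) σ)}) ⊔
      Cfsg.Inn (Cfsg.POmega F ⇑(plusR m F))).relIndex (clsN (model0_plus (F := F) hm) (card_plus_index m)) =
      if Odd m ∧ Fintype.card F₀ % 4 = 1 then 2 else 4 := by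
  have hM := model0_plus (F := F) hm
  have hM₀ := model0_plus (F := F₀) hm
  have hn : 2 ≤ Fintype.card (Fin m ⊕ Fin m) := by rw [card_plus_index]; omega
  haveI : Nonempty (Fin m ⊕ Fin m) := ⟨Sum.inl ⟨0, by omega⟩⟩
  have h2₀ : (2 : F₀) ≠ 0 := fun e => h2 (by rw [← map_ofNat j 2, e, map_zero])
  have hch₀ : ringChar F₀ ≠ 2 := fun e => h2₀ (by haveI := (ringChar.eq_iff).mp e; exact CharTwo.two_eq_zero)
  have hch : ringChar F ≠ 2 := fun e => h2 (by haveI := (ringChar.eq_iff).mp e; exact CharTwo.two_eq_zero)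
  have hodd₀ : Odd (Fintype.card F₀) := Nat.odd_iff.mpr (FiniteField.odd_card_of_char_ne_two hch₀)
  have hodd : Odd (Fintype.card F) := by rw [hcard]; exact hodd₀.pow
  have hb := plusR_base (m := m) j
  have hz : spinH hM.nondeg h2 (negOne (plusR m F)) = 1 := (spin_negOne_plus hodd hm).mpr fun h => by
    have h4 := h.2
    obtain ⟨k, hk⟩ := hodd₀
    rw [hcard, hk, show (2 * k + 1) ^ 2 = 4 * (k * k + k) + 1 by ring] at h4
    omega
  have hidx := (relIndex_pso hM h2 (card_plus_index m) hn).2 hz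
  have hidx2 := relIndex_pso_clsN hm h2
  have hPN : psoImage (plusR m F) ≤ clsN hM (card_plus_index m) := by
    rintro _ ⟨k, hk, rfl⟩
    exact ⟨isoG _ k, (clsS_odd hM _ h2 _).mpr (by rw [deltaS_isoG]; exact Units.ext (congrArg Units.val hk)), rfl⟩
  have hsq : ∀ b : F₀, b ≠ 0 → IsSquare (j b) := fun b hb0 =>
    (isSquare_map_iff j hcard hodd₀ Nat.prime_two hb0).mpr (Or.inl rfl)
  -- base isometries have trivial spinor norm
  have hbase : ∀ k : Cfsg.isometryGroup F₀ ⇑(plusR m F₀), ∃ k' : Cfsg.isometryGroup F ⇑(plusR m F),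
      baseS hb (isoG (plusR m F₀) k) = isoG (plusR m F) k' ∧ spinH hM.nondeg h2 k' = 1 := by
    intro k
    have hk : k ∈ Subgroup.closure {g : Cfsg.isometryGroup F₀ ⇑(plusR m F₀) |
        ∃ v : Fin m ⊕ Fin m → F₀, plusR m F₀ v ≠ 0 ∧
          ((g : GL (Fin m ⊕ Fin m) F₀) : Matrix (Fin m ⊕ Fin m) (Fin m ⊕ Fin m) F₀) =
            Cfsg.reflectionMatrix (⇑(plusR m F₀)) v} := by
      rw [closure_refl_iso hM₀]; trivial
    induction hk using Subgroup.closure_induction with
    | mem g hg =>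
      obtain ⟨v, hv, hgv⟩ := hg
      have : g = reflI (plusR m F₀) v := Subtype.ext (Units.ext (hgv.trans (reflI_matrix v).symm))
      subst this
      have hjv : plusR m F (fun i => j (v i)) ≠ 0 := by rw [plusR_hom]; exact (map_ne_zero j).mpr hv
      refine ⟨reflI (plusR m F) fun i => j (v i), by rw [baseS_refl, Matrix.one_mulVec], ?_⟩
      rw [spinH_reflection hM.nondeg h2 hjv (reflI_matrix _), sqClass_eq_one_iff, plusR_hom]
      exact hsq _ hv
    | one => exact ⟨1, by simp only [map_one], map_one _⟩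
    | mul a b _ _ ha hb' =>
      obtain ⟨a', ha1, ha2⟩ := ha
      obtain ⟨b', hb1, hb2⟩ := hb'
      exact ⟨a' * b', by simp only [map_mul, ha1, hb1], by rw [map_mul, ha2, hb2, one_mul]⟩
    | inv a _ ha =>
      obtain ⟨a', ha1, ha2⟩ := ha
      exact ⟨a'⁻¹, by simp only [map_inv, ha1], by rw [map_inv, ha2, inv_one]⟩
  have hsquare : ∀ k, clsS hM₀ (card_plus_index m) k = 1 → IsSquare ((multS hM₀ k : F₀ˣ) : F₀) →
      dia (plusR m F) (baseS hb k) ∈ Cfsg.Inn (Cfsg.POmega F ⇑(plusR m F)) := by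
    intro k hk hμ
    obtain ⟨u, k', rfl, hk'⟩ := (psiS_eq_one_iff hM₀ h2₀ (card_plus_index m) k).mp
      (Prod.ext (sqClass_eq_one_iff.mpr hμ) ((sgnS_eq_one _ _ _ _).mpr ((clsS_odd hM₀ _ h2₀ k).mp hk)))
    obtain ⟨k'', hk'', hs''⟩ := hbase k'
    rw [map_mul, baseS_scG, map_mul, (dia_eq_one_iff hM (scG (plusR m F) _)).mpr ⟨_, rfl⟩, one_mul, hk'']
    refine dia_mem_inn_of_det hM h2 (card_plus_index m) hn ?_ (Or.inl hs'')
    have h := congrArg (fun g => deltaS hM m g) hk''
    rw [deltaS_baseS hb hM₀ hM, deltaS_isoG, deltaS_isoG,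
      show GeneralLinearGroup.det k'.1 = 1 from Units.ext hk', map_one] at h
    exact congrArg Units.val h.symm
  -- the image of a base similarity of non-square multiplier
  obtain ⟨α, hα⟩ := exists_nonsquare_unit (F := F₀) h2₀
  obtain ⟨s, hs⟩ := hsq (α : F₀) α.ne_zero
  have hs0 : s ≠ 0 := fun e => α.ne_zero ((map_eq_zero j).mp (by rw [hs, e, mul_zero]))
  have hs1 : s ≠ 1 := fun e => hα (by
    have : (α : F₀) = 1 := j.injective (by rw [hs, e, one_mul, map_one])
    rw [this]; exact IsSquare.one)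
  obtain ⟨g, hg⟩ := exists_iso_of_multS hM (g := baseS hb (plusSim m α)) (u := Units.mk0 s hs0) (by
    rw [multS_baseS hb hM₀ hM, plusSim_mult hm]
    exact Units.ext hs)
  have hgm : ((g : GL (Fin m ⊕ Fin m) F) : Matrix (Fin m ⊕ Fin m) (Fin m ⊕ Fin m) F) =
      Matrix.diagonal (Sum.elim (fun _ : Fin m => s) fun _ : Fin m => s⁻¹) := by
    have h := congrArg (fun x : Cfsg.Geo.quadSimilarityGroup (F := F) ⇑(plusR m F) =>
      (x.1 : Matrix (Fin m ⊕ Fin m) (Fin m ⊕ Fin m) F)) hg
    change ((baseS hb (plusSim m α)).1 : Matrix (Fin m ⊕ Fin m) (Fin m ⊕ Fin m) F) = Matrix.scalar _ s * _ at h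
    rw [baseS_coe, Matrix.one_mul, Matrix.mul_one,
      show ((plusSim m α).1 : Matrix (Fin m ⊕ Fin m) (Fin m ⊕ Fin m) F₀) =
        Matrix.diagonal (Sum.elim (fun _ : Fin m => (α : F₀)) fun _ : Fin m => 1) from rfl,
      Matrix.diagonal_map (map_zero j)] at h
    ext a b
    have := congrFun (congrFun h a) b
    rw [Matrix.scalar_apply, Matrix.diagonal_mul] at this
    rcases eq_or_ne a b with rfl | hab
    · simp only [Matrix.diagonal_apply_eq, Function.comp_apply] at this ⊢
      rcases a with a | a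
      · simp only [Sum.elim_inl, hs] at this ⊢
        exact (mul_left_cancel₀ hs0 this).symm
      · simp only [Sum.elim_inr, map_one] at this ⊢
        exact eq_inv_of_mul_eq_one_right this.symm
    · simp [Matrix.diagonal_apply_ne _ hab, hs0] at this ⊢
      exact this
  have hgd : ((g : GL (Fin m ⊕ Fin m) F) : Matrix (Fin m ⊕ Fin m) (Fin m ⊕ Fin m) F).det = 1 := by
    rw [hgm, Matrix.det_diagonal, Fintype.prod_sum_type]
    simp [← mul_pow, hs0]
  have hgs : spinH hM.nondeg h2 g = sqClass s ^ m := by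
    rw [spin_diag h2 hm g (fun _ => s) (fun _ => hs0) (fun _ => hs1) hgm, Finset.prod_const, Finset.card_univ,
      Fintype.card_fin]
  have hclass : sqClass s = if Fintype.card F₀ % 4 = 1 then -1 else 1 := by
    obtain ⟨k, hk⟩ := hodd₀
    have hαk : (α : F₀) ^ k = -1 := by
      have h := (FiniteField.pow_dichotomy hch₀ α.ne_zero).resolve_left
        (fun h => hα ((FiniteField.isSquare_iff hch₀ α.ne_zero).mpr h))
      rwa [hk, show (2 * k + 1) / 2 = k by omega] at h
    have he : s ^ (Fintype.card F / 2) = (-1) ^ (k + 1) := by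
      rw [hcard, hk, show (2 * k + 1) ^ 2 / 2 = 2 * (k * (k + 1)) by
          rw [show (2 * k + 1) ^ 2 = 2 * (2 * (k * (k + 1))) + 1 by ring]; omega,
        pow_mul, pow_two, ← hs, pow_mul, ← map_pow, hαk, map_neg, map_one]
    split_ifs with h4
    · rw [sqClass_eq_neg_one_iff, FiniteField.isSquare_iff hch hs0, he,
        (Nat.odd_iff.mpr (by omega) : Odd (k + 1)).neg_one_pow]
      exact Ring.neg_one_ne_one_of_char_ne_two hch
    · rw [sqClass_eq_one_iff, FiniteField.isSquare_iff hch hs0, he,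
        (Nat.even_iff.mpr (by omega) : Even (k + 1)).neg_one_pow]
  have hdia : dia (plusR m F) (baseS hb (plusSim m α)) = dia (plusR m F) (isoG (plusR m F) g) := by
    rw [hg, map_mul, (dia_eq_one_iff hM (scG (plusR m F) _)).mpr ⟨_, rfl⟩, one_mul]
  set C := clsN hM (card_plus_index m) ⊓ Subgroup.centralizer {phiT (R := plusR m F) (plusR_map (m := m) σ)}
    with hC
  have hgC : dia (plusR m F) (isoG (plusR m F) g) ∈ C := by
    rw [← hdia, hC, plus_centralizer hj hm]
    exact ⟨⟨plusSim m α, (clsS_odd hM₀ _ h2₀ _).mpr (plusSim_delta hm α)⟩, rfl⟩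
  have hgP : dia (plusR m F) (isoG (plusR m F) g) ∈ psoImage (plusR m F) := ⟨g, Units.ext hgd, rfl⟩
  -- the centralizer modulo inner automorphisms
  have hCle : ∀ S : Subgroup (MulAut (Cfsg.POmega F ⇑(plusR m F))), Cfsg.Inn (Cfsg.POmega F ⇑(plusR m F)) ≤ S →
      dia (plusR m F) (isoG (plusR m F) g) ∈ S → C ⊔ Cfsg.Inn (Cfsg.POmega F ⇑(plusR m F)) ≤ S := by
    intro S hI hgS
    refine sup_le ?_ hI
    rw [hC, plus_centralizer hj hm]
    rintro _ ⟨⟨k, hk⟩, rfl⟩
    show dia (plusR m F) (baseS hb k) ∈ S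
    by_cases hμ : IsSquare ((multS hM₀ k : F₀ˣ) : F₀)
    · exact hI (hsquare k hk hμ)
    · have hdel : clsS hM₀ (card_plus_index m) (plusSim m α) = 1 :=
        (clsS_odd hM₀ _ h2₀ _).mpr (plusSim_delta hm α)
      have h := S.mul_mem hgS (hI (hsquare ((plusSim m α)⁻¹ * k) (by
        rw [map_mul, map_inv, MonoidHom.mem_ker.mp hk, hdel, inv_one, one_mul]) (by
        rw [map_mul, map_inv, plusSim_mult hm, Units.val_mul]
        refine square_or_nonsquare_mul (Units.ne_zero _) (Units.ne_zero _) ?_ hμ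
        rw [Units.val_inv_eq_inv_val, isSquare_inv]
        exact hα)))
      rwa [← hdia, ← map_mul, ← map_mul, mul_inv_cancel_left] at h
  by_cases hcase : Odd m ∧ Fintype.card F₀ % 4 = 1
  · rw [if_pos hcase]
    have hsp : spinH hM.nondeg h2 g = -1 := by
      rw [hgs, hclass, if_pos hcase.2, hcase.1.neg_one_pow]
    have hCP := hCle _ inn_le_psoImage hgP
    have h1 := Subgroup.relIndex_mul_relIndex (Cfsg.Inn (Cfsg.POmega F ⇑(plusR m F)))
      (C ⊔ Cfsg.Inn (Cfsg.POmega F ⇑(plusR m F))) (psoImage (plusR m F)) le_sup_right hCP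
    rw [hidx] at h1
    have hne : (Cfsg.Inn (Cfsg.POmega F ⇑(plusR m F))).relIndex (C ⊔ Cfsg.Inn (Cfsg.POmega F ⇑(plusR m F))) ≠ 1 := by
      rw [Ne, Subgroup.relIndex_eq_one]
      intro hle
      have h' := spin_eq_of_dia_mem_inn hM h2 hn hz (hle (Subgroup.mem_sup_left hgC))
      rw [hsp] at h'
      exact absurd h' (by decide)
    have h3 : (C ⊔ Cfsg.Inn (Cfsg.POmega F ⇑(plusR m F))).relIndex (psoImage (plusR m F)) = 1 := by
      rcases (Nat.dvd_prime Nat.prime_two).mp (Dvd.intro _ h1) with h | h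
      · exact absurd h hne
      · rw [h] at h1; exact Nat.eq_of_mul_eq_mul_left two_pos (h1.trans (mul_one 2).symm)
    rw [← Subgroup.relIndex_mul_relIndex _ (psoImage (plusR m F)) (clsN hM (card_plus_index m)) hCP hPN, h3,
      hidx2]
  · rw [if_neg hcase]
    have hsp : spinH hM.nondeg h2 g = 1 := by
      rw [hgs, hclass]
      split_ifs with h4
      · exact (Nat.not_odd_iff_even.mp fun h => hcase ⟨h, h4⟩).neg_one_pow
      · exact one_pow m
    rw [le_antisymm (hCle _ le_rfl (dia_mem_inn_of_det hM h2 (card_plus_index m) hn hgd (Or.inl hsp)))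
      le_sup_right, ← Subgroup.relIndex_mul_relIndex _ (psoImage (plusR m F)) (clsN hM (card_plus_index m))
      inn_le_psoImage hPN, hidx, hidx2]

end Count

/-- Field automorphisms of prime order of the plus-type groups. -/
theorem field_class_plus {p f : ℕ} [Fact p.Prime] (hF : Fintype.card F = p ^ f) (hf : 1 ≤ f) (hm : 4 ≤ m)
    {x : MulAut (Cfsg.POmega F ⇑(plusR m F))} (hx : Cfsg.IsFieldAutClassPOmega (⇑(plusR m F)) x)
    {r : ℕ} (hr : r.Prime) (hxr : orderOf x = r) (hF₀ : Fintype.card F₀ = p ^ (f / r)) :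
    r ∣ f ∧
      Nonempty (↥(clsN (model0_plus (F := F) (by omega : 3 ≤ m)) (card_plus_index m) ⊓ Subgroup.centralizer {x}) ≃*
        ↥(clsN (model0_plus (F := F₀) (by omega : 3 ≤ m)) (card_plus_index m))) ∧
      ((Odd r ∨ p = 2) → Cfsg.splitClassCount (clsN (model0_plus (F := F) (by omega : 3 ≤ m)) (card_plus_index m))
        (Cfsg.Inn (Cfsg.POmega F ⇑(plusR m F))) x = 1) ∧
      ((r = 2 ∧ p ≠ 2 ∧ Odd m ∧ p ^ (f / 2) % 4 = 1) →
        Cfsg.splitClassCount (clsN (model0_plus (F := F) (by omega : 3 ≤ m)) (card_plus_index m))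
          (Cfsg.Inn (Cfsg.POmega F ⇑(plusR m F))) x = 2) ∧
      ((r = 2 ∧ p ≠ 2 ∧ ¬ (Odd m ∧ p ^ (f / 2) % 4 = 1)) →
        Cfsg.splitClassCount (clsN (model0_plus (F := F) (by omega : 3 ≤ m)) (card_plus_index m))
          (Cfsg.Inn (Cfsg.POmega F ⇑(plusR m F))) x = 4) := by
  have hm3 : 3 ≤ m := by omega
  haveI : CharP F p := charP_of_card_eq_prime_pow hF
  haveI := Fact.mk hr
  haveI : Nonempty (Fin m ⊕ Fin m) := ⟨Sum.inl ⟨0, by omega⟩⟩
  have hM := model0_plus (F := F) hm3
  obtain ⟨σ, a, hσ, rfl⟩ := exists_standard (R := plusR m F) (fun τ => plusR_map τ) hx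
  rw [AutPSL.orderOf_conj_eq, orderOf_injective _ (fldHom_injective_of_model0 _ hM)] at hxr
  have hrf : r ∣ f := by
    rw [← (AutPSL.gal_cyclic_card (F := F) hF).2, ← hxr]
    exact orderOf_dvd_natCard σ
  have hσr : σ ^ r = 1 := hxr ▸ pow_orderOf_eq_one σ
  obtain ⟨j, hj⟩ := AutPSL.exists_fixedField_hom hF hxr hrf hF₀
  set φ := fldHom (plusR m F) (fun τ => plusR_map τ) σ
  set E := MulAut.conj (a⁻¹ : MulAut (Cfsg.POmega F ⇑(plusR m F)))
  set N := clsN hM (card_plus_index m)
  set I := Cfsg.Inn (Cfsg.POmega F ⇑(plusR m F))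
  haveI : N.Normal := clsN_plus_normal hm
  have hmapE : ∀ (L : Subgroup (MulAut (Cfsg.POmega F ⇑(plusR m F)))), L.Normal → L.map E.toMonoidHom = L := by
    intro L hL
    refine le_antisymm ?_ fun y hy => ⟨a * y * a⁻¹, hL.conj_mem y hy a, ?_⟩
    · rintro _ ⟨y, hy, rfl⟩
      exact hL.conj_mem y hy a⁻¹
    · show a⁻¹ * (a * y * a⁻¹) * a⁻¹⁻¹ = y
      group
  have hEx : E (a * φ * a⁻¹) = phiT (R := plusR m F) (plusR_map (m := m) σ) := by
    rw [phiT_eq_fldHom]
    show a⁻¹ * (a * φ * a⁻¹) * a⁻¹⁻¹ = φ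
    group
  have hcount := split_count_map E (hmapE N inferInstance) (hmapE I inferInstance) (inn_le_clsN hM _)
    (fun b _ k hk => Subgroup.Normal.conj_mem inferInstance k hk b) (a * φ * a⁻¹)
  rw [hEx] at hcount
  refine ⟨hrf, ?_, fun h => ?_, fun h => ?_, fun h => ?_⟩
  · obtain ⟨e⟩ := centralizer_base_iso (R := plusR m F) (plusR_map (m := m) σ) (plusR_base j) hj (a₀ := 1)
      (c' := 1) (by
        show (1 : Matrix (Fin m ⊕ Fin m) (Fin m ⊕ Fin m) F) *
          (1 : Matrix (Fin m ⊕ Fin m) (Fin m ⊕ Fin m) F).map σ = _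
        rw [Matrix.map_one _ (map_zero σ) (map_one σ), Units.val_one, one_smul, Matrix.one_mul])
      (model0_plus (F := F₀) hm3) hM (card_plus_index m) (card_plus_index m)
    rw [map_one, one_mul] at e
    exact ⟨((E.subgroupMap (N ⊓ Subgroup.centralizer {a * φ * a⁻¹})).trans (MulEquiv.subgroupCongr
      ((map_inf_centralizer E (hmapE N inferInstance) _).trans (by rw [hEx])))).trans e⟩
  · rw [hcount, Subgroup.relIndex_eq_one]
    rcases h with h | h
    · exact plus_clsN_le hj hm3 h hσr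
    · subst h
      exact (clsN_le_inn_two hM _ CharTwo.two_eq_zero).trans le_sup_right
  all_goals
    obtain ⟨rfl, hp, h3⟩ := h
    have h2 : (2 : F) ≠ 0 := fun e => hp ((CharP.eq F ‹CharP F p› (CharTwo.of_one_ne_zero_of_two_eq_zero one_ne_zero e)))
    have hcard : Fintype.card F = Fintype.card F₀ ^ 2 := by
      rw [hF, hF₀, ← pow_mul, Nat.div_mul_cancel hrf]
    rw [hcount, plus_count_two hj hm3 h2 hcard, hF₀]
  · rw [if_pos h3]
  · rw [if_neg h3]

end Cfsg.Agent.Lib.Classical.AutPOmega
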