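import Cfsg.Agent.Lib.Classical.AutPOmega.DFourModel
import Cfsg.Agent.Lib.Classical.AutPOmega.PlusField

/-!
Automorphisms of `PΩ`, part 31: the inner-diagonal group of a plus-type group of dimension at least eight is
normal in the automorphism group.
-/

set_option autoImplicit false

namespace Cfsg.Agent.Lib.Classical.AutPOmega

open QuadraticMap (polarBilin)
open Cfsg.Agent.Lib.Geometry (sqClass sqClass_eq_one_iff sqClass_eq_neg_one_iff)
open Cfsg.Lie (chevD4)
open Matrix

attribute [-simp] QuadraticMap.polarBilin_apply_apply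

variable {F : Type*} [Field F] [Fintype F] {m : ℕ}

/-- A diagonal similarity. -/
noncomputable def diagSim {m : ℕ} (t s : Fin m → Fˣ) (c : Fˣ) (h : ∀ i, (t i : F) * s i = c) :
    Cfsg.Geo.quadSimilarityGroup (F := F) ⇑(plusR m F) :=
  ⟨GeneralLinearGroup.mkOfDetNeZero (Matrix.diagonal (Sum.elim (fun i => (t i : F)) fun i => (s i : F))) (by
    rw [Matrix.det_diagonal, Finset.prod_ne_zero_iff]
    rintro (i | i) - <;> simp), c, fun v => by
    rw [plusR_apply, plusR_apply, Finset.mul_sum]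
    refine Finset.sum_congr rfl fun i _ => ?_
    show (Matrix.diagonal _ *ᵥ v) (.inl i) * (Matrix.diagonal _ *ᵥ v) (.inr i) = _
    rw [Matrix.mulVec_diagonal, Matrix.mulVec_diagonal, Sum.elim_inl, Sum.elim_inr, ← h i]
    ring⟩

theorem diagSim_delta (hm : 3 ≤ m) (t s : Fin m → Fˣ) (c : Fˣ) (h : ∀ i, (t i : F) * s i = c) :
    deltaS (model0_plus hm) m (diagSim t s c h) = 1 := by
  have hμ : multS (model0_plus hm) (diagSim t s c h) = c := Units.ext <|
    multS_eq (model0_plus hm) (g := diagSim t s c h) (c := (c : F)) fun v => by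
    rw [plusR_apply, plusR_apply, Finset.mul_sum]
    refine Finset.sum_congr rfl fun i _ => ?_
    show (Matrix.diagonal _ *ᵥ v) (.inl i) * (Matrix.diagonal _ *ᵥ v) (.inr i) = _
    rw [Matrix.mulVec_diagonal, Matrix.mulVec_diagonal, Sum.elim_inl, Sum.elim_inr, ← h i]
    ring
  rw [deltaS_apply, hμ, mul_inv_eq_one]
  refine Units.ext ?_
  show (Matrix.diagonal _).det = _
  rw [Matrix.det_diagonal, Fintype.prod_sum_type, ← Finset.prod_mul_distrib]
  simp [h]

theorem clsN_plus_four_eq {ψ : ↥(chevD4.group F) ≃* Cfsg.POmega F ⇑(plusR 4 F)}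
    (hψ : ∀ (r : ℕ) (t : F), r < chevD4.nroots → ∃ s : Cfsg.Omega F ⇑(plusR 4 F),
        ψ (Lib.Chev.goodD4.GX F r t) = pr (plusR 4 F) s ∧ omat s = rootEight F r t) (h2 : (2 : F) ≠ 0) :
    clsN (model0_plus (F := F) (by omega : 3 ≤ 4)) (card_plus_index 4) =
      (((Lib.Chev.goodD4.dHom F).range ⊔ Cfsg.Inn ↥(chevD4.group F))).map (autMap ψ).toMonoidHom := by
  have hM := model0_plus (F := F) (by omega : 3 ≤ 4)
  have hmem : ∀ (a : Fin 4 → Fˣ) (d : Fin 8 → F) (g : Cfsg.Geo.quadSimilarityGroup (F := F) ⇑(plusR 4 F)),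
      DiagCond a d → (g.1 : Matrix (Fin 4 ⊕ Fin 4) (Fin 4 ⊕ Fin 4) F) = Matrix.diagonal (d ∘ eightEquiv.symm) →
      dia (plusR 4 F) g ∈
        ((Lib.Chev.goodD4.dHom F).range ⊔ Cfsg.Inn ↥(chevD4.group F)).map (autMap ψ).toMonoidHom :=
    fun a d g h hg => ⟨_, Subgroup.mem_sup_left ⟨a, rfl⟩, autMap_dHom hψ h g hg⟩
  refine le_antisymm ?_ ?_
  · obtain ⟨α, hα⟩ := exists_nonsquare_unit (F := F) h2
    set w : Fin 4 ⊕ Fin 4 → F := Sum.elim (Pi.single 0 1) (Pi.single 0 (α : F)) with hwd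
    have hw : plusR 4 F w = α := by simp [w, plusR_apply, Pi.single_apply]
    obtain ⟨hdet, hspin⟩ := det_spin_two_refl hM h2 (v := plusVec 4 F 0) (w := w)
      (by rw [plusR_plusVec]; exact one_ne_zero) (by rw [hw]; exact α.ne_zero)
    refine clsN_le_of_gens hM _ h2 (by rw [card_plus_index]; omega) ?_ hdet ?_ ?_ (d := plusSim 4 α)
      (plusSim_delta (by omega) α) (by rw [plusSim_mult (by omega : 3 ≤ 4)]; exact hα) ?_
    · rw [← map_inn ψ]
      exact Subgroup.map_mono le_sup_right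
    · rw [hspin, plusR_plusVec, hw, sqClass_eq_one_iff.mpr ⟨1, (one_mul 1).symm⟩, one_mul]
      exact sqClass_eq_neg_one_iff.mpr hα
    · refine hmem ![α, 1, 1, 1] ![(α : F), 1, 1, 1, (α : F)⁻¹, 1, 1, 1] _ ?_ ?_
      · simp [DiagCond]
      · refine (show _ = _ from hwd ▸ refl_pair_diag 0 α).trans ?_
        congr 1
        funext x
        rcases x with x | x <;> fin_cases x <;> rfl
    · refine hmem ![1, 1, 1, α] ![(α : F), α, α, α, 1, 1, 1, 1] _ ?_ ?_
      · simp [DiagCond]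
      · show Matrix.diagonal _ = _
        congr 1
        funext x
        rcases x with x | x <;> fin_cases x <;> rfl
  · rw [Subgroup.map_sup, map_inn ψ, sup_le_iff]
    refine ⟨?_, inn_le_clsN _ _⟩
    rintro _ ⟨_, ⟨a', rfl⟩, rfl⟩
    let a : Fin 4 → Fˣ := a'
    let t : Fin 4 → Fˣ := ![a 0 * a 1 * a 2, a 1 * a 2, a 2, 1]
    let s : Fin 4 → Fˣ := fun i => a 2 * (a 3)⁻¹ * (t i)⁻¹
    have hts : ∀ i, (t i : F) * s i = ((a 2 * (a 3)⁻¹ : Fˣ) : F) := fun i => by
      rw [← Units.val_mul]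
      congr 1
      simp only [s]
      rw [mul_comm (t i), inv_mul_cancel_right]
    refine ⟨diagSim t s _ hts, (clsS_odd hM _ h2 _).mpr (diagSim_delta (by omega) t s _ hts), ?_⟩
    refine (autMap_dHom hψ (a := a) (d := fun x => Sum.elim (fun i => (t i : F)) (fun i => (s i : F)) (eightEquiv x))
      ?_ _ ?_).symm
    · refine ⟨?_, ?_, ?_, ?_, ?_, ?_, ?_, ?_⟩ <;>
        simp [t, s, eightEquiv, finSumFinEquiv, Fin.addCases, Fin.castLT, Fin.subNat] <;>
        field_simp
    · show Matrix.diagonal _ = _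
      congr 1
      funext x
      simp

/-- The inner-diagonal group of a plus-type group is normal. -/
theorem clsN_plus_normal (hm : 4 ≤ m) :
    (clsN (model0_plus (F := F) (by omega : 3 ≤ m)) (card_plus_index m)).Normal := by
  constructor
  intro n hn α
  rcases eq_or_lt_of_le hm with rfl | hlt
  · by_cases h2 : (2 : F) = 0
    · have he := le_antisymm (clsN_le_inn_two (model0_plus (F := F) (by omega : 3 ≤ 4)) (card_plus_index 4) h2)
        (inn_le_clsN (model0_plus (F := F) (by omega : 3 ≤ 4)) (card_plus_index 4))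
      rw [he] at hn ⊢
      exact Subgroup.Normal.conj_mem inferInstance n hn α
    · obtain ⟨ψ, hψ⟩ := exists_model_D4 (F := F)
      rw [clsN_plus_four_eq hψ h2] at hn ⊢
      haveI : ((Lib.Chev.goodD4.dHom F).range ⊔ Cfsg.Inn ↥(chevD4.group F)).Normal := by
        have hn' := Lib.Chev.goodD4.qD_range_normal (F := F) (Lib.Chev.sign_of_par Lib.Chev.parD4)
        rw [Lib.Chev.Good.qD, MonoidHom.range_comp] at hn'
        have := hn'.comap (QuotientGroup.mk' (Cfsg.Inn ↥(chevD4.group F)))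
        rwa [Subgroup.comap_map_eq, QuotientGroup.ker_mk'] at this
      exact Subgroup.Normal.conj_mem (Subgroup.Normal.map inferInstance _ (autMap ψ).surjective) n hn α
  · obtain ⟨a, ha, rfl⟩ := hn
    obtain ⟨a', ha', hcls⟩ := plus_conj_form (by omega : 5 ≤ m) α 1 a
    have h1 : phiT (R := plusR m F) (plusR_map (m := m) (1 : F ≃+* F)) = 1 := by
      rw [phiT_eq_fldHom, map_one]
    rw [h1, mul_one, mul_one] at ha'
    exact ⟨a', by rw [SetLike.mem_coe, MonoidHom.mem_ker] at ha ⊢; rw [hcls, ha], ha'.symm⟩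

end Cfsg.Agent.Lib.Classical.AutPOmega
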