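import Cfsg.Agent.Lib.Classical.AutPOmega.DiagPlus

/-!
Automorphisms of `PΩ`, part 34: the outer automorphism groups of the plus-type groups of dimension at least ten.
-/

set_option autoImplicit false

namespace Cfsg.Agent.Lib.Classical.AutPOmega

open QuadraticMap (polarBilin)
open Cfsg.Agent.Lib.Geometry (sqClass sqClass_eq_one_iff sqClass_eq_neg_one_iff)
open Matrix

attribute [-simp] QuadraticMap.polarBilin_apply_apply

section Generic

variable {F : Type*} [Field F] [Fintype F] {ι : Type} [Fintype ι] [DecidableEq ι] {R : QuadraticForm F (ι → F)}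

/-- The outer classes of the similarities. -/
noncomputable def simClasses (R : QuadraticForm F (ι → F)) : Subgroup (Cfsg.Out (Cfsg.POmega F ⇑R)) :=
  (dia R).range.map (outMk R)

omit [Fintype F] in
theorem simClasses_eq : simClasses R = (clN (dia R).range).range := by
  rw [simClasses, clN, MonoidHom.range_comp, Subgroup.range_subtype]
  rfl

/-- A quotient of the similarities by the inner automorphisms identifies their outer classes. -/
theorem simClasses_iso {X : Type*} [Group X] (φ : ↥(dia R).range →* X) (hs : Function.Surjective φ)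
    (hk : φ.ker = (Cfsg.Inn (Cfsg.POmega F ⇑R)).subgroupOf (dia R).range) :
    Nonempty (↥(simClasses R) ≃* X) := by
  have hk' : (clN (dia R).range).ker = φ.ker := by
    rw [hk]
    ext x
    rw [MonoidHom.mem_ker, Subgroup.mem_subgroupOf]
    exact QuotientGroup.eq_one_iff _
  exact ⟨(MulEquiv.subgroupCongr simClasses_eq).trans ((QuotientGroup.quotientKerEquivRange _).symm.trans
    ((QuotientGroup.quotientMulEquivOfEq hk').trans (QuotientGroup.quotientKerEquivOfSurjective φ hs)))⟩

theorem simClasses_le_ker (hM : Model R) : simClasses R ≤ (outGal hM).ker := by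
  rintro _ ⟨_, ⟨g, rfl⟩, rfl⟩
  rw [MonoidHom.mem_ker, outGal_mk, galPart_dia]

theorem card_out_gen {p f : ℕ} [Fact p.Prime] (hF : Fintype.card F = p ^ f) (hM : Model R)
    (hsur : ∀ σ : F ≃+* F, ∃ g : GL ι F, Cfsg.IsSemisimilarityPair (⇑R) g σ) :
    Nat.card (Cfsg.Out (Cfsg.POmega F ⇑R)) = Nat.card ↥(simClasses R) * f := by
  have h := card_out_mul hM
  rw [card_mulAut hF hM hsur] at h
  have h2 := ((Cfsg.Inn (Cfsg.POmega F ⇑R)).subgroupOf (dia R).range).index_mul_card
  rw [Nat.card_congr (Subgroup.subgroupOfEquivOfLe inn_le_range).toEquiv, card_inn hM] at h2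
  change (Cfsg.Inn (Cfsg.POmega F ⇑R)).relIndex (dia R).range * _ = _ at h2
  rw [← card_clN, ← simClasses_eq] at h2
  rw [← h2, ← mul_assoc, mul_comm f] at h
  haveI : Finite (MulAut (Cfsg.POmega F ⇑R)) := Finite.of_injective _ DFunLike.coe_injective
  exact Nat.eq_of_mul_eq_mul_right Nat.card_pos h

end Generic

variable {F : Type*} [Field F] [Fintype F] {m : ℕ}

theorem plus_semi_all (σ : F ≃+* F) :
    ∃ g : GL (Fin m ⊕ Fin m) F, Cfsg.IsSemisimilarityPair (⇑(plusR m F)) g σ :=
  ⟨1, pair_fld σ (plusR_map σ)⟩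

/-- The class of a field automorphism. -/
noncomputable def fldClass (m : ℕ) : (F ≃+* F) →* Cfsg.Out (Cfsg.POmega F ⇑(plusR m F)) :=
  (outMk (plusR m F)).comp (fldHom (plusR m F) fun τ => plusR_map τ)

theorem fldClass_mul (σ : F ≃+* F) (g : Cfsg.Geo.quadSimilarityGroup (F := F) ⇑(plusR m F)) :
    fldClass m σ * outMk (plusR m F) (dia (plusR m F) g) =
      outMk (plusR m F) (dia (plusR m F) (galT (plusR_map σ) g)) * fldClass m σ := by
  show outMk _ _ * outMk _ _ = outMk _ _ * outMk _ _
  rw [← map_mul, ← map_mul, ← phiT_eq_fldHom, phiT_mul_dia]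

theorem outGal_fldClass (hm : 5 ≤ m) (σ : F ≃+* F) : outGal (model_plus hm) (fldClass (F := F) m σ) = σ :=
  galPart_semAut (model_plus hm) _

theorem fldClass_frob_pow {p f : ℕ} [Fact p.Prime] [CharP F p] (hF : Fintype.card F = p ^ f) (hf : 1 ≤ f) :
    fldClass (F := F) m (frobeniusEquiv F p) ^ f = 1 := by
  rw [← map_pow]
  conv_lhs => rw [← orderOf_frob hF hf (F := F), pow_orderOf_eq_one]
  exact map_one _

/-- The outer automorphism group in characteristic two. -/
theorem out_plus_two {f : ℕ} (hF : Fintype.card F = 2 ^ f) (hf : 1 ≤ f) (hm : 5 ≤ m) :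
    Nonempty (Cfsg.Out (Cfsg.POmega F ⇑(plusR m F)) ≃* Multiplicative (ZMod 2 × ZMod f)) := by
  haveI : Fact (Nat.Prime 2) := ⟨Nat.prime_two⟩
  haveI : CharP F 2 := charP_of_card_eq_prime_pow hF
  have hM := model_plus (F := F) hm
  haveI : Finite (MulAut (Cfsg.POmega F ⇑(plusR m F))) := Finite.of_injective _ DFunLike.coe_injective
  have hm3 : 3 ≤ m := by omega
  have h2 : (2 : F) = 0 := CharTwo.two_eq_zero
  set cls := clsS (model0_plus (F := F) hm3) (card_plus_index m)
  have hcls : clsN (model0_plus (F := F) hm3) (card_plus_index m) = Cfsg.Inn (Cfsg.POmega F ⇑(plusR m F)) :=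
    le_antisymm (clsN_le_inn_two _ _ h2) (inn_le_clsN _ _)
  obtain ⟨s⟩ := signs_iso
  have hsurj : Function.Surjective cls := by
    have i₀ : Fin m := ⟨0, by omega⟩
    intro x
    rcases Int.units_eq_one_or x with rfl | rfl
    · exact ⟨1, map_one _⟩
    · exact ⟨isoG (plusR m F) (reflI (plusR m F) (plusVec m F i₀)),
        clsS_refl _ _ (by rw [plusR_plusVec]; exact one_ne_zero)⟩
  obtain ⟨φ, hφs, hφk⟩ := exists_lift_map (dia (plusR m F)) ⊤ (s.toMonoidHom.comp (cls.comp (⊤ : Subgroup _).subtype))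
    (s.surjective.comp (hsurj.comp fun g => ⟨⟨g, trivial⟩, rfl⟩))
    (fun g hg => by
      obtain ⟨u, hu⟩ := (dia_eq_one_iff (model0_plus (F := F) hm3) g.1).mp hg
      show s (cls g.1) = 1
      rw [show (g.1 : Cfsg.Geo.quadSimilarityGroup (F := F) ⇑(plusR m F)) = scG _ u from Subtype.ext hu,
        clsS_scG, map_one])
  have hker : φ.ker = (Cfsg.Inn (Cfsg.POmega F ⇑(plusR m F))).subgroupOf _ := by
    rw [hφk, ← hcls, clsN, ker_iso_comp]
    congr 2
    ext g
    exact ⟨fun ⟨g', hg', e⟩ => e ▸ hg', fun hg => ⟨⟨g, trivial⟩, hg, rfl⟩⟩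
  obtain ⟨e⟩ : Nonempty (↥(simClasses (plusR m F)) ≃* Multiplicative (ZMod 2)) := by
    have hN : (dia (plusR m F)).range = (⊤ : Subgroup _).map (dia (plusR m F)) := MonoidHom.range_eq_map _
    refine simClasses_iso (φ.comp (MulEquiv.subgroupCongr hN).toMonoidHom)
      (hφs.comp (MulEquiv.subgroupCongr hN).surjective) ?_
    ext x
    rw [MonoidHom.mem_ker, MonoidHom.comp_apply]
    show (MulEquiv.subgroupCongr hN x) ∈ φ.ker ↔ _
    rw [hker]
    rfl
  obtain ⟨E⟩ := iso_prod_cyclic_of_hom (outGal hM) (simClasses (plusR m F)) (simClasses_le_ker hM)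
    (c := fldClass m (frobeniusEquiv F 2)) (f := f) (by
      rintro _ ⟨_, ⟨g, rfl⟩, rfl⟩
      refine (Eq.symm ?_ : _ = _)
      rw [fldClass_mul]
      refine congrArg (· * _) ((outMk_eq_iff _ _).mpr ?_).symm
      rw [← map_inv, ← map_mul, ← hcls]
      refine ⟨g⁻¹ * galT (plusR_map _) g, ?_, rfl⟩
      show clsS _ _ _ = 1
      rw [map_mul, map_inv, clsS_galT hm3, inv_mul_cancel])
    (fldClass_frob_pow hF hf) (by rw [outGal_fldClass hm, orderOf_frob hF hf])
    (card_out_gen hF hM plus_semi_all) e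
  exact ⟨E.trans (MulEquiv.prodMultiplicative (ZMod 2) (ZMod f)).symm⟩

theorem spin_galT_iso (hm : 3 ≤ m) (h2 : (2 : F) ≠ 0) (σ : F ≃+* F) (k : Cfsg.isometryGroup F ⇑(plusR m F)) :
    ∃ k' : Cfsg.isometryGroup F ⇑(plusR m F),
      galT (plusR_map σ) (isoG (plusR m F) k) = isoG (plusR m F) k' ∧
      spinH (model0_plus (F := F) hm).nondeg h2 k' = spinH (model0_plus (F := F) hm).nondeg h2 k := by
  have hM := model0_plus (F := F) hm
  have hk : k ∈ Subgroup.closure {g : Cfsg.isometryGroup F ⇑(plusR m F) |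
      ∃ v : Fin m ⊕ Fin m → F, plusR m F v ≠ 0 ∧
        ((g : GL (Fin m ⊕ Fin m) F) : Matrix (Fin m ⊕ Fin m) (Fin m ⊕ Fin m) F) =
          Cfsg.reflectionMatrix (⇑(plusR m F)) v} := by
    rw [closure_refl_iso hM]; trivial
  induction hk using Subgroup.closure_induction with
  | mem g hg =>
    obtain ⟨v, hv, hgv⟩ := hg
    have : g = reflI (plusR m F) v := Subtype.ext (Units.ext (hgv.trans (reflI_matrix v).symm))
    subst this
    have hσv : plusR m F (fun i => σ (v i)) ≠ 0 := by rw [plusR_map]; exact (map_ne_zero σ).mpr hv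
    refine ⟨reflI (plusR m F) fun i => σ (v i), ?_, ?_⟩
    · show baseS _ _ = _
      rw [baseS_refl, Matrix.one_mulVec]
      rfl
    · rw [spinH_reflection hM.nondeg h2 hσv (reflI_matrix _), spinH_reflection hM.nondeg h2 hv (reflI_matrix _),
        plusR_map]
      by_cases hsq : IsSquare (plusR m F v)
      · rw [sqClass_eq_one_iff.mpr hsq, sqClass_eq_one_iff.mpr (hsq.map σ)]
      · rw [sqClass_eq_neg_one_iff.mpr hsq, sqClass_eq_neg_one_iff.mpr fun h => hsq (by
          have := h.map σ.symm
          rwa [RingEquiv.symm_apply_apply] at this)]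
  | one => exact ⟨1, by simp only [map_one], rfl⟩
  | mul a b _ _ ha hb =>
    obtain ⟨a', ha1, ha2⟩ := ha
    obtain ⟨b', hb1, hb2⟩ := hb
    exact ⟨a' * b', by simp only [map_mul, ha1, hb1], by rw [map_mul, map_mul, ha2, hb2]⟩
  | inv a _ ha =>
    obtain ⟨a', ha1, ha2⟩ := ha
    exact ⟨a'⁻¹, by simp only [map_inv, ha1], by rw [map_inv, map_inv, ha2]⟩

/-- The outer automorphism group in odd characteristic. -/
theorem out_plus_odd {p f : ℕ} [Fact p.Prime] (hF : Fintype.card F = p ^ f) (hf : 1 ≤ f) (hp2 : p ≠ 2)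
    (hm : 5 ≤ m) :
    (p ^ f % 4 = 3 ∧ Odd m → Nonempty (Cfsg.Out (Cfsg.POmega F ⇑(plusR m F)) ≃*
      Multiplicative (ZMod 2 × ZMod 2 × ZMod f))) ∧
    (¬ (p ^ f % 4 = 3 ∧ Odd m) → Nonempty (Cfsg.Out (Cfsg.POmega F ⇑(plusR m F)) ≃*
      DihedralGroup 4 × Multiplicative (ZMod f))) := by
  haveI : CharP F p := charP_of_card_eq_prime_pow hF
  have hM := model_plus (F := F) hm
  have hm3 : 3 ≤ m := by omega
  have hM0 := model0_plus (F := F) hm3
  haveI : Finite (MulAut (Cfsg.POmega F ⇑(plusR m F))) := Finite.of_injective _ DFunLike.coe_injective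
  have hpodd : Odd p := (Fact.out : p.Prime).odd_of_ne_two hp2
  have hodd : Odd (Fintype.card F) := by rw [hF]; exact hpodd.pow
  have h2 := odd_two_ne_zero hodd
  have hι := card_plus_index m
  have hn : 2 ≤ Fintype.card (Fin m ⊕ Fin m) := by rw [card_plus_index]; omega
  have hs : Function.Surjective (multS hM.toModel0) := plus_multS_surjective hm3
  set i₀ : Fin m := ⟨0, by omega⟩
  set cl : Cfsg.Geo.quadSimilarityGroup (F := F) ⇑(plusR m F) →* Cfsg.Out (Cfsg.POmega F ⇑(plusR m F)) :=
    (outMk (plusR m F)).comp (dia (plusR m F)) with hcl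
  set c0 := fldClass (F := F) m (frobeniusEquiv F p) with hc0
  set S := spinH hM0.nondeg h2 with hS
  have hspec : ∀ k k' : Cfsg.isometryGroup F ⇑(plusR m F),
      ((k : GL (Fin m ⊕ Fin m) F) : Matrix (Fin m ⊕ Fin m) (Fin m ⊕ Fin m) F).det =
        ((k' : GL (Fin m ⊕ Fin m) F) : Matrix (Fin m ⊕ Fin m) (Fin m ⊕ Fin m) F).det →
      S k = S k' → cl (isoG _ k) = cl (isoG _ k') := fun k k' hd hk => by
    show outMk _ _ = outMk _ _
    rw [outMk_eq_iff, ← map_inv, ← map_mul, map_mul, map_inv]
    exact dia_inv_mul_mem_inn hM0 h2 hι hn hd hk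
  -- isometries
  have hiso : ∀ k, c0 * cl (isoG _ k) = cl (isoG _ k) * c0 := by
    intro k
    show c0 * outMk _ (dia _ _) = _
    rw [fldClass_mul]
    obtain ⟨k', hk', hks⟩ := spin_galT_iso hm3 h2 (frobeniusEquiv F p) k
    refine congrArg (· * c0) ?_
    rw [hk']
    refine hspec k' k ?_ hks
    have hd := congrArg (fun g => deltaS hM0 m g) hk'
    rw [show galT (plusR_map (frobeniusEquiv F p)) (isoG (plusR m F) k) =
        baseS (baseMap_gal (plusR_map (frobeniusEquiv F p))) (isoG (plusR m F) k) from rfl,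
      deltaS_baseS _ hM0 hM0, deltaS_isoG, deltaS_isoG] at hd
    have hd' := congrArg Units.val hd
    change frobeniusEquiv F p ((k : GL (Fin m ⊕ Fin m) F) : Matrix (Fin m ⊕ Fin m) (Fin m ⊕ Fin m) F).det = _ at hd'
    rcases sq_eq_one_iff.mp (Geometry.det_isometry_sq (plusR m F) hM0.nondeg k) with e | e <;>
      rw [e] at hd' ⊢
    · rw [map_one] at hd'; exact hd'.symm
    · rw [map_neg, map_one] at hd'; exact hd'.symm
  obtain ⟨α, hα⟩ := exists_nonsquare_unit (F := F) h2
  set η := cl (plusSim m α) with hη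
  set r₁ := cl (isoG _ (reflI (plusR m F) (plusVec m F i₀))) with hr₁
  -- the generated group
  have hgen : ∀ c : Cfsg.Out (Cfsg.POmega F ⇑(plusR m F)), (∀ k, Commute c (cl (isoG _ k))) → Commute c η →
      ∀ a ∈ simClasses (plusR m F), Commute a c := by
    rintro c hck hcη _ ⟨_, ⟨g, rfl⟩, rfl⟩
    have hsq : ∀ g : Cfsg.Geo.quadSimilarityGroup (F := F) ⇑(plusR m F),
        IsSquare ((multS hM0 g : Fˣ) : F) → Commute c (cl g) := by
      intro g hg
      obtain ⟨a, ha⟩ := hg
      have ha0 : a ≠ 0 := fun e => (multS hM0 g).ne_zero (by rw [ha, e, mul_zero])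
      obtain ⟨k, rfl⟩ := exists_iso_of_multS hM0 (u := Units.mk0 a ha0) (g := g) (Units.ext ha)
      have h1 : cl (scG (plusR m F) (Units.mk0 a ha0)) = 1 := by
        show outMk _ (dia _ _) = 1
        rw [(dia_eq_one_iff hM0 (scG _ _)).mpr ⟨_, rfl⟩, map_one]
      rw [map_mul, h1, one_mul]
      exact hck k
    show Commute (cl g) c
    refine Commute.symm ?_
    by_cases hg : IsSquare ((multS hM0 g : Fˣ) : F)
    · exact hsq g hg
    · have := hsq ((plusSim m α)⁻¹ * g) (by
        rw [map_mul, map_inv, plusSim_mult hm3, Units.val_mul]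
        refine square_or_nonsquare_mul (Units.ne_zero _) (Units.ne_zero _) ?_ hg
        rw [Units.val_inv_eq_inv_val, isSquare_inv]
        exact hα)
      rw [show g = plusSim m α * ((plusSim m α)⁻¹ * g) from (mul_inv_cancel_left _ _).symm, map_mul]
      exact hcη.mul_right this
  -- the twist of the scaling class
  set u : Fˣ := α ^ (p / 2) with hu
  set z := cl (isoG _ (diagIso m fun _ : Fin m => u)) with hzdef
  have hc0η : c0 * η = η * z * c0 := by
    show c0 * outMk _ (dia _ _) = _
    rw [fldClass_mul]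
    refine congrArg (· * c0) ?_
    show cl _ = cl _ * cl _
    rw [← map_mul]
    have e : galT (plusR_map (frobeniusEquiv F p)) (plusSim m α) =
        plusSim m α * (scG (plusR m F) u * isoG (plusR m F) (diagIso m fun _ : Fin m => u)) := by
      obtain ⟨t, ht⟩ := hpodd
      refine Subtype.ext (Units.ext ?_)
      rw [galT_val]
      show (Matrix.diagonal _).map _ = Matrix.diagonal _ * (Matrix.scalar _ (u : F) * Matrix.diagonal _)
      rw [Matrix.diagonal_map (map_zero _), Matrix.scalar_apply, Matrix.diagonal_mul_diagonal,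
        Matrix.diagonal_mul_diagonal]
      congr 1
      funext x
      rcases x with i | i
      · simp only [Function.comp_apply, Sum.elim_inl, frobeniusEquiv_apply, frobenius_def, hu,
          Units.val_pow_eq_pow_val]
        rw [show ((α : F)) * ((α : F) ^ (p / 2) * (α : F) ^ (p / 2)) = (α : F) ^ (p / 2 + p / 2 + 1) by ring]
        show frobeniusEquiv F p (α : F) = _
        rw [frobeniusEquiv_apply, frobenius_def]
        congr 1
        omega
      · simp [hu]
    rw [e, map_mul, map_mul, show cl (scG (plusR m F) u) = 1 by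
      show outMk _ (dia _ _) = 1
      rw [(dia_eq_one_iff hM0 (scG _ _)).mpr ⟨u, rfl⟩, map_one], one_mul, map_mul]
  have hzspin : S (diagIso m fun _ : Fin m => u) = sqc u ^ m := by
    rw [hS, diagIso_spin hm3 h2, Finset.prod_const, Finset.card_univ, Fintype.card_fin]
  have hz1 : S (negOne (plusR m F)) = -1 ∨ sqc u ^ m = 1 → z = 1 := by
    intro h
    rw [hzdef]
    show outMk _ _ = 1
    rw [outMk_eq_one_iff]
    refine dia_mem_inn_of_det hM0 h2 hι hn (diagIso_det _) ?_
    rcases h with h | h
    · exact Or.inr h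
    · exact Or.inl (hzspin.trans h)
  have hπ : ∀ g, outGal hM (cl g) = 1 := fun g => by
    show outGal hM (outMk _ _) = 1
    rw [outGal_mk, galPart_dia]
  have hπc0 : orderOf (outGal hM c0) = f := by rw [hc0, outGal_fldClass hm, orderOf_frob hF hf]
  constructor
  · intro hA
    have hz : S (negOne (plusR m F)) = -1 := (Int.units_eq_one_or _).resolve_left fun h =>
      ((spin_negOne_plus hodd hm3).mp h) ⟨hA.2, by rw [hF]; exact hA.1⟩
    obtain ⟨φ, hφs, hφk⟩ := pgo_quot_inn_four hM0 h2 hι hn hs hz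
    have hN := pgoAut_eq (plusR m F)
    obtain ⟨e⟩ := simClasses_iso (φ.comp (MulEquiv.subgroupCongr hN.symm).toMonoidHom)
      (hφs.comp (MulEquiv.subgroupCongr hN.symm).surjective) (by
        ext x
        rw [MonoidHom.mem_ker, MonoidHom.comp_apply]
        show (MulEquiv.subgroupCongr hN.symm x) ∈ φ.ker ↔ _
        rw [hφk]
        rfl)
    obtain ⟨E⟩ := iso_prod_cyclic_of_hom (outGal hM) (simClasses (plusR m F)) (simClasses_le_ker hM) (c := c0)
      (f := f) (hgen c0 hiso (by
        show c0 * η = η * c0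
        rw [hc0η, hz1 (Or.inl hz), mul_one]))
      (fldClass_frob_pow hF hf) hπc0 (card_out_gen hF hM plus_semi_all) e
    exact ⟨E.trans ((MulEquiv.prodMultiplicative (ZMod 2 × ZMod 2) (ZMod f)).symm.trans
      (AddEquiv.toMultiplicative (AddEquiv.prodAssoc (M := ZMod 2) (N := ZMod 2) (P := ZMod f))))⟩
  · intro hB
    have hz : S (negOne (plusR m F)) = 1 := (spin_negOne_plus hodd hm3).mpr fun h => hB ⟨hF ▸ h.2, h.1⟩
    obtain ⟨φ, hφs, hφk⟩ := pgo_quot_inn_dihedral hM0 h2 hι hn hs hz
    have hN := pgoAut_eq (plusR m F)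
    obtain ⟨e⟩ := simClasses_iso (φ.comp (MulEquiv.subgroupCongr hN.symm).toMonoidHom)
      (hφs.comp (MulEquiv.subgroupCongr hN.symm).surjective) (by
        ext x
        rw [MonoidHom.mem_ker, MonoidHom.comp_apply]
        show (MulEquiv.subgroupCongr hN.symm x) ∈ φ.ker ↔ _
        rw [hφk]
        rfl)
    by_cases hu1 : sqc u ^ m = 1
    · obtain ⟨E⟩ := iso_prod_cyclic_of_hom (outGal hM) (simClasses (plusR m F)) (simClasses_le_ker hM) (c := c0)
        (f := f) (hgen c0 hiso (by
          show c0 * η = η * c0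
          rw [hc0η, hz1 (Or.inr hu1), mul_one]))
        (fldClass_frob_pow hF hf) hπc0 (card_out_gen hF hM plus_semi_all) e
      exact ⟨E⟩
    · have hmodd : Odd m := by
        rcases Nat.even_or_odd m with ⟨j, rfl⟩ | h
        · exfalso
          exact hu1 (by rw [← two_mul, pow_mul, Int.units_sq, one_pow])
        · exact h
      have hfe : Even f := by
        by_contra hfo
        rw [Nat.not_even_iff_odd] at hfo
        apply hu1
        have hq4 : p ^ f % 4 ≠ 3 := fun h => hB ⟨h, hmodd⟩
        obtain ⟨j, hj⟩ := hfo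
        have hp4 : p % 4 = 1 := by
          have hp1 : p % 4 = 1 ∨ p % 4 = 3 := by obtain ⟨t, ht⟩ := hpodd; omega
          rcases hp1 with h | h
          · exact h
          · exfalso
            apply hq4
            rw [hj, pow_succ, pow_mul, Nat.mul_mod, Nat.pow_mod, Nat.pow_mod p 2, h]
            simp
        have hu2 : sqc u = 1 := by
          rw [hu, map_pow, show p / 2 = 2 * (p / 4) by omega, pow_mul, Int.units_sq, one_pow]
        rw [hu2, one_pow]
      have hr1 : r₁ * r₁ = 1 := by
        rw [hr₁, ← map_mul, ← map_mul, reflI_mul_self, map_one, map_one]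
      have hrk : ∀ k, Commute r₁ (cl (isoG _ k)) := by
        intro k
        show r₁ * _ = _ * r₁
        rw [hr₁, ← map_mul, ← map_mul, ← map_mul, ← map_mul]
        refine hspec _ _ ?_ ?_
        · simp only [Subgroup.coe_mul, Units.val_mul, Matrix.det_mul]; ring
        · rw [map_mul, map_mul, mul_comm]
      have hrη : r₁ * η = η * z * r₁ := by
        have e : isoG (plusR m F) (reflI (plusR m F) (plusVec m F i₀)) * plusSim m α *
            isoG (plusR m F) (reflI (plusR m F) (plusVec m F i₀)) =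
            plusSim m α * isoG (plusR m F) (diagIso m (Pi.mulSingle i₀ α⁻¹)) := by
          refine Subtype.ext (Units.ext ?_)
          show (reflI (plusR m F) (plusVec m F i₀)).1.1 * Matrix.diagonal _ * (reflI (plusR m F) (plusVec m F i₀)).1.1 =
            Matrix.diagonal _ * Matrix.diagonal _
          refine Matrix.ext_of_mulVec_single fun l => ?_
          rw [Matrix.diagonal_mul_diagonal, ← Matrix.mulVec_mulVec, ← Matrix.mulVec_mulVec, reflI_mulVec,
            reflI_mulVec, plusR_plusVec]
          funext z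
          simp only [polar_plusR, plusVec, Finset.sum_add_distrib]
          rcases l with l | l <;> rcases z with z | z <;>
            simp [Matrix.mulVec_diagonal, Pi.single_apply, Pi.mulSingle_apply] <;>
            by_cases h1 : l = i₀ <;> by_cases h2 : z = i₀ <;>
            simp_all [eq_comm (a := i₀) (b := l), eq_comm (a := i₀) (b := z)] <;>
            (try field_simp) <;> (try ring1) <;> (try (intro h3; simp_all)) <;> (try (rintro rfl; simp_all))
        have hzz : cl (isoG _ (diagIso m (Pi.mulSingle i₀ α⁻¹))) = z := by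
          rw [hzdef]
          refine hspec _ _ (by rw [diagIso_det, diagIso_det]) ?_
          have h1 : sqc u ^ m = -1 := (Int.units_eq_one_or _).resolve_left hu1
          rw [hzspin, h1, hS, diagIso_spin hm3 h2, Finset.prod_eq_single i₀]
          · rw [Pi.mulSingle_eq_same, map_inv, inv_eq_iff_eq_inv, inv_neg, inv_one]
            exact sqClass_eq_neg_one_iff.mpr hα
          · intro j _ hj; rw [Pi.mulSingle_eq_of_ne hj, map_one]
          · exact fun h => absurd (Finset.mem_univ _) h
        have := congrArg cl e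
        rw [map_mul, map_mul, map_mul, ← hr₁, hzz] at this
        calc r₁ * η = r₁ * η * (r₁ * r₁) := by rw [hr1, mul_one]
          _ = (r₁ * η * r₁) * r₁ := by rw [mul_assoc _ r₁ r₁]
          _ = _ := by rw [this]
      have hc0r : c0 * r₁ = r₁ * c0 := hiso _
      obtain ⟨E⟩ := iso_prod_cyclic_of_hom (outGal hM) (simClasses (plusR m F)) (simClasses_le_ker hM)
        (c := c0 * r₁) (f := f) (hgen (c0 * r₁) (fun k => Commute.mul_left (hiso k) (hrk k)) (by
          show c0 * r₁ * η = η * (c0 * r₁)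
          have hzz2 : z * z = 1 := by
            rw [hzdef, ← map_mul, ← map_mul, ← map_one cl, ← map_one (isoG (plusR m F))]
            refine hspec _ _ ?_ ?_
            · rw [Subgroup.coe_mul, Units.val_mul, Matrix.det_mul, diagIso_det, OneMemClass.coe_one, Units.val_one,
                Matrix.det_one, one_mul]
            · rw [map_mul, map_one, ← pow_two, Int.units_sq]
          have hzc : c0 * z = z * c0 := hiso _
          calc c0 * r₁ * η = c0 * (η * z * r₁) := by rw [mul_assoc, hrη]
            _ = c0 * η * (z * r₁) := by simp only [mul_assoc]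
            _ = η * z * (c0 * z) * r₁ := by rw [hc0η]; simp only [mul_assoc]
            _ = η * (z * z) * (c0 * r₁) := by rw [hzc]; simp only [mul_assoc]
            _ = η * (c0 * r₁) := by rw [hzz2, mul_one]))
        (by
          rw [Commute.mul_pow hc0r, fldClass_frob_pow hF hf, one_mul]
          obtain ⟨j, rfl⟩ := hfe
          rw [← two_mul, pow_mul, pow_two, hr1, one_pow])
        (by rw [map_mul, hπ, mul_one, hπc0]) (card_out_gen hF hM plus_semi_all) e
      exact ⟨E⟩

end Cfsg.Agent.Lib.Classical.AutPOmega
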