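import Cfsg.Agent.Lib.Classical.AutPOmega.MinusFieldClass

/-!
Automorphisms of `PΩ`, part 30: the minus-type form over the fixed field inside a plus-type group, as the
fixed points of a reflection times a field automorphism.
-/

set_option autoImplicit false

namespace Cfsg.Agent.Lib.Classical.AutPOmega

open QuadraticMap (polarBilin)
open Cfsg.Agent.Lib.Geometry (sqClass sqClass_eq_one_iff sqClass_eq_neg_one_iff)
open Matrix

attribute [-simp] QuadraticMap.polarBilin_apply_apply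

variable {F : Type*} [Field F] {k : ℕ}

/-- The coordinates of the twisted rational structure. -/
noncomputable def twistL (k : ℕ) {ω ω' : F} (h : ω' - ω ≠ 0) :
    ((Fin k ⊕ Fin k) ⊕ Fin 2 → F) ≃ₗ[F] (Fin (k + 1) ⊕ Fin (k + 1) → F) where
  toFun v := Sum.elim (Fin.cons (-(v (.inr 0) + ω' * v (.inr 1))) fun i => v (.inl (.inl i)))
    (Fin.cons (v (.inr 0) + ω * v (.inr 1)) fun i => -v (.inl (.inr i)))
  map_add' v w := by
    funext i
    rcases i with i | i <;> refine Fin.cases ?_ (fun j => ?_) i <;> simp <;> ring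
  map_smul' c v := by
    funext i
    rcases i with i | i <;> refine Fin.cases ?_ (fun j => ?_) i <;> simp <;> ring
  invFun w := Sum.elim (Sum.elim (fun i => w (.inl i.succ)) fun i => -w (.inr i.succ))
    ![w (.inr 0) + ω * (w (.inl 0) + w (.inr 0)) / (ω' - ω), -((w (.inl 0) + w (.inr 0)) / (ω' - ω))]
  left_inv v := by
    funext i
    rcases i with (i | i) | i
    · simp
    · simp
    · fin_cases i
      · simp; field_simp; ring
      · simp; field_simp; ring
  right_inv w := by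
    funext i
    rcases i with i | i <;> refine Fin.cases ?_ (fun j => ?_) i
    · simp; field_simp; ring
    · simp
    · simp; field_simp; ring
    · simp

/-- The matrix of the twisted rational structure. -/
noncomputable def twistP (k : ℕ) {ω ω' : F} (h : ω' - ω ≠ 0) :
    Matrix (Fin (k + 1) ⊕ Fin (k + 1)) ((Fin k ⊕ Fin k) ⊕ Fin 2) F :=
  LinearMap.toMatrix' (twistL k h).toLinearMap

noncomputable def twistP' (k : ℕ) {ω ω' : F} (h : ω' - ω ≠ 0) :
    Matrix ((Fin k ⊕ Fin k) ⊕ Fin 2) (Fin (k + 1) ⊕ Fin (k + 1)) F :=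
  LinearMap.toMatrix' (twistL k h).symm.toLinearMap

theorem twistP_mulVec {ω ω' : F} (h : ω' - ω ≠ 0) (v : (Fin k ⊕ Fin k) ⊕ Fin 2 → F) :
    twistP k h *ᵥ v = twistL k h v := by
  rw [twistP, LinearMap.toMatrix'_mulVec]; rfl

theorem twistP_left {ω ω' : F} (h : ω' - ω ≠ 0) : twistP' k h * twistP k h = 1 := by
  rw [twistP', twistP, ← LinearMap.toMatrix'_comp,
    show (twistL k h).symm.toLinearMap.comp (twistL k h).toLinearMap = LinearMap.id from
      LinearMap.ext fun v => (twistL k h).symm_apply_apply v, LinearMap.toMatrix'_id]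

theorem twistP_right {ω ω' : F} (h : ω' - ω ≠ 0) : twistP k h * twistP' k h = 1 := by
  rw [twistP', twistP, ← LinearMap.toMatrix'_comp,
    show (twistL k h).toLinearMap.comp (twistL k h).symm.toLinearMap = LinearMap.id from
      LinearMap.ext fun v => (twistL k h).apply_symm_apply v, LinearMap.toMatrix'_id]

variable {σ : F ≃+* F} {ω : F} (hw : σ ω - ω ≠ 0) {F₀ : Type*} [Field F₀] {j : F₀ →+* F} {a₀ b₀ : F₀}
  (ha : j a₀ = ω + σ ω) (hb : j b₀ = ω * σ ω)

include ha hb in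
theorem twist_base : BaseMap (minusR k a₀ b₀) (plusR (k + 1) F) j (twistP k hw) (twistP' k hw) := by
  refine ⟨twistP_left hw, twistP_right hw, -1, fun v => ?_⟩
  rw [twistP_mulVec, plusR_apply, minusR_apply, Fin.sum_univ_succ]
  simp [twistL, map_sum, ha, hb, Finset.sum_neg_distrib]
  ring

/-- The standard reflection. -/
noncomputable def stdRefl (k : ℕ) (F : Type*) [Field F] : Cfsg.Geo.quadSimilarityGroup (F := F) ⇑(plusR (k + 1) F) :=
  isoG (plusR (k + 1) F) (reflI (plusR (k + 1) F) (plusVec (k + 1) F 0))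

theorem polar_plusVec (w : Fin (k + 1) ⊕ Fin (k + 1) → F) :
    polarBilin (plusR (k + 1) F) (plusVec (k + 1) F 0) w = w (.inl 0) + w (.inr 0) := by
  rw [QuadraticMap.polarBilin_apply_apply, QuadraticMap.polar, plusR_apply, plusR_apply, plusR_apply,
    Fin.sum_univ_succ, Fin.sum_univ_succ, Fin.sum_univ_succ]
  simp [plusVec, Pi.single_apply, Fin.succ_ne_zero]
  ring

theorem twist_fixed [Fintype F] (hσ2 : ∀ t, σ (σ t) = t) :
    ((stdRefl k F).1 : Matrix (Fin (k + 1) ⊕ Fin (k + 1)) (Fin (k + 1) ⊕ Fin (k + 1)) F) * (twistP k hw).map σ =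
      ((1 : Fˣ) : F) • twistP k hw := by
  rw [Units.val_one, one_smul]
  refine Matrix.ext_of_mulVec_single fun t => ?_
  have hs : (twistP k hw).map σ *ᵥ Pi.single t 1 = fun l => σ (twistL k hw (Pi.single t 1) l) := by
    rw [← twistP_mulVec hw]
    funext l
    simp [Matrix.mulVec, dotProduct, Pi.single_apply]
  rw [← Matrix.mulVec_mulVec, hs, twistP_mulVec]
  show ((reflI (plusR (k + 1) F) (plusVec (k + 1) F 0) : GL (Fin (k + 1) ⊕ Fin (k + 1)) F) :
    Matrix (Fin (k + 1) ⊕ Fin (k + 1)) (Fin (k + 1) ⊕ Fin (k + 1)) F) *ᵥ _ = _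
  rw [reflI_mulVec, polar_plusVec, plusR_plusVec, inv_one, one_mul]
  funext i
  have h0 : ∀ u, σ ((Pi.single t (1 : F) : (Fin k ⊕ Fin k) ⊕ Fin 2 → F) u) = (Pi.single t 1 : _ → F) u := fun u => by
    simp [Pi.single_apply, apply_ite σ]
  rcases i with i | i <;> refine Fin.cases ?_ (fun l => ?_) i <;>
    simp [twistL, plusVec, h0, hσ2, Pi.single_eq_of_ne (Fin.succ_ne_zero _)] <;> ring

include ha hb in
/-- The image of a standard similarity of the rational form is diagonal. -/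
theorem twist_minusSim (hfix : ∀ t, σ t = t ↔ ∃ s, j s = t)
    {c : F₀} {x y : F₀} {d : Cfsg.Geo.quadSimilarityGroup (F := F₀) ⇑(minusR k a₀ b₀)}
    (hd : (d.1 : Matrix ((Fin k ⊕ Fin k) ⊕ Fin 2) ((Fin k ⊕ Fin k) ⊕ Fin 2) F₀) =
      Matrix.fromBlocks (Matrix.diagonal (Sum.elim (fun _ => c) fun _ => 1)) 0 0 (binMat a₀ b₀ x y)) :
    twistP k hw * (d.1 : Matrix ((Fin k ⊕ Fin k) ⊕ Fin 2) ((Fin k ⊕ Fin k) ⊕ Fin 2) F₀).map j * twistP' k hw =
      Matrix.diagonal (Sum.elim (Fin.cons (σ (j x + j y * ω)) fun _ => j c)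
        (Fin.cons (j x + j y * ω) fun _ => 1)) := by
  have hjσ : ∀ s, σ (j s) = j s := fun s => (hfix _).mpr ⟨s, rfl⟩
  have key : ∀ D, twistP k hw * (d.1 : Matrix ((Fin k ⊕ Fin k) ⊕ Fin 2) ((Fin k ⊕ Fin k) ⊕ Fin 2) F₀).map j =
      D * twistP k hw → twistP k hw * (d.1 : Matrix ((Fin k ⊕ Fin k) ⊕ Fin 2) ((Fin k ⊕ Fin k) ⊕ Fin 2) F₀).map j *
        twistP' k hw = D := fun D h => by rw [h, Matrix.mul_assoc, twistP_right, Matrix.mul_one]
  refine key _ (Matrix.ext_of_mulVec_single fun t => ?_)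
  rw [← Matrix.mulVec_mulVec, ← Matrix.mulVec_mulVec, twistP_mulVec, twistP_mulVec, hd, Matrix.fromBlocks_map,
    Matrix.fromBlocks_mulVec]
  funext i
  rw [Matrix.mulVec_diagonal]
  rcases i with i | i <;> refine Fin.cases ?_ (fun l => ?_) i
  · simp [twistL, binMat, Matrix.mulVec, dotProduct, Fin.sum_univ_two, Matrix.diagonal_apply, apply_ite j, ha, hb,
      hjσ, map_add, map_mul]
    ring
  · simp [twistL, Matrix.mulVec_diagonal, Matrix.diagonal_map, apply_ite j]
  · simp [twistL, binMat, Matrix.mulVec, dotProduct, Fin.sum_univ_two, Matrix.diagonal_apply, apply_ite j, ha, hb,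
      hjσ, map_add, map_mul]
    ring
  · simp [twistL, Matrix.mulVec_diagonal, Matrix.diagonal_map, apply_ite j]

/-- The spinor norm of a diagonal isometry of a hyperbolic form. -/
theorem spin_diag [Fintype F] (h2 : (2 : F) ≠ 0) {m : ℕ} (hm : 3 ≤ m) (h : Cfsg.isometryGroup F ⇑(plusR m F))
    (t : Fin m → F) (ht0 : ∀ i, t i ≠ 0) (ht : ∀ i, t i ≠ 1)
    (hh : ((h : GL (Fin m ⊕ Fin m) F) : Matrix (Fin m ⊕ Fin m) (Fin m ⊕ Fin m) F) =
      Matrix.diagonal (Sum.elim t fun i => (t i)⁻¹)) :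
    spinH (model0_plus (F := F) hm).nondeg h2 h = ∏ i, sqClass (t i) := by
  have hne : ∀ i, (1 - t i) * (1 - (t i)⁻¹) ≠ 0 := fun i =>
    mul_ne_zero (sub_ne_zero.mpr (ht i).symm) (sub_ne_zero.mpr fun e => ht i (inv_eq_one.mp e.symm))
  have hdet : (1 - ((h : GL (Fin m ⊕ Fin m) F) : Matrix (Fin m ⊕ Fin m) (Fin m ⊕ Fin m) F)).det =
      ∏ i, (1 - t i) * (1 - (t i)⁻¹) := by
    rw [hh, ← Matrix.diagonal_one, Matrix.diagonal_sub, Matrix.det_diagonal, Fintype.prod_sum_type,
      Finset.prod_mul_distrib]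
    simp
  have hne0 : ∏ i, (1 - t i) * (1 - (t i)⁻¹) ≠ 0 := Finset.prod_ne_zero_iff.mpr fun i _ => hne i
  let u : Fin m → Fˣ := fun i => Units.mk0 _ (mul_ne_zero (hne i) (neg_ne_zero.mpr (one_ne_zero (α := F))))
  rw [spinH_of_det_one_sub _ h2 h (by rw [hdet]; exact hne0), hdet, gram_plusR,
    show (∏ i, (1 - t i) * (1 - (t i)⁻¹)) * (-1) ^ m = ((∏ i, u i : Fˣ) : F) by
      rw [Units.coe_prod]
      simp only [u, Units.val_mk0]
      rw [Finset.prod_mul_distrib (g := fun _ : Fin m => (-1 : F)), Finset.prod_const, Finset.card_univ, Fintype.card_fin]]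
  show sqc (∏ i, u i) = _
  rw [map_prod]
  refine Finset.prod_congr rfl fun i _ => ?_
  show sqClass ((1 - t i) * (1 - (t i)⁻¹) * -1) = sqClass (t i)
  rw [show (1 - t i) * (1 - (t i)⁻¹) * -1 = (1 - t i) * (1 - t i) * (t i)⁻¹ by
      have := ht0 i; field_simp; ring,
    Geometry.sqClass_sq_mul _ (sub_ne_zero.mpr (ht i).symm), Geometry.sqClass_inv]

end Cfsg.Agent.Lib.Classical.AutPOmega
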