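import Cfsg.Agent.Lib.Classical.AutPOmega.Parabolic

/-!
Automorphisms of `PΩ`, part 6: the point map of an automorphism.
-/

set_option autoImplicit false

namespace Cfsg.Agent.Lib.Classical.AutPOmega

open QuadraticMap (polarBilin)
open Cfsg.Agent.Lib.Geometry (quadIsometries mem_quadIsometries quad_add quad_smul quad_polar_self
  quad_polar_comm)

attribute [-simp] QuadraticMap.polarBilin_apply_apply

variable {F V : Type*} [Field F] [AddCommGroup V] [Module F V] {Q : QuadraticForm F V}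
  [FiniteDimensional F V] [Finite F] {e f e₂ f₂ e₃ f₃ : V}

theorem stK_smul (g : EG Q) (a : singPts Q) :
    stK (g • a) = (stK a).map (MulAut.conj (pk Q g)).toMonoidHom := by
  ext y
  constructor
  · rintro ⟨k, hk, rfl⟩
    refine ⟨pk Q (g⁻¹ * k * g), ⟨_, ?_, rfl⟩, by simp [mul_assoc]⟩
    show (g⁻¹ * k * g) • a = a
    rw [mul_smul, mul_smul, show k • g • a = g • a from hk, inv_smul_smul]
  · rintro ⟨_, ⟨k, hk, rfl⟩, rfl⟩
    refine ⟨g * k * g⁻¹, ?_, by simp⟩
    show (g * k * g⁻¹) • g • a = g • a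
    rw [mul_smul, mul_smul, inv_smul_smul, show k • a = a from hk]

/-- A normal `p`-subgroup of any point stabiliser lies in the root group. -/
theorem normal_pgroup_le' (p : ℕ) [Fact p.Prime] [CharP F p] (h : HypThree Q e f e₂ f₂ e₃ f₃)
    (a : singPts Q) {R : Subgroup (KG Q)} (hR : IsPGroup p R) (hRle : R ≤ stK a)
    (hn : ∀ k ∈ stK a, ∀ r ∈ R, k * r * k⁻¹ ∈ R) : R ≤ rootK a := by
  haveI := singPts_pretransitive h
  have he0 := pair_ne_zero h.two.ef
  obtain ⟨g, rfl⟩ := MulAction.exists_smul_eq (EG Q) (pt e he0 h.two.qe) a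
  rw [stK_smul] at hRle hn
  have h1 := normal_pgroup_le (p := p) h he0 (R := R.map (MulAut.conj (pk Q g)⁻¹).toMonoidHom)
    (hR.map _) ?_ ?_
  · intro r hr
    have := rootK_conj g _ (h1 ⟨r, hr, rfl⟩)
    simpa [mul_assoc] using this
  · rintro _ ⟨r, hr, rfl⟩
    obtain ⟨y, hy, rfl⟩ := hRle hr
    simpa [mul_assoc] using hy
  · rintro k hk _ ⟨r, hr, rfl⟩
    refine ⟨_, hn _ ⟨k, hk, rfl⟩ r hr, ?_⟩
    simp [mul_assoc]

theorem pt_rep (a : singPts Q) : pt a.1.rep a.1.rep_nonzero (sing a) = a :=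
  Subtype.ext (Projectivization.mk_rep _)

theorem col_self (a : singPts Q) : col a a := by
  show polarBilin Q a.1.rep a.1.rep = 0
  rw [quad_polar_self, sing a, mul_zero]

theorem not_parallel {u v : V} {hu0 : u ≠ 0} {hu : Q u = 0} {hv0 : v ≠ 0} {hv : Q v = 0}
    (hne : pt u hu0 hu ≠ pt v hv0 hv) : (∀ t : F, t • u ≠ v) ∧ ∀ t : F, t • v ≠ u := by
  exact ⟨fun t ht => hne ((pt_eq_iff hv0 hv hu0 hu).2 ⟨t, ht⟩).symm,
    fun t ht => hne ((pt_eq_iff hu0 hu hv0 hv).2 ⟨t, ht⟩)⟩

theorem rootK_injective (p : ℕ) [Fact p.Prime] [CharP F p] (h : HypThree Q e f e₂ f₂ e₃ f₃)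
    {a b : singPts Q} (hab : rootK a ≤ rootK b) : a = b := by
  haveI := singPts_pretransitive h
  have he0 := pair_ne_zero h.two.ef
  obtain ⟨g, rfl⟩ := MulAction.exists_smul_eq (EG Q) (pt e he0 h.two.qe) a
  obtain ⟨v, hv0, hv, hgb⟩ := exists_pt (g⁻¹ • b)
  suffices hpe : pt e he0 h.two.qe = pt v hv0 hv by rw [hpe, ← hgb, smul_inv_smul]
  have key : ∀ (w : V) (hw : w ∈ perpPair Q e f), ee e w h.two.qe (perp_e hw) ∈ rootSub (pt v hv0 hv) := by
    intro w hw
    obtain ⟨y, hy, hye⟩ := hab (rootK_conj g _ ⟨_, ee_mem_root he0 h.two.qe (perp_e hw), rfl⟩)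
    have h1 := root_eq_of_pk h (p := p) (root_conj (g := g) (ee_mem_root he0 h.two.qe (perp_e hw))) hy
      (by rw [hye, map_mul, map_mul, map_inv])
    rw [← hgb]
    have h2 := root_conj (g := g⁻¹) hy
    rw [← h1] at h2
    simpa [mul_assoc] using h2
  by_contra hne
  have hcol : polarBilin Q e v = 0 := by
    by_contra hb
    have h1 := inter_of_not_col (a := pt e he0 h.two.qe) (b := pt v hv0 hv) (by rwa [col_pt])
      (ee_mem_root he0 _ _) (key e₂ h.perp.he)
    exact (pair_ne_zero h.perp.ef) (ee_e_inj h.two.qe h.two.ef h.perp.he (perpPair Q e f).zero_mem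
      (by rw [h1, ee_zero]))
  have hz : ∀ w ∈ perpPair Q e f, polarBilin Q v w = 0 := by
    intro w hw
    have hfix := root_fix (key w hw)
    rw [ee_apply, quad_polar_comm Q v e, hcol, zero_smul, add_zero, mul_zero, add_zero, sub_eq_self,
      smul_eq_zero] at hfix
    exact hfix.resolve_right he0
  refine (not_parallel hne).1 (polarBilin Q v f) ?_
  have hd := decomp Q e f v
  rw [quad_polar_comm Q v e, hcol, zero_smul, add_zero] at hd
  by_cases hw0 : prW Q e f v = 0
  · rw [hw0, add_zero] at hd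
    exact hd.symm
  · obtain ⟨y, hyW, hy⟩ := h.perp.sep _ (prW_mem h.two.qe h.two.qf h.two.ef v) hw0
    exfalso
    apply hy
    have h1 := hz y hyW
    rw [hd, map_add, map_smul, LinearMap.add_apply, LinearMap.smul_apply, perp_e hyW, smul_zero,
      zero_add] at h1
    exact h1

theorem exists_point_map (p : ℕ) [Fact p.Prime] [CharP F p] (h : HypThree Q e f e₂ f₂ e₃ f₃)
    (hN : NoTriality Q) (φ : MulAut (KG Q)) :
    ∃ π : singPts Q → singPts Q, Function.Bijective π ∧
      (∀ a, (stK a).map φ.toMonoidHom = stK (π a)) ∧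
      ∀ a, (rootK a).map φ.toMonoidHom = rootK (π a) := by
  haveI := singPts_pretransitive h
  have he0 := pair_ne_zero h.two.ef
  have hex : ∀ (ψ : MulAut (KG Q)) (a : singPts Q), ∃ b, (stK a).map ψ.toMonoidHom = stK b := by
    intro ψ a
    obtain ⟨g, rfl⟩ := MulAction.exists_smul_eq (EG Q) (pt e he0 h.two.qe) a
    obtain ⟨b, hb⟩ := exists_image p h hN he0 ψ
    obtain ⟨k, hk⟩ := pk_surjective (ψ (pk Q g))
    refine ⟨k • b, ?_⟩
    rw [stK_smul, stK_smul, ← hb, Subgroup.map_map, Subgroup.map_map]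
    congr 1
    ext x
    simp [hk]
  choose img himg using hex
  have hle : ∀ (ψ : MulAut (KG Q)) (a : singPts Q), (rootK a).map ψ.toMonoidHom ≤ rootK (img ψ a) := by
    intro ψ a
    refine normal_pgroup_le' p h _ ((isPGroup_rootK p a).map _) ?_ ?_
    · rw [← himg]; exact Subgroup.map_mono (rootK_le_stK a)
    · intro k hk r hr
      rw [← himg] at hk
      obtain ⟨k, ⟨g, hg, rfl⟩, rfl⟩ := hk
      obtain ⟨r, hr', rfl⟩ := hr
      refine ⟨pk Q g * r * (pk Q g)⁻¹, ?_, by simp⟩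
      have := rootK_conj g a hr'
      rwa [show g • a = a from hg] at this
  have hback : ∀ (ψ : MulAut (KG Q)) (a : singPts Q), img ψ.symm (img ψ a) = a := by
    intro ψ a
    refine (rootK_injective p h ?_).symm
    intro x hx
    have h1 := hle ψ.symm (img ψ a) ⟨ψ x, hle ψ a ⟨x, hx, rfl⟩, rfl⟩
    simpa using h1
  refine ⟨img φ, ⟨fun a b hab => by rw [← hback φ a, hab, hback φ b], fun b => ⟨img φ.symm b, by
    have := hback φ.symm b; simpa using this⟩⟩, himg φ, fun a => le_antisymm (hle φ a) ?_⟩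
  intro x hx
  have h1 := hle φ.symm (img φ a) ⟨x, hx, rfl⟩
  rw [hback φ a] at h1
  exact ⟨φ.symm x, h1, by simp⟩

theorem point_col (p : ℕ) [Fact p.Prime] [CharP F p] (h : HypThree Q e f e₂ f₂ e₃ f₃)
    {φ : MulAut (KG Q)} {π : singPts Q → singPts Q} (hπ : Function.Bijective π)
    (hr : ∀ a, (rootK a).map φ.toMonoidHom = rootK (π a)) {a b : singPts Q} :
    col (π a) (π b) ↔ col a b := by
  rcases eq_or_ne a b with rfl | hab
  · exact iff_of_true (col_self _) (col_self _)
  -- common root elements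
  have key : ∀ {a b : singPts Q}, a ≠ b → (col a b ↔ ∃ x ∈ rootK a, x ∈ rootK b ∧ x ≠ 1) := by
    intro a b hab
    obtain ⟨u, hu0, hu, rfl⟩ := exists_pt a
    obtain ⟨v, hv0, hv, rfl⟩ := exists_pt b
    constructor
    · intro hc
      rw [col_pt] at hc
      obtain ⟨hne, -⟩ := not_parallel hab
      refine ⟨pk Q (ee u v hu hc), ⟨_, ee_mem_root hu0 hu hc, rfl⟩, ⟨ee u v hu hc, ?_, rfl⟩, fun h1 => ?_⟩
      · have hvu : polarBilin Q v (-u) = 0 := by rw [map_neg, quad_polar_comm, hc, neg_zero]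
        refine mem_root.2 ⟨-u, hvu, Subtype.ext ?_⟩
        refine eich_congr Q hu hc hv hvu fun y => ?_
        simp only [eichLin_apply, hv, map_neg, LinearMap.neg_apply, ← neg_one_smul F u, quad_smul, hu,
          map_smul, smul_eq_mul]
        module
      · exact ee_ne_one h hu0 hu hc hne (root_eq_of_pk h (p := p) (ee_mem_root hu0 hu hc)
          (Subgroup.one_mem (rootSub (pt u hu0 hu))) (h1.trans (map_one (pk Q)).symm))
    · rintro ⟨_, ⟨k, hk, rfl⟩, ⟨k', hk', hkk⟩, hx1⟩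
      by_contra hc
      obtain rfl := root_eq_of_pk h (p := p) hk' hk hkk
      exact hx1 (by rw [inter_of_not_col hc hk hk', map_one])
  rw [key hab, key (hπ.1.ne hab)]
  constructor
  · rintro ⟨x, hxa, hxb, hx1⟩
    rw [← hr] at hxa hxb
    obtain ⟨y, hy, rfl⟩ := hxa
    obtain ⟨y', hy', hyy⟩ := hxb
    obtain rfl : y' = y := φ.injective hyy
    exact ⟨y', hy, hy', fun h1 => hx1 (by simp [h1])⟩
  · rintro ⟨x, hxa, hxb, hx1⟩
    exact ⟨φ x, hr a ▸ ⟨x, hxa, rfl⟩, hr b ▸ ⟨x, hxb, rfl⟩, fun h1 => hx1 (φ.injective (by simpa using h1))⟩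

/-- Lines go to lines. -/
theorem point_line (p : ℕ) [Fact p.Prime] [CharP F p] (h : HypThree Q e f e₂ f₂ e₃ f₃)
    {φ : MulAut (KG Q)} {π : singPts Q → singPts Q} (hπ : Function.Bijective π)
    (hr : ∀ a, (rootK a).map φ.toMonoidHom = rootK (π a)) {u v w u' v' w' : V}
    {hu0 : u ≠ 0} {hu : Q u = 0} {hv0 : v ≠ 0} {hv : Q v = 0} {hw0 : w ≠ 0} {hw : Q w = 0}
    {hu0' : u' ≠ 0} {hu' : Q u' = 0} {hv0' : v' ≠ 0} {hv' : Q v' = 0} {hw0' : w' ≠ 0} {hw' : Q w' = 0}
    (hπu : π (pt u hu0 hu) = pt u' hu0' hu') (hπv : π (pt v hv0 hv) = pt v' hv0' hv')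
    (hπw : π (pt w hw0 hw) = pt w' hw0' hw')
    (hne : pt u hu0 hu ≠ pt v hv0 hv) (huv : polarBilin Q u v = 0)
    {s t : F} (hwst : w = s • u + t • v) : ∃ a b : F, w' = a • u' + b • v' := by
  obtain ⟨hn1, -⟩ := not_parallel hne
  -- the long root element of the line
  have hxv : ee u v hu huv ∈ rootSub (pt v hv0 hv) := by
    have hvu : polarBilin Q v (-u) = 0 := by rw [map_neg, quad_polar_comm, huv, neg_zero]
    refine mem_root.2 ⟨-u, hvu, Subtype.ext ?_⟩
    refine eich_congr Q hu huv hv hvu fun y => ?_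
    simp only [eichLin_apply, hv, map_neg, LinearMap.neg_apply, ← neg_one_smul F u, quad_smul, hu,
      map_smul, smul_eq_mul]
    module
  have hxw : ee u v hu huv ∈ rootSub (pt w hw0 hw) := by
    rcases eq_or_ne s 0 with hs | hs
    · have ht : pt w hw0 hw = pt v hv0 hv :=
        pt_eq_smul hv0 hv hw0 hw (t := t) (by rw [hwst, hs, zero_smul, zero_add])
      rwa [ht]
    · have hB : polarBilin Q w (s⁻¹ • v) = 0 := by
        rw [hwst, map_smul, map_add, LinearMap.add_apply, map_smul, map_smul, LinearMap.smul_apply,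
          LinearMap.smul_apply, huv, quad_polar_self, hv]
        simp
      refine mem_root.2 ⟨s⁻¹ • v, hB, Subtype.ext ?_⟩
      refine eich_congr Q hu huv hw hB fun y => ?_
      subst hwst
      simp only [eichLin_apply, map_add, map_smul, quad_smul, hv, smul_eq_mul, mul_zero, zero_mul,
        add_zero, smul_add, smul_smul]
      match_scalars <;> field_simp <;> ring
  have hx1 : pk Q (ee u v hu huv) ≠ 1 := fun h1 => ee_ne_one h hu0 hu huv hn1
    (root_eq_of_pk h (p := p) (ee_mem_root hu0 hu huv) (Subgroup.one_mem (rootSub (pt u hu0 hu)))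
      (h1.trans (map_one (pk Q)).symm))
  have img : ∀ {z z' : V} {hz0 : z ≠ 0} {hz : Q z = 0} {hz0' : z' ≠ 0} {hz' : Q z' = 0},
      π (pt z hz0 hz) = pt z' hz0' hz' → ee u v hu huv ∈ rootSub (pt z hz0 hz) →
      ∃ y ∈ rootSub (pt z' hz0' hz'), pk Q y = φ (pk Q (ee u v hu huv)) := by
    intro z z' hz0 hz hz0' hz' he hm
    have : φ (pk Q (ee u v hu huv)) ∈ rootK (pt z' hz0' hz') := by
      rw [← he, ← hr]; exact ⟨_, ⟨_, hm, rfl⟩, rfl⟩
    obtain ⟨y, hy, hye⟩ := this
    exact ⟨y, hy, hye⟩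
  obtain ⟨yu, hyu, eu⟩ := img hπu (ee_mem_root hu0 hu huv)
  obtain ⟨yv, hyv, ev⟩ := img hπv hxv
  obtain ⟨yw, hyw, ew⟩ := img hπw hxw
  obtain rfl := root_eq_of_pk h (p := p) hyv hyu (ev.trans eu.symm)
  obtain rfl := root_eq_of_pk h (p := p) hyw hyu (ew.trans eu.symm)
  have hne' : pt u' hu0' hu' ≠ pt v' hv0' hv' := by
    rw [← hπu, ← hπv]; exact hπ.1.ne hne
  have huv' : polarBilin Q u' v' = 0 := by
    rw [← col_pt hu0' hu' hv0' hv', ← hπu, ← hπv, point_col p h hπ hr, col_pt]; exact huv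
  obtain ⟨hn1', hn2'⟩ := not_parallel hne'
  obtain ⟨x, hx, rfl⟩ := mem_root.1 hyu
  obtain ⟨y, hy, hE⟩ := mem_root.1 hyv
  -- the common element is `ee u' (t • v')`
  obtain ⟨z, hz1, hz2⟩ := exists_pair_fun h hn2'
  have h1 := congrArg (fun g : EG Q => g.1.1 z) hE
  simp only [ee_apply, hz1, zero_smul, mul_zero, add_zero] at h1
  set T := -(polarBilin Q z u')⁻¹ * polarBilin Q z y
  set S := (polarBilin Q z u')⁻¹ * (polarBilin Q z x + Q x * polarBilin Q z u')
  have hxe : x = T • v' + S • u' := by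
    have h2 : polarBilin Q z u' • x =
        (polarBilin Q z x + Q x * polarBilin Q z u') • u' - polarBilin Q z y • v' := by
      linear_combination (norm := module) h1
    have := congrArg ((polarBilin Q z u')⁻¹ • ·) h2
    simp only [smul_smul, inv_mul_cancel₀ hz2, one_smul, smul_sub] at this
    rw [this]; module
  have hT : T ≠ 0 := by
    intro hT0
    apply hx1
    apply φ.injective
    rw [← eu, map_one]
    have : ee u' x hu' hx = 1 := by
      rw [ee_congr hu' hx hu' (show polarBilin Q u' (0 + S • u') = 0 by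
        rw [zero_add, map_smul, quad_polar_self, hu']; simp) rfl (by rw [hxe, hT0, zero_smul])]
      have := eich_shift (Q := Q) (u := u') (x := 0) hu' (map_zero _) S (by
        rw [zero_add, map_smul, quad_polar_self, hu']; simp)
      exact (Subtype.ext this : _ = ee u' 0 hu' (map_zero _)).trans (ee_zero hu' _)
    rw [this, map_one]
  have hB' : polarBilin Q u' (T • v') = 0 := by rw [map_smul, huv', smul_zero]
  have heq : ee u' x hu' hx = ee u' (T • v') hu' hB' := by
    rw [ee_congr hu' hx hu' (show polarBilin Q u' (T • v' + S • u') = 0 by rw [← hxe]; exact hx) rfl hxe]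
    exact Subtype.ext (eich_shift hu' hB' S (by rw [← hxe]; exact hx))
  rw [heq] at hyw
  obtain ⟨a, b, hab⟩ := on_line h hu' (by rw [quad_smul, hv', mul_zero]) hB'
    (fun r hr' => hn1' (T⁻¹ * r) (by rw [mul_smul, hr', smul_smul, inv_mul_cancel₀ hT, one_smul]))
    (fun r hr' => hn2' (r * T) (by rw [mul_smul]; exact hr')) hw0' hw' hyw
  refine ⟨a, b * T, ?_⟩
  rw [hab]; module

end Cfsg.Agent.Lib.Classical.AutPOmega
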