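import Cfsg.Agent.Lib.Classical.Eichler

/-!
Automorphisms of `PΩ`, part 1: rigidity of the cone of singular vectors of a quadratic space with
two hyperbolic pairs.
-/

set_option autoImplicit false

namespace Cfsg.Agent.Lib.Classical.AutPOmega

open QuadraticMap (polarBilin)
open Cfsg.Agent.Lib.Geometry (quadIsometries mem_quadIsometries quad_add quad_smul quad_polar_self
  quad_polar_comm)

attribute [-simp] QuadraticMap.polarBilin_apply_apply

variable {F V : Type*} [Field F] [AddCommGroup V] [Module F V] {Q : QuadraticForm F V}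
  {U : Submodule F V} {e f e₂ f₂ : V}

/-- A non-zero singular vector of `U`. -/
def SingIn (Q : QuadraticForm F V) (U : Submodule F V) (w : V) : Prop :=
  w ∈ U ∧ w ≠ 0 ∧ Q w = 0

theorem eichGroup_mapsTo {g : quadIsometries Q} (hg : g ∈ eichGroup Q U) {y : V} (hy : y ∈ U) :
    g.1 y ∈ U ∧ g.1.symm y ∈ U := by
  unfold eichGroup at hg
  induction hg using Subgroup.closure_induction generalizing y with
  | mem g h =>
    obtain ⟨u, x, hu, hx, huU, hxU, rfl⟩ := h
    constructor
    · rw [eich_apply]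
      exact U.sub_mem (U.add_mem hy (U.smul_mem _ hxU)) (U.smul_mem _ huU)
    · show (eich Q u (-x) hu (by rw [map_neg, hx, neg_zero])).1 y ∈ U
      rw [eich_apply]
      exact U.sub_mem (U.add_mem hy (U.smul_mem _ (U.neg_mem hxU))) (U.smul_mem _ huU)
  | one => exact ⟨hy, hy⟩
  | mul a b _ _ iha ihb => exact ⟨(iha (ihb hy).1).1, (ihb (iha hy).2).2⟩
  | inv a _ iha =>
    refine ⟨(iha hy).2, ?_⟩
    show a.1.symm.symm y ∈ U
    rw [LinearEquiv.symm_symm]
    exact (iha hy).1

theorem pair_ne_zero {u v : V} (h : polarBilin Q u v = 1) : u ≠ 0 := by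
  rintro rfl; simp at h

theorem pair_sing (h : HypTwo Q U e f e₂ f₂) : SingIn Q U e ∧ SingIn Q U f :=
  ⟨⟨h.he, pair_ne_zero h.ef, h.qe⟩,
   ⟨h.hf, pair_ne_zero (show polarBilin Q f e = 1 by rw [quad_polar_comm, h.ef]), h.qf⟩⟩

/-- Every vector is a combination of two singular vectors. -/
theorem exists_sing_decomp (h : HypTwo Q U e f e₂ f₂) {y : V} (hy : y ∈ U) :
    y = 0 ∨ ∃ (a b : V) (t : F), SingIn Q U a ∧ SingIn Q U b ∧ y = a + t • b := by
  by_cases hy0 : y = 0
  · exact Or.inl hy0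
  obtain ⟨g, hg, hgy⟩ := exists_eich_apply h hy hy0
  have key : ∀ {w : V}, SingIn Q U w → SingIn Q U (g.1.symm w) := fun {w} hw =>
    ⟨(eichGroup_mapsTo hg hw.1).2, by simp [hw.2.1], by
      rw [← mem_quadIsometries.mp g.2, g.1.apply_symm_apply, hw.2.2]⟩
  refine Or.inr ⟨g.1.symm e, g.1.symm f, Q y, key (pair_sing h).1, key (pair_sing h).2, ?_⟩
  rw [← map_smul, ← map_add, ← hgy, g.1.symm_apply_apply]

theorem sing_induction (h : HypTwo Q U e f e₂ f₂) {P : V → Prop} (h0 : P 0)
    (hadd : ∀ a b, P a → P b → P (a + b)) (hsmul : ∀ (t : F) a, P a → P (t • a))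
    (hs : ∀ w, SingIn Q U w → P w) {y : V} (hy : y ∈ U) : P y := by
  rcases exists_sing_decomp h hy with rfl | ⟨a, b, t, ha, hb, rfl⟩
  · exact h0
  · exact hadd _ _ (hs a ha) (hsmul t b (hs b hb))

/-- Orthogonal independent singular vectors are enough to connect all singular vectors. -/
theorem sing_connected (h : HypTwo Q U e f e₂ f₂) (R : V → V → Prop)
    (htrans : ∀ a b c, R a b → R b c → R a c)
    (horth : ∀ a b, SingIn Q U a → SingIn Q U b → polarBilin Q a b = 0 → (∀ t : F, t • a ≠ b) →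
      (∀ t : F, t • b ≠ a) → R a b)
    {w w' : V} (hw : SingIn Q U w) (hw' : SingIn Q U w') : R w w' := by
  have he := (pair_sing h).1
  have he2 := (pair_sing h.swapPairs).1
  have hee : polarBilin Q e e = 0 := by rw [quad_polar_self, h.qe, mul_zero]
  suffices H : ∀ {w}, SingIn Q U w → R w e ∧ R e w from htrans _ _ _ (H hw).1 (H hw').2
  intro w hw
  have hindep : ∀ t : F, t • e ≠ e₂ ∧ t • e₂ ≠ e := fun t => ⟨fun h' => by
      have := congrArg (fun z => polarBilin Q z f₂) h'
      simp [h.ef', h.ef₂] at this,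
    fun h' => by
      have := congrArg (fun z => polarBilin Q z f) h'
      simp [h.ef, quad_polar_comm Q e₂ f, h.fe₂] at this⟩
  have R2 : R e₂ e ∧ R e e₂ :=
    ⟨horth _ _ he2 he (by rw [quad_polar_comm, h.ee₂]) (fun t => (hindep t).2) (fun t => (hindep t).1),
     horth _ _ he he2 h.ee₂ (fun t => (hindep t).1) (fun t => (hindep t).2)⟩
  by_cases hb : polarBilin Q e w = 0
  · by_cases hpar : ∃ t : F, t • e = w
    · obtain ⟨t, rfl⟩ := hpar
      have ht : t ≠ 0 := fun ht => hw.2.1 (by simp [ht])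
      have i1 : ∀ s : F, s • e₂ ≠ t • e := fun s h' => by
        apply (hindep (t⁻¹ * s)).2
        rw [mul_smul, h', smul_smul, inv_mul_cancel₀ ht, one_smul]
      have i2 : ∀ s : F, s • t • e ≠ e₂ := fun s h' => (hindep (s * t)).1 (by rw [mul_smul]; exact h')
      have hB : polarBilin Q (t • e) e₂ = 0 := by
        rw [map_smul, LinearMap.smul_apply, h.ee₂, smul_zero]
      exact ⟨htrans _ _ _ (horth _ _ hw he2 hB i2 i1) R2.1,
        htrans _ _ _ R2.2 (horth _ _ he2 hw (by rw [quad_polar_comm, hB]) i1 i2)⟩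
    · push Not at hpar
      have i2 : ∀ t : F, t • w ≠ e := fun t h' => by
        have ht : t ≠ 0 := fun ht => he.2.1 (by rw [← h', ht, zero_smul])
        exact hpar t⁻¹ (by rw [← h', smul_smul, inv_mul_cancel₀ ht, one_smul])
      exact ⟨horth _ _ hw he (by rw [quad_polar_comm, hb]) i2 hpar, horth _ _ he hw hb hpar i2⟩
  · -- a singular vector orthogonal to both
    set u := e₂ + (-(polarBilin Q w e₂) / polarBilin Q e w) • e with hu
    have hBwu : polarBilin Q w u = 0 := by
      rw [hu, map_add, map_smul, smul_eq_mul, quad_polar_comm Q w e, div_mul_cancel₀ _ hb,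
        add_neg_cancel]
    have hBeu : polarBilin Q e u = 0 := by
      rw [hu, map_add, map_smul, hee, smul_zero, h.ee₂, add_zero]
    have hu0 : ∀ t : F, t • e ≠ u := fun t h' =>
      (hindep (t - (-(polarBilin Q w e₂) / polarBilin Q e w))).1 (by rw [sub_smul, h', hu]; abel)
    have husing : SingIn Q U u := ⟨U.add_mem h.he₂ (U.smul_mem _ h.he),
      fun h' => hu0 0 (by rw [zero_smul, h']), by
      rw [hu, quad_add, quad_smul, h.qe, h.qe₂, map_smul, quad_polar_comm Q e₂ e, h.ee₂]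
      simp⟩
    have i1 : ∀ t : F, t • u ≠ w := fun t h' => hb (by rw [← h', map_smul, hBeu, smul_zero])
    have i2 : ∀ t : F, t • w ≠ u := fun t h' => by
      have ht : t ≠ 0 := fun ht => husing.2.1 (by rw [← h', ht, zero_smul])
      exact i1 t⁻¹ (by rw [← h', smul_smul, inv_mul_cancel₀ ht, one_smul])
    have i3 : ∀ t : F, t • u ≠ e := fun t h' => by
      have ht : t ≠ 0 := fun ht => he.2.1 (by rw [← h', ht, zero_smul])
      exact hu0 t⁻¹ (by rw [← h', smul_smul, inv_mul_cancel₀ ht, one_smul])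
    exact ⟨htrans _ _ _ (horth _ _ hw husing hBwu i2 i1)
        (horth _ _ husing he (by rw [quad_polar_comm, hBeu]) i3 hu0),
      htrans _ _ _ (horth _ _ he husing hBeu hu0 i3)
        (horth _ _ husing hw (by rw [quad_polar_comm, hBwu]) i1 i2)⟩

/-- A linear map preserving every singular line is a scalar. -/
theorem scalar_of_sing_lines (h : HypTwo Q U e f e₂ f₂) {M : Type*} [AddCommGroup M] [Module F M]
    (ι g : V →ₗ[F] M) (hι : ∀ w ∈ U, ι w = 0 → w = 0)
    (hg : ∀ w, SingIn Q U w → ∃ c : F, g w = c • ι w) : ∃ c : F, ∀ y ∈ U, g y = c • ι y := by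
  classical
  obtain ⟨c, hc⟩ := hg e (pair_sing h).1
  refine ⟨c, fun y hy => ?_⟩
  refine sing_induction h (P := fun y => g y = c • ι y) (by simp)
    (fun a b ha hb => by simp only [map_add, ha, hb, smul_add])
    (fun t a ha => by simp only [map_smul, ha, smul_comm t c]) (fun w hw => ?_) hy
  refine sing_connected h (fun a b => ∀ c : F, g a = c • ι a → g b = c • ι b)
    (fun _ _ _ h1 h2 c hc => h2 c (h1 c hc)) ?_ (pair_sing h).1 hw c hc
  intro a b ha hb hab hna hnb c hca
  obtain ⟨d, hd⟩ := hg b hb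
  have hs : SingIn Q U (a + b) := ⟨U.add_mem ha.1 hb.1,
    fun h' => hna (-1) (by rw [neg_one_smul]; exact (eq_neg_of_add_eq_zero_right h').symm),
    by rw [quad_add, ha.2.2, hb.2.2, hab]; simp⟩
  obtain ⟨k, hk⟩ := hg _ hs
  have h0 : ι ((c - k) • a + (d - k) • b) = 0 := by
    simp only [map_add, hca, hd] at hk
    simp only [map_add, map_smul]
    linear_combination (norm := module) hk
  have h1 := hι _ (U.add_mem (U.smul_mem _ ha.1) (U.smul_mem _ hb.1)) h0
  rcases eq_or_ne (d - k) 0 with hdk | hdk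
  · rw [hdk, zero_smul, add_zero, smul_eq_zero] at h1
    rw [hd, sub_eq_zero.mp hdk, sub_eq_zero.mp (h1.resolve_right ha.2.1)]
  · exfalso
    apply hna (-(c - k) / (d - k))
    have : (d - k) • b = (-(c - k)) • a := by
      rw [neg_smul]; exact eq_neg_of_add_eq_zero_right h1
    rw [div_eq_inv_mul, mul_smul, ← this, smul_smul, inv_mul_cancel₀ hdk, one_smul]

/-- An additive map carrying singular lines into singular lines is semilinear. -/
theorem semilinear_of_sing_lines [Finite F] (h : HypTwo Q U e f e₂ f₂) (χ : U →+ V)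
    (hinj : Function.Injective χ)
    (hline : ∀ (w : U), Q w = 0 → ∀ t : F, ∃ s : F, χ (t • w) = s • χ w) :
    ∃ σ : F ≃+* F, ∀ (t : F) (y : U), χ (t • y) = σ t • χ y := by
  classical
  have hne : ∀ {w : U}, w.1 ≠ 0 → χ w ≠ 0 := fun {w} hw h' =>
    hw (congrArg Subtype.val (hinj (h'.trans χ.map_zero.symm)))
  obtain ⟨he, -⟩ := pair_sing h
  choose τ hτ using hline ⟨e, he.1⟩ he.2.2
  have key : ∀ (w : V) (hw : SingIn Q U w) (t : F), χ (t • ⟨w, hw.1⟩) = τ t • χ ⟨w, hw.1⟩ := by
    intro w hw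
    refine (sing_connected h (fun a b => ∀ (ha : a ∈ U) (s : F → F),
      (∀ t, χ (t • ⟨a, ha⟩) = s t • χ ⟨a, ha⟩) → ∃ hb : b ∈ U,
      ∀ t, χ (t • ⟨b, hb⟩) = s t • χ ⟨b, hb⟩) ?_ ?_ he hw he.1 τ hτ).2
    · intro a b c h1 h2 ha s hs
      obtain ⟨hb, hb'⟩ := h1 ha s hs
      exact h2 hb s hb'
    intro a b ha hb hab hna hnb haU s hs
    refine ⟨hb.1, fun t => ?_⟩
    have hq : Q (a + b) = 0 := by rw [quad_add, ha.2.2, hb.2.2, hab]; simp
    obtain ⟨d, hd⟩ := hline ⟨b, hb.1⟩ hb.2.2 t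
    obtain ⟨k, hk⟩ := hline (⟨a, haU⟩ + ⟨b, hb.1⟩) hq t
    rw [smul_add, map_add, map_add, hs, hd] at hk
    rcases eq_or_ne t 0 with rfl | ht
    · have h0 := hs 0
      rw [zero_smul, map_zero, eq_comm, smul_eq_zero] at h0
      rw [zero_smul, map_zero, h0.resolve_right (hne ha.2.1), zero_smul]
    have hlin : (s t - k) • χ ⟨a, haU⟩ + (d - k) • χ ⟨b, hb.1⟩ = 0 := by
      linear_combination (norm := module) hk
    rcases eq_or_ne (d - k) 0 with hdk | hdk
    · rw [hdk, zero_smul, add_zero, smul_eq_zero] at hlin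
      rw [hd, sub_eq_zero.mp hdk, sub_eq_zero.mp (hlin.resolve_right (hne ha.2.1))]
    · -- `b` would lie on the line of `a`
      exfalso
      obtain ⟨r, hr⟩ : ∃ r : F, χ ⟨b, hb.1⟩ = r • χ ⟨a, haU⟩ := ⟨-(s t - k) / (d - k), by
        have : (d - k) • χ ⟨b, hb.1⟩ = (-(s t - k)) • χ ⟨a, haU⟩ := by
          rw [neg_smul]; exact eq_neg_of_add_eq_zero_right hlin
        rw [div_eq_inv_mul, mul_smul, ← this, smul_smul, inv_mul_cancel₀ hdk, one_smul]⟩
      -- the line of `a` maps onto the line of its image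
      have hsi : Function.Injective s := fun x y hxy => by
        have := hinj ((hs x).trans ((congrArg (fun z => z • χ ⟨a, haU⟩) hxy).trans (hs y).symm))
        have := congrArg Subtype.val this
        simp only [SetLike.val_smul] at this
        exact smul_left_injective F ha.2.1 this
      obtain ⟨r', rfl⟩ := (Finite.injective_iff_surjective.mp hsi) r
      have := congrArg Subtype.val (hinj (hr.trans (hs r').symm))
      exact hna r' this.symm
  have hval : χ ⟨e, he.1⟩ ≠ 0 := hne (w := ⟨e, he.1⟩) he.2.1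
  have hadd : ∀ a b, τ (a + b) = τ a + τ b := fun a b => smul_left_injective F hval <| by
    show τ (a + b) • _ = (τ a + τ b) • _
    rw [← hτ, add_smul, map_add, hτ, hτ, add_smul]
  have hone : τ 1 = 1 := smul_left_injective F hval <| by
    show τ 1 • _ = (1 : F) • _
    rw [← hτ, one_smul, one_smul]
  have hτ0 : τ 0 = 0 := by simpa using hadd 0 0
  have hmul : ∀ a b, τ (a * b) = τ a * τ b := fun a b => by
    rcases eq_or_ne b 0 with rfl | hb
    · simp [hτ0]
    refine smul_left_injective F hval ?_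
    show τ (a * b) • _ = (τ a * τ b) • _
    have hs : SingIn Q U (b • e) :=
      ⟨U.smul_mem _ he.1, smul_ne_zero hb he.2.1, by rw [quad_smul, he.2.2, mul_zero]⟩
    rw [← hτ, mul_smul a b, mul_smul (τ a) (τ b), ← hτ b]
    exact key _ hs a
  let σ0 : F →+* F :=
    { toFun := τ, map_one' := hone, map_mul' := hmul, map_zero' := hτ0, map_add' := hadd }
  refine ⟨RingEquiv.ofBijective σ0 ⟨σ0.injective, Finite.injective_iff_surjective.mp σ0.injective⟩,
    fun t y => ?_⟩
  show χ (t • y) = τ t • χ y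
  have := sing_induction h
    (P := fun z => ∃ (hz : z ∈ U), ∀ t : F, χ (t • ⟨z, hz⟩) = τ t • χ ⟨z, hz⟩) ?_ ?_ ?_ ?_ y.2
  · obtain ⟨_, h'⟩ := this
    exact h' t
  · exact ⟨U.zero_mem, fun t => by
      rw [show (⟨0, U.zero_mem⟩ : U) = 0 from rfl, smul_zero, map_zero, smul_zero]⟩
  · rintro a b ⟨haU, ha⟩ ⟨hbU, hb⟩
    refine ⟨U.add_mem haU hbU, fun t => ?_⟩
    rw [show (⟨a + b, U.add_mem haU hbU⟩ : U) = ⟨a, haU⟩ + ⟨b, hbU⟩ from rfl, smul_add, map_add,
      map_add, ha, hb, smul_add]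
  · rintro r a ⟨haU, ha⟩
    refine ⟨U.smul_mem r haU, fun t => ?_⟩
    rw [show (⟨r • a, U.smul_mem r haU⟩ : U) = r • ⟨a, haU⟩ from rfl, smul_smul, ha, ha, smul_smul,
      hmul]
  · intro w hw
    exact ⟨hw.1, fun t => key w hw t⟩

/-- Two quadratic forms with the same singular vectors are proportional. -/
theorem proportional_of_same_zeros (h : HypTwo Q U e f e₂ f₂) (Q' : QuadraticForm F U)
    (hz : ∀ y : U, Q' y = 0 ↔ Q y = 0) : ∃ c : F, c ≠ 0 ∧ ∀ y : U, Q' y = c * Q y := by
  have hQ : ∀ y z : U, Q' (y + z) = Q' y + Q' z + polarBilin Q' y z := fun y z => quad_add Q' y z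
  -- the polar form at a singular vector
  have key : ∀ u v : U, Q u = 0 → polarBilin Q (u : V) v = 1 → Q v = 0 →
      (∀ y : U, polarBilin Q' u y = polarBilin Q' u v * polarBilin Q (u : V) y) ∧
      (∀ y : U, polarBilin Q (u : V) y ≠ 0 → Q' y = polarBilin Q' u v * Q y) := by
    intro u v hu huv hv
    have hu' : Q' u = 0 := (hz u).2 hu
    have hlin : ∀ y : U, polarBilin Q (u : V) y = 0 → polarBilin Q' u y = 0 := by
      intro y hy
      by_contra hne
      have hsing : ∀ a : F, Q' (y + a • u) = Q' y + a * polarBilin Q' u y := fun a => by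
        rw [hQ, quad_smul, hu', map_smul, quad_polar_comm Q' y u, smul_eq_mul]; ring
      have hq : ∀ a : F, Q ((y + a • u : U) : V) = Q y := fun a => by
        rw [Submodule.coe_add, Submodule.coe_smul, quad_add, quad_smul, hu, map_smul,
          quad_polar_comm Q (y : V) u, hy]
        simp
      by_cases hy0 : Q y = 0
      · have h1 := (hz (y + (1 : F) • u)).2 ((hq 1).trans hy0)
        rw [hsing, (hz y).2 hy0, one_mul, zero_add] at h1
        exact hne h1
      · have h1 : Q' (y + (-(Q' y) / polarBilin Q' u y) • u) = 0 := by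
          rw [hsing, div_mul_cancel₀ _ hne]; ring
        exact hy0 ((hq _).symm.trans ((hz _).1 h1))
    have hform : ∀ y : U, polarBilin Q' u y = polarBilin Q' u v * polarBilin Q (u : V) y := by
      intro y
      have h1 := hlin (y - polarBilin Q (u : V) y • v) (by
        rw [Submodule.coe_sub, Submodule.coe_smul, map_sub, map_smul, huv, smul_eq_mul, mul_one,
          sub_self])
      rw [map_sub, map_smul, smul_eq_mul, sub_eq_zero] at h1
      rw [h1]; ring
    refine ⟨hform, fun y hy => ?_⟩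
    set a := -(Q y) / polarBilin Q (u : V) y
    have h1 : Q' (y + a • u) = 0 := (hz _).2 (by
      rw [Submodule.coe_add, Submodule.coe_smul, quad_add, quad_smul, hu, map_smul,
        quad_polar_comm Q (y : V) u, smul_eq_mul, div_mul_cancel₀ _ hy]
      ring)
    rw [hQ, quad_smul, hu', map_smul, quad_polar_comm Q' y u, hform, smul_eq_mul] at h1
    have ha : a * polarBilin Q (u : V) y = -(Q y) := div_mul_cancel₀ _ hy
    linear_combination h1 - polarBilin Q' u v * ha
  obtain ⟨k1, k2⟩ := key ⟨e, h.he⟩ ⟨f, h.hf⟩ h.qe h.ef h.qf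
  obtain ⟨k3, -⟩ := key ⟨f, h.hf⟩ ⟨e, h.he⟩ h.qf (by rw [quad_polar_comm]; exact h.ef) h.qe
  set c := polarBilin Q' (⟨e, h.he⟩ : U) ⟨f, h.hf⟩
  refine ⟨c, fun hc => ?_, fun y => ?_⟩
  · have h1 := (hz (⟨e, h.he⟩ + ⟨f, h.hf⟩)).1 (by
      rw [hQ, (hz ⟨e, h.he⟩).2 h.qe, (hz ⟨f, h.hf⟩).2 h.qf]
      show 0 + 0 + c = 0
      rw [hc]; ring)
    rw [Submodule.coe_add, quad_add, h.qe, h.qf, h.ef] at h1
    simp at h1
  by_cases hy : polarBilin Q e (y : V) = 0
  swap
  · exact k2 y hy
  have h1 := k2 (y + ⟨f, h.hf⟩) (by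
    show polarBilin Q e ((y : V) + f) ≠ 0
    rw [map_add, hy, h.ef, zero_add]; exact one_ne_zero)
  have h2 := k3 y
  rw [quad_polar_comm Q' ⟨f, h.hf⟩ y, quad_polar_comm Q' ⟨f, h.hf⟩ ⟨e, h.he⟩] at h2
  rw [hQ, (hz ⟨f, h.hf⟩).2 h.qf, h2, Submodule.coe_add, quad_add, h.qf] at h1
  rw [quad_polar_comm Q (y : V) f] at h1
  simp only [c] at *
  linear_combination h1

end Cfsg.Agent.Lib.Classical.AutPOmega
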