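import Cfsg.Agent.Lib.Classical.AutPOmega.Concrete
import Cfsg.Agent.Lib.Classical.AutPSp.FieldClass
import Cfsg.Agent.Lib.Classical.AutPSU.Count

/-!
Automorphisms of `PΩ`, part 9: the group of automorphisms induced by semisimilarities.
-/

set_option autoImplicit false

namespace Cfsg.Agent.Lib.Classical.AutPOmega

open QuadraticMap (polarBilin)
open Cfsg.Agent.Lib.Geometry (quadIsometries mem_quadIsometries quad_add quad_smul quad_polar_self
  quad_polar_comm)
open Matrix

attribute [-simp] QuadraticMap.polarBilin_apply_apply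

variable {F : Type*} [Field F] {ι : Type} [Fintype ι] [DecidableEq ι]

/-- The standing hypotheses. -/
structure Model0 (R : QuadraticForm F (ι → F)) : Prop where
  hyp : ∃ e f e₂ f₂ e₃ f₃ : ι → F, HypThree R e f e₂ f₂ e₃ f₃
  dim : Module.finrank F (ι → F) ≠ 4

/-- The standing hypotheses, triality excluded. -/
structure Model (R : QuadraticForm F (ι → F)) : Prop extends Model0 R where
  tri : NoTriality R

instance {R : QuadraticForm F (ι → F)} : Coe (Model R) (Model0 R) := ⟨Model.toModel0⟩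

theorem Model0.nondeg {R : QuadraticForm F (ι → F)} (hM : Model0 R) : (polarBilin R).Nondegenerate := by
  obtain ⟨e, f, e₂, f₂, e₃, f₃, h⟩ := hM.hyp
  refine ⟨fun z hz => ?_, fun z hz => ?_⟩ <;> by_contra hz0 <;>
    obtain ⟨y, -, hy⟩ := h.two.sep z trivial hz0
  · exact hy (hz y)
  · exact hy (by rw [quad_polar_comm]; exact hz y)

/-- A form pulled back from a hyperbolic extension. -/
theorem model0_of_hyper [Fintype F] {W : Type*} [AddCommGroup W] [Module F W] [FiniteDimensional F W]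
    (Q₀ : QuadraticForm F W) (h₀ : (polarBilin Q₀).Nondegenerate) {m : ℕ} (hm : 3 ≤ m)
    (ε : (ι → F) ≃ₗ[F] ((Fin m → F) × (Fin m → F) × W)) :
    Model0 ((hyperForm m Q₀).comp ε.toLinearMap) := by
  haveI : Finite W := Module.finite_of_finite F
  have hR := hyperForm_nondegenerate m Q₀ h₀
  obtain ⟨e, f, e₂, f₂, e₃, f₃, h⟩ := hypThree_hyperForm m hm Q₀ hR
  have hB : ∀ x y, polarBilin ((hyperForm m Q₀).comp ε.toLinearMap) x y = polarBilin (hyperForm m Q₀) (ε x) (ε y) := by
    intro x y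
    simp [QuadraticMap.polarBilin_apply_apply, QuadraticMap.polar, QuadraticMap.comp_apply]
  have key : ∀ {a b c d : (Fin m → F) × (Fin m → F) × W}, HypTwo (hyperForm m Q₀) ⊤ a b c d →
      HypTwo ((hyperForm m Q₀).comp ε.toLinearMap) ⊤ (ε.symm a) (ε.symm b) (ε.symm c) (ε.symm d) := by
    intro a b c d ht
    refine ⟨trivial, trivial, trivial, trivial, by simpa using ht.qe, by simpa using ht.qf,
      by simpa using ht.qe₂, by simpa using ht.qf₂, by simpa [hB] using ht.ef, by simpa [hB] using ht.ef₂,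
      by simpa [hB] using ht.ee₂, by simpa [hB] using ht.ef', by simpa [hB] using ht.fe₂,
      by simpa [hB] using ht.ff₂, fun z _ hz => ?_⟩
    obtain ⟨y, -, hy⟩ := ht.sep (ε z) trivial (fun h0 => hz (by simpa using h0))
    exact ⟨ε.symm y, trivial, by simpa [hB] using hy⟩
  refine ⟨⟨_, _, _, _, _, _, key h.two, key h.two', key h.two''⟩, ?_⟩
  rw [ε.finrank_eq, finrank_hyper]; omega

/-- A form pulled back from a hyperbolic extension without triality. -/
theorem model_of_hyper [Fintype F] {W : Type*} [AddCommGroup W] [Module F W] [FiniteDimensional F W]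
    (Q₀ : QuadraticForm F W) (h₀ : (polarBilin Q₀).Nondegenerate) {m : ℕ} (hm : 3 ≤ m)
    (hN : NoTriality (hyperForm m Q₀)) (ε : (ι → F) ≃ₗ[F] ((Fin m → F) × (Fin m → F) × W)) :
    Model ((hyperForm m Q₀).comp ε.toLinearMap) := by
  refine ⟨model0_of_hyper Q₀ h₀ hm ε, fun S hS h2 => ?_⟩
  have := hN (S.map ε.toLinearMap) (by rintro _ ⟨s, hs, rfl⟩; exact hS s hs)
    (by rw [LinearEquiv.finrank_map_eq, h2, ε.finrank_eq])
  rwa [ε.finrank_eq]

section SemiAut

variable (R : QuadraticForm F (ι → F))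

theorem semi_vec (σ : F ≃+* F) (A : Matrix ι ι F) (v : ι → F) :
    A.map σ *ᵥ (fun i => σ (v i)) = fun i => σ ((A *ᵥ v) i) := by
  funext i
  simp [Matrix.mulVec, dotProduct, map_sum]

/-- Conjugation by a semilinear map. -/
def semGL (g : GL ι F) (σ : F ≃+* F) : GL ι F ≃* GL ι F :=
  (Units.mapEquiv σ.mapMatrix.toMulEquiv).trans (MulAut.conj g)

theorem semGL_coe (g : GL ι F) (σ : F ≃+* F) (x : GL ι F) :
    ((semGL g σ x : GL ι F) : Matrix ι ι F) = (g : Matrix ι ι F) * (x : Matrix ι ι F).map σ * ((g⁻¹ : GL ι F) : Matrix ι ι F) :=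
  rfl

theorem semGL_mulVec (g : GL ι F) (σ : F ≃+* F) (x : GL ι F) (v : ι → F) :
    ((semGL g σ x : GL ι F) : Matrix ι ι F) *ᵥ ((g : Matrix ι ι F) *ᵥ fun i => σ (v i)) =
      (g : Matrix ι ι F) *ᵥ fun i => σ (((x : Matrix ι ι F) *ᵥ v) i) := by
  rw [semGL_coe, Matrix.mulVec_mulVec, Matrix.mul_assoc, ← Units.val_mul, inv_mul_cancel, Units.val_one,
    Matrix.mul_one, ← Matrix.mulVec_mulVec, semi_vec]

variable {R} {g : GL ι F} {σ : F ≃+* F}

theorem semi_surjective (g : GL ι F) (σ : F ≃+* F) (w : ι → F) :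
    ∃ v : ι → F, ((g : Matrix ι ι F) *ᵥ fun i => σ (v i)) = w :=
  ⟨fun i => σ.symm ((((g⁻¹ : GL ι F) : Matrix ι ι F) *ᵥ w) i), by
    simp only [RingEquiv.apply_symm_apply]
    rw [Matrix.mulVec_mulVec, ← Units.val_mul, mul_inv_cancel, Units.val_one, Matrix.one_mulVec]⟩

theorem semGL_mem_iff (hp : Cfsg.IsSemisimilarityPair (⇑R) g σ) (x : GL ι F) :
    semGL g σ x ∈ Cfsg.isometryGroup F ⇑R ↔ x ∈ Cfsg.isometryGroup F ⇑R := by
  obtain ⟨c, hc⟩ := hp
  constructor
  · intro h v _
    have h1 := h ((g : Matrix ι ι F) *ᵥ fun i => σ (v i)) 0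
    change R (((semGL g σ x : GL ι F) : Matrix ι ι F) *ᵥ _) = R _ at h1
    rw [semGL_mulVec, hc, hc] at h1
    exact σ.injective (mul_left_cancel₀ c.ne_zero h1)
  · intro h w _
    obtain ⟨v, rfl⟩ := semi_surjective g σ w
    show R (((semGL g σ x : GL ι F) : Matrix ι ι F) *ᵥ _) = R _
    rw [semGL_mulVec, hc, hc]
    exact congrArg _ (congrArg σ (h v 0))

/-- The automorphism of the isometry group induced by a semisimilarity. -/
noncomputable def semIso (g : GL ι F) (σ : F ≃+* F) (hp : Cfsg.IsSemisimilarityPair (⇑R) g σ) :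
    Cfsg.isometryGroup F ⇑R ≃* Cfsg.isometryGroup F ⇑R where
  toFun x := ⟨semGL g σ x.1, (semGL_mem_iff hp x.1).2 x.2⟩
  invFun x := ⟨(semGL g σ).symm x.1, (semGL_mem_iff hp _).1 (by rw [MulEquiv.apply_symm_apply]; exact x.2)⟩
  left_inv x := Subtype.ext ((semGL g σ).symm_apply_apply x.1)
  right_inv x := Subtype.ext ((semGL g σ).apply_symm_apply x.1)
  map_mul' x y := Subtype.ext (map_mul (semGL g σ) x.1 y.1)

/-- The automorphism of `Ω` induced by a semisimilarity. -/
noncomputable def semOmega (g : GL ι F) (σ : F ≃+* F) (hp : Cfsg.IsSemisimilarityPair (⇑R) g σ) :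
    MulAut (Cfsg.Omega F ⇑R) :=
  ((semIso g σ hp).subgroupMap _).trans (MulEquiv.subgroupCongr (Geometry.map_commutator_of_equiv (semIso g σ hp)))

/-- The projection to `PΩ`. -/
def pr (R : QuadraticForm F (ι → F)) : Cfsg.Omega F ⇑R →* Cfsg.POmega F ⇑R := QuotientGroup.mk' _

/-- The matrix of an element of `Ω`. -/
def omat (s : Cfsg.Omega F ⇑R) : Matrix ι ι F := ((s.1 : GL ι F) : Matrix ι ι F)

theorem omega_ext {s t : Cfsg.Omega F ⇑R} (h : omat s = omat t) : s = t :=
  Subtype.ext (Subtype.ext (Units.ext h))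

theorem omat_semOmega (g : GL ι F) (σ : F ≃+* F) (hp : Cfsg.IsSemisimilarityPair (⇑R) g σ)
    (s : Cfsg.Omega F ⇑R) :
    omat (semOmega g σ hp s) = (g : Matrix ι ι F) * (omat s).map σ * ((g⁻¹ : GL ι F) : Matrix ι ι F) :=
  rfl

/-- The automorphism of `PΩ` induced by a semisimilarity. -/
noncomputable def semAut (g : GL ι F) (σ : F ≃+* F) (hp : Cfsg.IsSemisimilarityPair (⇑R) g σ) :
    MulAut (Cfsg.POmega F ⇑R) :=
  AutPSp.pAut (semOmega g σ hp)

theorem semAut_pr (g : GL ι F) (σ : F ≃+* F) (hp : Cfsg.IsSemisimilarityPair (⇑R) g σ)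
    (s : Cfsg.Omega F ⇑R) : semAut g σ hp (pr R s) = pr R (semOmega g σ hp s) := rfl

theorem isInduced_semAut (g : GL ι F) (σ : F ≃+* F) (hp : Cfsg.IsSemisimilarityPair (⇑R) g σ) :
    Cfsg.IsInducedBySemilinearPOmega (⇑R) g σ (semAut g σ hp) := fun s s' h => by
  show pr R (semOmega g σ hp s) = pr R s'
  exact congrArg (pr R) (omega_ext h.symm)

theorem eq_semAut {β : MulAut (Cfsg.POmega F ⇑R)} (hp : Cfsg.IsSemisimilarityPair (⇑R) g σ)
    (h : Cfsg.IsInducedBySemilinearPOmega (⇑R) g σ β) : β = semAut g σ hp := by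
  refine MulEquiv.ext fun x => ?_
  obtain ⟨s, rfl⟩ := QuotientGroup.mk'_surjective _ x
  exact h s (semOmega g σ hp s) rfl

theorem semi_comp (g h : GL ι F) (σ τ : F ≃+* F) (v : ι → F) :
    ((g * Units.map (RingHom.toMonoidHom σ.toRingHom.mapMatrix) h : GL ι F) : Matrix ι ι F) *ᵥ
        (fun i => (σ * τ) (v i)) =
      (g : Matrix ι ι F) *ᵥ fun i => σ ((((h : Matrix ι ι F) *ᵥ fun j => τ (v j))) i) := by
  rw [Units.val_mul, ← Matrix.mulVec_mulVec, ← semi_vec]
  rfl

theorem pair_mul {h : GL ι F} {τ : F ≃+* F} (hp : Cfsg.IsSemisimilarityPair (⇑R) g σ)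
    (hq : Cfsg.IsSemisimilarityPair (⇑R) h τ) :
    Cfsg.IsSemisimilarityPair (⇑R) (g * Units.map (RingHom.toMonoidHom σ.toRingHom.mapMatrix) h) (σ * τ) := by
  obtain ⟨c, hc⟩ := hp
  obtain ⟨d, hd⟩ := hq
  refine ⟨c * Units.map (σ : F →* F) d, fun v => ?_⟩
  rw [semi_comp, hc, hd, map_mul, Units.val_mul, mul_assoc]
  rfl

theorem semAut_mul {h : GL ι F} {τ : F ≃+* F} (hp : Cfsg.IsSemisimilarityPair (⇑R) g σ)
    (hq : Cfsg.IsSemisimilarityPair (⇑R) h τ) :
    semAut g σ hp * semAut h τ hq = semAut _ _ (pair_mul hp hq) := by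
  refine MulEquiv.ext fun x => ?_
  obtain ⟨s, rfl⟩ := QuotientGroup.mk'_surjective _ x
  show pr R (semOmega g σ hp (semOmega h τ hq s)) = pr R (semOmega _ _ (pair_mul hp hq) s)
  refine congrArg (pr R) (omega_ext ?_)
  rw [omat_semOmega, omat_semOmega, omat_semOmega, _root_.mul_inv_rev, Units.val_mul, Units.val_mul]
  simp only [Matrix.map_mul, Matrix.map_map, ← Matrix.mul_assoc]
  rfl

theorem semAut_congr {h : GL ι F} {τ : F ≃+* F} (hp : Cfsg.IsSemisimilarityPair (⇑R) g σ)
    (hq : Cfsg.IsSemisimilarityPair (⇑R) h τ) (hgh : g = h) (hst : σ = τ) :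
    semAut g σ hp = semAut h τ hq := by
  subst hgh hst; rfl

theorem pair_of_sim {g : GL ι F} (hg : g ∈ Cfsg.Geo.quadSimilarityGroup (F := F) ⇑R) :
    Cfsg.IsSemisimilarityPair (⇑R) g 1 := hg

theorem pair_one_iff {g : GL ι F} :
    Cfsg.IsSemisimilarityPair (⇑R) g 1 ↔ g ∈ Cfsg.Geo.quadSimilarityGroup (F := F) ⇑R := Iff.rfl

/-- The similarities acting on `PΩ`. -/
noncomputable def dia (R : QuadraticForm F (ι → F)) :
    Cfsg.Geo.quadSimilarityGroup (F := F) ⇑R →* MulAut (Cfsg.POmega F ⇑R) :=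
  MonoidHom.mk' (fun g => semAut g.1 1 (pair_of_sim g.2)) fun a b => by
    rw [semAut_mul]
    refine semAut_congr _ _ ?_ (mul_one _).symm
    refine Units.ext ?_
    show _ = (a.1 : Matrix ι ι F) * (b.1 : Matrix ι ι F).map _
    simp

theorem dia_apply (g : Cfsg.Geo.quadSimilarityGroup (F := F) ⇑R) :
    dia R g = semAut g.1 1 (pair_of_sim g.2) := rfl

end SemiAut

variable [Finite F] {R : QuadraticForm F (ι → F)}

theorem pair_semisim (hM : Model R) (β : MulAut (Cfsg.POmega F ⇑R)) :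
    ∃ (g : GL ι F) (σ : F ≃+* F) (hp : Cfsg.IsSemisimilarityPair (⇑R) g σ), β = semAut g σ hp := by
  obtain ⟨e, f, e₂, f₂, e₃, f₃, h⟩ := hM.hyp
  obtain ⟨g, σ, hp, hind⟩ := exists_induced h hM.nondeg hM.tri hM.dim (LinearEquiv.refl F (ι → F)) (⇑R)
    (fun _ => rfl) β
  exact ⟨g, σ, hp, eq_semAut hp hind⟩

theorem gamma_top (hM : Model R) : Cfsg.gammaPOmega F ⇑R = ⊤ := by
  rw [eq_top_iff]
  intro β _
  obtain ⟨g, σ, hp, rfl⟩ := pair_semisim hM β
  exact Subgroup.subset_closure ⟨g, σ, hp, isInduced_semAut g σ hp⟩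

/-- Only scalars act trivially. -/
theorem eq_scalar_of_semAut_eq_one (hM : Model0 R) {g : GL ι F} {σ : F ≃+* F}
    (hp : Cfsg.IsSemisimilarityPair (⇑R) g σ) (h1 : semAut g σ hp = 1) :
    σ = 1 ∧ ∃ u : Fˣ, g = GeneralLinearGroup.scalar ι u := by
  have hpair := hp
  classical
  haveI : Fact (ringChar F).Prime := ⟨CharP.char_is_prime F (ringChar F)⟩
  obtain ⟨e, f, e₂, f₂, e₃, f₃, h⟩ := hM.hyp
  obtain ⟨θ, hθ⟩ := exists_omega_equiv h hM.nondeg hM.dim (LinearEquiv.refl F (ι → F)) ⇑R (fun _ => rfl)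
  obtain ⟨c, hc⟩ := hp
  set L : (ι → F) → ι → F := fun v => (g : Matrix ι ι F) *ᵥ fun i => σ (v i) with hL
  have hLq : ∀ v, R (L v) = c * σ (R v) := hc
  have hLinj : Function.Injective L := fun u v huv => by
    have := congrArg (((g⁻¹ : GL ι F) : Matrix ι ι F) *ᵥ ·) huv
    simp only [L, Matrix.mulVec_mulVec, ← Units.val_mul, inv_mul_cancel, Units.val_one, Matrix.one_mulVec] at this
    funext i; exact σ.injective (congrFun this i)
  have hLadd : ∀ u v, L (u + v) = L u + L v := fun u v => by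
    simp only [L, ← Matrix.mulVec_add]; congr 1; funext i; simp
  have hLsmul : ∀ (t : F) v, L (t • v) = σ t • L v := fun t v => by
    simp only [L, ← Matrix.mulVec_smul]; congr 1; funext i; simp
  have hLB : ∀ x y, polarBilin R (L x) (L y) = c * σ (polarBilin R x y) := fun x y => by
    have e1 := quad_add R (L x) (L y)
    rw [← hLadd, hLq, hLq, hLq, quad_add R x y, map_add, map_add] at e1
    linear_combination -e1
  -- singular vectors are eigenvectors
  have heig : ∀ v, v ≠ 0 → R v = 0 → ∃ t : F, t • v = L v := by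
    intro v hv0 hv
    obtain ⟨x, hxv, hxne⟩ : ∃ x, polarBilin R v x = 0 ∧ ∀ t : F, t • v ≠ x := by
      haveI := singPts_pretransitive h
      have he0 := pair_ne_zero h.two.ef
      obtain ⟨k, -, hk⟩ := exists_eich_map h.two (v := e) (w := v) trivial he0 trivial hv0 (by rw [hv, h.two.qe])
      refine ⟨k.1 e₂, by rw [← hk, iso_polarBilin, h.two.ee₂], fun t ht => ?_⟩
      rw [← hk, ← map_smul] at ht
      have := congrArg (fun z => polarBilin R z f₂) (k.1.injective ht)
      simp [h.two.ef', h.two.ef₂] at this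
    set s := θ (ee v x hv hxv)
    have hL0 : L v ≠ 0 := fun h0 => hv0 (hLinj (h0.trans (by simpa using (hLsmul 0 0).symm)))
    have hLv : R (L v) = 0 := by rw [hLq, hv, map_zero, mul_zero]
    have hLx : polarBilin R (L v) ((c : F)⁻¹ • L x) = 0 := by
      rw [map_smul, hLB, hxv, map_zero, mul_zero, smul_zero]
    have hs : semOmega g σ hpair s = θ (ee (L v) ((c : F)⁻¹ • L x) hLv hLx) := by
      refine omega_ext (Matrix.ext_of_mulVec_single fun j => ?_)
      obtain ⟨y, hy⟩ := semi_surjective g σ (Pi.single j (1 : F))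
      rw [← hy]
      show ((semGL g σ _ : GL ι F) : Matrix ι ι F) *ᵥ _ = _
      rw [semGL_mulVec]
      refine Eq.trans ?_ (hθ _ _).symm
      rw [hθ]
      show L ((ee v x hv hxv).1.1 y) = (ee (L v) ((c : F)⁻¹ • L x) hLv hLx).1.1 (L y)
      have hsub : ∀ a b : ι → F, L (a - b) = L a - L b := fun a b => by
        rw [eq_sub_iff_add_eq, ← hLadd, sub_add_cancel]
      rw [ee_apply, ee_apply, hsub, hLadd, hLsmul, hLsmul, map_smul, hLB, hLB, quad_smul, hLq, map_add,
        map_mul, smul_smul, smul_eq_mul]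
      match_scalars <;> field_simp
    have h2 : pr R s = pr R (θ (ee (L v) ((c : F)⁻¹ • L x) hLv hLx)) := by
      rw [← hs, ← semAut_pr, h1]; rfl
    have h3 : pk R (ee v x hv hxv) = pk R (ee (L v) ((c : F)⁻¹ • L x) hLv hLx) :=
      (centralQuotientCongr θ).injective h2
    have h4 := root_eq_of_pk h (p := ringChar F) (ee_mem_root hv0 hv hxv) (ee_mem_root hL0 hLv hLx) h3
    by_contra hne
    push Not at hne
    have hmem : ee v x hv hxv ∈ rootSub (pt (L v) hL0 hLv) := h4 ▸ ee_mem_root hL0 hLv hLx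
    have hmem' := ee_mem_root hv0 hv hxv
    have hcol : polarBilin R v (L v) = 0 := by
      by_contra hb
      exact ee_ne_one h hv0 hv hxv hxne (inter_of_not_col (by rwa [col_pt]) hmem' hmem)
    have hfix := root_fix (g := ee v x hv hxv) hmem
    rw [ee_apply, quad_polar_comm R (L v) v, hcol, zero_smul, add_zero, mul_zero, add_zero, sub_eq_self,
      smul_eq_zero] at hfix
    -- the image line meets the original one only in the original point
    obtain ⟨y, hy, hE⟩ := mem_root.1 hmem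
    obtain ⟨z, hz1, hz2⟩ := exists_pair_fun h (u := v) (v := L v) (fun t ht => by
      have ht0 : t ≠ 0 := fun t0 => hv0 (by rw [← ht, t0, zero_smul])
      have h' := congrArg (fun z => t⁻¹ • z) ht
      simp only [smul_smul, inv_mul_cancel₀ ht0, one_smul] at h'
      exact hne t⁻¹ h'.symm)
    have h5 := congrArg (fun k : EG R => k.1.1 z) hE
    simp only [ee_apply, hz1, zero_smul, mul_zero, add_zero] at h5
    set a := (polarBilin R z v)⁻¹ * (polarBilin R z x + R x * polarBilin R z v)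
    set b := -(polarBilin R z v)⁻¹ * polarBilin R z y
    have hx' : x = a • v + b • L v := by
      have h6 : polarBilin R z v • x =
          (polarBilin R z x + R x * polarBilin R z v) • v - polarBilin R z y • L v := by
        linear_combination (norm := module) h5
      have := congrArg ((polarBilin R z v)⁻¹ • ·) h6
      simp only [smul_smul, inv_mul_cancel₀ hz2, one_smul, smul_sub] at this
      rw [this]; module
    have hb0 : b ≠ 0 := fun hb => hxne a (by rw [hx', hb, zero_smul, add_zero])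
    -- a singular vector of the long root group contradicts a second choice
    obtain ⟨k, -, hk⟩ := exists_eich_map h.two (v := e) (w := v) trivial (pair_ne_zero h.two.ef) trivial hv0
      (by rw [hv, h.two.qe])
    have hall : ∀ w, polarBilin R v w = 0 → R w ≠ 0 → False := by
      intro w hw hwne
      have hwne' : ∀ t : F, t • v ≠ w := fun t ht => hwne (by rw [← ht, quad_smul, hv, mul_zero])
      have hLw : polarBilin R (L v) ((c : F)⁻¹ • L w) = 0 := by
        rw [map_smul, hLB, hw, map_zero, mul_zero, smul_zero]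
      have hs' : semOmega g σ hpair (θ (ee v w hv hw)) = θ (ee (L v) ((c : F)⁻¹ • L w) hLv hLw) := by
        refine omega_ext (Matrix.ext_of_mulVec_single fun j => ?_)
        obtain ⟨y, hy⟩ := semi_surjective g σ (Pi.single j (1 : F))
        rw [← hy]
        show ((semGL g σ _ : GL ι F) : Matrix ι ι F) *ᵥ _ = _
        rw [semGL_mulVec]
        refine Eq.trans ?_ (hθ _ _).symm
        rw [hθ]
        show L ((ee v w hv hw).1.1 y) = (ee (L v) ((c : F)⁻¹ • L w) hLv hLw).1.1 (L y)
        have hsub : ∀ a b : ι → F, L (a - b) = L a - L b := fun a b => by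
          rw [eq_sub_iff_add_eq, ← hLadd, sub_add_cancel]
        rw [ee_apply, ee_apply, hsub, hLadd, hLsmul, hLsmul, map_smul, hLB, hLB, quad_smul, hLq, map_add,
          map_mul, smul_smul, smul_eq_mul]
        match_scalars <;> field_simp
      have h2' : pr R (θ (ee v w hv hw)) = pr R (θ (ee (L v) ((c : F)⁻¹ • L w) hLv hLw)) := by
        rw [← hs', ← semAut_pr, h1]; rfl
      have h4' := root_eq_of_pk h (p := ringChar F) (ee_mem_root hv0 hv hw) (ee_mem_root hL0 hLv hLw)
        ((centralQuotientCongr θ).injective h2')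
      obtain ⟨y', hy', hE'⟩ := mem_root.1 (h4' ▸ ee_mem_root hL0 hLv hLw :
        ee v w hv hw ∈ rootSub (pt (L v) hL0 hLv))
      have h5' := congrArg (fun k : EG R => k.1.1 z) hE'
      simp only [ee_apply, hz1, zero_smul, mul_zero, add_zero] at h5'
      set a' := (polarBilin R z v)⁻¹ * (polarBilin R z w + R w * polarBilin R z v)
      set b' := -(polarBilin R z v)⁻¹ * polarBilin R z y'
      have hw' : w = a' • v + b' • L v := by
        have h6 : polarBilin R z v • w =
            (polarBilin R z w + R w * polarBilin R z v) • v - polarBilin R z y' • L v := by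
          linear_combination (norm := module) h5'
        have := congrArg ((polarBilin R z v)⁻¹ • ·) h6
        simp only [smul_smul, inv_mul_cancel₀ hz2, one_smul, smul_sub] at this
        rw [this]; module
      apply hwne
      rw [hw', quad_add, quad_smul, quad_smul, hv, hLv, map_smul, map_smul, LinearMap.smul_apply, hcol]
      simp
    refine hall (k.1 (e₂ + f₂)) ?_ ?_
    · rw [← hk, iso_polarBilin, map_add, h.two.ee₂, h.two.ef', add_zero]
    · rw [mem_quadIsometries.mp k.2, quad_add, h.two.qe₂, h.two.qf₂, h.two.ef₂]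
      simp
  -- uniform eigenvalue
  have he0 := pair_ne_zero h.two.ef
  obtain ⟨t₀, ht₀⟩ := heig e he0 h.two.qe
  have heq : ∀ w, SingIn R ⊤ w → L w = t₀ • w := by
    intro w hw
    refine sing_connected h.two (fun a b => ∀ t : F, L a = t • a → L b = t • b)
      (fun _ _ _ h1 h2 t ht => h2 t (h1 t ht)) ?_ (pair_sing h.two).1 hw t₀ ht₀.symm
    intro a b ha hb hab hna hnb t ht
    obtain ⟨d, hd⟩ := heig b hb.2.1 hb.2.2
    obtain ⟨k, hk⟩ := heig (a + b) (fun h' => hna (-1) (by
      rw [neg_one_smul]; exact (eq_neg_of_add_eq_zero_right h').symm))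
      (by rw [quad_add, ha.2.2, hb.2.2, hab]; simp)
    rw [hLadd, ht, ← hd] at hk
    have hlin : (t - k) • a + (d - k) • b = 0 := by linear_combination (norm := module) -hk
    rcases eq_or_ne (d - k) 0 with hdk | hdk
    · rw [hdk, zero_smul, add_zero, smul_eq_zero] at hlin
      rw [← hd, sub_eq_zero.mp hdk, sub_eq_zero.mp (hlin.resolve_right ha.2.1)]
    · exfalso
      apply hna (-(t - k) / (d - k))
      have : (d - k) • b = (-(t - k)) • a := by rw [neg_smul]; exact eq_neg_of_add_eq_zero_right hlin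
      rw [div_eq_inv_mul, mul_smul, ← this, smul_smul, inv_mul_cancel₀ hdk, one_smul]
  have hσ : σ = 1 := by
    refine RingEquiv.ext fun t => ?_
    rcases eq_or_ne t 0 with rfl | ht
    · simp
    have h1 := heq (t • e) ⟨trivial, smul_ne_zero ht he0, by rw [quad_smul, h.two.qe, mul_zero]⟩
    rw [hLsmul, ← ht₀, smul_smul, smul_smul] at h1
    have h2 := smul_left_injective F he0 h1
    have ht₀' : t₀ ≠ 0 := fun h0 => he0 (hLinj (by
      rw [← ht₀, h0, zero_smul]; simpa using (hLsmul 0 0).symm))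
    rw [RingAut.one_apply]
    exact mul_right_cancel₀ ht₀' (h2.trans (mul_comm _ _))
  have hall : ∀ v, (g : Matrix ι ι F) *ᵥ v = t₀ • v := by
    intro v
    have : L v = t₀ • v := sing_induction h.two (P := fun v => L v = t₀ • v)
      (by simpa using hLsmul 0 0)
      (fun a b ha hb => by rw [hLadd, ha, hb, smul_add])
      (fun s a ha => by rw [hLsmul, ha, hσ, RingAut.one_apply, smul_comm]) heq (y := v) trivial
    simpa [L, hσ] using this
  have ht₀' : t₀ ≠ 0 := fun h0 => he0 (hLinj (by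
    rw [← ht₀, h0, zero_smul]; simpa using (hLsmul 0 0).symm))
  refine ⟨hσ, Units.mk0 t₀ ht₀', Units.ext (Matrix.ext_of_mulVec_single fun j => ?_)⟩
  rw [hall]
  show _ = Matrix.scalar ι t₀ *ᵥ _
  simp [Matrix.scalar_apply, Matrix.diagonal_mulVec_single]
  funext i; simp [Pi.single_apply]

theorem semAut_scalar (u : Fˣ) (hp : Cfsg.IsSemisimilarityPair (⇑R) (GeneralLinearGroup.scalar ι u) 1) :
    semAut (GeneralLinearGroup.scalar ι u) 1 hp = 1 := by
  refine MulEquiv.ext fun x => ?_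
  obtain ⟨s, rfl⟩ := QuotientGroup.mk'_surjective _ x
  show pr R (semOmega _ _ hp s) = pr R s
  refine congrArg (pr R) (omega_ext ?_)
  rw [omat_semOmega, ← map_inv]
  show Matrix.scalar ι (u : F) * (omat s).map _ * Matrix.scalar ι ((u⁻¹ : Fˣ) : F) = omat s
  rw [show (omat s).map ⇑(1 : F ≃+* F) = omat s from Matrix.ext fun i j => rfl,
    (Matrix.scalar_commute (u : F) (fun r => mul_comm _ _) (omat s)).eq, Matrix.mul_assoc, ← map_mul,
    ← Units.val_mul, mul_inv_cancel, Units.val_one, map_one, Matrix.mul_one]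

theorem dia_eq_one_iff (hM : Model0 R) (g : Cfsg.Geo.quadSimilarityGroup (F := F) ⇑R) :
    dia R g = 1 ↔ ∃ u : Fˣ, g.1 = GeneralLinearGroup.scalar ι u := by
  refine ⟨fun h => (eq_scalar_of_semAut_eq_one hM _ h).2, fun ⟨u, hu⟩ => ?_⟩
  rw [dia_apply, semAut_congr (pair_of_sim g.2) (hu ▸ pair_of_sim g.2) hu rfl, semAut_scalar]

/-- The field part is well defined. -/
theorem param_unique (hM : Model R) {g h : GL ι F} {σ τ : F ≃+* F}
    (hp : Cfsg.IsSemisimilarityPair (⇑R) g σ) (hq : Cfsg.IsSemisimilarityPair (⇑R) h τ)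
    (he : semAut g σ hp = semAut h τ hq) : σ = τ := by
  obtain ⟨h', τ', hq', hinv⟩ := pair_semisim hM (semAut h τ hq)⁻¹
  have h1 : semAut _ _ (pair_mul hp hq') = 1 := by
    rw [← semAut_mul hp hq', ← hinv, he, mul_inv_cancel]
  have h2 : semAut _ _ (pair_mul hq hq') = 1 := by
    rw [← semAut_mul hq hq', ← hinv, mul_inv_cancel]
  exact mul_right_cancel ((eq_scalar_of_semAut_eq_one hM _ h1).1.trans (eq_scalar_of_semAut_eq_one hM _ h2).1.symm)

/-- The field part of an automorphism. -/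
noncomputable def galPart (hM : Model R) : MulAut (Cfsg.POmega F ⇑R) →* (F ≃+* F) :=
  MonoidHom.mk' (fun β => (pair_semisim hM β).choose_spec.choose) fun a b => by
    obtain ⟨hp, ha⟩ := (pair_semisim hM a).choose_spec.choose_spec
    obtain ⟨hq, hb⟩ := (pair_semisim hM b).choose_spec.choose_spec
    obtain ⟨hr, hab⟩ := (pair_semisim hM (a * b)).choose_spec.choose_spec
    refine param_unique hM hr (pair_mul hp hq) ?_
    rw [← hab, ← semAut_mul hp hq, ← ha, ← hb]

theorem galPart_semAut (hM : Model R) {g : GL ι F} {σ : F ≃+* F}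
    (hp : Cfsg.IsSemisimilarityPair (⇑R) g σ) : galPart hM (semAut g σ hp) = σ := by
  obtain ⟨hq, h⟩ := (pair_semisim hM (semAut g σ hp)).choose_spec.choose_spec
  exact (param_unique hM hp hq h).symm

theorem ker_galPart (hM : Model R) : (galPart hM).ker = (dia R).range := by
  ext β
  rw [MonoidHom.mem_ker]
  constructor
  · intro h
    obtain ⟨g, σ, hp, rfl⟩ := pair_semisim hM β
    rw [galPart_semAut] at h
    subst h
    exact ⟨⟨g, pair_one_iff.1 hp⟩, rfl⟩
  · rintro ⟨g, rfl⟩
    rw [dia_apply, galPart_semAut]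

theorem dia_range_normal (hM : Model R) (a : MulAut (Cfsg.POmega F ⇑R)) {y : MulAut (Cfsg.POmega F ⇑R)}
    (hy : y ∈ (dia R).range) : a * y * a⁻¹ ∈ (dia R).range := by
  rw [← ker_galPart hM] at hy ⊢
  exact (MonoidHom.normal_ker _).conj_mem y hy a

/-- An element of `Ω` as a similarity. -/
noncomputable def omG (R : QuadraticForm F (ι → F)) : Cfsg.Omega F ⇑R →* Cfsg.Geo.quadSimilarityGroup (F := F) ⇑R :=
  MonoidHom.mk' (fun s => ⟨s.1.1, ⟨1, fun v => by rw [Units.val_one, one_mul]; exact s.1.2 v v⟩⟩)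
    fun _ _ => rfl

theorem dia_omG (s : Cfsg.Omega F ⇑R) : dia R (omG R s) = MulAut.conj (pr R s) := by
  refine MulEquiv.ext fun x => ?_
  obtain ⟨t, rfl⟩ := QuotientGroup.mk'_surjective _ x
  show pr R (semOmega _ _ _ t) = pr R s * pr R t * (pr R s)⁻¹
  rw [← map_mul, ← map_inv, ← map_mul]
  refine congrArg (pr R) (omega_ext ?_)
  rw [omat_semOmega]
  rfl

theorem inn_le_range : Cfsg.Inn (Cfsg.POmega F ⇑R) ≤ (dia R).range := by
  rintro _ ⟨y, rfl⟩
  obtain ⟨s, rfl⟩ := QuotientGroup.mk'_surjective _ y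
  exact ⟨omG R s, dia_omG s⟩

theorem pgoAut_eq (R : QuadraticForm F (ι → F)) : Cfsg.pgoAut F ⇑R = (dia R).range := by
  refine le_antisymm ((Subgroup.closure_le _).mpr ?_) ?_
  · rintro β ⟨g, hg, hind⟩
    exact ⟨⟨g, hg⟩, (eq_semAut (pair_of_sim hg) hind).symm⟩
  · rintro _ ⟨g, rfl⟩
    exact Subgroup.subset_closure ⟨g.1, g.2, isInduced_semAut _ _ _⟩

theorem card_inn (hM : Model0 R) : Nat.card (Cfsg.Inn (Cfsg.POmega F ⇑R)) = Nat.card (Cfsg.POmega F ⇑R) := by
  obtain ⟨e, f, e₂, f₂, e₃, f₃, h⟩ := hM.hyp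
  obtain ⟨θ, -⟩ := exists_omega_equiv h hM.nondeg hM.dim (LinearEquiv.refl F (ι → F)) ⇑R (fun _ => rfl)
  haveI : IsSimpleGroup (Cfsg.POmega F ⇑R) := by
    haveI := isSimpleGroup_eichGroup h
    exact MulEquiv.isSimpleGroup (centralQuotientCongr θ).symm
  refine (Nat.card_congr (MonoidHom.ofInjective (f := (MulAut.conj : Cfsg.POmega F ⇑R →* _)) ?_).toEquiv).symm
  rw [← MonoidHom.ker_eq_bot_iff]
  rcases (MonoidHom.normal_ker (MulAut.conj : Cfsg.POmega F ⇑R →* _)).eq_bot_or_eq_top with hb | ht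
  · exact hb
  exfalso
  -- otherwise `PΩ` would be abelian
  have hcomm : ∀ x y : KG R, x * y = y * x := by
    intro x y
    apply (centralQuotientCongr θ).injective
    rw [map_mul, map_mul]
    set a := centralQuotientCongr θ x
    set b := centralQuotientCongr θ y
    have h1 := congrArg (fun α : MulAut (Cfsg.POmega F ⇑R) => α b)
      (MonoidHom.mem_ker.mp (ht ▸ Subgroup.mem_top a))
    simp only [MulAut.conj_apply, MulAut.one_apply] at h1
    exact mul_inv_eq_iff_eq_mul.mp h1
  obtain ⟨p, hp⟩ := CharP.exists F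
  haveI : Fact p.Prime := ⟨CharP.char_is_prime F p⟩
  have he0 := pair_ne_zero h.two.ef
  have hf0 : f ≠ 0 := pair_ne_zero (show polarBilin R f e = 1 by rw [quad_polar_comm, h.two.ef])
  obtain ⟨g, hg⟩ : ∃ g : EG R, g • pt e he0 h.two.qe = pt f hf0 h.two.qf := by
    haveI := singPts_pretransitive h
    exact MulAction.exists_smul_eq _ _ _
  obtain ⟨y, hy, hye⟩ := rootK_conj g _ (⟨_, ee_mem_root he0 h.two.qe h.two.ee₂, rfl⟩ :
    pk R (ee e e₂ h.two.qe h.two.ee₂) ∈ rootK (pt e he0 h.two.qe))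
  rw [hcomm (pk R g), mul_inv_cancel_right] at hye
  rw [hg] at hy
  have h1 := root_eq_of_pk h (p := p) hy (ee_mem_root he0 h.two.qe h.two.ee₂) hye
  rw [h1] at hy
  exact ee_ne_one h he0 h.two.qe h.two.ee₂ (fun t ht => by
      have := congrArg (fun z => polarBilin R z f₂) ht
      simp [h.two.ef', h.two.ef₂] at this)
    (inter_of_not_col (by rw [col_pt, h.two.ef]; exact one_ne_zero) (ee_mem_root he0 _ _) hy)

theorem galPart_surjective (hM : Model R)
    (hsur : ∀ σ : F ≃+* F, ∃ g : GL ι F, Cfsg.IsSemisimilarityPair (⇑R) g σ) :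
    Function.Surjective (galPart hM) := fun σ => by
  obtain ⟨g, hp⟩ := hsur σ
  exact ⟨semAut g σ hp, galPart_semAut hM hp⟩

theorem card_mulAut [Fintype F] {p f : ℕ} [Fact p.Prime] (hF : Fintype.card F = p ^ f) (hM : Model R)
    (hsur : ∀ σ : F ≃+* F, ∃ g : GL ι F, Cfsg.IsSemisimilarityPair (⇑R) g σ) :
    Nat.card (MulAut (Cfsg.POmega F ⇑R)) = f * Nat.card (dia R).range := by
  haveI : CharP F p := charP_of_card_eq_prime_pow hF
  rw [← (galPart hM).ker.index_mul_card, Subgroup.index_ker,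
    MonoidHom.range_eq_top.mpr (galPart_surjective hM hsur), Subgroup.card_top, ker_galPart,
    (AutPSL.gal_cyclic_card hF).2]

end Cfsg.Agent.Lib.Classical.AutPOmega
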