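import Cfsg.Agent.Lib.Classical.AutPOmega.Perp

/-!
Automorphisms of `PΩ`, part 4: every automorphism maps point stabilisers to point stabilisers.
-/

set_option autoImplicit false

namespace Cfsg.Agent.Lib.Classical.AutPOmega

open QuadraticMap (polarBilin)
open Cfsg.Agent.Lib.Geometry (quadIsometries mem_quadIsometries quad_add quad_smul quad_polar_self
  quad_polar_comm)

attribute [-simp] QuadraticMap.polarBilin_apply_apply

variable {F V : Type*} [Field F] [AddCommGroup V] [Module F V] {Q : QuadraticForm F V}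
  [FiniteDimensional F V] [Finite F] {e f e₂ f₂ e₃ f₃ : V} {p : ℕ} [Fact p.Prime] [CharP F p]

theorem finite_V (Q : QuadraticForm F V) : Finite V := Module.finite_of_finite F

theorem finite_EG : Finite (EG Q) := by
  haveI := finite_V Q
  haveI : Finite (V ≃ₗ[F] V) := Finite.of_injective _ DFunLike.coe_injective
  infer_instance

theorem finite_singPts : Finite (singPts Q) := by
  haveI := finite_V Q
  infer_instance

/-- `p ∤ #singular points`. -/
theorem not_dvd_card_pts (h : HypThree Q e f e₂ f₂ e₃ f₃) : ¬ p ∣ Nat.card (singPts Q) := by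
  classical
  haveI := finite_V Q
  have he0 := pair_ne_zero h.two.ef
  have h0 := dvd_card_zero (p := p) h.two
  -- vectors versus points
  have hc : Nat.card {v : V // v ≠ 0 ∧ Q v = 0} = Nat.card (singPts Q) * Nat.card Fˣ := by
    rw [← Nat.card_prod]
    let T : singPts Q × Fˣ → {v : V // v ≠ 0 ∧ Q v = 0} := fun a => ⟨(a.2 : F) • a.1.1.rep,
      smul_ne_zero a.2.ne_zero a.1.1.rep_nonzero, by rw [quad_smul, sing a.1, mul_zero]⟩
    refine (Nat.card_eq_of_bijective T ⟨?_, ?_⟩).symm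
    · rintro ⟨a, s⟩ ⟨b, t⟩ hab
      have h1 : (s : F) • a.1.rep = (t : F) • b.1.rep := congrArg Subtype.val hab
      obtain rfl : a = b := by
        refine Subtype.ext ?_
        rw [← a.1.mk_rep, ← b.1.mk_rep, Projectivization.mk_eq_mk_iff']
        exact ⟨(s : F)⁻¹ * t, by
          rw [mul_smul, ← h1, smul_smul, inv_mul_cancel₀ s.ne_zero, one_smul]⟩
      exact Prod.ext rfl (Units.ext (smul_left_injective F a.1.rep_nonzero h1))
    · rintro ⟨v, hv0, hv⟩
      obtain ⟨c, hc⟩ := Projectivization.exists_smul_eq_mk_rep F v hv0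
      refine ⟨(sp v hv0 hv, c⁻¹), Subtype.ext ?_⟩
      show ((c⁻¹ : Fˣ) : F) • (Projectivization.mk F v hv0).rep = v
      rw [← hc, Units.smul_def, smul_smul, ← Units.val_mul, inv_mul_cancel, Units.val_one, one_smul]
  have hz : Nat.card {v : (⊤ : Submodule F V) // Q v = 0} = Nat.card {v : V // v ≠ 0 ∧ Q v = 0} + 1 := by
    let S : Option {v : V // v ≠ 0 ∧ Q v = 0} → {v : (⊤ : Submodule F V) // Q v = 0} := fun o =>
      o.elim ⟨0, by simp⟩ fun v => ⟨⟨v.1, trivial⟩, v.2.2⟩
    rw [← Finite.card_option]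
    refine (Nat.card_eq_of_bijective S ⟨?_, ?_⟩).symm
    · rintro (_ | a) (_ | b) hab
      · rfl
      · exact absurd (congrArg (fun z => (z.1 : V)) hab).symm b.2.1
      · exact absurd (congrArg (fun z => (z.1 : V)) hab) a.2.1
      · exact congrArg some (Subtype.ext (congrArg (fun z => (z.1 : V)) hab))
    · rintro ⟨⟨v, -⟩, hv⟩
      by_cases hv0 : v = 0
      · exact ⟨none, Subtype.ext (Subtype.ext hv0.symm)⟩
      · exact ⟨some ⟨v, hv0, hv⟩, rfl⟩
  intro hdvd
  rw [hz, hc] at h0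
  have h1 := (Nat.dvd_add_right (Dvd.dvd.mul_right hdvd _)).1 h0
  exact (Fact.out : p.Prime).one_lt.ne' (Nat.dvd_one.1 h1)

/-- A normal `p`-subgroup of a point stabiliser lies in the root group. -/
theorem normal_pgroup_le (h : HypThree Q e f e₂ f₂ e₃ f₃) (he0 : e ≠ 0) {R : Subgroup (KG Q)}
    (hR : IsPGroup p R) (hRle : R ≤ stK (pt e he0 h.two.qe))
    (hn : ∀ k ∈ stK (pt e he0 h.two.qe), ∀ r ∈ R, k * r * k⁻¹ ∈ R) :
    R ≤ rootK (pt e he0 h.two.qe) := by
  classical
  haveI := finite_V Q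
  haveI := finite_EG (Q := Q)
  have hp := h.perp
  have qe := h.two.qe
  have qf := h.two.qf
  have ef := h.two.ef
  set W := perpPair Q e f
  -- non-trivial long root elements at `e`
  set S := {x : KG Q // ∃ (w : V) (hw : w ∈ W), w ≠ 0 ∧ Q w = 0 ∧ x = pk Q (ee e w qe (perp_e hw))}
  have hinj : ∀ {w w' : V} (hw : w ∈ W) (hw' : w' ∈ W),
      pk Q (ee e w qe (perp_e hw)) = pk Q (ee e w' qe (perp_e hw')) → w = w' := fun hw hw' he =>
    ee_e_inj qe ef hw hw' (root_eq_of_pk h (p := p) (ee_mem_root he0 qe _) (ee_mem_root he0 qe _) he)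
  have hS : ¬ p ∣ Nat.card S := by
    have h0 := dvd_card_zero (p := p) hp
    let T : Option S → {v : W // Q v = 0} := fun o =>
      o.elim ⟨0, by simp⟩ fun x => ⟨⟨x.2.choose, x.2.choose_spec.1⟩, x.2.choose_spec.2.2.1⟩
    have hT : Function.Bijective T := by
      refine ⟨?_, ?_⟩
      · rintro (_ | a) (_ | b) hab
        · rfl
        · exact absurd (congrArg (fun z => (z.1 : V)) hab).symm b.2.choose_spec.2.1
        · exact absurd (congrArg (fun z => (z.1 : V)) hab) a.2.choose_spec.2.1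
        · refine congrArg some (Subtype.ext ?_)
          have hv : a.2.choose = b.2.choose := congrArg (fun z => (z.1 : V)) hab
          rw [a.2.choose_spec.2.2.2, b.2.choose_spec.2.2.2]
          exact congrArg (pk Q) (ee_congr _ _ _ _ rfl hv)
      · rintro ⟨⟨v, hvW⟩, hv⟩
        by_cases hv0 : v = 0
        · exact ⟨none, Subtype.ext (Subtype.ext hv0.symm)⟩
        · let x : S := ⟨pk Q (ee e v qe (perp_e hvW)), v, hvW, hv0, hv, rfl⟩
          refine ⟨some x, Subtype.ext (Subtype.ext ?_)⟩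
          exact (hinj hvW x.2.choose_spec.1 x.2.choose_spec.2.2.2).symm
    intro hdvd
    rw [← Nat.card_eq_of_bijective T hT, Finite.card_option] at h0
    exact (Fact.out : p.Prime).one_lt.ne' (Nat.dvd_one.1 ((Nat.dvd_add_right hdvd).1 h0))
  -- the action of the stabiliser on them
  have hstab : ∀ g : EG Q, g • pt e he0 qe = pt e he0 qe → ∀ (w : V) (hw : w ∈ W),
      ∃ a : F, a ≠ 0 ∧ g.1.1 e = a • e ∧
        g * ee e w qe (perp_e hw) * g⁻¹ =
          ee e (prW Q e f (a • g.1.1 w)) qe (perp_e (prW_mem qe qf ef _)) := by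
    intro g hg w hw
    rw [smul_pt, pt_eq_iff] at hg
    obtain ⟨a, ha⟩ := hg
    have ha0 : a ≠ 0 := fun h0 => he0 ((map_eq_zero_iff _ g.1.1.injective).mp (by rw [← ha, h0, zero_smul]))
    refine ⟨a, ha0, ha.symm, ?_⟩
    have hgw : polarBilin Q e (a • g.1.1 w) = 0 := by
      have := iso_b g e w
      rw [perp_e hw, ← ha, map_smul, LinearMap.smul_apply, ← map_smul] at this
      exact this
    rw [ee_conj, ee_congr _ _ (show Q (a • e) = 0 by rw [quad_smul, qe, mul_zero])
      (show polarBilin Q (a • e) (g.1.1 w) = 0 by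
        rw [map_smul, LinearMap.smul_apply, ← map_smul]; exact hgw) ha.symm rfl,
      ee_smul qe (show polarBilin Q e (g.1.1 w) = 0 by
        rw [map_smul, smul_eq_zero] at hgw; exact hgw.resolve_left ha0) a _ _ hgw]
    have hd : a • g.1.1 w = prW Q e f (a • g.1.1 w) + polarBilin Q (a • g.1.1 w) f • e := by
      rw [prW, quad_polar_comm Q (a • g.1.1 w) e, hgw]; simp
    rw [ee_congr _ _ qe (show polarBilin Q e (prW Q e f (a • g.1.1 w) + polarBilin Q (a • g.1.1 w) f • e) = 0
      by rw [← hd]; exact hgw) rfl hd]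
    exact Subtype.ext (eich_shift qe (perp_e (prW_mem qe qf ef (a • g.1.1 w)))
      (polarBilin Q (a • g.1.1 w) f) (by rw [← hd]; exact hgw))
  have hmaps : ∀ (g : EG Q), g • pt e he0 qe = pt e he0 qe → ∀ x : S,
      ∃ (w : V) (hw : w ∈ W), w ≠ 0 ∧ Q w = 0 ∧
        pk Q g * x.1 * (pk Q g)⁻¹ = pk Q (ee e w qe (perp_e hw)) := by
    rintro g hg ⟨x, w, hw, hw0, hwq, rfl⟩
    obtain ⟨a, ha0, hae, hconj⟩ := hstab g hg w hw
    refine ⟨_, prW_mem qe qf ef _, fun h0 => ?_, ?_, by rw [← hconj, map_mul, map_mul, map_inv]⟩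
    · rw [ee_congr _ _ qe (map_zero _) rfl h0, ee_zero, mul_inv_eq_one, mul_eq_left] at hconj
      exact hw0 (ee_e_inj qe ef hw W.zero_mem (by rw [ee_zero]; exact hconj))
    · have hgw : polarBilin Q e (a • g.1.1 w) = 0 := by
        have := iso_b g e w
        rw [perp_e hw, hae, map_smul, LinearMap.smul_apply, ← map_smul] at this
        exact this
      have hq : Q (a • g.1.1 w) = 0 := by rw [quad_smul, iso_q, hwq, mul_zero]
      generalize a • g.1.1 w = X at hgw hq ⊢
      rw [prW, quad_polar_comm Q X e, hgw, zero_smul, sub_zero, sub_eq_add_neg, ← neg_smul,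
        quad_add, quad_smul, hq, qe, map_smul, quad_polar_comm Q X e, hgw]
      simp
  letI : MulAction R S :=
    { smul := fun r x => ⟨r.1 * x.1 * r.1⁻¹, by
        obtain ⟨g, hg, hgr⟩ := hRle r.2
        rw [← hgr]
        obtain ⟨w, hw, hw0, hwq, hwe⟩ := hmaps g hg x
        exact ⟨w, hw, hw0, hwq, hwe⟩⟩
      one_smul := fun x => Subtype.ext (show (1 : KG Q) * x.1 * 1⁻¹ = x.1 by simp)
      mul_smul := fun r s x => Subtype.ext (show (r.1 * s.1) * x.1 * (r.1 * s.1)⁻¹ =
        r.1 * (s.1 * x.1 * s.1⁻¹) * r.1⁻¹ by group) }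
  obtain ⟨x0, hx0⟩ := hR.nonempty_fixed_point_of_prime_not_dvd_card S hS
  obtain ⟨w0, hw0W, hw00, hw0q, hw0e⟩ := x0.2
  -- so `R` centralises all of them
  have hall : ∀ r ∈ R, ∀ (w : V) (hw : w ∈ W), w ≠ 0 → Q w = 0 →
      r * pk Q (ee e w qe (perp_e hw)) * r⁻¹ = pk Q (ee e w qe (perp_e hw)) := by
    intro r hr w hw hw0 hwq
    obtain ⟨k, hk, hkw⟩ := exists_eich_map hp hw0W hw00 hw hw0 (by rw [hw0q, hwq])
    set k' : EG Q := ⟨k, eichGroup_le_top Q _ hk⟩
    have hke : k'.1.1 e = e := eichGroup_fix Q hk fun x hx => perp_e hx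
    have hkst : pk Q k' ∈ stK (pt e he0 qe) :=
      ⟨k', stab_pt.2 ⟨1, by rw [one_smul, hke]⟩, rfl⟩
    have hwk : pk Q (ee e w qe (perp_e hw)) = pk Q k' * x0.1 * (pk Q k')⁻¹ := by
      rw [hw0e, ← map_inv, ← map_mul, ← map_mul, ee_conj]
      exact congrArg (pk Q) (ee_congr _ _ _ _ hke.symm hkw.symm)
    have hfix := congrArg Subtype.val (hx0 ⟨_, hn _ (inv_mem hkst) r hr⟩)
    change ((pk Q k')⁻¹ * r * (pk Q k')⁻¹⁻¹) * x0.1 * ((pk Q k')⁻¹ * r * (pk Q k')⁻¹⁻¹)⁻¹ = x0.1 at hfix
    rw [hwk]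
    conv_rhs => rw [← hfix]
    group
  intro r hr
  obtain ⟨g, hg, rfl⟩ := hRle hr
  obtain ⟨a, ha⟩ := stab_pt.1 hg
  have ha0 : a ≠ 0 := fun h0 => he0 ((map_eq_zero_iff _ g.1.1.injective).mp (by rw [← ha, h0, zero_smul]))
  -- `g` is `a⁻¹` on `e^⊥` modulo `e`
  have hW : ∀ y ∈ W, prW Q e f (a • g.1.1 y) = y := by
    refine fun y hy => sing_induction hp (P := fun y => prW Q e f (a • g.1.1 y) = y) (by simp [prW]) ?_ ?_ ?_ hy
    · intro x z hx hz
      conv_rhs => rw [← hx, ← hz]
      simp only [prW, map_add, smul_add, LinearMap.add_apply, add_smul]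
      abel
    · intro t x hx
      conv_rhs => rw [← hx]
      simp only [prW, map_smul, smul_comm a t, LinearMap.smul_apply, smul_eq_mul, mul_smul, smul_sub]
    · intro w hw
      obtain ⟨a', -, hae, hconj⟩ := hstab g (MulAction.mem_stabilizer_iff.mp hg) w hw.1
      obtain rfl : a' = a := smul_left_injective F he0 (hae.symm.trans ha.symm)
      have h2 := hall _ hr w hw.1 hw.2.1 hw.2.2
      rw [← map_inv, ← map_mul, ← map_mul, hconj] at h2
      exact hinj (prW_mem qe qf ef _) hw.1 h2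
  obtain ⟨hwp, hwe⟩ := mem_perpPair.mp hp.he
  have hgB : ∀ x y, polarBilin Q (g.1.1 x) (g.1.1 y) = polarBilin Q x y := iso_b g
  have hga : ∀ y, polarBilin Q e (a • g.1.1 y) = polarBilin Q e y := fun y => by
    rw [map_smul, ← LinearMap.smul_apply, ← map_smul, ha, hgB]
  -- `a² = 1`
  have ha2 : a * a = 1 := by
    have hXY : ∀ X Y : V, polarBilin Q e X = 0 → polarBilin Q e Y = 0 →
        polarBilin Q (prW Q e f X) (prW Q e f Y) = polarBilin Q X Y := by
      intro X Y hX hY
      simp [prW, quad_polar_comm Q X e, quad_polar_comm Q Y e, hX, hY, quad_polar_self, qe]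
    have h3 := hXY (a • g.1.1 e₂) (a • g.1.1 f₂) (by rw [hga, perp_e hp.he]) (by rw [hga, perp_e hp.hf])
    rw [hW e₂ hp.he, hW f₂ hp.hf, h.two.ef₂, map_smul, map_smul, LinearMap.smul_apply, hgB,
      h.two.ef₂, smul_eq_mul, smul_eq_mul, mul_one] at h3
    exact h3.symm
  -- subtract a root element
  set z := prW Q e f (a • g.1.1 f)
  have hz := prW_mem qe qf ef (a • g.1.1 f)
  set u := ee e z qe (perp_e hz)
  refine ⟨u, ee_mem_root he0 qe _, ?_⟩
  rw [pk_eq_iff]
  refine central_of_scalar (c := a) fun v => ?_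
  show u.1.1.symm (g.1.1 v) = a • v
  rw [LinearEquiv.symm_apply_eq, map_smul]
  have hinv : ∀ x, g.1.1 x = a • a • g.1.1 x := fun x => by rw [smul_smul, ha2, one_smul]
  have huf : a • u.1.1 f = g.1.1 f := by
    have hb : polarBilin Q (a • g.1.1 f) e = 1 := by
      rw [quad_polar_comm, hga, ef]
    have hq : Q (a • g.1.1 f) = 0 := by rw [quad_smul, iso_q, qf, mul_zero]
    rw [affine_cover qe qf ef hq hb, smul_smul, ha2, one_smul]
  have hue : u.1.1 e = e := root_fix (ee_mem_root he0 qe (perp_e hz))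
  have huw : ∀ y ∈ W, g.1.1 y = a • u.1.1 y := fun y hy => by
    -- both agree modulo `e` and have the same pairing with the image of `f`
    have hd := decomp Q e f (a • g.1.1 y)
    rw [hW y hy] at hd
    have he1 : polarBilin Q (a • g.1.1 y) e = 0 := by
      rw [quad_polar_comm, hga, perp_e hy]
    rw [he1, zero_smul, add_zero] at hd
    obtain ⟨c, hc⟩ : ∃ c, u.1.1 y = y + c • e := ⟨-(polarBilin Q y z), by
      rw [ee_apply, perp_e' hy]; simp; abel⟩
    have h1 := iso_b u y f
    rw [hc, perp_f' hy] at h1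
    have h2 := hgB y f
    rw [perp_f' hy, ← huf, map_smul, smul_eq_mul] at h2
    have h3 : polarBilin Q (a • g.1.1 y) (u.1.1 f) = 0 := by
      rw [map_smul, LinearMap.smul_apply, smul_eq_mul]
      exact h2
    have hue' := iso_b u e f
    rw [hue, ef] at hue'
    rw [hd] at h3
    simp only [map_add, map_smul, LinearMap.add_apply, LinearMap.smul_apply, smul_eq_mul, hue'] at h1 h3
    have hcc : c = polarBilin Q (a • g.1.1 y) f := by
      simp only [map_smul, LinearMap.smul_apply, smul_eq_mul]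
      linear_combination h1 - h3
    rw [hc, hcc, add_comm y, ← hd]
    exact hinv y
  rw [decomp Q e f v]
  simp only [map_add, map_smul, huw _ (prW_mem qe qf ef v), ← huf, ← ha, hue, smul_add, smul_comm a]

end Cfsg.Agent.Lib.Classical.AutPOmega
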