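import Cfsg.Agent.Lib.Classical.AutPOmega.BaseChange

/-!
Automorphisms of `PΩ`, part 26: transport along isometries between two forms, and isomorphisms between
the simple groups of two forms.
-/

set_option autoImplicit false

namespace Cfsg.Agent.Lib.Classical.AutPOmega

open QuadraticMap (polarBilin)
open Cfsg.Agent.Lib.Geometry (isometryEquiv isometryEquiv_apply)
open Matrix

attribute [-simp] QuadraticMap.polarBilin_apply_apply

variable {F : Type*} [Field F] [Fintype F] {ι : Type} [Fintype ι] [DecidableEq ι]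
  {R R' : QuadraticForm F (ι → F)}

/-- Conjugation by an isomorphism, as a map of automorphism groups. -/
def autMap {A B : Type*} [Mul A] [Mul B] (ψ : A ≃* B) : MulAut A ≃* MulAut B where
  toFun α := (ψ.symm.trans α).trans ψ
  invFun β := (ψ.trans β).trans ψ.symm
  left_inv α := MulEquiv.ext fun x => by simp
  right_inv β := MulEquiv.ext fun x => by simp
  map_mul' α β := MulEquiv.ext fun x => by simp [MulAut.mul_apply]

section Theta

variable (T : (ι → F) ≃ₗ[F] (ι → F)) (hT : ∀ v, R (T v) = R' v)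

/-- The isometry groups of isometric forms. -/
noncomputable def isoT : Cfsg.isometryGroup F ⇑R ≃* Cfsg.isometryGroup F ⇑R' :=
  (isometryEquiv R).trans (isometryMulEquiv T (⇑R') R fun v => (hT v).symm)

theorem isoT_mulVec (k : Cfsg.isometryGroup F ⇑R) (v : ι → F) :
    ((isoT T hT k : GL ι F) : Matrix ι ι F) *ᵥ v = T.symm (((k : GL ι F) : Matrix ι ι F) *ᵥ T v) := by
  rw [← isometryEquiv_apply R k (T v)]
  exact isometryMulEquiv_mulVec T (⇑R') R (fun w => (hT w).symm) (isometryEquiv R k) v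

/-- The groups `Ω` of isometric forms. -/
noncomputable def omegaT : Cfsg.Omega F ⇑R ≃* Cfsg.Omega F ⇑R' :=
  ((isoT T hT).subgroupMap _).trans (MulEquiv.subgroupCongr (Geometry.map_commutator_of_equiv (isoT T hT)))

/-- The groups `PΩ` of isometric forms. -/
noncomputable def pomegaT : Cfsg.POmega F ⇑R ≃* Cfsg.POmega F ⇑R' := centralQuotientCongr (omegaT T hT)

theorem omegaT_coe (s : Cfsg.Omega F ⇑R) : (omegaT T hT s).1 = isoT T hT s.1 := rfl

theorem pomegaT_pr (s : Cfsg.Omega F ⇑R) : pomegaT T hT (pr R s) = pr R' (omegaT T hT s) := rfl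

include hT in
theorem baseMap_T :
    BaseMap R R' (RingHom.id F) (LinearMap.toMatrix' T.symm.toLinearMap) (LinearMap.toMatrix' T.toLinearMap) := by
  refine ⟨?_, ?_, 1, fun v => ?_⟩
  · rw [← LinearMap.toMatrix'_comp, show T.toLinearMap.comp T.symm.toLinearMap = LinearMap.id from
      LinearMap.ext fun v => T.apply_symm_apply v, LinearMap.toMatrix'_id]
  · rw [← LinearMap.toMatrix'_comp, show T.symm.toLinearMap.comp T.toLinearMap = LinearMap.id from
      LinearMap.ext fun v => T.symm_apply_apply v, LinearMap.toMatrix'_id]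
  · rw [LinearMap.toMatrix'_mulVec, Units.val_one, one_mul, RingHom.id_apply, ← hT]
    exact congrArg R (T.apply_symm_apply v)

theorem autMap_pomegaT_dia (g : Cfsg.Geo.quadSimilarityGroup (F := F) ⇑R) :
    autMap (pomegaT T hT) (dia R g) = dia R' (baseS (baseMap_T T hT) g) := by
  refine MulEquiv.ext fun x => ?_
  obtain ⟨y, rfl⟩ := (pomegaT T hT).surjective x
  obtain ⟨s, rfl⟩ := QuotientGroup.mk'_surjective _ y
  show pomegaT T hT (dia R g ((pomegaT T hT).symm (pomegaT T hT (pr R s)))) =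
    dia R' (baseS (baseMap_T T hT) g) (pomegaT T hT (pr R s))
  rw [MulEquiv.symm_apply_apply, pomegaT_pr, dia_apply, dia_apply, semAut_pr, semAut_pr, pomegaT_pr]
  refine congrArg (pr R') (omega_ext (Matrix.ext_of_mulVec_single fun i => ?_))
  obtain ⟨v, hv⟩ := semi_surjective (baseS (baseMap_T T hT) g).1 (1 : F ≃+* F) (Pi.single i 1)
  rw [← hv]
  refine Eq.trans ?_ (semGL_mulVec (baseS (baseMap_T T hT) g).1 1 (omegaT T hT s).1.1 v).symm
  show ((isoT T hT (semOmega _ _ _ s).1 : GL ι F) : Matrix ι ι F) *ᵥ _ = _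
  have hb : ∀ w : ι → F, ((baseS (baseMap_T T hT) g).1 : Matrix ι ι F) *ᵥ w =
      T.symm ((g.1 : Matrix ι ι F) *ᵥ T w) := fun w => by
    rw [baseS_coe, ← Matrix.mulVec_mulVec, ← Matrix.mulVec_mulVec, LinearMap.toMatrix'_mulVec,
      LinearMap.toMatrix'_mulVec]
    rfl
  simp only [RingAut.one_apply]
  rw [omegaT_coe, isoT_mulVec, hb, hb, T.apply_symm_apply, isoT_mulVec]
  refine congrArg T.symm ?_
  rw [T.apply_symm_apply]
  exact semGL_mulVec g.1 1 s.1.1 (T v)

end Theta

/-- An automorphism conjugates the class-preserving similarities as its semilinear map does. -/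
theorem semAut_mul_dia {g : GL ι F} {τ : F ≃+* F} (hp : Cfsg.IsSemisimilarityPair (⇑R) g τ)
    (d : Cfsg.Geo.quadSimilarityGroup (F := F) ⇑R) :
    ∃ hb : BaseMap R R τ.toRingHom (g : Matrix ι ι F) ((g⁻¹ : GL ι F) : Matrix ι ι F),
      semAut g τ hp * dia R d * (semAut g τ hp)⁻¹ = dia R (baseS hb d) := by
  have hb : BaseMap R R τ.toRingHom (g : Matrix ι ι F) ((g⁻¹ : GL ι F) : Matrix ι ι F) := by
    obtain ⟨c, hc⟩ := hp
    exact ⟨by rw [← Units.val_mul, inv_mul_cancel, Units.val_one],
      by rw [← Units.val_mul, mul_inv_cancel, Units.val_one], c, hc⟩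
  refine ⟨hb, ?_⟩
  rw [semAut_conj_dia hp d (baseS hb d) (fun v => baseGL_mulVec hb.left hb.right d.1 v), mul_inv_cancel_right]

end Cfsg.Agent.Lib.Classical.AutPOmega
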